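import Cfsg.Statements.S5437


set_option autoImplicit false
open Cfsg

namespace Cfsg.Agent.S5437

/-- Let I be a set of involutions of the finite group G closed under conjugation, and H a subgroup of G. The following are equivalent: (1) for every member x of I lying in H, the conjugates of x lying in H form a single H-class and the centralizer of x lies in H; (2) for every g outside H, no member of I lies in both H and g H g⁻¹; (3) every member of I lying in H fixes exactly one coset in the action of G on the cosets of H. -/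
theorem result {G : Type*} [Group G] [Finite G] (I : Set G) (hI : ∀ x ∈ I, orderOf x = 2) (hIc : ∀ g : G, ∀ x ∈ I, g * x * g⁻¹ ∈ I) (H : Subgroup G) : ((∀ x ∈ I, x ∈ H → (∀ g : G, g * x * g⁻¹ ∈ H → ∃ h ∈ H, h * x * h⁻¹ = g * x * g⁻¹) ∧ Subgroup.centralizer ({x} : Set G) ≤ H) ↔ (∀ g : G, g ∉ H → ∀ x ∈ I, ¬ (x ∈ H ∧ x ∈ (H : Subgroup G).map (MulAut.conj g).toMonoidHom))) ∧ ((∀ g : G, g ∉ H → ∀ x ∈ I, ¬ (x ∈ H ∧ x ∈ (H : Subgroup G).map (MulAut.conj g).toMonoidHom)) ↔ ∀ x ∈ I, x ∈ H → ∃! c : G ⧸ H, x • c = c) := by
  have conj_mem : ∀ (g x : G), x ∈ H.map (MulAut.conj g).toMonoidHom ↔ g⁻¹ * x * g ∈ H := by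
    intro g x
    rw [Subgroup.mem_map]
    constructor
    · rintro ⟨h, hh, rfl⟩; simpa [mul_assoc] using hh
    · intro h; exact ⟨_, h, by simp [mul_assoc]⟩
  constructor
  · constructor
    · intro h g hg x hxI ⟨hxH, hxg⟩
      rw [conj_mem] at hxg
      obtain ⟨hf, hc⟩ := h x hxI hxH
      obtain ⟨k, hk, hke⟩ := hf g⁻¹ (by rwa [inv_inv])
      rw [inv_inv] at hke
      apply hg
      have hcen : g * k ∈ Subgroup.centralizer ({x} : Set G) := by
        rw [Subgroup.mem_centralizer_singleton_iff]
        calc g * k * x = g * (k * x * k⁻¹) * k := by group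
          _ = g * (g⁻¹ * x * g) * k := by rw [hke]
          _ = x * (g * k) := by group
      have := mul_mem (hc hcen) (inv_mem hk)
      rwa [mul_inv_cancel_right] at this
    · intro h x hxI hxH
      refine ⟨fun g hg => ?_, fun c hc => ?_⟩
      · by_cases hgH : g ∈ H
        · exact ⟨g, hgH, rfl⟩
        · exfalso
          refine h g hgH _ (hIc g x hxI) ⟨hg, ?_⟩
          rw [conj_mem]
          simpa [mul_assoc] using hxH
      · by_contra hcH
        rw [Subgroup.mem_centralizer_singleton_iff] at hc
        refine h c hcH x hxI ⟨hxH, ?_⟩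
        rw [conj_mem]
        have : c⁻¹ * x * c = x := by rw [mul_assoc, ← hc, inv_mul_cancel_left]
        rwa [this]
  · constructor
    · intro h x hxI hxH
      refine ⟨((1 : G) : G ⧸ H), ?_, ?_⟩
      · show ((x * 1 : G) : G ⧸ H) = ((1 : G) : G ⧸ H)
        rw [mul_one, eq_comm, QuotientGroup.eq]
        simpa using hxH
      · intro c hc
        induction c using QuotientGroup.induction_on with
        | H g =>
          have hc' : ((x * g : G) : G ⧸ H) = (g : G ⧸ H) := hc
          rw [eq_comm, QuotientGroup.eq, ← mul_assoc] at hc'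
          rw [eq_comm, QuotientGroup.eq]
          simp only [inv_one, one_mul]
          by_contra hg
          exact h g hg x hxI ⟨hxH, (conj_mem g x).2 hc'⟩
    · intro h g hg x hxI ⟨hxH, hxg⟩
      rw [conj_mem] at hxg
      obtain ⟨c, -, hu⟩ := h x hxI hxH
      have e1 : ((1 : G) : G ⧸ H) = c := by
        refine hu _ ?_
        show ((x * 1 : G) : G ⧸ H) = ((1 : G) : G ⧸ H)
        rw [mul_one, eq_comm, QuotientGroup.eq]
        simpa using hxH
      have e2 : (g : G ⧸ H) = c := by
        refine hu _ ?_
        show ((x * g : G) : G ⧸ H) = (g : G ⧸ H)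
        rw [eq_comm, QuotientGroup.eq, ← mul_assoc]
        exact hxg
      have := e1.trans e2.symm
      rw [QuotientGroup.eq] at this
      simp at this
      exact hg this

end Cfsg.Agent.S5437
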