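import Cfsg.Statements.S5438


set_option autoImplicit false
open Cfsg

namespace Cfsg.Agent.S5438

/-- Let z be a 2-central involution of the finite group G (an involution central in some Sylow 2-subgroup) and H a subgroup containing z such that the coset H is the only coset of H fixed by z (in the action of G on the cosets of H). Then H has odd index in G, and for every 2-element x of H the conjugates of x lying in H form a single H-class. -/
theorem result {G : Type*} [Group G] [Finite G] (z : G) (hz : Cfsg.IsTwoCentralInvolution z) (H : Subgroup G) (hzH : z ∈ H) (hfix : ∀ g : G, g⁻¹ * z * g ∈ H → g ∈ H) : Odd H.index ∧ ∀ x ∈ H, (∃ k : ℕ, orderOf x = 2 ^ k) → ∀ g : G, g * x * g⁻¹ ∈ H → ∃ h ∈ H, h * x * h⁻¹ = g * x * g⁻¹ := by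
  obtain ⟨hz2, P, hzP, hPz⟩ := hz
  have hz_fix : ∀ g : G, g * z * g⁻¹ ∈ H → g ∈ H := by
    intro g hg
    have := hfix g⁻¹ (by rwa [inv_inv])
    exact inv_mem_iff.1 this
  have two : ∀ R : Subgroup G, IsPGroup 2 R → z ∈ R → R ≤ H := by
    intro R hR hzR
    by_contra hnle
    have hlt : H.subgroupOf R < ⊤ := by
      rw [lt_top_iff_ne_top]
      intro e
      exact hnle (Subgroup.subgroupOf_eq_top.1 e)
    haveI := hR.isNilpotent
    obtain ⟨g, hg, hgn⟩ := SetLike.exists_of_lt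
      (normalizerCondition_of_isNilpotent (H.subgroupOf R) hlt)
    apply hgn
    rw [Subgroup.mem_subgroupOf]
    apply hz_fix
    exact (Subgroup.mem_normalizer_iff.1 hg ⟨z, hzR⟩).1 (Subgroup.mem_subgroupOf.2 hzH)
  have hPH : (P : Subgroup G) ≤ H := two _ P.isPGroup' hzP
  refine ⟨?_, ?_⟩
  · rw [← Nat.not_even_iff_odd, even_iff_two_dvd]
    intro h
    exact P.not_dvd_index (h.trans (Subgroup.index_dvd_of_le hPH))
  · intro x hxH hx g hgH
    have into : ∀ u ∈ H, (∃ k : ℕ, orderOf u = 2 ^ k) → ∃ m ∈ H, m * u * m⁻¹ ∈ P := by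
      intro u hu ⟨k, hk⟩
      have hp : IsPGroup 2 (Subgroup.zpowers (⟨u, hu⟩ : H)) := by
        refine IsPGroup.of_card (n := k) ?_
        rw [Nat.card_zpowers, Subgroup.orderOf_mk, hk]
      obtain ⟨S, hS⟩ := hp.exists_le_sylow
      obtain ⟨m, hm⟩ := MulAction.exists_smul_eq H S (P.subtype hPH)
      refine ⟨m, m.2, ?_⟩
      have : m * (⟨u, hu⟩ : H) * m⁻¹ ∈ (P.subtype hPH : Subgroup H) := by
        rw [← hm, Sylow.coe_subgroup_smul]
        exact Subgroup.smul_mem_pointwise_smul _ (MulAut.conj m) _ (hS (Subgroup.mem_zpowers _))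
      exact this
    obtain ⟨m₁, hm₁, h₁⟩ := into x hxH hx
    obtain ⟨m₂, hm₂, h₂⟩ := into _ hgH (by
      obtain ⟨k, hk⟩ := hx
      exact ⟨k, by rw [← hk]; exact orderOf_injective (MulAut.conj g).toMonoidHom (MulAut.conj g).injective x⟩)
    set y := m₂ * (g * x * g⁻¹) * m₂⁻¹ with hy
    set k := m₂ * g * m₁⁻¹ with hk
    have hky : k * (m₁ * x * m₁⁻¹) * k⁻¹ = y := by rw [hy, hk]; group
    let C : Subgroup G := Subgroup.centralizer ({y} : Set G)
    have hzC : z ∈ C := by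
      rw [Subgroup.mem_centralizer_singleton_iff]; exact (hPz y h₂).symm
    have hzC' : k * z * k⁻¹ ∈ C := by
      rw [Subgroup.mem_centralizer_singleton_iff, ← hky]
      have := hPz _ h₁
      calc k * z * k⁻¹ * (k * (m₁ * x * m₁⁻¹) * k⁻¹) = k * (z * (m₁ * x * m₁⁻¹)) * k⁻¹ := by group
        _ = k * ((m₁ * x * m₁⁻¹) * z) * k⁻¹ := by rw [this]
        _ = _ := by group
    have pz : ∀ w : C, orderOf w = 2 → IsPGroup 2 (Subgroup.zpowers w) := fun w hw =>
      IsPGroup.of_card (n := 1) (by rw [Nat.card_zpowers, hw, pow_one])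
    obtain ⟨S, hS⟩ := (pz ⟨z, hzC⟩ (by rw [Subgroup.orderOf_mk, hz2])).exists_le_sylow
    obtain ⟨S', hS'⟩ := (pz ⟨_, hzC'⟩ (by
      rw [Subgroup.orderOf_mk, ← hz2]
      exact orderOf_injective (MulAut.conj k).toMonoidHom (MulAut.conj k).injective z)).exists_le_sylow
    obtain ⟨c, hc⟩ := MulAction.exists_smul_eq C S' S
    have hSH : (S : Subgroup C).map C.subtype ≤ H :=
      two _ (S.isPGroup'.map _) ⟨⟨z, hzC⟩, hS (Subgroup.mem_zpowers _), rfl⟩
    have hck : (c : G) * k ∈ H := by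
      apply hz_fix
      apply hSH
      refine ⟨c * ⟨k * z * k⁻¹, hzC'⟩ * c⁻¹, ?_, ?_⟩
      · show c * ⟨k * z * k⁻¹, hzC'⟩ * c⁻¹ ∈ (S : Subgroup C)
        rw [← hc, Sylow.coe_subgroup_smul]
        exact Subgroup.smul_mem_pointwise_smul _ (MulAut.conj c) _ (hS' (Subgroup.mem_zpowers _))
      · simp [mul_assoc]
    have hcy : (c : G) * y * (c : G)⁻¹ = y := by
      rw [Subgroup.mem_centralizer_singleton_iff.1 c.2, mul_inv_cancel_right]
    refine ⟨m₂⁻¹ * ((c : G) * k) * m₁, mul_mem (mul_mem (inv_mem hm₂) hck) hm₁, ?_⟩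
    calc m₂⁻¹ * ((c : G) * k) * m₁ * x * (m₂⁻¹ * ((c : G) * k) * m₁)⁻¹
        = m₂⁻¹ * ((c : G) * (k * (m₁ * x * m₁⁻¹) * k⁻¹) * (c : G)⁻¹) * m₂ := by group
      _ = g * x * g⁻¹ := by rw [hky, hcy, hy]; group

end Cfsg.Agent.S5438
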