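import Cfsg.Statements.S5439
-- import your own Cfsg.Agent.* helpers here

set_option autoImplicit false
open Cfsg

namespace Cfsg.Agent.S5439

/-- Let I and J be two different conjugacy classes of involutions of the finite group G and H a subgroup such that every member of I ∪ J fixes exactly one coset in the action on the cosets of H, and such that for every a in I ∩ H and every b in (I ∪ J) ∩ H different from a and commuting with it, the centralizer of a b lies in H. Then H = G. -/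
theorem result {G : Type*} [Group G] [Finite G] (I J : Set G) (a₀ b₀ : G) (ha₀ : orderOf a₀ = 2) (hb₀ : orderOf b₀ = 2) (hI : I = {x | IsConj a₀ x}) (hJ : J = {x | IsConj b₀ x}) (hIJ : I ≠ J) (H : Subgroup G) (hfix : ∀ x ∈ I ∪ J, ∃! c : G ⧸ H, x • c = c) (hcent : ∀ a ∈ I, a ∈ H → ∀ b ∈ I ∪ J, b ∈ H → a ≠ b → a * b = b * a → Subgroup.centralizer ({a * b} : Set G) ≤ H) : H = ⊤ := by
  classical
  have hmemI : ∀ x, x ∈ I ↔ IsConj a₀ x := fun x => by rw [hI]; rfl
  have hmemJ : ∀ x, x ∈ J ↔ IsConj b₀ x := fun x => by rw [hJ]; rfl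
  have hord : ∀ x ∈ I ∪ J, x * x = 1 := by
    intro x hx
    have key : ∀ y : G, orderOf y = 2 → IsConj y x → x * x = 1 := fun y hy h => by
      obtain ⟨g, rfl⟩ := isConj_iff.1 h
      have : y * y = 1 := by rw [← pow_two, ← hy, pow_orderOf_eq_one]
      rw [show g * y * g⁻¹ * (g * y * g⁻¹) = g * (y * y) * g⁻¹ by group, this, mul_one, mul_inv_cancel]
    rcases hx with hx | hx
    · exact key _ ha₀ ((hmemI x).1 hx)
    · exact key _ hb₀ ((hmemJ x).1 hx)
  choose c hc hcu using hfix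
  have hcomm : ∀ x hx, ∀ y : G, ∀ (hy : y ∈ I ∪ J), x * y = y * x → c x hx = c y hy := by
    intro x hx y hy h
    have : y • c x hx = c x hx := by
      refine hcu x hx _ ?_
      show x • y • c x hx = y • c x hx
      rw [← mul_smul, h, mul_smul, hc x hx]
    exact hcu y hy _ this
  have hcent' : ∀ a (ha : a ∈ I), ∀ b ∈ I ∪ J, a ≠ b → a * b = b * a → ∀ y : G,
      y * (a * b) = a * b * y → y • c a (Set.mem_union_left J ha) = c a (Set.mem_union_left J ha) := by
    intro a ha b hb hab hcm y hy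
    have hbc : b • c a (Set.mem_union_left J ha) = c a (Set.mem_union_left J ha) := by
      rw [hcomm a _ b hb hcm]; exact hc b hb
    have hac := hc a (Set.mem_union_left J ha)
    obtain ⟨g, hg⟩ := QuotientGroup.mk_surjective (c a (Set.mem_union_left J ha))
    rw [← hg] at hbc hac ⊢
    have hfix' : ∀ v : G, v • (QuotientGroup.mk g : G ⧸ H) = QuotientGroup.mk g ↔ g⁻¹ * v * g ∈ H := by
      intro v
      rw [MulAction.Quotient.smul_mk, eq_comm, QuotientGroup.eq, smul_eq_mul, mul_assoc]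
    rw [hfix'] at hbc hac ⊢
    have hconj : ∀ x : G, IsConj x (g⁻¹ * x * g) := fun x => isConj_iff.2 ⟨g⁻¹, by group⟩
    have ha' : g⁻¹ * a * g ∈ I := (hmemI _).2 (((hmemI a).1 ha).trans (hconj a))
    have hb' : g⁻¹ * b * g ∈ I ∪ J := hb.imp (fun h => (hmemI _).2 (((hmemI b).1 h).trans (hconj b)))
      (fun h => (hmemJ _).2 (((hmemJ b).1 h).trans (hconj b)))
    refine hcent _ ha' hac _ hb' hbc (fun e => hab (mul_left_cancel (mul_right_cancel e))) ?_ ?_
    · calc g⁻¹ * a * g * (g⁻¹ * b * g) = g⁻¹ * (a * b) * g := by group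
        _ = g⁻¹ * (b * a) * g := by rw [hcm]
        _ = g⁻¹ * b * g * (g⁻¹ * a * g) := by group
    · rw [Subgroup.mem_centralizer_singleton_iff]
      calc g⁻¹ * y * g * (g⁻¹ * a * g * (g⁻¹ * b * g)) = g⁻¹ * (y * (a * b)) * g := by group
        _ = g⁻¹ * (a * b * y) * g := by rw [hy]
        _ = g⁻¹ * a * g * (g⁻¹ * b * g) * (g⁻¹ * y * g) := by group
  have main : ∀ a (ha : a ∈ I), ∀ b (hb : b ∈ J), c a (Set.mem_union_left J ha) = c b (Set.mem_union_right I hb) := by
    intro a ha b hb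
    have haa := hord a (Set.mem_union_left J ha)
    have hbb := hord b (Or.inr hb)
    have hnot : ¬ IsConj a b := fun h => hIJ (by
      rw [hI, hJ]
      ext x
      have e : IsConj a₀ b₀ := ((hmemI a).1 ha).trans (h.trans ((hmemJ b).1 hb).symm)
      exact ⟨fun hx => e.symm.trans hx, fun hx => e.trans hx⟩)
    set r := a * b with hr
    have har : a * r = b := by rw [hr, ← mul_assoc, haa, one_mul]
    have hai : a⁻¹ = a := inv_eq_of_mul_eq_one_right haa
    have hra : a * r * a⁻¹ = r⁻¹ := by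
      rw [har, hr, mul_inv_rev, hai, inv_eq_of_mul_eq_one_right hbb]
    have hpow : ∀ i : ℤ, a * r ^ i = r ^ (-i) * a := fun i => by
      rw [zpow_neg, ← inv_zpow, ← hra, conj_zpow, inv_mul_cancel_right]
    have hconj' : ∀ i : ℤ, ∀ x : G, IsConj x (r ^ i * x * r ^ (-i)) := fun i x =>
      isConj_iff.2 ⟨r ^ i, by rw [zpow_neg]⟩
    obtain ⟨k, hk | hk⟩ := Nat.even_or_odd' (orderOf r)
    swap
    · refine absurd ?_ hnot
      have h := hconj' k a
      rw [mul_assoc, hpow, neg_neg, ← mul_assoc, ← zpow_add] at h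
      have e : r ^ ((k : ℤ) + k) = r⁻¹ := by
        rw [eq_inv_iff_mul_eq_one, ← zpow_add_one,
          show (k : ℤ) + k + 1 = ((2 * k + 1 : ℕ) : ℤ) by push_cast; ring, zpow_natCast, ← hk,
          pow_orderOf_eq_one]
      rwa [e, hr, mul_inv_rev, inv_eq_of_mul_eq_one_right hbb, hai, mul_assoc, haa, mul_one] at h
    have hkpos : 0 < k := by have := orderOf_pos r; omega
    have hzne : r ^ (k : ℤ) ≠ 1 := by
      rw [zpow_natCast]
      exact pow_ne_one_of_lt_orderOf (by omega) (by omega)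
    have hzinv : r ^ (-(k : ℤ)) = r ^ (k : ℤ) := by
      rw [zpow_neg, inv_eq_iff_mul_eq_one, ← zpow_add,
        show (k : ℤ) + k = ((2 * k : ℕ) : ℤ) by push_cast; ring, zpow_natCast, ← hk, pow_orderOf_eq_one]
    have haz : a * r ^ (k : ℤ) = r ^ (k : ℤ) * a := by rw [hpow, hzinv]
    have hmem : a * r ^ (k : ℤ) ∈ I ∪ J := by
      obtain ⟨j, hj | hj⟩ := Int.even_or_odd' (k : ℤ)
      · refine Or.inl ((hmemI _).2 (((hmemI a).1 ha).trans ?_))
        have h := hconj' (-j) a
        rw [neg_neg, ← hpow, mul_assoc, ← zpow_add] at h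
        rwa [show j + j = (k : ℤ) by omega] at h
      · refine Or.inr ((hmemJ _).2 (((hmemJ b).1 hb).trans ?_))
        have h := hconj' (-j) b
        have e : r ^ (-j) * b * r ^ (- -j) = a * r ^ (k : ℤ) := by
          rw [← har, neg_neg, ← mul_assoc, ← hpow, mul_assoc, mul_assoc, show (k : ℤ) = j + (1 + j) by omega,
            zpow_add, zpow_one_add]
        rwa [e] at h
    have hbz : b * r ^ (k : ℤ) = r ^ (k : ℤ) * b := by
      have hrz : r * r ^ (k : ℤ) = r ^ (k : ℤ) * r := ((Commute.refl r).zpow_right _).eq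
      rw [← har, mul_assoc, hrz, ← mul_assoc, haz, mul_assoc]
    have hb' := hcent' a ha (a * r ^ (k : ℤ)) hmem
      (fun e => hzne (left_eq_mul.1 e)) (by rw [mul_assoc, ← haz])
      b (by rw [← mul_assoc a a, haa, one_mul]; exact hbz)
    exact hcu b _ _ hb'
  rw [eq_top_iff]
  intro g _
  have ha₀I : a₀ ∈ I := (hmemI _).2 (IsConj.refl _)
  have hb₀J : b₀ ∈ J := (hmemJ _).2 (IsConj.refl _)
  obtain ⟨g0, hg0⟩ := QuotientGroup.mk_surjective (c a₀ (Set.mem_union_left J ha₀I))
  have hall : ∀ v : G, v • c a₀ (Set.mem_union_left J ha₀I) = c a₀ (Set.mem_union_left J ha₀I) := by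
    intro v
    have hmem : v * a₀ * v⁻¹ ∈ I := (hmemI _).2 (isConj_iff.2 ⟨v, rfl⟩)
    have h1 : v • c a₀ (Set.mem_union_left J ha₀I) = c (v * a₀ * v⁻¹) (Set.mem_union_left J hmem) := by
      refine hcu _ _ _ ?_
      show (v * a₀ * v⁻¹) • v • c a₀ (Set.mem_union_left J ha₀I) = v • c a₀ (Set.mem_union_left J ha₀I)
      rw [← mul_smul, inv_mul_cancel_right, mul_smul, hc a₀ _]
    rw [h1, main _ hmem b₀ hb₀J, main _ ha₀I b₀ hb₀J]
  have := hall (g0 * g * g0⁻¹)
  rw [← hg0, MulAction.Quotient.smul_mk, eq_comm, QuotientGroup.eq, smul_eq_mul] at this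
  simpa [mul_assoc] using this

end Cfsg.Agent.S5439
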