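import Cfsg.Statements.S5440
import Cfsg.Agent.FiLarge.Basic

set_option autoImplicit false
open Cfsg

namespace Cfsg.Agent.S5440

/-- Let G be a finite group of large Fischer type at the involution z: the generalized Fitting subgroup Q of H = C_G(z) is extraspecial of order 2^13, H has normal subgroups Q ≤ H₁ ≤ H₂ with H₁/Q of order 3, H₂/H₁ the projective special unitary group of dimension 4 over the field with nine elements and H₂ of index 2 in H, and some conjugate of z other than z lies in Q. Then H has exactly two orbits, under conjugation, on the involutions of Q other than z. -/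
theorem result {G : Type*} [Group G] [Finite G] (z : G) (Q : Subgroup (Subgroup.centralizer ({z} : Set G))) [Q.Normal] (hF : Cfsg.IsOfLargeFischerTypeAt z Q) : ∃ s t : Subgroup.centralizer ({z} : Set G), s ∈ Q ∧ t ∈ Q ∧ orderOf s = 2 ∧ orderOf t = 2 ∧ (s : G) ≠ z ∧ (t : G) ≠ z ∧ (¬ ∃ h : Subgroup.centralizer ({z} : Set G), h * s * h⁻¹ = t) ∧ ∀ x : Subgroup.centralizer ({z} : Set G), x ∈ Q → orderOf x = 2 → (x : G) ≠ z → (∃ h : Subgroup.centralizer ({z} : Set G), h * s * h⁻¹ = x) ∨ ∃ h : Subgroup.centralizer ({z} : Set G), h * t * h⁻¹ = x := by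
  classical
  obtain ⟨D⟩ := CfsgLib.FiLarge.exists_dat hF
  obtain ⟨-, v, hv, hvq, hvA⟩ := D.T.exists_full
  obtain ⟨a, ha, ha2, haz⟩ := D.exists_lift CfsgLib.FiLarge.Std.v2_sing.1 CfsgLib.FiLarge.Std.v2_sing.2
  obtain ⟨b, hb, hb2, hbz⟩ := D.exists_lift hvq (fun e => hv 0 (congrFun e 0))
  refine ⟨a, b, a.2, b.2, ha2, hb2, haz, hbz, ?_, ?_⟩
  · rintro ⟨h, hh⟩
    refine hvA (D.T.mem_orb.2 ⟨QuotientGroup.mk h, Subgroup.mem_top _, ?_⟩)
    rw [← ha, ← hb]
    exact D.π_conj_eq (congrArg Subtype.val hh)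
  · intro x hx hx2 hxz
    have hxs := D.sing_of_order (a := ⟨x, hx⟩) hx2 hxz
    have hx1 : (x : G) ≠ 1 := fun e => by
      rw [(Subtype.ext e : x = 1), orderOf_one] at hx2
      norm_num at hx2
    by_cases hA : D.π ⟨x, hx⟩ ∈ D.T.orb ⊤ CfsgLib.FiLarge.v2
    · obtain ⟨c, -, hc⟩ := D.T.mem_orb.1 hA
      rw [← ha] at hc
      obtain ⟨h, -, hh⟩ := D.exists_conj hx1 hxz hc
      exact Or.inl ⟨h, Subtype.ext hh⟩
    · obtain ⟨c, hc⟩ := D.T.large_trans hvq (fun e => hv 0 (congrFun e 0)) hvA hxs.1 hxs.2 hA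
      rw [← hb] at hc
      obtain ⟨h, -, hh⟩ := D.exists_conj hx1 hxz hc
      exact Or.inr ⟨h, Subtype.ext hh⟩

end Cfsg.Agent.S5440
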