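import Cfsg.Statements.S5441
import Cfsg.Agent.FiLarge.Pair

set_option autoImplicit false
open Cfsg

namespace Cfsg.Agent.S5441

/-- Let G be a finite group of large Fischer type at the involution z: the generalized Fitting subgroup Q of H = C_G(z) is extraspecial of order 2^13, H has normal subgroups Q ≤ H₁ ≤ H₂ with H₁/Q of order 3, H₂/H₁ the projective special unitary group of dimension 4 over the field with nine elements and H₂ of index 2 in H, and some conjugate of z other than z lies in Q. Then the conjugates of z lying in Q and different from z form a single orbit under conjugation by H. -/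
theorem result {G : Type*} [Group G] [Finite G] (z : G) (Q : Subgroup (Subgroup.centralizer ({z} : Set G))) [Q.Normal] (hF : Cfsg.IsOfLargeFischerTypeAt z Q) (s t : G) (hsQ : ∃ hsc : s ∈ Subgroup.centralizer ({z} : Set G), (⟨s, hsc⟩ : Subgroup.centralizer ({z} : Set G)) ∈ Q) (htQ : ∃ htc : t ∈ Subgroup.centralizer ({z} : Set G), (⟨t, htc⟩ : Subgroup.centralizer ({z} : Set G)) ∈ Q) (hs : IsConj z s) (ht : IsConj z t) (hs1 : s ≠ z) (ht1 : t ≠ z) : ∃ h ∈ Subgroup.centralizer ({z} : Set G), h * s * h⁻¹ = t := by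
  classical
  obtain ⟨D⟩ := CfsgLib.FiLarge.exists_dat hF
  obtain ⟨hsc, hsm⟩ := hsQ
  obtain ⟨htc, htm⟩ := htQ
  obtain ⟨k, hk⟩ := isConj_iff.1 hs
  obtain ⟨l, hl⟩ := isConj_iff.1 ht
  have hz1 : z ≠ 1 := D.pre.gen.ne_one
  have hs0 : s ≠ 1 := fun e => hz1 (conj_eq_one_iff.1 (hk.trans e))
  have ht0 : t ≠ 1 := fun e => hz1 (conj_eq_one_iff.1 (hl.trans e))
  have hA := D.pair_main (s := ⟨⟨s, hsc⟩, hsm⟩) hk hs0 hs1
  have hB := D.pair_main (s := ⟨⟨t, htc⟩, htm⟩) hl ht0 ht1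
  have hsq : ∀ (a : Q) (g : G), g * z * g⁻¹ = CfsgLib.FiLarge.Dat.val a → CfsgLib.FiLarge.qn (D.π a) = 0 :=
    fun a g hg => (D.sq_iff a).1 (Subtype.ext (Subtype.ext (D.pre' hg).gen.sq))
  obtain ⟨c, hc⟩ := D.T.large_trans (hsq ⟨⟨s, hsc⟩, hsm⟩ k hk) (D.π_ne_zero hs0 hs1) hA.1
    (hsq ⟨⟨t, htc⟩, htm⟩ l hl) (D.π_ne_zero ht0 ht1) hB.1
  obtain ⟨h, -, hh⟩ := D.exists_conj (a := ⟨⟨s, hsc⟩, hsm⟩) (b := ⟨⟨t, htc⟩, htm⟩) ht0 ht1 hc
  exact ⟨h, h.2, hh⟩

end Cfsg.Agent.S5441
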