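import Cfsg.Statements.S5442
import Cfsg.Agent.FiLarge.Pair

set_option autoImplicit false
open Cfsg

namespace Cfsg.Agent.S5442

/-- Let G be a finite group of large Fischer type at the involution z: the generalized Fitting subgroup Q of H = C_G(z) is extraspecial of order 2^13, H has normal subgroups Q ≤ H₁ ≤ H₂ with H₁/Q of order 3, H₂/H₁ the projective special unitary group of dimension 4 over the field with nine elements and H₂ of index 2 in H, and some conjugate of z other than z lies in Q. Let s = g z g⁻¹ be a conjugate of z lying in Q and different from z. Then the intersection of Q and g Q g⁻¹ (as subgroups of G) is elementary abelian of order 2^7; and in H/Q, writing X for the image of the centralizer of s in H and E for the image of the intersection of g Q g⁻¹ with H, E is a normal subgroup of X, elementary abelian of order 32, with X/E isomorphic to the alternating group of degree 6. -/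
theorem result {G : Type*} [Group G] [Finite G] (z : G) (Q : Subgroup (Subgroup.centralizer ({z} : Set G))) [Q.Normal] (hF : Cfsg.IsOfLargeFischerTypeAt z Q) (s : G) (hsQ : ∃ hsc : s ∈ Subgroup.centralizer ({z} : Set G), (⟨s, hsc⟩ : Subgroup.centralizer ({z} : Set G)) ∈ Q) (hs : IsConj z s) (hs1 : s ≠ z) (g : G) (hg : g * z * g⁻¹ = s) (X E : Subgroup ((Subgroup.centralizer ({z} : Set G)) ⧸ Q)) (hX : X = ((Subgroup.centralizer ({z} : Set G) ⊓ Subgroup.centralizer ({s} : Set G)).subgroupOf (Subgroup.centralizer ({z} : Set G))).map (QuotientGroup.mk' Q)) (hE : E = ((((Q.map (Subgroup.centralizer ({z} : Set G)).subtype)).map (MulAut.conj g).toMonoidHom ⊓ Subgroup.centralizer ({z} : Set G)).subgroupOf (Subgroup.centralizer ({z} : Set G))).map (QuotientGroup.mk' Q)) : Cfsg.IsElementaryAbelian 2 ((Q.map (Subgroup.centralizer ({z} : Set G)).subtype) ⊓ ((Q.map (Subgroup.centralizer ({z} : Set G)).subtype)).map (MulAut.conj g).toMonoidHom) ∧ Nat.card ↥((Q.map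 (Subgroup.centralizer ({z} : Set G)).subtype) ⊓ ((Q.map (Subgroup.centralizer ({z} : Set G)).subtype)).map (MulAut.conj g).toMonoidHom) = 2 ^ 7 ∧ E ≤ X ∧ (∀ x ∈ X, ∀ y ∈ E, x * y * x⁻¹ ∈ E) ∧ Cfsg.IsElementaryAbelian 2 E ∧ Nat.card E = 32 ∧ ∃ _ : (E.subgroupOf X).Normal, Nonempty (↥X ⧸ E.subgroupOf X ≃* alternatingGroup (Fin 6)) := by
  classical
  obtain ⟨D⟩ := CfsgLib.FiLarge.exists_dat hF
  obtain ⟨hsc, hsm⟩ := hsQ
  have hs0 : s ≠ 1 := fun e => D.pre.gen.ne_one (conj_eq_one_iff.1 (hg.trans e))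
  obtain ⟨-, hR, hE32, hn, ⟨e⟩⟩ := D.pair_main (s := ⟨⟨s, hsc⟩, hsm⟩) hg hs0 hs1
  have hXeq := D.stab_eq (s := ⟨⟨s, hsc⟩, hsm⟩) hs0 hs1
  subst hX hE
  refine ⟨D.meet_elementary (s := ⟨⟨s, hsc⟩, hsm⟩) hg hs1, hR, ?_, ?_,
    D.EE_elementary (s := ⟨⟨s, hsc⟩, hsm⟩) hg, hE32, ?_⟩
  · exact hXeq ▸ D.EE_le_stab (s := ⟨⟨s, hsc⟩, hsm⟩) hg hs0 hs1
  · intro x hx y hy
    exact D.EE_normalised (s := ⟨⟨s, hsc⟩, hsm⟩) hg hs0 hs1 (hXeq ▸ hx) hy
  · rw [show ((Subgroup.centralizer ({z} : Set G) ⊓ Subgroup.centralizer ({s} : Set G)).subgroupOf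
      (Subgroup.centralizer ({z} : Set G))).map (QuotientGroup.mk' Q) = _ from hXeq]
    exact ⟨hn, ⟨e⟩⟩

end Cfsg.Agent.S5442
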