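import Cfsg.Statements.S5443
import Cfsg.Agent.FiLarge.Stab

set_option autoImplicit false
open Cfsg

namespace Cfsg.Agent.S5443

/-- Let G be a finite group of large Fischer type at the involution z: the generalized Fitting subgroup Q of H = C_G(z) is extraspecial of order 2^13, H has normal subgroups Q ≤ H₁ ≤ H₂ with H₁/Q of order 3, H₂/H₁ the projective special unitary group of dimension 4 over the field with nine elements and H₂ of index 2 in H, and some conjugate of z other than z lies in Q. Let t be an involution of Q not conjugate to z in G, and S the set of elements of H conjugating t to t or to t z (the stabilizer of the image of t in Q modulo its centre). Then the image of S in H/Q is isomorphic to the full isometry group of the elliptic quadratic form in dimension 6 over the field with two elements. -/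
theorem result {G : Type*} [Group G] [Finite G] (z : G) (Q : Subgroup (Subgroup.centralizer ({z} : Set G))) [Q.Normal] (hF : Cfsg.IsOfLargeFischerTypeAt z Q) (t : Subgroup.centralizer ({z} : Set G)) (htQ : t ∈ Q) (ht2 : orderOf t = 2) (ht : ¬ IsConj z (t : G)) (S : Subgroup (Subgroup.centralizer ({z} : Set G))) (hS : ∀ h : Subgroup.centralizer ({z} : Set G), h ∈ S ↔ (h * t * h⁻¹ = t ∨ ((h * t * h⁻¹ : Subgroup.centralizer ({z} : Set G)) : G) = t * z)) : Nonempty (↥(S.map (QuotientGroup.mk' Q)) ≃* Cfsg.isometryGroup (ZMod 2) (Cfsg.quadFormMinus 2 (ZMod 2) 1 1)) := by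
  classical
  obtain ⟨D⟩ := CfsgLib.FiLarge.exists_dat hF
  obtain ⟨⟨-, -, -, -, g, ⟨hgc, hgQ⟩, hgz⟩, -⟩ := hF
  let s : Q := ⟨⟨g * z * g⁻¹, hgc⟩, hgQ⟩
  have hs0 : g * z * g⁻¹ ≠ 1 := fun e => D.pre.gen.ne_one (conj_eq_one_iff.1 e)
  have hsA := (D.pair_main (s := s) rfl hs0 hgz).1
  have hsq : CfsgLib.FiLarge.qn (D.π s) = 0 :=
    (D.sq_iff s).1 (Subtype.ext (Subtype.ext (D.pre' (s := s) rfl).gen.sq))
  have htz : (t : G) ≠ z := fun e => ht (by rw [e])
  have ht1 : (t : G) ≠ 1 := fun e => by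
    rw [(Subtype.ext e : t = 1), orderOf_one] at ht2
    norm_num at ht2
  let a : Q := ⟨t, htQ⟩
  obtain ⟨haq, ha0⟩ := D.sing_of_order (a := a) ht2 htz
  have hA : D.π a ∈ D.T.orb ⊤ CfsgLib.FiLarge.v2 := by
    by_contra hA
    obtain ⟨c, hc⟩ := D.T.large_trans hsq (D.π_ne_zero hs0 hgz) hsA haq ha0 hA
    obtain ⟨h, -, hh⟩ := D.exists_conj (a := s) (b := a) ht1 htz hc
    exact ht (isConj_iff.2 ⟨(h : G) * g, by
      rw [show (t : G) = (h : G) * (g * z * g⁻¹) * (h : G)⁻¹ from hh.symm]; group⟩)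
  have hmap : S.map (QuotientGroup.mk' Q) = D.T.stab (D.π a) := by
    ext x
    constructor
    · rintro ⟨h, hh, rfl⟩
      have e := D.act h a
      show D.T.r (QuotientGroup.mk h) (D.π a) = D.π a
      rw [← e]
      rcases (hS h).1 hh with h1 | h1
      · congr 1
        exact Subtype.ext h1
      · let zq : Q := ⟨⟨z, Subgroup.mem_centralizer_singleton_iff.2 rfl⟩, by
          obtain ⟨q, hq, hqz⟩ := D.zQ
          rwa [show q = ⟨z, _⟩ from Subtype.ext hqz] at hq⟩
        have he : MulAut.conjNormal h a = a * zq := Subtype.ext (Subtype.ext h1)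
        rw [he, D.π_mul, (D.π_eq_zero zq).2 (Or.inr rfl), add_zero]
    · intro hx
      obtain ⟨c, hc, hh⟩ := D.exists_conj (a := a) (b := a) ht1 htz hx
      exact ⟨c, (hS c).2 (Or.inl (Subtype.ext hh)), hc⟩
  obtain ⟨y, hy⟩ := D.exists_inverting (s := s) rfl hs0 hgz
  obtain ⟨c, -, hc⟩ := D.T.mem_orb.1 hA
  have hconj : (D.T.stab CfsgLib.FiLarge.v2).map (MulAut.conj c).toMonoidHom = D.T.stab (D.π a) := by
    ext x
    constructor
    · rintro ⟨u, hu, rfl⟩
      show D.T.r (c * u * c⁻¹) (D.π a) = D.π a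
      rw [← hc, ← CfsgLib.FiLarge.Std.r_mul, inv_mul_cancel_right, CfsgLib.FiLarge.Std.r_mul,
        (hu : D.T.r u CfsgLib.FiLarge.v2 = _)]
    · intro hx
      refine ⟨c⁻¹ * x * c, ?_, by simp [mul_assoc]⟩
      show D.T.r (c⁻¹ * x * c) CfsgLib.FiLarge.v2 = CfsgLib.FiLarge.v2
      rw [CfsgLib.FiLarge.Std.r_mul, CfsgLib.FiLarge.Std.r_mul, hc, (hx : D.T.r x (D.π a) = _), ← hc,
        ← CfsgLib.FiLarge.Std.r_mul, inv_mul_cancel, CfsgLib.FiLarge.Std.r_one]
  obtain ⟨i⟩ := D.T.stab_aut hy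
  exact ⟨((MulEquiv.subgroupCongr (hmap.trans hconj.symm)).trans
    ((MulAut.conj c).subgroupMap (D.T.stab CfsgLib.FiLarge.v2)).symm).trans i⟩

end Cfsg.Agent.S5443
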