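import Cfsg.Statements.S5448
import Cfsg.Agent.FiLarge.Thom.Final

set_option autoImplicit false
open scoped Pointwise
open Cfsg

namespace Cfsg.Agent.S5448

/-- Let G be a finite group of large Fischer type at the involution z: the generalized Fitting subgroup Q of H = C_G(z) is extraspecial of order 2^13, H has normal subgroups Q ≤ H₁ ≤ H₂ with H₁/Q of order 3, H₂/H₁ the projective special unitary group of dimension 4 over the field with nine elements and H₂ of index 2 in H, and some conjugate of z other than z lies in Q. Let T be a Sylow 2-subgroup of G, A its Thompson subgroup, M = N_G(A) its normalizer, and t an involution of A not conjugate to z in G. Then the centralizer of t in M, modulo A, is isomorphic to the setwise stabilizer of a two-element subset of the 24 points in the Mathieu group of degree 24 (the automorphism group of the smaller Mathieu group on 22 points). -/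
theorem result {G : Type*} [Group G] [Finite G] (z : G) (Q : Subgroup (Subgroup.centralizer ({z} : Set G))) [Q.Normal] (hF : Cfsg.IsOfLargeFischerTypeAt z Q) (T : Sylow 2 G) (A M : Subgroup G) (hA : A = Cfsg.thompsonSubgroupOf 2 (T : Subgroup G)) (hM : M = Subgroup.normalizer (A : Set G)) (t : G) (htA : t ∈ A) (ht2 : orderOf t = 2) (ht : ¬ IsConj z t) : ∃ _ : (A.subgroupOf (M ⊓ Subgroup.centralizer ({t} : Set G))).Normal, Nonempty (↥(M ⊓ Subgroup.centralizer ({t} : Set G)) ⧸ A.subgroupOf (M ⊓ Subgroup.centralizer ({t} : Set G)) ≃* ↥(Cfsg.M24 ⊓ MulAction.stabilizer (Equiv.Perm Cfsg.GolayPt) ({none, some 0} : Set Cfsg.GolayPt))) := by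
  obtain ⟨-, -, -, -, -, -, φ, hs, hk, hp⟩ := CfsgLib.FiLarge.Thom.thompson_main hF T A M hA hM
  obtain ⟨p, q, hpq, hst⟩ := hp t htA (fun e => by rw [e, orderOf_one] at ht2; norm_num at ht2) ht
  obtain ⟨c, hc⟩ := CfsgLib.FiLarge.Thom.exists_stab_map hpq
  set H := M ⊓ Subgroup.centralizer ({t} : Set G)
  have hH : ∀ m : ↥M, (m : G) ∈ H ↔ (φ m : Equiv.Perm Cfsg.GolayPt) • ({p, q} : Set Cfsg.GolayPt) = {p, q} :=
    fun m => by
      rw [← hst m, mul_inv_eq_iff_eq_mul]
      exact ⟨fun h => Subgroup.mem_centralizer_singleton_iff.1 (Subgroup.mem_inf.1 h).2,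
        fun h => Subgroup.mem_inf.2 ⟨m.2, Subgroup.mem_centralizer_singleton_iff.2 h⟩⟩
  let φH : ↥H →* ↥Cfsg.M24 :=
    (MulAut.conj c).toMonoidHom.comp (φ.comp (Subgroup.inclusion inf_le_left))
  have hmem : ∀ h : ↥H, (φH h : Equiv.Perm Cfsg.GolayPt) ∈
      MulAction.stabilizer (Equiv.Perm Cfsg.GolayPt) ({none, some 0} : Set Cfsg.GolayPt) := fun h =>
    (hc _).1 ((hH (Subgroup.inclusion inf_le_left h)).1 h.2)
  let ψ : ↥H →* ↥(Cfsg.M24 ⊓ MulAction.stabilizer (Equiv.Perm Cfsg.GolayPt) ({none, some 0} : Set Cfsg.GolayPt)) :=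
    { toFun := fun h => ⟨φH h, Subgroup.mem_inf.2 ⟨(φH h).2, hmem h⟩⟩
      map_one' := Subtype.ext (by
        show ((φH 1 : ↥Cfsg.M24) : Equiv.Perm Cfsg.GolayPt) = 1
        rw [map_one]; rfl)
      map_mul' := fun a b => Subtype.ext (by
        show ((φH (a * b) : ↥Cfsg.M24) : Equiv.Perm Cfsg.GolayPt) = _
        rw [map_mul]; rfl) }
  have hψs : Function.Surjective ψ := by
    intro x
    obtain ⟨m, hm⟩ := hs (c⁻¹ * ⟨x.1, (Subgroup.mem_inf.1 x.2).1⟩ * c)
    have e3 : c * φ m * c⁻¹ = ⟨x.1, (Subgroup.mem_inf.1 x.2).1⟩ := by rw [hm]; group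
    have hmH : (m : G) ∈ H := (hH m).2 ((hc _).2 (by
      rw [e3]
      exact (Subgroup.mem_inf.1 x.2).2))
    refine ⟨⟨m, hmH⟩, Subtype.ext ?_⟩
    show ((c * φ m * c⁻¹ : ↥Cfsg.M24) : Equiv.Perm Cfsg.GolayPt) = _
    rw [e3]
  have hker : ψ.ker = A.subgroupOf H := by
    ext h
    rw [MonoidHom.mem_ker, Subgroup.mem_subgroupOf]
    constructor
    · intro e
      have e1 : ((φH h : ↥Cfsg.M24) : Equiv.Perm Cfsg.GolayPt) = 1 := congrArg (fun u => u.1) e
      have e2 : φH h = 1 := Subtype.ext e1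
      exact (hk _).1 ((MulEquiv.map_eq_one_iff (MulAut.conj c)).1 e2)
    · intro e
      have e2 : φH h = 1 := (MulEquiv.map_eq_one_iff (MulAut.conj c)).2 ((hk (Subgroup.inclusion inf_le_left h)).2 e)
      have e1 : ((φH h : ↥Cfsg.M24) : Equiv.Perm Cfsg.GolayPt) = 1 := congrArg (fun u => u.1) e2
      exact Subtype.ext e1
  haveI hn : (A.subgroupOf H).Normal := hker ▸ inferInstance
  exact ⟨hn, ⟨(QuotientGroup.quotientMulEquivOfEq hker.symm).trans
    (QuotientGroup.quotientKerEquivOfSurjective ψ hψs)⟩⟩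

end Cfsg.Agent.S5448
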