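import Cfsg.Statements.S5452
import Cfsg.Agent.Spor3T.UnitaryCover

set_option autoImplicit false
open Cfsg

namespace Cfsg.Agent.S5452

/-- Let G be a finite group with an involution d whose centralizer C is quasisimple with C modulo the subgroup generated by d isomorphic to the projective special unitary group of dimension 6 over the field with four elements, and suppose some conjugate of d other than d commutes with d. Then every involution of C modulo the subgroup generated by d is the image of an involution of C, and d is not a square in G. -/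
theorem result {G : Type*} [Group G] [Finite G] (d : G) (hd : orderOf d = 2) (hq : Cfsg.IsQuasisimple ↥(Subgroup.centralizer ({d} : Set G))) [hzn : ((Subgroup.zpowers d).subgroupOf (Subgroup.centralizer ({d} : Set G))).Normal] (K : Type) [Field K] [Fintype K] (hK : Fintype.card K = 4) (e : ↥(Subgroup.centralizer ({d} : Set G)) ⧸ (Subgroup.zpowers d).subgroupOf (Subgroup.centralizer ({d} : Set G)) ≃* Cfsg.PSU 6 K 2) (hnwc : ∃ g : G, g * d * g⁻¹ ∈ Subgroup.centralizer ({d} : Set G) ∧ g * d * g⁻¹ ≠ d) : (∀ x : ↥(Subgroup.centralizer ({d} : Set G)) ⧸ (Subgroup.zpowers d).subgroupOf (Subgroup.centralizer ({d} : Set G)), orderOf x = 2 → ∃ y : ↥(Subgroup.centralizer ({d} : Set G)), orderOf y = 2 ∧ (QuotientGroup.mk y : ↥(Subgroup.centralizer ({d} : Set G)) ⧸ (Subgroup.zpowers d).subgroupOf (Subgroup.centralizer ({d} : Set G))) = x) ∧ ¬ ∃ g : G, g ^ 2 = d := by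
  have hcard : Nat.card K = 2 ^ 2 := by rw [Nat.card_eq_fintype_card, hK]; rfl
  have : CharP K 2 := charP_of_card_eq_prime_pow (f := 2) (by rw [hK]; rfl)
  set C := Subgroup.centralizer ({d} : Set G) with hC
  set Z := (Subgroup.zpowers d).subgroupOf C with hZ
  let φ : ↥C →* Cfsg.PSU 6 K 2 := e.toMonoidHom.comp (QuotientGroup.mk' Z)
  have hφ : Function.Surjective φ := e.surjective.comp (QuotientGroup.mk'_surjective Z)
  have hmem : ∀ z ∈ φ.ker, (z : G) ∈ Subgroup.zpowers d := fun z hz => by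
    have h : (QuotientGroup.mk' Z z) = 1 := e.map_eq_one_iff.1 hz
    exact (QuotientGroup.eq_one_iff z).1 h
  have hker : φ.ker ≤ Subgroup.center ↥C := fun z hz => by
    refine Subgroup.mem_center_iff.2 fun g => Subtype.ext ?_
    obtain ⟨k, hk⟩ := Subgroup.mem_zpowers_iff.1 (hmem z hz)
    have hg : d * (g : G) = (g : G) * d := Subgroup.mem_centralizer_iff.1 g.2 d rfl
    show (g : G) * (z : G) = (z : G) * (g : G)
    rw [← hk]
    exact (Commute.zpow_left hg k).symm.eq
  have hdd : d * d = 1 := by rw [← pow_two, ← hd, pow_orderOf_eq_one]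
  have hexp : ∀ z ∈ φ.ker, z * z = 1 := fun z hz => by
    obtain ⟨k, hk⟩ := Subgroup.mem_zpowers_iff.1 (hmem z hz)
    refine Subtype.ext ?_
    show (z : G) * (z : G) = 1
    rw [← hk, ← (Commute.refl d).mul_zpow, hdd, one_zpow]
  have lift : ∀ x : ↥C ⧸ Z, orderOf x = 2 → ∃ y : ↥C, orderOf y = 2 ∧ (QuotientGroup.mk y : ↥C ⧸ Z) = x := by
    intro x hx
    obtain ⟨y, hy, hy2⟩ := CfsgLib.ThreeT.SixTwo.cover_lift_invol hcard φ hφ hker hexp (x := e x)
      (by rw [← map_mul, show x * x = 1 by rw [← pow_two, ← hx, pow_orderOf_eq_one], map_one])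
    have hyx : (QuotientGroup.mk y : ↥C ⧸ Z) = x := e.injective hy
    refine ⟨y, orderOf_eq_prime (by rw [pow_two, hy2]) fun h1 => ?_, hyx⟩
    rw [h1] at hyx
    rw [← hyx] at hx
    simp at hx
  refine ⟨lift, ?_⟩
  rintro ⟨g, hg⟩
  have hgC : g ∈ C := Subgroup.mem_centralizer_iff.2 fun h hh => by
    rw [Set.mem_singleton_iff] at hh
    rw [hh, ← hg]
    group
  have h2 : (QuotientGroup.mk (⟨g, hgC⟩ : ↥C) : ↥C ⧸ Z) ^ 2 = 1 := by
    rw [← QuotientGroup.mk_pow, QuotientGroup.eq_one_iff, hZ, Subgroup.mem_subgroupOf]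
    show g ^ 2 ∈ Subgroup.zpowers d
    rw [hg]
    exact Subgroup.mem_zpowers d
  have hne : (QuotientGroup.mk (⟨g, hgC⟩ : ↥C) : ↥C ⧸ Z) ≠ 1 := fun h1 => by
    rw [QuotientGroup.eq_one_iff, hZ, Subgroup.mem_subgroupOf] at h1
    obtain ⟨k, hk⟩ := Subgroup.mem_zpowers_iff.1 h1
    have : g ^ 2 = 1 := by
      show g ^ 2 = 1
      rw [pow_two, ← show (d ^ k) = g from hk, ← (Commute.refl d).mul_zpow, hdd, one_zpow]
    rw [hg] at this
    rw [this] at hd
    simp at hd
  obtain ⟨y, hy, hyg⟩ := lift _ (orderOf_eq_prime h2 hne)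
  have hz : (⟨g, hgC⟩ : ↥C)⁻¹ * y ∈ φ.ker := by
    rw [MonoidHom.mem_ker, map_mul, map_inv, inv_mul_eq_one]
    exact congrArg e hyg.symm
  have hyy : y * y = 1 := by rw [← pow_two, ← hy, pow_orderOf_eq_one]
  have key : (⟨g, hgC⟩ : ↥C) * ⟨g, hgC⟩ = 1 := by
    have hc : Commute ((⟨g, hgC⟩ : ↥C)⁻¹ * y) ⟨g, hgC⟩ :=
      ((Subgroup.mem_center_iff.1 (hker hz)) _).symm
    have := hc.symm.mul_mul_mul_comm (a := (⟨g, hgC⟩ : ↥C)) (d := (⟨g, hgC⟩ : ↥C)⁻¹ * y)
    rw [mul_inv_cancel_left, hexp _ hz, mul_one, hyy] at this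
    exact this
  have : g * g = 1 := congrArg Subtype.val key
  rw [← pow_two, hg] at this
  rw [this] at hd
  simp at hd

end Cfsg.Agent.S5452
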