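import Cfsg.Statements.S5453
import Cfsg.Agent.Spor3T.M22DoubleCover
import Cfsg.Agent.Spor3T.M22Order

set_option autoImplicit false
open Cfsg

namespace Cfsg.Agent.S5453

/-- Let G be a finite group with an involution d whose centralizer C is quasisimple, such that C modulo the subgroup generated by d is of type M(22) with respect to some conjugacy class of 3-transpositions generating it and also has an involution whose own centralizer is quasisimple with quotient by it isomorphic to the projective special unitary group of dimension 6 over the field with four elements and which is not weakly closed in that centralizer; and suppose some conjugate of d other than d commutes with d. Then every involution of C modulo the subgroup generated by d is the image of an involution of C, and d is not a square in G. -/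
theorem result {G : Type*} [Group G] [Finite G] (d : G) (hd : orderOf d = 2) (hq : Cfsg.IsQuasisimple ↥(Subgroup.centralizer ({d} : Set G))) [hzn : ((Subgroup.zpowers d).subgroupOf (Subgroup.centralizer ({d} : Set G))).Normal] (htype : ∃ E : Set (↥(Subgroup.centralizer ({d} : Set G)) ⧸ (Subgroup.zpowers d).subgroupOf (Subgroup.centralizer ({d} : Set G))), Cfsg.IsThreeTranspositionClass E ∧ Cfsg.IsOfTypeM22 _ E) (hinvol : ∃ d' : ↥(Subgroup.centralizer ({d} : Set G)) ⧸ (Subgroup.zpowers d).subgroupOf (Subgroup.centralizer ({d} : Set G)), orderOf d' = 2 ∧ Cfsg.IsQuasisimple ↥(Subgroup.centralizer ({d'} : Set _)) ∧ (∃ (K : Type) (_ : Field K) (_ : Fintype K), Fintype.card K = 4 ∧ ∃ _ : ((Subgroup.zpowers d').subgroupOf (Subgroup.centralizer ({d'} : Set _))).Normal, Nonempty (↥(Subgroup.centralizer ({d'} : Set _)) ⧸ (Subgroup.zpowers d').subgroupOf (Subgroup.centralizer ({d'} : Set _)) ≃* Cfsg.PSU 6 K 2)) ∧ ∃ g, g * d' * g⁻¹ ∈ Subgroup.centralizer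 ({d'} : Set _) ∧ g * d' * g⁻¹ ≠ d') (hnwc : ∃ g : G, g * d * g⁻¹ ∈ Subgroup.centralizer ({d} : Set G) ∧ g * d * g⁻¹ ≠ d) : (∀ x : ↥(Subgroup.centralizer ({d} : Set G)) ⧸ (Subgroup.zpowers d).subgroupOf (Subgroup.centralizer ({d} : Set G)), orderOf x = 2 → ∃ y : ↥(Subgroup.centralizer ({d} : Set G)), orderOf y = 2 ∧ (QuotientGroup.mk y : ↥(Subgroup.centralizer ({d} : Set G)) ⧸ (Subgroup.zpowers d).subgroupOf (Subgroup.centralizer ({d} : Set G))) = x) ∧ ¬ ∃ g : G, g ^ 2 = d := by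
  set C := Subgroup.centralizer ({d} : Set G) with hC
  set Z := (Subgroup.zpowers d).subgroupOf C with hZ
  let ψ : ↥C →* ↥C ⧸ Z := QuotientGroup.mk' Z
  have hψ : Function.Surjective ψ := QuotientGroup.mk'_surjective Z
  have hmem : ∀ z ∈ ψ.ker, (z : G) ∈ Subgroup.zpowers d := fun z hz => (QuotientGroup.eq_one_iff z).1 hz
  have hker : ψ.ker ≤ Subgroup.center ↥C := fun z hz => by
    refine Subgroup.mem_center_iff.2 fun g => Subtype.ext ?_
    obtain ⟨k, hk⟩ := Subgroup.mem_zpowers_iff.1 (hmem z hz)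
    have hg : d * (g : G) = (g : G) * d := Subgroup.mem_centralizer_iff.1 g.2 d rfl
    show (g : G) * (z : G) = (z : G) * (g : G)
    rw [← hk]
    exact (Commute.zpow_left hg k).symm.eq
  have hdd : d * d = 1 := by rw [← pow_two, ← hd, pow_orderOf_eq_one]
  have hexp : ∀ z ∈ ψ.ker, z * z = 1 := fun z hz => by
    obtain ⟨k, hk⟩ := Subgroup.mem_zpowers_iff.1 (hmem z hz)
    refine Subtype.ext ?_
    show (z : G) * (z : G) = 1
    rw [← hk, ← (Commute.refl d).mul_zpow, hdd, one_zpow]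
  obtain ⟨E, hE, h22⟩ := htype
  obtain ⟨e₀, he₀, c₀, hc₀, hnc, -⟩ := h22.2
  have hperf : commutator ↥C = ⊤ := hq.1.commutator_eq_top
  have hQperf := CfsgLib.ThreeT.M22Double.perfect_of_surjective ψ hψ hperf
  haveI hQs : IsSimpleGroup (↥C ⧸ Z) := by
    haveI := hq.2
    haveI : Nontrivial (↥C ⧸ Z) := ⟨⟨e₀, 1, CfsgLib.ThreeT.ne_one_of_orderOf (hE.1.1 e₀ he₀)⟩⟩
    have hle : Subgroup.center ↥C ≤ ψ.ker := fun z hz => by
      rw [MonoidHom.mem_ker, ← Subgroup.mem_bot, ← h22.1, Subgroup.mem_center_iff]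
      intro g
      obtain ⟨y, rfl⟩ := hψ g
      rw [← map_mul, ← map_mul, Subgroup.mem_center_iff.1 hz y]
    exact IsSimpleGroup.isSimpleGroup_of_surjective (QuotientGroup.lift _ ψ hle)
      (QuotientGroup.lift_surjective_of_surjective _ _ hψ hle)
  haveI hsimple : IsSimpleGroup (commutator (↥C ⧸ Z)) := by
    rw [hQperf]
    exact IsSimpleGroup.isSimpleGroup_of_surjective (Subgroup.topEquiv (G := ↥C ⧸ Z)).symm.toMonoidHom
      (Subgroup.topEquiv (G := ↥C ⧸ Z)).symm.surjective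
  have hcomm : ¬ ∀ a b : ↥C ⧸ Z, a * b = b * a := fun h => hnc (h _ _)
  have hnonab : ∃ x y : commutator (↥C ⧸ Z), x * y ≠ y * x :=
    ⟨⟨e₀, hQperf ▸ Subgroup.mem_top _⟩, ⟨c₀, hQperf ▸ Subgroup.mem_top _⟩, fun h => hnc (congrArg Subtype.val h)⟩
  have hsol : ∀ N : Subgroup (↥C ⧸ Z), N.Normal → Group.IsSolvable N → N = ⊥ := fun N hN hs =>
    hN.eq_bot_or_eq_top.resolve_right fun h => hcomm (by
      subst h
      haveI : Group.IsSolvable (↥C ⧸ Z) := solvable_of_surjective (f := (Subgroup.topEquiv (G := ↥C ⧸ Z)).toMonoidHom)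
        (Subgroup.topEquiv (G := ↥C ⧸ Z)).surjective
      exact IsSimpleGroup.comm_iff_isSolvable.2 inferInstance)
  have hprim := CfsgLib.ThreeT.primitive_of_connected hE hsol
    (CfsgLib.ThreeT.connected_both hE hsimple hnonab).2
    ⟨e₀, he₀, c₀, hc₀, fun h => hnc (h ▸ Commute.refl e₀)⟩
  have h := CfsgLib.ThreeT.Prod.setup22
    ⟨hE.1, fun g a ha => CfsgLib.ThreeT.conj_mem hE ha g, hE.2.2⟩ hprim h22
  have hg := CfsgLib.ThreeT.Prod.geo22
    ⟨hE.1, fun g a ha => CfsgLib.ThreeT.conj_mem hE ha g, hE.2.2⟩ hprim h22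
  have hcent : ∀ a ∈ E, Subgroup.centralizer ({a} : Set (↥C ⧸ Z)) ≤ CfsgLib.ThreeT.Prod.hsub E a :=
    fun a ha => (CfsgLib.ThreeT.Prod.centralizer_eq hg ha).1.ge
  have hcen : ∀ a ∈ E, ∀ w ∈ Subgroup.center ↥(CfsgLib.ThreeT.Prod.hsub E a),
      (w : ↥C ⧸ Z) = 1 ∨ (w : ↥C ⧸ Z) = a := fun a ha w hw =>
    CfsgLib.ThreeT.Prod.cent_nb hg ha (CfsgLib.ThreeT.Prod.commute_hsub w.2).symm
      fun y hy => CfsgLib.ThreeT.Prod.commute_of_mem_center hw hy
  have hcard : E.ncard % 4 = 2 := by rw [CfsgLib.ThreeT.Prod.ncard_D hg he₀]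
  have lift : ∀ x : ↥C ⧸ Z, orderOf x = 2 → ∃ y : ↥C, orderOf y = 2 ∧ (QuotientGroup.mk y : ↥C ⧸ Z) = x := by
    intro x hx
    obtain ⟨y, hy, hy2⟩ := CfsgLib.ThreeT.M22Double.cover_lift_invol ψ hψ hker hexp h h22 hperf
      hcent hcen hcard (x := x) (by rw [← pow_two, ← hx, pow_orderOf_eq_one])
    refine ⟨y, orderOf_eq_prime (by rw [pow_two, hy2]) fun h1 => ?_, hy⟩
    rw [h1, map_one] at hy
    rw [← hy] at hx
    simp at hx
  refine ⟨lift, ?_⟩
  rintro ⟨g, hg⟩
  have hgC : g ∈ C := Subgroup.mem_centralizer_iff.2 fun h hh => by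
    rw [Set.mem_singleton_iff] at hh
    rw [hh, ← hg]
    group
  have h2 : (QuotientGroup.mk (⟨g, hgC⟩ : ↥C) : ↥C ⧸ Z) ^ 2 = 1 := by
    rw [← QuotientGroup.mk_pow, QuotientGroup.eq_one_iff, hZ, Subgroup.mem_subgroupOf]
    show g ^ 2 ∈ Subgroup.zpowers d
    rw [hg]
    exact Subgroup.mem_zpowers d
  have hne : (QuotientGroup.mk (⟨g, hgC⟩ : ↥C) : ↥C ⧸ Z) ≠ 1 := fun h1 => by
    rw [QuotientGroup.eq_one_iff, hZ, Subgroup.mem_subgroupOf] at h1
    obtain ⟨k, hk⟩ := Subgroup.mem_zpowers_iff.1 h1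
    have : g ^ 2 = 1 := by
      show g ^ 2 = 1
      rw [pow_two, ← show (d ^ k) = g from hk, ← (Commute.refl d).mul_zpow, hdd, one_zpow]
    rw [hg] at this
    rw [this] at hd
    simp at hd
  obtain ⟨y, hy, hyg⟩ := lift _ (orderOf_eq_prime h2 hne)
  have hz : (⟨g, hgC⟩ : ↥C)⁻¹ * y ∈ ψ.ker := by
    rw [MonoidHom.mem_ker, map_mul, map_inv, inv_mul_eq_one]
    exact hyg.symm
  have hyy : y * y = 1 := by rw [← pow_two, ← hy, pow_orderOf_eq_one]
  have key : (⟨g, hgC⟩ : ↥C) * ⟨g, hgC⟩ = 1 := by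
    have hc : Commute ((⟨g, hgC⟩ : ↥C)⁻¹ * y) ⟨g, hgC⟩ :=
      ((Subgroup.mem_center_iff.1 (hker hz)) _).symm
    have := hc.symm.mul_mul_mul_comm (a := (⟨g, hgC⟩ : ↥C)) (d := (⟨g, hgC⟩ : ↥C)⁻¹ * y)
    rw [mul_inv_cancel_left, hexp _ hz, mul_one, hyy] at this
    exact this
  have : g * g = 1 := congrArg Subtype.val key
  rw [← pow_two, hg] at this
  rw [this] at hd
  simp at hd

end Cfsg.Agent.S5453
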