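import Cfsg.Statements.S5454
import Cfsg.Agent.SixPlane.Orbit

set_option autoImplicit false
open Cfsg

namespace Cfsg.Agent.S5454

/-- Let G be a finite group with an involution d whose centralizer C is quasisimple with C modulo the subgroup generated by d isomorphic to the projective special unitary group of dimension 6 over the field with four elements, and suppose some conjugate of d other than d commutes with d. Let S be a Sylow 2-subgroup of C and A the Thompson subgroup of S (generated by the elementary abelian subgroups of S of largest order), regarded as a subgroup of G. Then A is elementary abelian of order 2^10, exactly 22 conjugates of d lie in A, and the normalizer of A permutes them transitively. -/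
theorem result {G : Type*} [Group G] [Finite G] (d : G) (hd : orderOf d = 2) (hq : Cfsg.IsQuasisimple ↥(Subgroup.centralizer ({d} : Set G))) [hzn : ((Subgroup.zpowers d).subgroupOf (Subgroup.centralizer ({d} : Set G))).Normal] (K : Type) [Field K] [Fintype K] (hK : Fintype.card K = 4) (e : ↥(Subgroup.centralizer ({d} : Set G)) ⧸ (Subgroup.zpowers d).subgroupOf (Subgroup.centralizer ({d} : Set G)) ≃* Cfsg.PSU 6 K 2) (hnwc : ∃ g : G, g * d * g⁻¹ ∈ Subgroup.centralizer ({d} : Set G) ∧ g * d * g⁻¹ ≠ d) (S : Sylow 2 ↥(Subgroup.centralizer ({d} : Set G))) (A : Subgroup G) (hA : A = (Cfsg.thompsonSubgroupOf 2 (S : Subgroup ↥(Subgroup.centralizer ({d} : Set G)))).map (Subgroup.centralizer ({d} : Set G)).subtype) : Cfsg.IsElementaryAbelian 2 A ∧ Nat.card A = 2 ^ 10 ∧ Set.ncard {x : G | x ∈ A ∧ IsConj d x} = 22 ∧ ∀ x ∈ A, ∀ y ∈ A, IsConj d x → IsConj d y → ∃ n ∈ Subgroup.normalizer (A : Set G), n * x * n⁻¹ = y := by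
  classical
  haveI : CharP K 2 := charP_of_card_eq_prime_pow (f := 2) (by rw [hK]; rfl)
  have hF : Nat.card K = 2 ^ 2 := by rw [Nat.card_eq_fintype_card, hK]; rfl
  obtain ⟨ω, -, -, hω⟩ := CfsgLib.ThreeT.SixTwo.exists_omega hF
  let Z := (Subgroup.zpowers d).subgroupOf (Subgroup.centralizer ({d} : Set G))
  have hdd : d * d = 1 := by rw [← pow_two, ← hd, pow_orderOf_eq_one]
  have hdC : d ∈ (Subgroup.centralizer ({d} : Set G)) := Subgroup.mem_centralizer_singleton_iff.2 rfl
  let Kv : CfsgLib.SixPlane.Cov K ↥(Subgroup.centralizer ({d} : Set G)) :=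
    { φ := e.toMonoidHom.comp (QuotientGroup.mk' Z)
      surj := e.surjective.comp (QuotientGroup.mk'_surjective Z)
      z := ⟨d, hdC⟩
      z_ne := fun h => by
        have h1 : d = 1 := congrArg Subtype.val h
        rw [h1, orderOf_one] at hd
        exact absurd hd (by norm_num)
      ker_iff := fun x => by
        refine e.map_eq_one_iff.trans ((QuotientGroup.eq_one_iff x).trans ?_)
        rw [Subgroup.mem_subgroupOf]
        constructor
        · intro h
          obtain ⟨k, hk⟩ := Subgroup.mem_zpowers_iff.1 h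
          rw [← zpow_mod_orderOf, hd] at hk
          rcases Int.emod_two_eq_zero_or_one k with h2 | h2
          · left; exact Subtype.ext (by simpa [h2] using hk.symm)
          · right; exact Subtype.ext (by simpa [h2] using hk.symm)
        · rintro (rfl | rfl)
          · exact one_mem _
          · exact Subgroup.mem_zpowers d
      central := fun x => Subtype.ext (Subgroup.mem_centralizer_singleton_iff.1 x.2).symm
      perfect := hq.1.commutator_eq_top }
  have hz : (Kv.z : G) = d := rfl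
  obtain ⟨hcomm, hsq⟩ := Kv.base_elementary hF hω
  obtain ⟨P, hP⟩ := Kv.syl_sylow hF hω
  haveI : Fact (Nat.Prime 2) := ⟨Nat.prime_two⟩
  obtain ⟨c, hcS⟩ := MulAction.exists_smul_eq ↥(Subgroup.centralizer ({d} : Set G)) P S
  have hconj : ∀ x : ↥(Subgroup.centralizer ({d} : Set G)), x ∈ (S : Subgroup ↥(Subgroup.centralizer ({d} : Set G))) ↔ c⁻¹ * x * c ∈ Kv.syl := fun x => by
    rw [← hcS, ← hP, Sylow.coe_subgroup_smul, Subgroup.mem_smul_pointwise_iff_exists]
    constructor
    · rintro ⟨y, hy, rfl⟩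
      simpa [MulAut.smul_def, mul_assoc] using hy
    · intro h
      exact ⟨_, h, by simp [MulAut.smul_def, mul_assoc]⟩
  -- the Thompson subgroup
  set J := Kv.base.map (MulAut.conj c).toMonoidHom with hJdef
  have hJS : J ≤ (S : Subgroup ↥(Subgroup.centralizer ({d} : Set G))) := by
    rintro _ ⟨a, ha, rfl⟩
    refine (hconj _).2 ?_
    have : c⁻¹ * ((MulAut.conj c).toMonoidHom a) * c = a := by simp [mul_assoc]
    rw [this]
    exact Kv.base_le_syl hF ha
  have hJcard : Nat.card ↥J = 1024 := by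
    rw [hJdef, Subgroup.card_map_of_injective (MulAut.conj c).injective, Kv.card_base hF hω]
  have hmax : ∀ B : Subgroup ↥(S : Subgroup ↥(Subgroup.centralizer ({d} : Set G))), Cfsg.IsElementaryAbelian 2 B →
      Nat.card ↥B ≤ 1024 ∧ (1024 ≤ Nat.card ↥B → B.map (S : Subgroup ↥(Subgroup.centralizer ({d} : Set G))).subtype = J) := by
    rintro B ⟨hBc, hB2⟩
    set B₁ := (B.map (S : Subgroup ↥(Subgroup.centralizer ({d} : Set G))).subtype).map (MulAut.conj c⁻¹).toMonoidHom with hB₁
    have hle : B₁ ≤ Kv.stab := by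
      rintro _ ⟨_, ⟨b, hb, rfl⟩, rfl⟩
      refine Kv.syl_le hF ?_
      have := (hconj b.1).1 b.2
      simpa [MulAut.conj_apply] using this
    have hcard : Nat.card ↥B₁ = Nat.card ↥B := by
      rw [hB₁, Subgroup.card_map_of_injective (MulAut.conj c⁻¹).injective,
        Subgroup.card_map_of_injective Subtype.val_injective]
    obtain ⟨h1, h2⟩ := Kv.elementary_le hF hω hle
      (by
        rintro _ ⟨_, ⟨a, ha, rfl⟩, rfl⟩ _ ⟨_, ⟨b, hb, rfl⟩, rfl⟩
        rw [← map_mul, ← map_mul, ← map_mul, ← map_mul,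
          show a * b = b * a from congrArg Subtype.val (hBc.1.1 ⟨a, ha⟩ ⟨b, hb⟩)])
      (by
        rintro _ ⟨_, ⟨a, ha, rfl⟩, rfl⟩
        rw [← map_mul, ← map_mul, ← pow_two, hB2 a ha, map_one, map_one])
    rw [hcard] at h1 h2
    refine ⟨h1, fun h => ?_⟩
    rw [hJdef, ← h2 h, hB₁, Subgroup.map_map]
    ext x
    constructor
    · intro hx
      exact ⟨x, hx, by simp [MulAut.conj_apply, mul_assoc]⟩
    · rintro ⟨y, hy, rfl⟩
      simpa [MulAut.conj_apply, mul_assoc] using hy
  have hJ' : Cfsg.IsElementaryAbelian 2 (J.subgroupOf (S : Subgroup ↥(Subgroup.centralizer ({d} : Set G)))) ∧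
      Nat.card ↥(J.subgroupOf (S : Subgroup ↥(Subgroup.centralizer ({d} : Set G)))) = 1024 := by
    refine ⟨⟨⟨⟨fun a b => ?_⟩⟩, fun a ha => ?_⟩,
      (Nat.card_congr (Subgroup.subgroupOfEquivOfLe hJS).toEquiv).trans hJcard⟩
    · obtain ⟨a', ha', ea⟩ := a.2
      obtain ⟨b', hb', eb⟩ := b.2
      apply Subtype.ext
      apply Subtype.ext
      change (MulAut.conj c).toMonoidHom a' = ((a : ↥(S : Subgroup ↥(Subgroup.centralizer ({d} : Set G)))) : ↥(Subgroup.centralizer ({d} : Set G))) at ea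
      change (MulAut.conj c).toMonoidHom b' = ((b : ↥(S : Subgroup ↥(Subgroup.centralizer ({d} : Set G)))) : ↥(Subgroup.centralizer ({d} : Set G))) at eb
      show ((a : ↥(S : Subgroup ↥(Subgroup.centralizer ({d} : Set G)))) : ↥(Subgroup.centralizer ({d} : Set G))) * b = (b : ↥(S : Subgroup ↥(Subgroup.centralizer ({d} : Set G)))) * a
      rw [← ea, ← eb, ← map_mul, ← map_mul, hcomm a' ha' b' hb']
    · obtain ⟨a', ha', ea⟩ := ha
      change (MulAut.conj c).toMonoidHom a' = (a : ↥(Subgroup.centralizer ({d} : Set G))) at ea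
      apply Subtype.ext
      rw [Subgroup.coe_pow, pow_two, Subgroup.coe_one, ← ea, ← map_mul, hsq a' ha', map_one]
  have hTJ : Cfsg.thompsonSubgroupOf 2 (S : Subgroup ↥(Subgroup.centralizer ({d} : Set G))) = J := by
    rw [Cfsg.thompsonSubgroupOf, Cfsg.thompsonSubgroup,
      show sSup (Cfsg.maxElementaryAbelianSubgroups 2 ↥(S : Subgroup ↥(Subgroup.centralizer ({d} : Set G)))) = J.subgroupOf (S : Subgroup ↥(Subgroup.centralizer ({d} : Set G))) from ?_,
      Subgroup.map_subgroupOf_eq_of_le hJS]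
    refine le_antisymm (sSup_le fun B hB => ?_) (le_sSup ⟨hJ'.1, fun B hB => hJ'.2.symm ▸ (hmax B hB).1⟩)
    have := (hmax B hB.1).2 (hJ'.2 ▸ hB.2 _ hJ'.1)
    intro b hb
    exact this ▸ Subgroup.mem_map_of_mem _ hb
  rw [hTJ] at hA
  have hAmem : ∀ x, x ∈ A ↔ (c : G)⁻¹ * x * c ∈ Kv.baseG := fun x => by
    rw [hA]
    constructor
    · rintro ⟨_, ⟨a, ha, rfl⟩, rfl⟩
      exact ⟨a, ha, by simp [MulAut.conj_apply, mul_assoc]⟩
    · rintro ⟨a, ha, e'⟩
      change (a : G) = _ at e'
      exact ⟨c * a * c⁻¹, ⟨a, ha, rfl⟩, by simp [e', mul_assoc]⟩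
  have hcd : (c : G) * d * (c : G)⁻¹ = d := by
    rw [Subgroup.mem_centralizer_singleton_iff.1 c.2, mul_inv_cancel_right]
  refine ⟨⟨⟨⟨fun a b => ?_⟩⟩, fun a ha => ?_⟩, ?_, ?_, fun x hx y hy hdx hdy => ?_⟩
  · obtain ⟨⟨a', ha', ea⟩, ⟨b', hb', eb⟩⟩ := (hAmem a).1 a.2, (hAmem b).1 b.2
    change (a' : G) = _ at ea
    change (b' : G) = _ at eb
    apply Subtype.ext
    show (a : G) * b = b * a
    have := congrArg Subtype.val (hcomm a' ha' b' hb')
    simp only [Subgroup.coe_mul, ea, eb] at this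
    calc (a : G) * b = c * ((c : G)⁻¹ * a * c * ((c : G)⁻¹ * b * c)) * (c : G)⁻¹ := by group
      _ = c * ((c : G)⁻¹ * b * c * ((c : G)⁻¹ * a * c)) * (c : G)⁻¹ := by rw [this]
      _ = b * a := by group
  · obtain ⟨a', ha', ea⟩ := (hAmem a).1 ha
    change (a' : G) = _ at ea
    have := congrArg Subtype.val (hsq a' ha')
    simp only [Subgroup.coe_mul, ea, Subgroup.coe_one] at this
    calc a ^ 2 = c * ((c : G)⁻¹ * a * c * ((c : G)⁻¹ * a * c)) * (c : G)⁻¹ := by rw [pow_two]; group
      _ = 1 := by rw [this]; group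
  · rw [hA, Subgroup.card_map_of_injective Subtype.val_injective, hJcard]; rfl
  · rw [← Kv.ncard_dConj hF hω hz hnwc]
    symm
    refine Set.ncard_congr (fun a _ => (c : G) * a * (c : G)⁻¹) (fun a ha => ?_) (fun a b _ _ h => ?_) fun x hx => ?_
    · refine ⟨(hAmem _).2 ?_, ha.2.trans (isConj_iff.2 ⟨(c : G), rfl⟩)⟩
      exact ⟨a, ha.1, by simp [mul_assoc]⟩
    · exact Subtype.ext (mul_left_cancel (mul_right_cancel h))
    · obtain ⟨a, ha, ea⟩ := (hAmem x).1 hx.1
      change (a : G) = _ at ea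
      refine ⟨a, ⟨ha, hx.2.trans (isConj_iff.2 ⟨(c : G)⁻¹, ?_⟩)⟩, ?_⟩
      · rw [ea, inv_inv]
      · rw [ea]; group
  · have key : ∀ x ∈ A, IsConj d x → ∃ n ∈ Subgroup.normalizer (A : Set G), n * d * n⁻¹ = x := by
      intro x hx hdx
      obtain ⟨n, hn, en⟩ := Kv.transitive hF hω hz ((hAmem x).1 hx)
        (hdx.trans (isConj_iff.2 ⟨(c : G)⁻¹, by rw [inv_inv]⟩))
      refine ⟨(c : G) * n * (c : G)⁻¹, Subgroup.mem_normalizer_iff.2 fun a => ?_, ?_⟩
      · rw [hAmem, hAmem, Subgroup.mem_normalizer_iff.1 hn,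
          show (c : G)⁻¹ * ((c : G) * n * (c : G)⁻¹ * a * ((c : G) * n * (c : G)⁻¹)⁻¹) * c =
            n * ((c : G)⁻¹ * a * c) * n⁻¹ by group]
      · rw [show (c : G) * n * (c : G)⁻¹ * d * ((c : G) * n * (c : G)⁻¹)⁻¹ =
            (c : G) * (n * ((c : G)⁻¹ * d * c) * n⁻¹) * (c : G)⁻¹ by group,
          show (c : G)⁻¹ * d * c = d by
            rw [mul_assoc, ← Subgroup.mem_centralizer_singleton_iff.1 c.2, inv_mul_cancel_left], en]
        group
    obtain ⟨n, hn, en⟩ := key x hx hdx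
    obtain ⟨n', hn', en'⟩ := key y hy hdy
    refine ⟨n' * n⁻¹, mul_mem hn' (inv_mem hn), ?_⟩
    rw [← en, ← en']
    group

end Cfsg.Agent.S5454
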