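import Cfsg.Statements.S5455
import Cfsg.Agent.DoubleM22.Orbit

set_option autoImplicit false
open Cfsg

namespace Cfsg.Agent.S5455

/-- Let G be a finite group with an involution d whose centralizer C is quasisimple, such that C modulo the subgroup generated by d is of type M(22) with respect to some conjugacy class of 3-transpositions generating it and also has an involution whose own centralizer is quasisimple with quotient by it isomorphic to the projective special unitary group of dimension 6 over the field with four elements and which is not weakly closed in that centralizer; and suppose some conjugate of d other than d commutes with d. Let S be a Sylow 2-subgroup of C and A the Thompson subgroup of S, regarded as a subgroup of G. Then A is elementary abelian of order 2^11, exactly 23 conjugates of d lie in A, and the normalizer of A permutes them transitively. -/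
theorem result {G : Type*} [Group G] [Finite G] (d : G) (hd : orderOf d = 2) (hq : Cfsg.IsQuasisimple ↥(Subgroup.centralizer ({d} : Set G))) [hzn : ((Subgroup.zpowers d).subgroupOf (Subgroup.centralizer ({d} : Set G))).Normal] (htype : ∃ E : Set (↥(Subgroup.centralizer ({d} : Set G)) ⧸ (Subgroup.zpowers d).subgroupOf (Subgroup.centralizer ({d} : Set G))), Cfsg.IsThreeTranspositionClass E ∧ Cfsg.IsOfTypeM22 _ E) (hinvol : ∃ d' : ↥(Subgroup.centralizer ({d} : Set G)) ⧸ (Subgroup.zpowers d).subgroupOf (Subgroup.centralizer ({d} : Set G)), orderOf d' = 2 ∧ Cfsg.IsQuasisimple ↥(Subgroup.centralizer ({d'} : Set _)) ∧ (∃ (K : Type) (_ : Field K) (_ : Fintype K), Fintype.card K = 4 ∧ ∃ _ : ((Subgroup.zpowers d').subgroupOf (Subgroup.centralizer ({d'} : Set _))).Normal, Nonempty (↥(Subgroup.centralizer ({d'} : Set _)) ⧸ (Subgroup.zpowers d').subgroupOf (Subgroup.centralizer ({d'} : Set _)) ≃* Cfsg.PSU 6 K 2)) ∧ ∃ g, g * d' * g⁻¹ ∈ Subgroup.centralizer ({d'} : Set _) ∧ g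 * d' * g⁻¹ ≠ d') (hnwc : ∃ g : G, g * d * g⁻¹ ∈ Subgroup.centralizer ({d} : Set G) ∧ g * d * g⁻¹ ≠ d) (S : Sylow 2 ↥(Subgroup.centralizer ({d} : Set G))) (A : Subgroup G) (hA : A = (Cfsg.thompsonSubgroupOf 2 (S : Subgroup ↥(Subgroup.centralizer ({d} : Set G)))).map (Subgroup.centralizer ({d} : Set G)).subtype) : Cfsg.IsElementaryAbelian 2 A ∧ Nat.card A = 2 ^ 11 ∧ Set.ncard {x : G | x ∈ A ∧ IsConj d x} = 23 ∧ ∀ x ∈ A, ∀ y ∈ A, IsConj d x → IsConj d y → ∃ n ∈ Subgroup.normalizer (A : Set G), n * x * n⁻¹ = y := by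
  classical
  haveI : Fact (Nat.Prime 2) := ⟨Nat.prime_two⟩
  let Z := (Subgroup.zpowers d).subgroupOf (Subgroup.centralizer ({d} : Set G))
  let ψ : ↥(Subgroup.centralizer ({d} : Set G)) →* ↥(Subgroup.centralizer ({d} : Set G)) ⧸ Z := QuotientGroup.mk' Z
  have hψ : Function.Surjective ψ := QuotientGroup.mk'_surjective Z
  have hdC : d ∈ (Subgroup.centralizer ({d} : Set G)) := Subgroup.mem_centralizer_singleton_iff.2 rfl
  have hdd : d * d = 1 := by rw [← pow_two, ← hd, pow_orderOf_eq_one]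
  obtain ⟨E, hE, h22⟩ := htype
  obtain ⟨e₀, he₀, c₀, hc₀, hnc, -⟩ := h22.2
  have hperf : commutator ↥(Subgroup.centralizer ({d} : Set G)) = ⊤ := hq.1.commutator_eq_top
  have hQperf := CfsgLib.ThreeT.M22Double.perfect_of_surjective ψ hψ hperf
  haveI hQs : IsSimpleGroup (↥(Subgroup.centralizer ({d} : Set G)) ⧸ Z) := by
    haveI := hq.2
    haveI : Nontrivial (↥(Subgroup.centralizer ({d} : Set G)) ⧸ Z) :=
      ⟨⟨e₀, 1, CfsgLib.ThreeT.ne_one_of_orderOf (hE.1.1 e₀ he₀)⟩⟩
    have hle : Subgroup.center ↥(Subgroup.centralizer ({d} : Set G)) ≤ ψ.ker := fun z hz => by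
      rw [MonoidHom.mem_ker, ← Subgroup.mem_bot, ← h22.1, Subgroup.mem_center_iff]
      intro g
      obtain ⟨y, rfl⟩ := hψ g
      rw [← map_mul, ← map_mul, Subgroup.mem_center_iff.1 hz y]
    exact IsSimpleGroup.isSimpleGroup_of_surjective (QuotientGroup.lift _ ψ hle)
      (QuotientGroup.lift_surjective_of_surjective _ _ hψ hle)
  haveI hsimple : IsSimpleGroup (commutator (↥(Subgroup.centralizer ({d} : Set G)) ⧸ Z)) := by
    rw [hQperf]
    exact IsSimpleGroup.isSimpleGroup_of_surjective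
      (Subgroup.topEquiv (G := ↥(Subgroup.centralizer ({d} : Set G)) ⧸ Z)).symm.toMonoidHom
      (Subgroup.topEquiv (G := ↥(Subgroup.centralizer ({d} : Set G)) ⧸ Z)).symm.surjective
  have hcomm : ¬ ∀ a b : ↥(Subgroup.centralizer ({d} : Set G)) ⧸ Z, a * b = b * a := fun h => hnc (h _ _)
  have hnonab : ∃ x y : commutator (↥(Subgroup.centralizer ({d} : Set G)) ⧸ Z), x * y ≠ y * x :=
    ⟨⟨e₀, hQperf ▸ Subgroup.mem_top _⟩, ⟨c₀, hQperf ▸ Subgroup.mem_top _⟩, fun h => hnc (congrArg Subtype.val h)⟩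
  have hsol : ∀ N : Subgroup (↥(Subgroup.centralizer ({d} : Set G)) ⧸ Z), N.Normal → Group.IsSolvable N → N = ⊥ :=
    fun N hN hs => hN.eq_bot_or_eq_top.resolve_right fun h => hcomm (by
      subst h
      haveI : Group.IsSolvable (↥(Subgroup.centralizer ({d} : Set G)) ⧸ Z) :=
        solvable_of_surjective (f := (Subgroup.topEquiv (G := ↥(Subgroup.centralizer ({d} : Set G)) ⧸ Z)).toMonoidHom)
          (Subgroup.topEquiv (G := ↥(Subgroup.centralizer ({d} : Set G)) ⧸ Z)).surjective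
      exact IsSimpleGroup.comm_iff_isSolvable.2 inferInstance)
  have hprim := CfsgLib.ThreeT.primitive_of_connected hE hsol
    (CfsgLib.ThreeT.connected_both hE hsimple hnonab).2
    ⟨e₀, he₀, c₀, hc₀, fun h => hnc (h ▸ Commute.refl e₀)⟩
  have hg := CfsgLib.ThreeT.Prod.geo22
    ⟨hE.1, fun g a ha => CfsgLib.ThreeT.conj_mem hE ha g, hE.2.2⟩ hprim h22
  let P : CfsgLib.DoubleM22.Cover E ↥(Subgroup.centralizer ({d} : Set G)) :=
    { ψ := ψ
      surj := hψ
      z := ⟨d, hdC⟩
      z_ne := fun h => by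
        have h1 : d = 1 := congrArg Subtype.val h
        rw [h1, orderOf_one] at hd
        exact absurd hd (by norm_num)
      ker_iff := fun x => by
        refine (QuotientGroup.eq_one_iff x).trans ?_
        rw [Subgroup.mem_subgroupOf]
        constructor
        · intro h
          obtain ⟨k, hk⟩ := Subgroup.mem_zpowers_iff.1 h
          rw [← zpow_mod_orderOf, hd] at hk
          rcases Int.emod_two_eq_zero_or_one k with h2 | h2
          · left; exact Subtype.ext (by simpa [h2] using hk.symm)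
          · right; exact Subtype.ext (by simpa [h2] using hk.symm)
        · rintro (rfl | rfl)
          · exact one_mem _
          · exact Subgroup.mem_zpowers d
      central := fun x => Subtype.ext (Subgroup.mem_centralizer_singleton_iff.1 x.2).symm
      perfect := hperf
      geo := hg
      prim := hprim
      type22 := h22 }
  have hz : (P.z : G) = d := rfl
  -- the Sylow subgroup and its image
  obtain ⟨S₀, hS₀⟩ := (CfsgLib.DoubleM22.isPGroup_of_sq (H := Subgroup.zpowers P.z) (fun x hx => by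
    obtain ⟨k, rfl⟩ := Subgroup.mem_zpowers_iff.1 hx
    rw [← (Commute.refl P.z).mul_zpow, P.z_sq, one_zpow])).exists_le_sylow
  have hzS : P.z ∈ (S : Subgroup ↥(Subgroup.centralizer ({d} : Set G))) := by
    obtain ⟨c, hc⟩ := MulAction.exists_smul_eq ↥(Subgroup.centralizer ({d} : Set G)) S₀ S
    rw [← hc, ← P.conj_z c]
    exact Subgroup.smul_mem_pointwise_smul _ (MulAut.conj c) _ (hS₀ (Subgroup.mem_zpowers _))
  let T : Sylow 2 (↥(Subgroup.centralizer ({d} : Set G)) ⧸ Z) := S.mapSurjective hψ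
  set Cl : Set (↥(Subgroup.centralizer ({d} : Set G)) ⧸ Z) :=
    {x | x ∈ E ∧ x ∈ (T : Subgroup (↥(Subgroup.centralizer ({d} : Set G)) ⧸ Z))}
  have hCl : CfsgLib.DoubleM22.IsClique E Cl := CfsgLib.DoubleM22.IsClique.of_sylow hg T
  obtain ⟨hJc, hJ2⟩ := P.pre_elementary hCl
  have hTmem : ∀ b ∈ (S : Subgroup ↥(Subgroup.centralizer ({d} : Set G))),
      P.ψ b ∈ (T : Subgroup (↥(Subgroup.centralizer ({d} : Set G)) ⧸ Z)) := fun b hb => ⟨b, hb, rfl⟩
  have hJS : P.pre Cl ≤ (S : Subgroup ↥(Subgroup.centralizer ({d} : Set G))) := by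
    intro x hx
    have hx' : P.ψ x ∈ (T : Subgroup (↥(Subgroup.centralizer ({d} : Set G)) ⧸ Z)) :=
      (Subgroup.closure_le (T : Subgroup (↥(Subgroup.centralizer ({d} : Set G)) ⧸ Z))).2 (fun y hy => hy.2) hx
    obtain ⟨s, hs, e⟩ := hx'
    rcases P.same_image e with rfl | rfl
    exacts [hs, mul_mem hzS hs]
  have hmax : ∀ B : Subgroup ↥(S : Subgroup ↥(Subgroup.centralizer ({d} : Set G))), Cfsg.IsElementaryAbelian 2 B →
      Nat.card ↥B ≤ 2048 ∧
        (2048 ≤ Nat.card ↥B → B.map (S : Subgroup ↥(Subgroup.centralizer ({d} : Set G))).subtype = P.pre Cl) := by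
    rintro B ⟨hBc, hB2⟩
    have h := CfsgLib.DoubleM22.Cover.elementary_le P
      (B := B.map (S : Subgroup ↥(Subgroup.centralizer ({d} : Set G))).subtype) T
      (by rintro _ ⟨b, -, rfl⟩; exact hTmem _ b.2)
      (by
        rintro _ ⟨a, ha, rfl⟩ _ ⟨b, hb, rfl⟩
        rw [← map_mul, ← map_mul, show a * b = b * a from congrArg Subtype.val (hBc.1.1 ⟨a, ha⟩ ⟨b, hb⟩)])
      (by
        rintro _ ⟨a, ha, rfl⟩
        exact congrArg Subtype.val (show a * a = 1 by rw [← pow_two]; exact hB2 a ha))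
    rwa [Subgroup.card_map_of_injective Subtype.val_injective] at h
  have hJ' : Cfsg.IsElementaryAbelian 2 ((P.pre Cl).subgroupOf (S : Subgroup ↥(Subgroup.centralizer ({d} : Set G)))) ∧
      Nat.card ↥((P.pre Cl).subgroupOf (S : Subgroup ↥(Subgroup.centralizer ({d} : Set G)))) = 2048 :=
    ⟨⟨⟨⟨fun a b => Subtype.ext (Subtype.ext (hJc _ a.2 _ b.2))⟩⟩, fun a ha => Subtype.ext (by
        rw [Subgroup.coe_pow, pow_two, Subgroup.coe_one]; exact hJ2 _ ha)⟩,
      (Nat.card_congr (Subgroup.subgroupOfEquivOfLe hJS).toEquiv).trans (P.card_pre hCl)⟩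
  have hTJ : Cfsg.thompsonSubgroupOf 2 (S : Subgroup ↥(Subgroup.centralizer ({d} : Set G))) = P.pre Cl := by
    rw [Cfsg.thompsonSubgroupOf, Cfsg.thompsonSubgroup,
      show sSup (Cfsg.maxElementaryAbelianSubgroups 2 ↥(S : Subgroup ↥(Subgroup.centralizer ({d} : Set G)))) =
        (P.pre Cl).subgroupOf (S : Subgroup ↥(Subgroup.centralizer ({d} : Set G))) from ?_,
      Subgroup.map_subgroupOf_eq_of_le hJS]
    refine le_antisymm (sSup_le fun B hB => ?_) (le_sSup ⟨hJ'.1, fun B hB => hJ'.2.symm ▸ (hmax B hB).1⟩)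
    have := (hmax B hB.1).2 (hJ'.2 ▸ hB.2 _ hJ'.1)
    intro b hb
    exact this ▸ Subgroup.mem_map_of_mem _ hb
  rw [hTJ] at hA
  replace hA : A = P.preG Cl := hA
  subst hA
  refine ⟨⟨⟨⟨fun a b => ?_⟩⟩, fun a ha => ?_⟩, P.card_preG hz hCl, P.ncard_conj hz hCl hnwc,
    fun x hx y hy hdx hdy => ?_⟩
  · obtain ⟨⟨a', ha', ea⟩, ⟨b', hb', eb⟩⟩ := a.2, b.2
    apply Subtype.ext
    show (a : G) * b = b * a
    rw [← ea, ← eb]
    exact congrArg Subtype.val (hJc a' ha' b' hb')
  · obtain ⟨a', ha', rfl⟩ := ha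
    rw [← map_pow, pow_two, hJ2 a' ha', map_one]
  · obtain ⟨n, hn, en⟩ := P.transitive hz hCl hx hdx
    obtain ⟨n', hn', en'⟩ := P.transitive hz hCl hy hdy
    refine ⟨n' * n⁻¹, mul_mem hn' (inv_mem hn), ?_⟩
    rw [← en, ← en']
    group


end Cfsg.Agent.S5455
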