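import Cfsg.Statements.S5458
import Cfsg.Agent.Spor3T.M22Thompson
-- import your own Cfsg.Agent.* helpers here

set_option autoImplicit false
open Cfsg

namespace Cfsg.Agent.S5458

/-- Let G be a finite group with trivial centre generated by a conjugation-invariant set D of 3-transpositions on which it acts primitively, of type M(22), and suppose G also has an involution whose centralizer is quasisimple with quotient by it the projective special unitary group of dimension 6 over the field with four elements and which is not weakly closed in that centralizer. Let T be a Sylow 2-subgroup of G. Then the subgroup generated by the members of D lying in T is the Thompson subgroup of T (generated by the elementary abelian subgroups of T of largest order). -/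
theorem result {G : Type*} [Group G] [Finite G] {D : Set G} (hD : Cfsg.IsThreeTranspositionGroup D) (hprim : Cfsg.IsPrimitiveUnderConj D) (h22 : Cfsg.IsOfTypeM22 G D) (hM : ∃ d : G, orderOf d = 2 ∧ Cfsg.IsQuasisimple ↥(Subgroup.centralizer ({d} : Set G)) ∧ (∃ (_ : ((Subgroup.zpowers d).subgroupOf (Subgroup.centralizer ({d} : Set G))).Normal) (K : Type) (_ : Field K) (_ : Fintype K), Fintype.card K = 4 ∧ Nonempty (↥(Subgroup.centralizer ({d} : Set G)) ⧸ (Subgroup.zpowers d).subgroupOf (Subgroup.centralizer ({d} : Set G)) ≃* Cfsg.PSU 6 K 2)) ∧ ∃ g : G, g * d * g⁻¹ ∈ Subgroup.centralizer ({d} : Set G) ∧ g * d * g⁻¹ ≠ d) (T : Sylow 2 G) : Subgroup.closure {x : G | x ∈ D ∧ x ∈ (T : Subgroup G)} = Cfsg.thompsonSubgroupOf 2 (T : Subgroup G) := by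
  classical
  have h := CfsgLib.ThreeT.Prod.geo22 hD hprim h22
  haveI : Fact (2 : ℕ).Prime := ⟨Nat.prime_two⟩
  -- the members in `T` commute pairwise
  have hcomm : ∀ U : Sylow 2 G, ∀ x ∈ {x : G | x ∈ D ∧ x ∈ (U : Subgroup G)},
      ∀ y ∈ {x : G | x ∈ D ∧ x ∈ (U : Subgroup G)}, Commute x y := by
    intro U x hx y hy
    exact CfsgLib.ThreeT.commute_of_two_group h.class3.1 hx.1 hy.1 U.isPGroup' hx.2 hy.2
  -- a commuting set of 22 members
  obtain ⟨d, hd, -⟩ := hprim.2.1
  obtain ⟨C₀, hC₀, hcC₀, hn₀⟩ := (h.loc d hd).clique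
  set C₁ : Set G := insert d C₀
  have hC₁ : C₁ ⊆ D := Set.insert_subset hd fun x hx => (hC₀ hx).1
  have hcC₁ : ∀ x ∈ C₁, ∀ y ∈ C₁, Commute x y := by
    intro a ha b hb
    rcases ha with rfl | ha <;> rcases hb with rfl | hb
    exacts [Commute.refl _, (hC₀ hb).2.2, (hC₀ ha).2.2.symm, hcC₀ a ha b hb]
  have hn₁ : C₁.ncard = 22 := by
    rw [Set.ncard_insert_of_notMem (fun hm => (hC₀ hm).2.1 rfl) (Set.toFinite _), hn₀]
  have hp₁ : IsPGroup 2 ↥(Subgroup.closure C₁) := fun g => ⟨1, by
    have key : ∀ x ∈ Subgroup.closure C₁, x * x = 1 := by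
      intro x hx
      induction hx using Subgroup.closure_induction with
      | mem y hy => exact h.tt.sq y (hC₁ hy)
      | one => simp
      | mul u v hu hv hu2 hv2 =>
        have huv : Commute u v := (CfsgLib.ThreeT.Prod.commute_of_closure (fun y hy =>
          (CfsgLib.ThreeT.Prod.commute_of_closure (fun z hz => hcC₁ z hz y hy) u hu).symm) v hv).symm
        rw [← pow_two, huv.mul_pow, pow_two, pow_two, hu2, hv2, one_mul]
      | inv u _ hu => rw [← mul_inv_rev, hu, inv_one]
    exact Subtype.ext (by simpa [pow_two] using key g g.2)⟩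
  obtain ⟨T₀, hT₀⟩ := hp₁.exists_le_sylow
  obtain ⟨g, hg⟩ := MulAction.exists_smul_eq G T₀ T
  set C := {x : G | x ∈ D ∧ x ∈ (T : Subgroup G)}
  have hC : C ⊆ D := fun x hx => hx.1
  have hcC := hcomm T
  have hn : C.ncard = 22 := by
    refine le_antisymm ?_ ?_
    · have hb : BddAbove {n : ℕ | ∃ E : Set G, E ⊆ D ∧ E.Finite ∧ (∀ a ∈ E, ∀ b ∈ E, Commute a b) ∧ E.ncard = n} :=
        ⟨D.ncard, fun n ⟨E, hE, _, _, e⟩ => e ▸ Set.ncard_le_ncard hE (Set.toFinite _)⟩
      rw [← CfsgLib.ThreeT.Prod.width22 h hd]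
      exact le_csSup hb ⟨C, hC, Set.toFinite _, hcC, rfl⟩
    · rw [← hn₁, ← Set.ncard_image_of_injective C₁ (MulAut.conj g).injective]
      refine Set.ncard_le_ncard ?_ (Set.toFinite _)
      rintro _ ⟨x, hx, rfl⟩
      refine ⟨h.tt.conj g x (hC₁ hx), ?_⟩
      rw [← hg]
      exact Subgroup.smul_mem_pointwise_smul x (MulAut.conj g) _ (hT₀ (Subgroup.subset_closure hx))
  haveI := Fintype.ofFinite ↥C
  set K := Subgroup.closure C
  have hKT : K ≤ (T : Subgroup G) := (Subgroup.closure_le _).2 fun x hx => hx.2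
  have hKc : ∀ x ∈ K, ∀ y ∈ K, Commute x y := fun x hx y hy => (CfsgLib.ThreeT.Prod.commute_of_closure
    (fun z hz => (CfsgLib.ThreeT.Prod.commute_of_closure (fun w hw => hcC w hw z hz) x hx).symm) y hy).symm
  have hK2 : ∀ x ∈ K, x * x = 1 := by
    intro x hx
    induction hx using Subgroup.closure_induction with
    | mem y hy => exact h.tt.sq y (hC hy)
    | one => simp
    | mul u v hu hv hu2 hv2 => rw [← pow_two, (hKc u hu v hv).mul_pow, pow_two, pow_two, hu2, hv2, one_mul]
    | inv u _ hu => rw [← mul_inv_rev, hu, inv_one]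
  set KT := K.subgroupOf (T : Subgroup G)
  have hKTel : Cfsg.IsElementaryAbelian 2 KT := by
    refine ⟨⟨⟨fun x y => Subtype.ext (Subtype.ext (hKc _ x.2 _ y.2).eq)⟩⟩, fun x hx => Subtype.ext ?_⟩
    simpa [pow_two] using hK2 _ hx
  have hcardKT : Nat.card ↥KT = Nat.card ↥K := Nat.card_congr (Subgroup.subgroupOfEquivOfLe hKT).toEquiv
  have hle : ∀ B : Subgroup ↥(T : Subgroup G), Cfsg.IsElementaryAbelian 2 B →
      Nat.card ↥B < Nat.card ↥KT ∨ B ≤ KT := by
    intro B hB
    by_cases hsub : B.map (T : Subgroup G).subtype ≤ K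
    · exact Or.inr fun x hx => hsub (Subgroup.mem_map_of_mem _ hx)
    refine Or.inl ?_
    rw [hcardKT, Nat.card_congr (B.equivMapOfInjective _ (Subgroup.subtype_injective _)).toEquiv]
    refine CfsgLib.ThreeT.Prod.offender hcC h hprim h22 hC hn ?_ ?_ ?_ hsub
    · rintro _ ⟨u, hu, rfl⟩ _ ⟨v, hv, rfl⟩
      haveI := hB.1
      exact congrArg (fun z : ↥B => ((z : ↥(T : Subgroup G)) : G)) (mul_comm' (⟨u, hu⟩ : ↥B) ⟨v, hv⟩)
    · rintro _ ⟨u, hu, rfl⟩
      simpa [pow_two] using congrArg Subtype.val (hB.2 u hu)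
    · rintro _ ⟨u, hu, rfl⟩ x hx
      exact ⟨h.tt.conj _ x hx.1, mul_mem (mul_mem u.2 hx.2) (inv_mem u.2)⟩
  have hmax : Cfsg.maxElementaryAbelianSubgroups 2 ↥(T : Subgroup G) = {KT} := by
    refine Set.eq_singleton_iff_unique_mem.2 ⟨⟨hKTel, fun B hB => ?_⟩, fun B hB => ?_⟩
    · rcases hle B hB with q | q
      · exact q.le
      · exact Nat.card_le_card_of_injective _ (Subgroup.inclusion_injective q)
    · rcases hle B hB.1 with q | q
      · exact absurd (hB.2 KT hKTel) (not_le.2 q)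
      · exact Subgroup.eq_of_le_of_card_ge q (hB.2 KT hKTel)
  unfold Cfsg.thompsonSubgroupOf Cfsg.thompsonSubgroup
  rw [hmax, sSup_singleton, Subgroup.map_subgroupOf_eq_of_le hKT]

end Cfsg.Agent.S5458
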