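import Cfsg.Statements.S5459
-- import your own Cfsg.Agent.* helpers here

set_option autoImplicit false
open Cfsg

namespace Cfsg.Agent.S5459

/-- Let G be a finite group with a quasisimple normal subgroup L and an involution d such that G is generated by L and d, the centre of L has odd order, and d inverts every element of the centre of L. If the commuting graph on the conjugacy class of the image of d in G modulo the centre of L is connected, then the commuting graph on the conjugacy class of d is connected. -/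
theorem result {G : Type*} [Group G] [Finite G] (L : Subgroup G) [L.Normal] (hL : Cfsg.IsQuasisimple ↥L) (d : G) (hd : orderOf d = 2) (hgen : L ⊔ Subgroup.zpowers d = ⊤) (hodd : Odd (Nat.card ↥(Subgroup.center ↥L))) (hinv : ∀ c ∈ (Subgroup.center ↥L).map L.subtype, d * c * d⁻¹ = c⁻¹) [hn : ((Subgroup.center ↥L).map L.subtype).Normal] (hconn : (Cfsg.commutingGraph (conjugatesOf (QuotientGroup.mk d : G ⧸ (Subgroup.center ↥L).map L.subtype))).Connected) : (Cfsg.commutingGraph (conjugatesOf d)).Connected := by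
  classical
  obtain ⟨hperf, hsimple⟩ := hL
  set Z := (Subgroup.center ↥L).map L.subtype with hZdef
  have hZL : Z ≤ L := Subgroup.map_subtype_le _
  have hZc : ∀ c ∈ Z, ∀ l ∈ L, l * c = c * l := by
    rintro _ ⟨c, hc, rfl⟩ l hl
    exact congrArg Subtype.val (Subgroup.mem_center_iff.1 hc ⟨l, hl⟩)
  have hZodd : Odd (Nat.card Z) := by
    rw [hZdef, Subgroup.card_subtype]; exact hodd
  have hsqrt : ∀ c ∈ Z, ∃ u ∈ Z, u * u = c := by
    intro c hc
    obtain ⟨k, hk⟩ := hZodd
    refine ⟨c ^ (k + 1), Z.pow_mem hc _, ?_⟩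
    have h1 : c ^ Nat.card Z = 1 := congrArg Subtype.val (pow_card_eq_one' (x := (⟨c, hc⟩ : Z)))
    rw [← pow_add, show k + 1 + (k + 1) = Nat.card Z + 1 by omega, pow_succ, h1, one_mul]
  have hdd : d * d = 1 := by rw [← pow_two, ← hd, pow_orderOf_eq_one]
  have hinvol : ∀ e ∈ conjugatesOf d, e * e = 1 ∧ ∀ c ∈ Z, e * c * e⁻¹ = c⁻¹ := by
    intro e he
    obtain ⟨g, rfl⟩ := isConj_iff.1 he
    refine ⟨by rw [show g * d * g⁻¹ * (g * d * g⁻¹) = g * (d * d) * g⁻¹ by group, hdd, mul_one,
      mul_inv_cancel], fun c hc => ?_⟩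
    have h := hinv _ (hn.conj_mem c hc g⁻¹)
    rw [inv_inv] at h
    calc g * d * g⁻¹ * c * (g * d * g⁻¹)⁻¹ = g * (d * (g⁻¹ * c * g) * d⁻¹) * g⁻¹ := by group
      _ = c⁻¹ := by rw [h]; group
  let Γ := Cfsg.commutingGraph (conjugatesOf d)
  let cj : G → conjugatesOf d → conjugatesOf d := fun g x =>
    ⟨g * (x : G) * g⁻¹, x.2.trans (isConj_iff.2 ⟨g, rfl⟩)⟩
  let d₀ : conjugatesOf d := ⟨d, mem_conjugatesOf_self⟩
  have hadj : ∀ g x y, Γ.Adj x y → Γ.Adj (cj g x) (cj g y) := by
    intro g x y h
    simp only [Γ, Cfsg.commutingGraph, SimpleGraph.fromRel_adj] at h ⊢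
    refine ⟨fun e => h.1 (Subtype.ext (mul_left_cancel (mul_right_cancel (congrArg Subtype.val e)))), ?_⟩
    exact h.2.imp (fun hc => hc.map (MulAut.conj g)) (fun hc => hc.map (MulAut.conj g))
  have hreach : ∀ g x y, Γ.Reachable x y → Γ.Reachable (cj g x) (cj g y) := fun g x y h =>
    h.map (⟨cj g, fun {a b} => hadj g a b⟩ : Γ →g Γ)
  have hcj : ∀ g h x, cj g (cj h x) = cj (g * h) x := fun g h x => Subtype.ext (by
    show g * (h * (x : G) * h⁻¹) * g⁻¹ = g * h * (x : G) * (g * h)⁻¹
    group)
  let S : Subgroup G :=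
    { carrier := {g | Γ.Reachable d₀ (cj g d₀)}
      one_mem' := by
        show Γ.Reachable d₀ (cj 1 d₀)
        rw [show cj 1 d₀ = d₀ from Subtype.ext (by simp [cj])]
      mul_mem' := fun {a b} ha hb => by
        show Γ.Reachable d₀ (cj (a * b) d₀)
        rw [← hcj]
        exact ha.trans (hreach a _ _ hb)
      inv_mem' := fun {a} ha => by
        show Γ.Reachable d₀ (cj a⁻¹ d₀)
        have h := hreach a⁻¹ _ _ ha
        rw [hcj, inv_mul_cancel, show cj 1 d₀ = d₀ from Subtype.ext (by simp [cj])] at h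
        exact h.symm }
  have hdS : d ∈ S := by
    show Γ.Reachable d₀ (cj d d₀)
    rw [show cj d d₀ = d₀ from Subtype.ext (by simp [cj, d₀])]
  have hlift : ∀ q : conjugatesOf (QuotientGroup.mk d : G ⧸ Z), ∃ e : conjugatesOf d,
      Γ.Reachable d₀ e ∧ ((e : G) : G ⧸ Z) = q := by
    let q₀ : conjugatesOf (QuotientGroup.mk d : G ⧸ Z) := ⟨_, mem_conjugatesOf_self⟩
    intro q
    have h := (SimpleGraph.reachable_iff_reflTransGen _ _).1 (hconn.preconnected q₀ q)
    induction h with
    | refl => exact ⟨d₀, SimpleGraph.Reachable.refl _, rfl⟩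
    | @tail p q _ hpq ih =>
      obtain ⟨e, he, hep⟩ := ih
      simp only [Cfsg.commutingGraph, SimpleGraph.fromRel_adj] at hpq
      obtain ⟨gq, hgq⟩ := isConj_iff.1 q.2
      obtain ⟨g, rfl⟩ := QuotientGroup.mk_surjective gq
      let f : conjugatesOf d := cj g d₀
      have hfq : ((f : G) : G ⧸ Z) = q := by
        rw [← hgq]
        show QuotientGroup.mk (g * d * g⁻¹) = _
        simp only [QuotientGroup.mk_mul, QuotientGroup.mk_inv]
      have hcomm : Commute ((e : G) : G ⧸ Z) ((f : G) : G ⧸ Z) := by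
        rw [hep, hfq]; exact hpq.2.elim id Commute.symm
      obtain ⟨hee, heinv⟩ := hinvol _ e.2
      obtain ⟨hff, hfinv⟩ := hinvol _ f.2
      have hz : (e : G) * f * e * f ∈ Z := by
        rw [← QuotientGroup.eq_one_iff]
        simp only [QuotientGroup.mk_mul]
        rw [hcomm.eq, mul_assoc (((f : G) : G ⧸ Z)), ← QuotientGroup.mk_mul Z (e : G) (e : G), hee,
          QuotientGroup.mk_one, mul_one, ← QuotientGroup.mk_mul, hff, QuotientGroup.mk_one]
      obtain ⟨u, hu, huu⟩ := hsqrt _ (inv_mem hz)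
      obtain ⟨v, hv, hvv⟩ := hsqrt u hu
      have he1 : (e : G)⁻¹ = e := inv_eq_of_mul_eq_one_right hee
      have hf1 : (f : G)⁻¹ = f := inv_eq_of_mul_eq_one_right hff
      have hfu : (cj v⁻¹ f : conjugatesOf d).1 = (f : G) * u := by
        show v⁻¹ * (f : G) * v⁻¹⁻¹ = _
        have h := hfinv v hv
        rw [hf1] at h
        rw [inv_inv, ← h, mul_assoc ((f : G) * v), hff, mul_one, mul_assoc, hvv]
      refine ⟨cj v⁻¹ f, he.trans (SimpleGraph.Adj.reachable ?_), ?_⟩
      · simp only [Γ, Cfsg.commutingGraph, SimpleGraph.fromRel_adj]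
        refine ⟨fun h => hpq.1 (Subtype.ext ?_), Or.inl ?_⟩
        · rw [← hep, h, hfu, QuotientGroup.mk_mul, (QuotientGroup.eq_one_iff u).2 hu, mul_one, hfq]
        · rw [hfu]
          show (e : G) * (f * u) = f * u * e
          have h1 := heinv u hu
          have h2 := hfinv _ hz
          rw [hf1] at h2
          rw [he1] at h1
          generalize hz' : (e : G) * f * e * f = z at huu hz h2
          have hefe : (e : G) * f * e = z * f := by
            rw [← hz', mul_assoc _ (f : G) f, hff, mul_one]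
          have hfz : z * (f : G) = (f : G) * z⁻¹ := by
            rw [← h2, ← mul_assoc (f : G) ((f : G) * z), ← mul_assoc (f : G) (f : G) z, hff, one_mul]
          have hzu : z⁻¹ * u⁻¹ = u := by rw [← huu, mul_inv_cancel_right]
          calc (e : G) * (f * u) = (e : G) * f * (e * e) * u * (e * e) := by
                rw [hee, mul_one, mul_one, mul_assoc (e : G) (f : G) u]
            _ = (e : G) * f * e * (e * u * e) * e := by group
            _ = (f : G) * u * e := by rw [h1, hefe, hfz, mul_assoc (f : G), hzu]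
      · rw [hfu, QuotientGroup.mk_mul, (QuotientGroup.eq_one_iff u).2 hu, mul_one, hfq]
  have hconjS : ∀ g : G, g * d * g⁻¹ ∈ S ⊔ Z := by
    intro g
    obtain ⟨e, he, heq⟩ := hlift ⟨QuotientGroup.mk (g * d * g⁻¹), isConj_iff.2
      ⟨QuotientGroup.mk g, by simp only [QuotientGroup.mk_mul, QuotientGroup.mk_inv]⟩⟩
    obtain ⟨h, hh⟩ := isConj_iff.1 e.2
    have hhS : h ∈ S := by
      show Γ.Reachable d₀ (cj h d₀)
      rw [show cj h d₀ = e from Subtype.ext hh]
      exact he
    have heS : (e : G) ∈ S := by rw [← hh]; exact mul_mem (mul_mem hhS hdS) (inv_mem hhS)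
    have := mul_mem (Subgroup.mem_sup_left (T := Z) heS)
      (Subgroup.mem_sup_right (S := S) (QuotientGroup.eq.1 heq))
    rwa [mul_inv_cancel_left] at this
  have hLS : L ≤ S := by
    let N := Subgroup.normalClosure ({d} : Set G)
    have hNle : N ≤ S ⊔ Z := by
      refine (Subgroup.closure_le _).2 fun x hx => ?_
      obtain ⟨_, ha, hxa⟩ := Group.mem_conjugatesOfSet_iff.1 hx
      rw [Set.mem_singleton_iff] at ha
      subst ha
      obtain ⟨g, rfl⟩ := isConj_iff.1 hxa
      exact hconjS g
    have hM : (N.subgroupOf L).Normal := inferInstance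
    rcases (hM.map _ (QuotientGroup.mk'_surjective (Subgroup.center L))).eq_bot_or_eq_top with hb | ht
    · have hker : ∀ l ∈ L, l * d * l⁻¹ * d⁻¹ ∈ Z := by
        intro l hl
        have h1 : l * d * l⁻¹ * d⁻¹ ∈ N := mul_mem
          ((inferInstance : N.Normal).conj_mem _ (Subgroup.subset_normalClosure rfl) l)
          (inv_mem (Subgroup.subset_normalClosure rfl))
        have h2 : l * d * l⁻¹ * d⁻¹ ∈ L := by
          rw [show l * d * l⁻¹ * d⁻¹ = l * (d * l⁻¹ * d⁻¹) by group]
          exact mul_mem hl (Subgroup.Normal.conj_mem inferInstance _ (inv_mem hl) d)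
        rw [Subgroup.map_eq_bot_iff, QuotientGroup.ker_mk'] at hb
        exact ⟨⟨_, h2⟩, hb (show (⟨_, h2⟩ : L) ∈ N.subgroupOf L from h1), rfl⟩
      intro l hl
      have hfix : ∀ a : L, a ∈ commutator L → (a : G) * d * (a : G)⁻¹ = d := by
        intro a ha
        let φ : L →* G :=
          { toFun := fun l => (l : G) * d * (l : G)⁻¹ * d⁻¹
            map_one' := by simp
            map_mul' := fun a b => by
              have h := hZc _ (hker b b.2) a a.2
              have h' := hZc _ (hker b b.2) _ (hZL (hker a a.2))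
              rw [h']
              calc ((a * b : L) : G) * d * ((a * b : L) : G)⁻¹ * d⁻¹
                  = ((a : G) * ((b : G) * d * (b : G)⁻¹ * d⁻¹)) * (d * (a : G)⁻¹ * d⁻¹) := by
                    rw [Subgroup.coe_mul]; group
                _ = _ := by rw [h]; group }
        have : commutator L ≤ φ.ker := by
          rw [commutator_def, Subgroup.commutator_le]
          intro x _ y _
          rw [MonoidHom.mem_ker, map_commutatorElement, commutatorElement_eq_one_iff_mul_comm]
          exact (hZc _ (hker x x.2) _ (hZL (hker y y.2))).symm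
        have := this ha
        exact mul_inv_eq_one.1 this
      show Γ.Reachable d₀ (cj l d₀)
      rw [show cj l d₀ = d₀ from Subtype.ext (hfix ⟨l, hl⟩ (by
        rw [hperf.commutator_eq_top]; exact Subgroup.mem_top _))]
    · have hdec : ∀ l : L, ∃ s ∈ S, ∃ c ∈ Z, (l : G) = s * c := by
        intro l
        obtain ⟨m, hm, hml⟩ := Subgroup.mem_map.1 (ht.symm.le (Subgroup.mem_top (QuotientGroup.mk l)))
        rw [QuotientGroup.mk'_apply, QuotientGroup.eq] at hml
        obtain ⟨s, hs, c, hc, hsc⟩ := Subgroup.mem_sup_of_normal_right.1 (hNle hm)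
        exact ⟨s, hs, c * ((m⁻¹ * l : L) : G), mul_mem hc ⟨_, hml, rfl⟩, by
          rw [← mul_assoc, hsc, Subgroup.coe_subtype, ← Subgroup.coe_mul, mul_inv_cancel_left]⟩
      have : commutator L ≤ S.subgroupOf L := by
        rw [commutator_def, Subgroup.commutator_le]
        intro x _ y _
        obtain ⟨s, hs, c, hc, hx⟩ := hdec x
        obtain ⟨s', hs', c', hc', hy⟩ := hdec y
        have hsL : s ∈ L := by
          rw [show s = (x : G) * c⁻¹ by rw [hx, mul_inv_cancel_right]]
          exact mul_mem x.2 (inv_mem (hZL hc))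
        have hsL' : s' ∈ L := by
          rw [show s' = (y : G) * c'⁻¹ by rw [hy, mul_inv_cancel_right]]
          exact mul_mem y.2 (inv_mem (hZL hc'))
        have a1 := hZc c hc _ (mul_mem hsL' (hZL hc'))
        have a2 := hZc c' hc' _ (inv_mem hsL)
        show ((x * y * x⁻¹ * y⁻¹ : L) : G) ∈ S
        rw [Subgroup.coe_mul, Subgroup.coe_mul, Subgroup.coe_mul, Subgroup.coe_inv, Subgroup.coe_inv, hx, hy]
        rw [show s * c * (s' * c') * (s * c)⁻¹ * (s' * c')⁻¹ =
          s * (c * (s' * c')) * c⁻¹ * s⁻¹ * c'⁻¹ * s'⁻¹ by group, ← a1,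
          show s * (s' * c' * c) * c⁻¹ * s⁻¹ * c'⁻¹ * s'⁻¹ = s * s' * (c' * s⁻¹) * c'⁻¹ * s'⁻¹ by group,
          ← a2, ← mul_assoc (s * s') s⁻¹ c', mul_inv_cancel_right]
        exact mul_mem (mul_mem (mul_mem hs hs') (inv_mem hs)) (inv_mem hs')
      intro l hl
      exact this (show (⟨l, hl⟩ : L) ∈ commutator L by
        rw [hperf.commutator_eq_top]; exact Subgroup.mem_top _)
  have htop : S = ⊤ := top_le_iff.1 (hgen ▸ sup_le hLS (Subgroup.zpowers_le.2 hdS))
  have hall : ∀ e, Γ.Reachable d₀ e := fun e => by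
    obtain ⟨g, hg⟩ := isConj_iff.1 e.2
    have : g ∈ S := htop ▸ Subgroup.mem_top g
    rw [show e = cj g d₀ from Subtype.ext hg.symm]
    exact this
  exact (SimpleGraph.connected_iff _).2 ⟨fun a b => (hall a).symm.trans (hall b), ⟨d₀⟩⟩

end Cfsg.Agent.S5459
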