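import Cfsg.Statements.S5461
import Cfsg.Agent.S5415
import Cfsg.Agent.FiLarge.U62.Setting
import Cfsg.Agent.FiLarge.Iso.Main
import Cfsg.Agent.FiThree.Fischer
import Cfsg.Agent.Coset.Fi24.ThreeTransp

set_option autoImplicit false
open Cfsg

set_option linter.style.haveILetI false

namespace Cfsg.Agent.S5461

/-- Let G be a finite group of Monster type at the involution z with Q the extraspecial normal subgroup of order 2^25 of C_G(z) (C_G(z)/Q identified with the first Conway group with Q modulo its centre the Leech lattice modulo 2, z not weakly closed in Q). Let s be a conjugate of z (in G) lying in Q and other than z, and Y a subgroup of order 3 of the joint centralizer of z and s lying in the centre of some Sylow 3-subgroup of it. Then the centralizer of Y is quasisimple, its quotient by Y is isomorphic to the commutator subgroup of the presented Fischer group Fi₂₄, and the normalizer of Y modulo Y is generated by a conjugacy class of 3-transpositions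 with respect to which it is of type M(24). -/
theorem result {G : Type*} [Group G] [Finite G] (z : G) (Q : Subgroup (Subgroup.centralizer ({z} : Set G))) [Q.Normal] (hM : Cfsg.IsOfMonsterType z Q) (s : G) (hsQ : ∃ hsc : s ∈ Subgroup.centralizer ({z} : Set G), (⟨s, hsc⟩ : Subgroup.centralizer ({z} : Set G)) ∈ Q) (hs : IsConj z s) (hs1 : s ≠ z) (Y : Subgroup G) (hY : Y ≤ Subgroup.centralizer ({z, s} : Set G)) (hY3 : Nat.card Y = 3) (hc : ∃ P : Sylow 3 ↥(Subgroup.centralizer ({z, s} : Set G)), Y.subgroupOf (Subgroup.centralizer ({z, s} : Set G)) ≤ (Subgroup.center ↥(P : Subgroup ↥(Subgroup.centralizer ({z, s} : Set G)))).map (P : Subgroup ↥(Subgroup.centralizer ({z, s} : Set G))).subtype) [hn : (Y.subgroupOf (Subgroup.centralizer (Y : Set G))).Normal] [hn' : (Y.subgroupOf (Subgroup.normalizer (Y : Set G))).Normal] : Cfsg.IsQuasisimple ↥(Subgroup.centralizer (Y : Set G)) ∧ Cfsg.Spor.IsoFi24' (↥(Subgroup.centralizer (Y : Set G)) ⧸ Y.subgroupOf (Subgroup.centralizer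 (Y : Set G))) ∧ ∃ E : Set (↥(Subgroup.normalizer (Y : Set G)) ⧸ Y.subgroupOf (Subgroup.normalizer (Y : Set G))), Cfsg.IsThreeTranspositionClass E ∧ Cfsg.IsOfTypeM24 _ E := by
  classical
  obtain ⟨z', Q', hQ'n, hLF⟩ := Cfsg.Agent.S5415.result z Q hM s hsQ hs hs1 Y hY hY3 hc
  obtain ⟨D', ⟨X⟩⟩ := CfsgLib.FiLarge.U62.exists_ctx hLF
  obtain ⟨eC⟩ := CfsgLib.FiLarge.Iso.iso X
  obtain ⟨hset, e, ψ, hψ⟩ := hM
  obtain ⟨D, hDQ, -, -⟩ := CfsgLib.Monster.exists_data hset hψ
  have hsD : s ∈ D.Q := by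
    obtain ⟨hsc, h⟩ := hsQ
    rw [hDQ]; exact ⟨⟨s, hsc⟩, h, rfl⟩
  obtain ⟨P₀, hP⟩ := hc
  let P : Sylow 3 (CfsgLib.FiThree.pairCent z s) := P₀
  have hYP : ∀ y ∈ Y, ∃ hy : y ∈ CfsgLib.FiThree.pairCent z s,
      (⟨y, hy⟩ : CfsgLib.FiThree.pairCent z s) ∈ P ∧
        ∀ x ∈ P, (⟨y, hy⟩ : CfsgLib.FiThree.pairCent z s) * (x : CfsgLib.FiThree.pairCent z s) = x * ⟨y, hy⟩ := by
    intro y hy
    have hm : (⟨y, hY hy⟩ : ↥(Subgroup.centralizer ({z, s} : Set G))) ∈
        Y.subgroupOf (Subgroup.centralizer ({z, s} : Set G)) := hy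
    obtain ⟨w, hw, hwe⟩ := hP hm
    refine ⟨hY hy, hwe ▸ w.2, fun x hx => Subtype.ext ?_⟩
    have h2 := congrArg Subtype.val (congrArg Subtype.val (Subgroup.mem_center_iff.1 hw ⟨x, hx⟩))
    have h3 : ((w : Subgroup.centralizer ({z, s} : Set G)) : G) = y := congrArg Subtype.val hwe
    show y * (x : G) = (x : G) * y
    rw [← h3]
    exact h2.symm
  obtain ⟨D₁, b, -, hb, hYb, hπ, -, -⟩ := CfsgLib.FiThree.exists_standard D hsD hs1 hs hY3 P hYP
  obtain ⟨y, hy⟩ := CfsgLib.FiThree.exists_inverting D₁ hb hπ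
  have hbC := CfsgLib.FiThree.mem_commutator D₁ hb hπ
  set C := Subgroup.centralizer (Y : Set G) with hCdef
  have hC : Subgroup.centralizer ({(b : G)} : Set G) = C := by
    rw [hCdef, hYb, Subgroup.zpowers_eq_closure, Subgroup.centralizer_closure]
  rw [hC] at hbC
  have hYC : Y ≤ C := fun u hu => by
    rw [hYb] at hu
    rw [← hC, Subgroup.mem_centralizer_singleton_iff]
    obtain ⟨k, rfl⟩ := Subgroup.mem_zpowers_iff.1 hu
    exact ((Commute.refl (b : G)).zpow_left k).eq
  set YC := Y.subgroupOf C with hYCdef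
  let q : ↥C →* ↥C ⧸ YC := QuotientGroup.mk' YC
  have hq : Function.Surjective q := QuotientGroup.mk'_surjective YC
  haveI := CfsgLib.Coset.Fi24.isSimple
  haveI : Nontrivial (↥C ⧸ YC) := eC.toEquiv.nontrivial
  haveI hsimp : IsSimpleGroup (↥C ⧸ YC) :=
    IsSimpleGroup.isSimpleGroup_of_surjective eC.symm.toMonoidHom eC.symm.surjective
  have hnab : Subgroup.center (↥C ⧸ YC) = ⊥ ∧ commutator (↥C ⧸ YC) = ⊤ := by
    have hne : commutator (↥C ⧸ YC) ≠ ⊥ := fun h => by
      have hab : ∀ u v : ↥C ⧸ YC, u * v = v * u := fun u v =>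
        commutatorElement_eq_one_iff_mul_comm.1 (Subgroup.mem_bot.1
          (h ▸ Subgroup.commutator_mem_commutator (Subgroup.mem_top u) (Subgroup.mem_top v)))
      letI : CommGroup (↥C ⧸ YC) := { (inferInstance : Group (↥C ⧸ YC)) with mul_comm := hab }
      have hp := IsSimpleGroup.prime_card (α := ↥C ⧸ YC)
      rw [Nat.card_congr eC.toEquiv, CfsgLib.Coset.Fi24.card_Fi24'] at hp
      norm_num at hp
    refine ⟨?_, ((inferInstance : (commutator (↥C ⧸ YC)).Normal).eq_bot_or_eq_top).resolve_left hne⟩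
    refine ((inferInstance : (Subgroup.center (↥C ⧸ YC)).Normal).eq_bot_or_eq_top).resolve_right fun h => hne ?_
    rw [commutator_def, Subgroup.commutator_eq_bot_iff_le_centralizer]
    intro u _
    rw [Subgroup.mem_centralizer_iff]
    intro v _
    exact Subgroup.mem_center_iff.1 (h ▸ Subgroup.mem_top u) v
  have hYcom : YC ≤ commutator ↥C := by
    intro u hu
    have : (u : G) ∈ ⁅C, C⁆ := by
      have hu' : (u : G) ∈ Y := hu
      rw [hYb] at hu'
      exact Subgroup.zpowers_le.2 hbC hu'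
    rw [← Subgroup.map_subtype_commutator] at this
    obtain ⟨w, hw, hwu⟩ := this
    rwa [← Subtype.ext hwu]
  have hperf : commutator ↥C = ⊤ := by
    refine eq_top_iff.2 fun u _ => ?_
    obtain ⟨w, hw, ew⟩ : q u ∈ (commutator ↥C).map q := by
      rw [commutator_def, Subgroup.map_commutator, Subgroup.map_top_of_surjective _ hq, ← commutator_def, hnab.2]
      exact Subgroup.mem_top _
    have h : w⁻¹ * u ∈ YC := (QuotientGroup.eq (s := YC)).1 ew
    simpa using mul_mem hw (hYcom h)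
  have hcen : Subgroup.center ↥C = YC := by
    refine le_antisymm (fun u hu => ?_) fun u hu => Subgroup.mem_center_iff.2 fun v => Subtype.ext ?_
    · have : q u ∈ Subgroup.center (↥C ⧸ YC) := Subgroup.mem_center_iff.2 fun v => by
        obtain ⟨v, rfl⟩ := hq v
        rw [← map_mul, ← map_mul, Subgroup.mem_center_iff.1 hu v]
      rw [hnab.1] at this
      exact (QuotientGroup.eq_one_iff u).1 (Subgroup.mem_bot.1 this)
    · exact (Subgroup.mem_centralizer_iff.1 v.2 (u : G) hu).symm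
  haveI : Nontrivial (↥C ⧸ Subgroup.center ↥C) := (QuotientGroup.quotientMulEquivOfEq hcen).toEquiv.nontrivial
  have hQS : Cfsg.IsQuasisimple ↥C :=
    ⟨⟨hperf⟩, IsSimpleGroup.isSimpleGroup_of_surjective
      ((QuotientGroup.quotientMulEquivOfEq hcen).symm.toMonoidHom)
      (QuotientGroup.quotientMulEquivOfEq hcen).symm.surjective⟩
  refine ⟨hQS, ⟨eC⟩, ?_⟩
  -- the normaliser
  set N := Subgroup.normalizer (Y : Set G) with hNdef
  have hCN : C ≤ N := Subgroup.centralizer_le_normalizer _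
  let qN : ↥N →* ↥N ⧸ Y.subgroupOf N := QuotientGroup.mk' _
  have hqN : Function.Surjective qN := QuotientGroup.mk'_surjective _
  let ι : ↥C →* ↥N ⧸ Y.subgroupOf N := qN.comp (Subgroup.inclusion hCN)
  have hιk : ι.ker = YC := by
    ext u
    rw [MonoidHom.mem_ker]
    exact QuotientGroup.eq_one_iff _
  let M := ι.range
  have hyN : y ∈ N := by
    have hmap : (Subgroup.zpowers (b : G)).map (MulAut.conj y).toMonoidHom = Subgroup.zpowers (b : G) := by
      rw [MonoidHom.map_zpowers]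
      show Subgroup.zpowers (y * (b : G) * y⁻¹) = _
      rw [hy]
      refine le_antisymm (Subgroup.zpowers_le.2 (Subgroup.npow_mem_zpowers _ _)) (Subgroup.zpowers_le.2 ?_)
      refine Subgroup.mem_zpowers_iff.2 ⟨2, ?_⟩
      rw [zpow_two, ← pow_two, ← pow_mul, show 2 * 2 = orderOf (b : G) + 1 by rw [hb], pow_succ, pow_orderOf_eq_one,
        one_mul]
    rw [hNdef, hYb, Subgroup.mem_normalizer_iff]
    intro u
    constructor
    · intro hu; rw [← hmap]; exact ⟨u, hu, rfl⟩
    · intro hu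
      rw [← hmap] at hu
      obtain ⟨v, hv, e'⟩ := hu
      rwa [← mul_left_cancel (mul_right_cancel (show y * v * y⁻¹ = y * u * y⁻¹ from e'))]
  have hbY : (b : G) ∈ Y := hYb ▸ Subgroup.mem_zpowers _
  have conjb : ∀ x ∈ N, x * (b : G) * x⁻¹ = b ∨ x * (b : G) * x⁻¹ = (b : G) ^ 2 := by
    intro x hx
    have h : x * (b : G) * x⁻¹ ∈ Y := (Subgroup.mem_normalizer_iff.1 hx _).1 hbY
    rw [hYb, (isOfFinOrder_of_finite (b : G)).mem_zpowers_iff_mem_range_orderOf, hb] at h
    simp only [Finset.mem_image, Finset.mem_range] at h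
    obtain ⟨k, hk, hk'⟩ := h
    interval_cases k
    · exfalso
      rw [pow_zero, eq_comm, conj_eq_one_iff] at hk'
      rw [hk', orderOf_one] at hb
      omega
    · left; rw [← hk', pow_one]
    · right; rw [← hk']
  have hnot : y ∉ C := fun h => by
    rw [← hC, Subgroup.mem_centralizer_singleton_iff] at h
    have e1 : (b : G) ^ 2 = b := by rw [← hy, h, mul_inv_cancel_right]
    rw [pow_two, mul_eq_left] at e1
    rw [e1, orderOf_one] at hb
    omega
  haveI hMn : M.Normal := ⟨fun u hu w => by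
    obtain ⟨v, rfl⟩ := hu
    obtain ⟨w, rfl⟩ := hqN w
    have hv : (w : G) * v * (w : G)⁻¹ ∈ C := by
      refine Subgroup.mem_centralizer_iff.2 fun t ht => ?_
      have ht' : (w : G)⁻¹ * t * w ∈ Y := by
        have h := (Subgroup.mem_normalizer_iff.1 (inv_mem w.2) t).1 ht
        rwa [inv_inv] at h
      have h := Subgroup.mem_centralizer_iff.1 v.2 _ ht'
      calc t * ((w : G) * v * (w : G)⁻¹) = (w : G) * (((w : G)⁻¹ * t * w) * v) * (w : G)⁻¹ := by group
        _ = (w : G) * v * (w : G)⁻¹ * t := by rw [h]; group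
    exact ⟨⟨_, hv⟩, rfl⟩⟩
  have hMi : M.index = 2 := by
    refine Subgroup.index_eq_two_iff.2 ⟨qN ⟨y, hyN⟩, fun w => ?_⟩
    obtain ⟨w, rfl⟩ := hqN w
    have mem : ∀ x : ↥N, qN x ∈ M ↔ (x : G) ∈ C := fun x => by
      refine ⟨?_, fun h => ⟨⟨x, h⟩, rfl⟩⟩
      rintro ⟨v, hv⟩
      have h1 : (v : G)⁻¹ * x ∈ Y := (QuotientGroup.eq (s := Y.subgroupOf N)).1 hv
      simpa using mul_mem v.2 (hYC h1)
    have memC : ∀ x : G, x ∈ C ↔ x * (b : G) * x⁻¹ = b := fun x => by
      rw [← hC, Subgroup.mem_centralizer_singleton_iff, mul_inv_eq_iff_eq_mul]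
    rw [xor_def, ← map_mul, mem, mem, memC, memC, Subgroup.coe_mul]
    have e4 : y * ((b : G) ^ 2) * y⁻¹ = b := by
      rw [← conj_pow, hy, ← pow_mul, show 2 * 2 = orderOf (b : G) + 1 by rw [hb], pow_succ, pow_orderOf_eq_one,
        one_mul]
    have hb2 : (b : G) ^ 2 ≠ b := fun e1 => by
      rw [pow_two, mul_eq_left] at e1
      rw [e1, orderOf_one] at hb
      omega
    have ew : (w : G) * y * (b : G) * ((w : G) * y)⁻¹ = ((w : G) * (b : G) * (w : G)⁻¹) ^ 2 := by
      rw [conj_pow, ← hy]; group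
    rw [ew]
    rcases conjb w w.2 with h | h
    · right; rw [h]; exact ⟨rfl, hb2⟩
    · left
      rw [h]
      exact ⟨by rw [← pow_mul, show 2 * 2 = orderOf (b : G) + 1 by rw [hb], pow_succ, pow_orderOf_eq_one, one_mul],
        hb2⟩
  have eM : ↥M ≃* Cfsg.Spor.Fi24' :=
    ((QuotientGroup.quotientKerEquivRange ι).symm.trans (QuotientGroup.quotientMulEquivOfEq hιk)).trans eC
  have hMc : Subgroup.centralizer (M : Set (↥N ⧸ Y.subgroupOf N)) = ⊥ := by
    refine eq_bot_iff.2 fun w hw => ?_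
    obtain ⟨w, rfl⟩ := hqN w
    have hcom : ∀ v : ↥C, (w : G) * v * (w : G)⁻¹ * (v : G)⁻¹ ∈ Y := fun v => by
      have h := Subgroup.mem_centralizer_iff.1 hw _ ⟨v, rfl⟩
      have h2 : qN (w * Subgroup.inclusion hCN v * w⁻¹ * (Subgroup.inclusion hCN v)⁻¹) = 1 := by
        rw [map_mul, map_mul, map_mul, map_inv, map_inv,
          show qN w * qN (Subgroup.inclusion hCN v) = qN (Subgroup.inclusion hCN v) * qN w from h.symm]
        group
      exact ((QuotientGroup.eq_one_iff (N := Y.subgroupOf N) _).1 h2 :)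
    let φ : ↥C →* ↥C := MonoidHom.mk' (fun v => (⟨(w : G) * v * (w : G)⁻¹, by
      have h := mul_mem (hYC (hcom v)) v.2
      simpa using h⟩ : ↥C)) fun u v => Subtype.ext (show (w : G) * (u * v) * (w : G)⁻¹ = (w : G) * u * (w : G)⁻¹ * ((w : G) * v * (w : G)⁻¹) by group)
    let δ : ↥C →* ↥(Subgroup.center ↥C) := MonoidHom.mk' (fun v => ⟨φ v * v⁻¹, by
      rw [hcen]; exact hcom v⟩) fun u v => Subtype.ext (by
        show φ (u * v) * (u * v)⁻¹ = φ u * u⁻¹ * (φ v * v⁻¹)
        have hc : φ v * v⁻¹ ∈ Subgroup.center ↥C := by rw [hcen]; exact hcom v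
        rw [map_mul, mul_assoc (φ u) u⁻¹, Subgroup.mem_center_iff.1 hc u⁻¹]
        group)
    letI : CommGroup ↥(Subgroup.center ↥C) :=
      { (inferInstance : Group ↥(Subgroup.center ↥C)) with
        mul_comm := fun u v => Subtype.ext (Subgroup.mem_center_iff.1 v.2 u) }
    have hδ : ∀ v, δ v = 1 := fun v =>
      MonoidHom.mem_ker.1 (Abelianization.commutator_subset_ker δ (hperf ▸ Subgroup.mem_top v))
    have hwC : (w : G) ∈ C := by
      rw [← hC, Subgroup.mem_centralizer_singleton_iff]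
      have h := congrArg (fun t : ↥(Subgroup.center ↥C) => ((t : ↥C) : G)) (hδ ⟨b, hYC hbY⟩)
      change (w : G) * (b : G) * (w : G)⁻¹ * (b : G)⁻¹ = 1 at h
      exact mul_inv_eq_iff_eq_mul.1 (mul_inv_eq_one.1 h)
    rw [Subgroup.mem_bot]
    refine (QuotientGroup.eq_one_iff w).2 ?_
    show (⟨(w : G), hwC⟩ : ↥C) ∈ YC
    rw [← hcen, Subgroup.mem_center_iff]
    intro v
    have h := congrArg (fun t : ↥(Subgroup.center ↥C) => ((t : ↥C) : G)) (hδ v)
    change (w : G) * (v : G) * (w : G)⁻¹ * (v : G)⁻¹ = 1 at h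
    exact Subtype.ext (mul_inv_eq_iff_eq_mul.1 (mul_inv_eq_one.1 h)).symm
  obtain ⟨eF⟩ := CfsgLib.FiThree.equiv_fi24 M hMi eM hMc
  exact ⟨eF '' conjugatesOf CfsgLib.Coset.Fi24.s, CfsgLib.TC23.class_map eF CfsgLib.Coset.Fi24.threeTransp,
    CfsgLib.FiThree.type24_map eF _ CfsgLib.Coset.Fi24.type24⟩

end Cfsg.Agent.S5461
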