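import Cfsg.Statements.S5462
import Cfsg.Agent.Spor3T.M22Clique
-- import your own Cfsg.Agent.* helpers here

set_option autoImplicit false
open Cfsg

namespace Cfsg.Agent.S5462

/-- Let G be a finite group with trivial centre generated by a conjugation-invariant set D of 3-transpositions on which it acts primitively, such that for some d in D the subgroup generated by the members of D other than d commuting with d has central largest normal 2- and 3-subgroups, and suppose G with D is of type M(22). Then every automorphism of G of order 2 fixes some member of D. -/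
theorem result {G : Type*} [Group G] [Finite G] {D : Set G} (hD : Cfsg.IsThreeTranspositionGroup D) (hprim : Cfsg.IsPrimitiveUnderConj D) (d₀ : G) (hd₀ : d₀ ∈ D) (h3 : Cfsg.pCore 3 ↥(Subgroup.closure {y : G | y ∈ D ∧ y ≠ d₀ ∧ Commute d₀ y}) ≤ Subgroup.center ↥(Subgroup.closure {y : G | y ∈ D ∧ y ≠ d₀ ∧ Commute d₀ y})) (h2 : Cfsg.pCore 2 ↥(Subgroup.closure {y : G | y ∈ D ∧ y ≠ d₀ ∧ Commute d₀ y}) ≤ Subgroup.center ↥(Subgroup.closure {y : G | y ∈ D ∧ y ≠ d₀ ∧ Commute d₀ y})) (h22 : Cfsg.IsOfTypeM22 G D) (φ : MulAut G) (hφ : orderOf φ = 2) : ∃ d ∈ D, φ d = d := by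
  classical
  have h := CfsgLib.ThreeT.Prod.geo22 hD hprim h22
  haveI : Fact (2 : ℕ).Prime := ⟨Nat.prime_two⟩
  have hφ2 : φ * φ = 1 := by rw [← pow_two, ← hφ]; exact pow_orderOf_eq_one φ
  have hφx : ∀ x, φ (φ x) = x := fun x => by rw [← MulAut.mul_apply, hφ2, MulAut.one_apply]
  -- the image of the class is the class
  have hcl : Cfsg.IsThreeTranspositionClass (φ '' D) := by
    obtain ⟨⟨ho, hpair⟩, ⟨x, hx, hxe⟩, hgen⟩ := h.class3
    refine ⟨⟨?_, ?_⟩, ⟨φ x, ⟨x, hx, rfl⟩, ?_⟩, ?_⟩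
    · rintro _ ⟨u, hu, rfl⟩
      rw [MulEquiv.orderOf_eq]
      exact ho u hu
    · rintro _ ⟨u, hu, rfl⟩ _ ⟨v, hv, rfl⟩
      rw [← map_mul, ← map_pow, ← map_pow]
      exact (hpair u hu v hv).imp (fun e => by rw [e, map_one]) (fun e => by rw [e, map_one])
    · ext y
      constructor
      · rintro ⟨u, hu, rfl⟩
        rw [hxe] at hu
        obtain ⟨c, hc⟩ := isConj_iff.1 hu
        exact isConj_iff.2 ⟨φ c, by rw [← hc, map_mul, map_mul, map_inv]⟩
      · intro hy
        obtain ⟨c, hc⟩ := isConj_iff.1 hy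
        refine ⟨φ y, ?_, hφx y⟩
        rw [hxe, ← hc]
        exact isConj_iff.2 ⟨φ c, by rw [map_mul, map_mul, map_inv, hφx]⟩
    · rw [show (φ '' D) = φ.toMonoidHom '' D from rfl, ← MonoidHom.map_closure, hgen,
        Subgroup.map_top_of_surjective _ φ.surjective]
  have hφD : ∀ x ∈ D, φ x ∈ D := fun x hx => by
    have : φ x ∈ φ '' D := ⟨x, hx, rfl⟩
    rwa [CfsgLib.ThreeT.Prod.class_unique h hprim h22 hcl] at this
  -- an invariant Sylow 2-subgroup
  haveI := Fintype.ofFinite (Sylow 2 G)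
  obtain ⟨T, hT⟩ := Equiv.Perm.exists_fixed_point_of_prime (p := 2) (n := 1)
    (σ := MulAction.toPerm φ (β := Sylow 2 G))
    (by
      have h1 := card_sylow_modEq_one 2 G
      rw [Nat.card_eq_fintype_card] at h1
      intro h2
      rw [Nat.ModEq, Nat.mod_eq_zero_of_dvd h2] at h1 ; simp at h1)
    (by
      refine Equiv.ext fun U => ?_
      show φ • φ • U = U
      rw [smul_smul, hφ2, one_smul])
  replace hT : φ • T = T := hT
  obtain ⟨hcC, hn⟩ := CfsgLib.ThreeT.Prod.sylow_clique h hd₀ T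
  refine CfsgLib.ThreeT.Prod.exists_fixed h hprim h22 hcC (fun x hx => hx.1) hn φ hφx hφD fun x hx => ⟨hφD x hx.1, ?_⟩
  rw [← hT]
  exact Subgroup.smul_mem_pointwise_smul x φ _ hx.2

end Cfsg.Agent.S5462
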