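import Cfsg.Statements.S5469
import Cfsg.Agent.Spor3T.M22PairQuot

set_option autoImplicit false
open Cfsg

namespace Cfsg.Agent.S5469

/-- Let G be a finite group with trivial centre generated by a conjugation-invariant set D of 3-transpositions on which it acts primitively, such that for some d in D the subgroup generated by the members of D other than d commuting with d has central largest normal 2- and 3-subgroups, and suppose G with D is of type M(22). Let d₁, d₂ be distinct commuting members of D, j = d₁ d₂, K the joint centralizer of d₁ and d₂, C the centralizer of j and V the subgroup generated by d₁ and d₂. Then K has index 2 in C, V is the centre of K, and C has a normal subgroup E containing V with E/V elementary abelian of order 2^8 and C/E isomorphic to the full automorphism group of the projective special unitary group of dimension 4 over the field with four elements. -/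
theorem result {G : Type*} [Group G] [Finite G] {D : Set G} (hD : Cfsg.IsThreeTranspositionGroup D) (hprim : Cfsg.IsPrimitiveUnderConj D) (d₀ : G) (hd₀ : d₀ ∈ D) (h3 : Cfsg.pCore 3 ↥(Subgroup.closure {y : G | y ∈ D ∧ y ≠ d₀ ∧ Commute d₀ y}) ≤ Subgroup.center ↥(Subgroup.closure {y : G | y ∈ D ∧ y ≠ d₀ ∧ Commute d₀ y})) (h2 : Cfsg.pCore 2 ↥(Subgroup.closure {y : G | y ∈ D ∧ y ≠ d₀ ∧ Commute d₀ y}) ≤ Subgroup.center ↥(Subgroup.closure {y : G | y ∈ D ∧ y ≠ d₀ ∧ Commute d₀ y})) (h22 : Cfsg.IsOfTypeM22 G D) (d₁ d₂ : G) (h₁ : d₁ ∈ D) (h₂ : d₂ ∈ D) (hne : d₁ ≠ d₂) (hc : Commute d₁ d₂) (K C V : Subgroup G) (hK : K = Subgroup.centralizer ({d₁, d₂} : Set G)) (hC : C = Subgroup.centralizer ({d₁ * d₂} : Set G)) (hV : V = Subgroup.closure ({d₁, d₂} : Set G)) : K ≤ C ∧ (K.subgroupOf C).index = 2 ∧ (Subgroup.center ↥K).map K.subtype = V ∧ ∃ E : Subgroup G, V ≤ E ∧ E ≤ C ∧ (∀ c ∈ C, ∀ x ∈ E, c * x * c⁻¹ ∈ E) ∧ Nat.card E = 2 ^ 10 ∧ (∀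 x ∈ E, ∀ y ∈ E, x * y * x⁻¹ * y⁻¹ ∈ V ∧ x ^ 2 ∈ V) ∧ ∃ (_ : (E.subgroupOf C).Normal) (F : Type) (_ : Field F) (_ : Fintype F), Fintype.card F = 4 ∧ Nonempty (↥C ⧸ E.subgroupOf C ≃* MulAut (Cfsg.PSU 4 F 2)) := by
  subst hK hC hV
  open CfsgLib.ThreeT.Prod in
  have h := geo22 hD hprim h22
  open CfsgLib.ThreeT.Prod in
  have hb : d₂ ∈ nb D d₁ := ⟨h₂, hne.symm, hc⟩
  open CfsgLib.ThreeT.Prod in
  obtain ⟨cC, cK, cE, hEK, hKC, hVE⟩ := pair_orders h hprim h22 h₁ hb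
  open CfsgLib.ThreeT.Prod in
  obtain ⟨F, _, _, _, hF, φ, ω, e, -, -, d, -⟩ := exists_pair_data h hprim h22 h₁ hb
  refine ⟨hKC, ?_, ?_, CfsgLib.ThreeT.Prod.fibreKer h.tt d₁ d₂, hVE, hEK.trans hKC,
    fun c hc x hx => CfsgLib.ThreeT.Prod.fibreKer_conj
      ((CfsgLib.ThreeT.Prod.mem_cent_prod_iff h h₁ hb).1 hc) hx,
    by rw [cE]; norm_num, fun x hx y hy => ?_, CfsgLib.ThreeT.Prod.pair_quot h hprim h22 h₁ hb⟩
  · have e1 := Subgroup.index_mul_card
      ((Subgroup.centralizer ({d₁, d₂} : Set G)).subgroupOf (Subgroup.centralizer ({d₁ * d₂} : Set G)))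
    rw [Nat.card_congr (Subgroup.subgroupOfEquivOfLe hKC).toEquiv, cK, cC] at e1
    omega
  · refine le_antisymm ?_ ((Subgroup.closure_le _).2 ?_)
    · rintro _ ⟨x, hx, rfl⟩
      obtain ⟨xa, xb⟩ := CfsgLib.ThreeT.Prod.mem_pair_centralizer.1 x.2
      refine CfsgLib.ThreeT.Prod.cent_common h d xa xb fun z hz => ?_
      exact (congrArg Subtype.val (Subgroup.mem_center_iff.1 hx
        ⟨z, CfsgLib.ThreeT.Prod.mem_pair_centralizer.2 ⟨hz.2.2.2.1, hz.2.2.2.2⟩⟩)).symm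
    · have key : ∀ x ∈ Subgroup.centralizer ({d₁, d₂} : Set G), Commute x d₁ ∧ Commute x d₂ := fun x hx =>
        CfsgLib.ThreeT.Prod.mem_pair_centralizer.1 hx
      rintro x (rfl | rfl)
      · exact ⟨⟨x, CfsgLib.ThreeT.Prod.mem_pair_centralizer.2 ⟨Commute.refl x, hc⟩⟩,
          Subgroup.mem_center_iff.2 fun w => Subtype.ext (key w w.2).1.eq, rfl⟩
      · exact ⟨⟨x, CfsgLib.ThreeT.Prod.mem_pair_centralizer.2 ⟨hc.symm, Commute.refl x⟩⟩,
          Subgroup.mem_center_iff.2 fun w => Subtype.ext (key w w.2).2.eq, rfl⟩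
  · have hsq : ∀ z ∈ CfsgLib.ThreeT.Prod.fibreKer h.tt d₁ d₂, z * z ∈ Subgroup.closure ({d₁, d₂} : Set G) :=
      fun z hz => CfsgLib.ThreeT.Prod.fibre_sq h d hz
    refine ⟨?_, by rw [pow_two]; exact hsq x hx⟩
    have hcen : ∀ v ∈ Subgroup.closure ({d₁, d₂} : Set G), Commute v x := fun v hv =>
      CfsgLib.ThreeT.Prod.commute_of_closure (fun w hw => by
        rcases hw with rfl | rfl
        exacts [hx.1.symm, hx.2.1.symm]) v hv
    rw [show x * y * x⁻¹ * y⁻¹ = (x * x) * (x⁻¹ * y * (x⁻¹ * y)) * (y * y)⁻¹ by group]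
    exact mul_mem (mul_mem (hsq x hx) (hsq _ (mul_mem (inv_mem hx) hy))) (inv_mem (hsq y hy))

end Cfsg.Agent.S5469
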