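import Cfsg.Statements.S5471
import Cfsg.Agent.Spor3T.TripleSym

set_option autoImplicit false
open Cfsg

namespace Cfsg.Agent.S5471

open CfsgLib.ThreeT.Prod

/-- Let G be a finite group with trivial centre generated by a conjugation-invariant set D of 3-transpositions on which it acts primitively, such that for some d in D the subgroup generated by the members of D other than d commuting with d has central largest normal 2- and 3-subgroups, and suppose G with D is of type M(23). Let d₁, d₂, d₃ be distinct pairwise commuting members of D and j their product. Then the joint centralizer of d₁, d₂, d₃ is normal in the centralizer of j with quotient isomorphic to the symmetric group of degree 3. -/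
theorem result {G : Type*} [Group G] [Finite G] {D : Set G} (hD : Cfsg.IsThreeTranspositionGroup D) (hprim : Cfsg.IsPrimitiveUnderConj D) (d₀ : G) (hd₀ : d₀ ∈ D) (h3 : Cfsg.pCore 3 ↥(Subgroup.closure {y : G | y ∈ D ∧ y ≠ d₀ ∧ Commute d₀ y}) ≤ Subgroup.center ↥(Subgroup.closure {y : G | y ∈ D ∧ y ≠ d₀ ∧ Commute d₀ y})) (h2 : Cfsg.pCore 2 ↥(Subgroup.closure {y : G | y ∈ D ∧ y ≠ d₀ ∧ Commute d₀ y}) ≤ Subgroup.center ↥(Subgroup.closure {y : G | y ∈ D ∧ y ≠ d₀ ∧ Commute d₀ y})) (h23 : Cfsg.IsOfTypeM23 G D) (d₁ d₂ d₃ : G) (h₁ : d₁ ∈ D) (h₂ : d₂ ∈ D) (h₃ : d₃ ∈ D) (h12 : d₁ ≠ d₂) (h13 : d₁ ≠ d₃) (h23 : d₂ ≠ d₃) (c12 : Commute d₁ d₂) (c13 : Commute d₁ d₃) (c23 : Commute d₂ d₃) (K C : Subgroup G) (hK : K = Subgroup.centralizer ({d₁, d₂, d₃} : Set G)) (hC : C = Subgroup.centralizer ({d₁ * d₂ * d₃} : Set G)) : K ≤ C ∧ ∃ _ : (K.subgroupOf C).Normal, Nonempty (↥C ⧸ K.subgroupOf C ≃* Equiv.Perm (Fin 3)) := by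
  classical
  have h23M : Cfsg.IsOfTypeM23 G D := by assumption
  subst hK hC
  have hT := tt0_of_group hD
  have h1' : ∀ a ∈ D, a ≠ 1 := fun a ha e => by simpa [e] using hD.1.1 a ha
  have hcj : ConjD D := fun a ha b hb _ _ => hprim.1 a ha b hb
  have hF := facts23 hT hD.2.2 h23M
  obtain ⟨d, hd, hK⟩ : ∃ d ∈ D, Facts (img D d) := by
    obtain ⟨-, d, hd, c, -, -, h22, -⟩ := h23M
    exact ⟨d, hd, facts22 (img_tt0 hT) img_gen h22⟩
  let v : Fin 3 → G := ![d₁, d₂, d₃]
  have hvD : ∀ i, v i ∈ D := by intro i; fin_cases i <;> assumption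
  have hinj : Function.Injective v := by
    intro i k h
    fin_cases i <;> fin_cases k <;> first | rfl | (exfalso; simp [v] at h; tauto)
  have hcv : ∀ i k, Commute (v i) (v k) := by
    intro i k
    fin_cases i <;> fin_cases k <;>
      first | exact Commute.refl _ | assumption | exact Commute.symm ‹_›
  have hmem : ∀ x : G, x ∈ [d₁, d₂, d₃] ↔ x ∈ Set.range v := by
    intro x
    simp [v, Matrix.range_cons, Matrix.range_empty, or_comm, or_left_comm]
  have hl : [d₁, d₂, d₃].Nodup ∧ [d₁, d₂, d₃].length = 3 ∧ (∀ a ∈ [d₁, d₂, d₃], a ∈ D) ∧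
      (∀ a ∈ [d₁, d₂, d₃], ∀ b ∈ [d₁, d₂, d₃], Commute a b) := by
    refine ⟨by simp [h12, h13, h23], rfl, fun a ha => ?_, fun a ha b hb => ?_⟩
    · obtain ⟨i, rfl⟩ := (hmem a).1 ha; exact hvD i
    · obtain ⟨i, rfl⟩ := (hmem a).1 ha
      obtain ⟨k, rfl⟩ := (hmem b).1 hb
      exact hcv i k
  set C := Subgroup.centralizer ({d₁ * d₂ * d₃} : Set G)
  set K := Subgroup.centralizer ({d₁, d₂, d₃} : Set G)
  have hperm : ∀ g ∈ C, ∀ x : G, x ∈ Set.range v ↔ g * x * g⁻¹ ∈ Set.range v := by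
    intro g hg x
    set σ := MulAut.conj g
    have hp : ([d₁, d₂, d₃].map σ).prod = [d₁, d₂, d₃].prod := by
      rw [← map_list_prod]
      have hj : [d₁, d₂, d₃].prod = d₁ * d₂ * d₃ := by simp [mul_assoc]
      rw [hj]
      show g * (d₁ * d₂ * d₃) * g⁻¹ = _
      rw [← Subgroup.mem_centralizer_iff.1 hg _ rfl, mul_inv_cancel_right]
    have := uniq_le_three hD hprim (Or.inl h23M) le_rfl
      (l := [d₁, d₂, d₃].map σ) (l' := [d₁, d₂, d₃])
      ⟨hl.1.map σ.injective, rfl, fun a ha => by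
        obtain ⟨z, hz, rfl⟩ := List.mem_map.1 ha
        exact hT.conj g z (hl.2.2.1 z hz), fun a ha b hb => by
        obtain ⟨z, hz, rfl⟩ := List.mem_map.1 ha
        obtain ⟨w, hw, rfl⟩ := List.mem_map.1 hb
        exact (hl.2.2.2 z hz w hw).map σ.toMonoidHom⟩ hl hp (σ x)
    rw [List.mem_map] at this
    rw [← hmem, ← hmem]
    exact ⟨fun hx => this.1 ⟨x, hx, rfl⟩, fun hx => by
      obtain ⟨z, hz, e⟩ := this.2 hx
      rwa [← σ.injective e]⟩
  let e : Fin 3 ≃ Set.range v := Equiv.ofInjective v hinj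
  let f : ↥C →* Equiv.Perm (Set.range v) :=
    { toFun := fun g => (MulAut.conj (g : G)).toEquiv.subtypeEquiv (hperm g g.2)
      map_one' := by ext x; simp
      map_mul' := fun g h => by ext x; simp [mul_assoc] }
  let φ : ↥C →* Equiv.Perm (Fin 3) := (Equiv.permCongrHom e.symm).toMonoidHom.comp f
  have hφ : ∀ (g : ↥C) (i : Fin 3), v (φ g i) = g * v i * (g : G)⁻¹ := by
    intro g i
    show v (e.symm (f g (e i))) = _
    rw [Equiv.apply_ofInjective_symm hinj]
    rfl
  have hker : φ.ker = K.subgroupOf C := by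
    ext g
    rw [MonoidHom.mem_ker, Subgroup.mem_subgroupOf, Subgroup.mem_centralizer_iff]
    constructor
    · intro hg x hx
      obtain ⟨i, rfl⟩ : x ∈ Set.range v := (hmem x).1 (by simpa using hx)
      have := hφ g i
      rw [hg] at this
      exact eq_mul_inv_iff_mul_eq.1 this
    · intro hg
      refine Equiv.ext fun i => hinj ?_
      rw [hφ, ← hg (v i) (by have := (hmem (v i)).2 ⟨i, rfl⟩; simpa using this),
        mul_inv_cancel_right]
      rfl
  have hswap : ∀ i k m : Fin 3, i ≠ k → i ≠ m → k ≠ m → Equiv.swap i k ∈ φ.range := by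
    intro i k m hik him hkm
    obtain ⟨g, e1, e2, e3⟩ := exists_swap hT hcj hF.twinFree hd (h1' d hd) hK (hvD i) (hvD k) (hvD m)
      (h1' _ (hvD i)) (h1' _ (hvD k)) (h1' _ (hvD m)) (hinj.ne hik) (hinj.ne him) (hinj.ne hkm)
      (hcv i k) (hcv i m) (hcv k m)
    have hall : ∀ l : Fin 3, g * v l * g⁻¹ = v (Equiv.swap i k l) := by
      intro l
      have : l = i ∨ l = k ∨ l = m := by omega
      rcases this with rfl | rfl | rfl
      · rw [Equiv.swap_apply_left]; exact e1
      · rw [Equiv.swap_apply_right]; exact e2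
      · rw [Equiv.swap_apply_of_ne_of_ne him.symm hkm.symm]; exact e3
    have hj : d₁ * d₂ * d₃ = v 0 * v 1 * v 2 := rfl
    have hgC : g ∈ C := by
      have hp : ([0, 1, 2].map (Equiv.swap i k)).Perm [(0 : Fin 3), 1, 2] := by
        clear * -; revert i k; decide
      have hp' := (hp.map v).prod_eq' (List.pairwise_of_forall_mem_list fun a ha b hb => by
        simp only [List.map_map, List.mem_map] at ha hb
        obtain ⟨a', -, rfl⟩ := ha
        obtain ⟨b', -, rfl⟩ := hb
        exact hcv _ _)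
      rw [Subgroup.mem_centralizer_singleton_iff, hj, ← mul_inv_eq_iff_eq_mul]
      simp only [List.map_cons, List.map_nil, List.prod_cons, List.prod_nil, mul_one, ← hall,
        ← mul_assoc] at hp'
      refine Eq.trans ?_ hp'
      group
    exact ⟨⟨g, hgC⟩, Equiv.ext fun l => hinj (by rw [hφ]; exact hall l)⟩
  have hsurj : Function.Surjective φ := by
    rw [← MonoidHom.range_eq_top, ← top_le_iff, ← Equiv.Perm.closure_isSwap, Subgroup.closure_le]
    rintro σ ⟨i, k, hik, rfl⟩
    have hm : ∃ m : Fin 3, i ≠ m ∧ k ≠ m := by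
      clear * - hik; revert hik; revert i k; decide
    obtain ⟨m, him, hkm⟩ := hm
    exact hswap i k m hik him hkm
  have hn : (K.subgroupOf C).Normal := hker ▸ (inferInstance : φ.ker.Normal)
  refine ⟨?_, hn, ?_⟩
  · refine fun g hg => Subgroup.mem_centralizer_singleton_iff.2 ?_
    have h := Subgroup.mem_centralizer_iff.1 hg
    have c : ∀ x ∈ ({d₁, d₂, d₃} : Set G), Commute g x := fun x hx => (h x hx).symm
    exact (((c d₁ (by simp)).mul_right (c d₂ (by simp))).mul_right (c d₃ (by simp))).eq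
  · exact ⟨(QuotientGroup.quotientMulEquivOfEq hker.symm).trans
      (QuotientGroup.quotientKerEquivOfSurjective φ hsurj)⟩

end Cfsg.Agent.S5471
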