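import Cfsg.Statements.S5472
import Cfsg.Agent.Coset.Fi22Inv.Main
import Cfsg.Agent.Spor3T.M22Iso

set_option autoImplicit false
open Cfsg

namespace Cfsg.Agent.S5472

open CfsgLib CfsgLib.Coset.Fi22Inv

theorem congr_conj {A B : Type*} [Group A] [Group B] (e : A ≃* B) (g : A) :
    MulAut.congr e (MulAut.conj g) = MulAut.conj (e g) := by
  ext x
  simp [MulAut.congr]

theorem mem_map_fix {G : Type*} [Group G] (e : Cfsg.Spor.Fi22 ≃* G) (β : MulAut Cfsg.Spor.Fi22) (g : G) :
    g ∈ (fixSub β).map e.toMonoidHom ↔ MulAut.congr e β g = g := by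
  show _ ↔ e (β (e.symm g)) = g
  rw [Subgroup.mem_map_equiv, mem_fixSub, ← e.apply_eq_iff_eq, MulEquiv.apply_symm_apply]

/-- Let G be a finite group with trivial centre generated by a conjugation-invariant set D of 3-transpositions on which it acts primitively, such that for some d in D the subgroup generated by the members of D other than d commuting with d has central largest normal 2- and 3-subgroups, and suppose G with D is of type M(22). Then G has a non-inner automorphism s of order 2 whose fixed-point subgroup is isomorphic to the full automorphism group of Ω⁺(8, 2) (the commutator subgroup of the isometry group of the hyperbolic quadratic form in dimension 8 over the field with two elements), together with distinct commuting members a, b of D fixed by s such that: s, s composed with conjugation by a, and s composed with conjugation by a b represent the three classes (under the automorphism group) of non-inner automorphisms of order 2; the elements fixed by the automorphism s composed with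 conjugation by a are exactly those fixed by s and commuting with a, and they form a group isomorphic to the direct product of a group of order 2 and the symplectic group of dimension 6 over the field with two elements; and the elements fixed by the automorphism s composed with conjugation by a b form a group whose largest normal 2-subgroup is elementary abelian of order 64 with quotient isomorphic to the full isometry group of the elliptic quadratic form in dimension 6 over the field with two elements. -/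
theorem result {G : Type*} [Group G] [Finite G] {D : Set G} (hD : Cfsg.IsThreeTranspositionGroup D) (hprim : Cfsg.IsPrimitiveUnderConj D) (d₀ : G) (hd₀ : d₀ ∈ D) (h3 : Cfsg.pCore 3 ↥(Subgroup.closure {y : G | y ∈ D ∧ y ≠ d₀ ∧ Commute d₀ y}) ≤ Subgroup.center ↥(Subgroup.closure {y : G | y ∈ D ∧ y ≠ d₀ ∧ Commute d₀ y})) (h2 : Cfsg.pCore 2 ↥(Subgroup.closure {y : G | y ∈ D ∧ y ≠ d₀ ∧ Commute d₀ y}) ≤ Subgroup.center ↥(Subgroup.closure {y : G | y ∈ D ∧ y ≠ d₀ ∧ Commute d₀ y})) (h22 : Cfsg.IsOfTypeM22 G D) : ∃ (s : MulAut G) (a b : G) (Cs : Subgroup G), orderOf s = 2 ∧ s ∉ (MulAut.conj : G →* MulAut G).range ∧ (∀ g : G, g ∈ Cs ↔ s g = g) ∧ Nonempty (↥Cs ≃* MulAut (Cfsg.Omega (ZMod 2) (Cfsg.quadFormPlus 4 (ZMod 2)))) ∧ a ∈ D ∧ b ∈ D ∧ a ≠ b ∧ Commute a b ∧ s a = a ∧ s b = b ∧ (∀ t : MulAut G, orderOf t = 2 → t ∉ (MulAut.conj : G →* MulAut G).range → (IsConj t s ∨ IsConj t (s * MulAut.conj a) ∨ IsConj t (s * MulAut.conj (a * b)))) ∧ ¬ IsConj s (s * MulAut.conj a) ∧ ¬ IsConj s (s * MulAut.conj (a * b)) ∧ ¬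 IsConj (s * MulAut.conj a) (s * MulAut.conj (a * b)) ∧ (∀ g : G, (s * MulAut.conj a) g = g ↔ g ∈ Cs ⊓ Subgroup.centralizer ({a} : Set G)) ∧ Nonempty (↥(Cs ⊓ Subgroup.centralizer ({a} : Set G)) ≃* Multiplicative (ZMod 2) × Cfsg.PSp 3 (ZMod 2)) ∧ ∃ Csab O : Subgroup G, (∀ g : G, g ∈ Csab ↔ (s * MulAut.conj (a * b)) g = g) ∧ O = (Cfsg.pCore 2 ↥Csab).map Csab.subtype ∧ Cfsg.IsElementaryAbelian 2 O ∧ Nat.card O = 64 ∧ ∃ _ : (O.subgroupOf Csab).Normal, Nonempty (↥Csab ⧸ O.subgroupOf Csab ≃* Cfsg.isometryGroup (ZMod 2) (Cfsg.quadFormMinus 2 (ZMod 2) 1 1)) := by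
  haveI := Coset.Fi22.card_le.1
  obtain ⟨e, he⟩ := ThreeT.Prod.exists_iso_fi22 hD hprim h22
  have hD' : ∀ x, e (Coset.Fi22O8.dd x) ∈ D := fun x => he ▸ ⟨_, Coset.Fi22O8.dd_class x, rfl⟩
  set E : MulAut Cfsg.Spor.Fi22 ≃* MulAut G := MulAut.congr e with hE
  set a := e (Coset.Fi22O8.dd ptA) with ha
  set b := e (Coset.Fi22O8.dd ptB) with hb
  have hA : E alphaA = E alpha * MulAut.conj a := by
    rw [alphaA, map_mul, hE, congr_conj]
  have hAB : E alphaAB = E alpha * MulAut.conj (a * b) := by
    rw [alphaAB, map_mul, hE, congr_conj, map_mul e]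
  have hinn : ∀ t : MulAut G, t ∈ (MulAut.conj : G →* MulAut G).range ↔
      E.symm t ∈ Cfsg.Inn Cfsg.Spor.Fi22 := by
    intro t
    constructor
    · rintro ⟨g, rfl⟩
      exact ⟨e.symm g, E.injective (by rw [MulEquiv.apply_symm_apply, hE, congr_conj, e.apply_symm_apply])⟩
    · rintro ⟨g, hg⟩
      exact ⟨e g, by rw [← congr_conj, hg]; exact E.apply_symm_apply t⟩
  have hfix : ∀ β, Nonempty (↥((fixSub β).map e.toMonoidHom) ≃* ↥(fixSub β)) := fun β =>
    ⟨(e.subgroupMap (fixSub β)).symm⟩
  refine ⟨E alpha, a, b, (fixSub alpha).map e.toMonoidHom, ?_, ?_, fun g => mem_map_fix e alpha g, ?_,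
    hD' _, hD' _, fun q => pts_facts.1 (e.injective q), pts_facts.2.map e, ?_, ?_, ?_, ?_, ?_, ?_, ?_, ?_, ?_⟩
  · rw [MulEquiv.orderOf_eq]; exact orderOf_alpha
  · rw [hinn, MulEquiv.symm_apply_apply]; exact alpha_not_inner
  · obtain ⟨f⟩ := hfix alpha
    obtain ⟨i⟩ := fix_alpha_iso
    exact ⟨f.trans i⟩
  · show e (alpha (e.symm a)) = a
    rw [ha, e.symm_apply_apply, alpha_ddA]
  · show e (alpha (e.symm b)) = b
    rw [hb, e.symm_apply_apply, alpha_ddB]
  · intro t ht hout
    rw [hinn] at hout
    have h2 : E.symm t * E.symm t = 1 := by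
      rw [← map_mul, ← pow_two, ← ht, pow_orderOf_eq_one, map_one]
    have hmap : ∀ {β}, IsConj (E.symm t) β → IsConj t (E β) := fun {β} q => by
      have := E.toMonoidHom.map_isConj q
      simpa using this
    rw [← hA, ← hAB]
    rcases outer_classes h2 hout with q | q | q
    exacts [Or.inl (hmap q), Or.inr (Or.inl (hmap q)), Or.inr (Or.inr (hmap q))]
  · rw [← hA]; exact fun q => not_conj.1 (by simpa using E.symm.toMonoidHom.map_isConj q)
  · rw [← hAB]; exact fun q => not_conj.2.1 (by simpa using E.symm.toMonoidHom.map_isConj q)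
  · rw [← hA, ← hAB]; exact fun q => not_conj.2.2 (by simpa using E.symm.toMonoidHom.map_isConj q)
  · intro g
    rw [← hA, ← mem_map_fix e alphaA g, fix_alphaA, Subgroup.map_inf_eq _ _ _ e.injective, Subgroup.mem_inf,
      Subgroup.mem_inf]
    refine and_congr_right fun _ => ?_
    rw [Subgroup.mem_map_equiv, Subgroup.mem_centralizer_singleton_iff, Subgroup.mem_centralizer_singleton_iff,
      ← e.apply_eq_iff_eq, map_mul, map_mul, MulEquiv.apply_symm_apply]
  · obtain ⟨i⟩ := fix_alphaA_iso.1
    obtain ⟨f⟩ := hfix alphaA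
    have heq : (fixSub alpha).map e.toMonoidHom ⊓ Subgroup.centralizer ({a} : Set G) =
        (fixSub alphaA).map e.toMonoidHom := by
      rw [fix_alphaA, Subgroup.map_inf_eq _ _ _ e.injective]
      congr 1
      ext g
      rw [Subgroup.mem_map_equiv, Subgroup.mem_centralizer_singleton_iff, Subgroup.mem_centralizer_singleton_iff,
        ← e.apply_eq_iff_eq, map_mul, map_mul, MulEquiv.apply_symm_apply]
    exact ⟨(MulEquiv.subgroupCongr heq).trans (f.trans i)⟩
  · refine ⟨HAB.map e.toMonoidHom, coreO.map e.toMonoidHom, fun g => ?_, ?_, ⟨?_, ?_⟩, ?_, ?_⟩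
    · rw [← hAB, ← mem_map_fix e alphaAB g, fix_alphaAB.1]
    · -- the core of the image
      let f : ↥HAB ≃* ↥(HAB.map e.toMonoidHom) := e.subgroupMap HAB
      have hp : Cfsg.pCore 2 ↥(HAB.map e.toMonoidHom) = (Cfsg.pCore 2 ↥HAB).map f.toMonoidHom := by
        refine le_antisymm (sSup_le fun N ⟨hN, hN2⟩ => ?_) ?_
        · intro x hx
          refine ⟨f.symm x, ?_, f.apply_symm_apply x⟩
          have hle : N.map f.symm.toMonoidHom ≤ Cfsg.pCore 2 ↥HAB :=
            le_sSup (show N.map f.symm.toMonoidHom ∈ {M : Subgroup ↥HAB | M.Normal ∧ IsPGroup 2 M} from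
              ⟨hN.map _ f.symm.surjective, hN2.map _⟩)
          exact hle ⟨x, hx, rfl⟩
        · rw [Subgroup.map_le_iff_le_comap]
          refine sSup_le fun N ⟨hN, hN2⟩ => ?_
          rw [← Subgroup.map_le_iff_le_comap]
          exact le_sSup ⟨hN.map _ f.surjective, hN2.map _⟩
      rw [hp, Subgroup.map_map, pCore_fix_alphaAB, Subgroup.map_map]
      rfl
    · haveI := coreO_elem.1
      exact Subgroup.map_isMulCommutative _ _
    · rintro _ ⟨x, hx, rfl⟩
      rw [← map_pow, coreO_elem.2 x hx, map_one]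
    · rw [Subgroup.card_map_of_injective e.injective]; exact card_coreO
    · obtain ⟨hn, ⟨q⟩⟩ := core_quot
      let f : ↥HAB ≃* ↥(HAB.map e.toMonoidHom) := e.subgroupMap HAB
      have hmap : (coreO.subgroupOf HAB).map f.toMonoidHom =
          (coreO.map e.toMonoidHom).subgroupOf (HAB.map e.toMonoidHom) := by
        ext x
        obtain ⟨y, rfl⟩ := f.surjective x
        rw [Subgroup.mem_map_equiv, MulEquiv.symm_apply_apply, Subgroup.mem_subgroupOf, Subgroup.mem_subgroupOf]
        exact (Subgroup.mem_map_iff_mem e.injective).symm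
      have hn' : ((coreO.map e.toMonoidHom).subgroupOf (HAB.map e.toMonoidHom)).Normal :=
        hmap ▸ hn.map _ f.surjective
      exact ⟨hn', ⟨(QuotientGroup.congr _ _ f hmap).symm.trans q⟩⟩

end Cfsg.Agent.S5472
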