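import Cfsg.Statements.S5473
import Cfsg.Agent.Spor3T.M22AutExtra
import Cfsg.Agent.Spor3T.M22Iso
import Cfsg.Agent.Coset.Fi22Out.PairWitness

set_option autoImplicit false
open Cfsg

namespace Cfsg.Agent.S5473

/-- Let G be a finite group with trivial centre generated by a conjugation-invariant set D of 3-transpositions on which it acts primitively, such that for some d in D the subgroup generated by the members of D other than d commuting with d has central largest normal 2- and 3-subgroups, and suppose G with D is of type M(22), and let A be the automorphism group of G. Let d₁, d₂ be distinct commuting members of D and j the inner automorphism of their product. Then the generalized Fitting subgroup Q of the centralizer of j in A is a large extraspecial 2-subgroup of A of order 2^11 (extraspecial; centralizer equal to its centre; normal in the centralizer of its centre; normalizing no non-trivial odd-order subgroup),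 and the centralizer of j modulo Q is isomorphic to the full automorphism group of the projective special unitary group of dimension 4 over the field with four elements. -/
theorem result {G : Type*} [Group G] [Finite G] {D : Set G} (hD : Cfsg.IsThreeTranspositionGroup D) (hprim : Cfsg.IsPrimitiveUnderConj D) (d₀ : G) (hd₀ : d₀ ∈ D) (h3 : Cfsg.pCore 3 ↥(Subgroup.closure {y : G | y ∈ D ∧ y ≠ d₀ ∧ Commute d₀ y}) ≤ Subgroup.center ↥(Subgroup.closure {y : G | y ∈ D ∧ y ≠ d₀ ∧ Commute d₀ y})) (h2 : Cfsg.pCore 2 ↥(Subgroup.closure {y : G | y ∈ D ∧ y ≠ d₀ ∧ Commute d₀ y}) ≤ Subgroup.center ↥(Subgroup.closure {y : G | y ∈ D ∧ y ≠ d₀ ∧ Commute d₀ y})) (h22 : Cfsg.IsOfTypeM22 G D) (d₁ d₂ : G) (h₁ : d₁ ∈ D) (h₂ : d₂ ∈ D) (hne : d₁ ≠ d₂) (hc : Commute d₁ d₂) (j : MulAut G) (hj : j = MulAut.conj (d₁ * d₂)) (Q : Subgroup (MulAut G)) (hQ : Q = (Cfsg.generalizedFittingSubgroup ↥(Subgroup.centralizer ({j} : Set (MulAut G)))).map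 (Subgroup.centralizer ({j} : Set (MulAut G))).subtype) : Cfsg.IsLargeExtraspecial Q ∧ Nat.card Q = 2 ^ 11 ∧ Q ≤ Subgroup.centralizer ({j} : Set (MulAut G)) ∧ ∃ (_ : (Q.subgroupOf (Subgroup.centralizer ({j} : Set (MulAut G)))).Normal) (F : Type) (_ : Field F) (_ : Fintype F), Fintype.card F = 4 ∧ Nonempty (↥(Subgroup.centralizer ({j} : Set (MulAut G))) ⧸ Q.subgroupOf (Subgroup.centralizer ({j} : Set (MulAut G))) ≃* MulAut (Cfsg.PSU 4 F 2)) := by
  have h := CfsgLib.ThreeT.Prod.geo22 hD hprim h22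
  open CfsgLib.ThreeT.Prod in
  obtain ⟨e, he⟩ := exists_iso_fi22 hD hprim h22
  open CfsgLib.ThreeT.Prod in
  obtain ⟨a₀, b₀, x, k, ha₀, hb₀, hne₀, hc₀, w₀⟩ := CfsgLib.Coset.Fi22Out.exists_witness
  have hA : e a₀ ∈ D := he ▸ ⟨a₀, ha₀, rfl⟩
  have hB : e b₀ ∈ CfsgLib.ThreeT.Prod.nb D (e a₀) :=
    ⟨he ▸ ⟨b₀, hb₀, rfl⟩, fun r => hne₀ (e.injective r).symm, hc₀.map e.toMonoidHom⟩
  -- a conjugation onto the given pair
  obtain ⟨g₁, hg₁⟩ := hprim.1 (e a₀) hA d₁ h₁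
  have hb₁ : d₂ ∈ CfsgLib.ThreeT.Prod.nb D d₁ := ⟨h₂, hne.symm, hc⟩
  open CfsgLib.ThreeT in
  have hn₁ := Prod.nb_conj h.tt hB.1 hB.2.1 hB.2.2 hg₁
  obtain ⟨g₂, hg₂, e₂⟩ := h.near d₁ h₁ _ hn₁ d₂ hb₁
  let e' : Cfsg.Spor.Fi22 ≃* G := e.trans (MulAut.conj (g₂ * g₁))
  have he' : e' '' conjugatesOf CfsgLib.Coset.Fi22.t = D := by
    ext y
    constructor
    · rintro ⟨z, hz, rfl⟩
      exact hD.2.1 _ _ (he ▸ ⟨z, hz, rfl⟩)
    · intro hy
      obtain ⟨z, hz, hzy⟩ := he.symm ▸ hD.2.1 (g₂ * g₁)⁻¹ y hy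
      refine ⟨z, hz, ?_⟩
      simp only [e', MulEquiv.trans_apply, MulAut.conj_apply, hzy]
      group
  have hea : e' a₀ = d₁ := by
    show g₂ * g₁ * e a₀ * (g₂ * g₁)⁻¹ = d₁
    rw [show g₂ * g₁ * e a₀ * (g₂ * g₁)⁻¹ = g₂ * (g₁ * e a₀ * g₁⁻¹) * g₂⁻¹ by group, hg₁,
      (CfsgLib.ThreeT.Prod.commute_hsub hg₂).eq, mul_inv_cancel_right]
  have heb : e' b₀ = d₂ := by
    show g₂ * g₁ * e b₀ * (g₂ * g₁)⁻¹ = d₂
    rw [show g₂ * g₁ * e b₀ * (g₂ * g₁)⁻¹ = g₂ * (g₁ * e b₀ * g₁⁻¹) * g₂⁻¹ by group]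
    exact e₂
  have w := w₀.map e' he'
  rw [hea, heb] at w
  subst hj
  obtain ⟨Q', hl, hcQ, hF, hQC, hq⟩ :=
    CfsgLib.ThreeT.Prod.aut_large h w hprim h22 h₁ hb₁
  rw [hF] at hQ
  subst hQ
  exact ⟨hl, hcQ, hQC, hq⟩

end Cfsg.Agent.S5473
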