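import Cfsg.Statements.S5514
import Cfsg.Agent.O73Three.Main

set_option autoImplicit false
open Cfsg

namespace Cfsg.Agent.S5514

/-- The commutator subgroup of the isometry group of a non-degenerate 7-dimensional quadratic form over the field with three elements, modulo its (trivial) centre — the simple group Ω(7, 3) — has exactly seven conjugacy classes of subgroups of order 3. -/
theorem result : ∃ Y : Fin 7 → Subgroup (Cfsg.POmega (ZMod 3) (Cfsg.quadFormOdd 3 (ZMod 3))), (∀ i, Nat.card (Y i) = 3) ∧ (∀ i j, (∃ g : Cfsg.POmega (ZMod 3) (Cfsg.quadFormOdd 3 (ZMod 3)), (Y i).map (MulAut.conj g).toMonoidHom = Y j) → i = j) ∧ (∀ X : Subgroup (Cfsg.POmega (ZMod 3) (Cfsg.quadFormOdd 3 (ZMod 3))), Nat.card X = 3 → ∃ i, ∃ g : Cfsg.POmega (ZMod 3) (Cfsg.quadFormOdd 3 (ZMod 3)), X.map (MulAut.conj g).toMonoidHom = Y i) := by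
  obtain ⟨e⟩ := CfsgLib.Coset.O73.nonempty_equiv
  obtain ⟨Y, h1, h2, h3⟩ := CfsgLib.O73Three.classes_P
  have key : ∀ (A B : Subgroup CfsgLib.Coset.O73.P) (g : CfsgLib.Coset.O73.P),
      (A.map e.toMonoidHom).map (MulAut.conj (e g)).toMonoidHom = B.map e.toMonoidHom ↔
        A.map (MulAut.conj g).toMonoidHom = B := fun A B g => by
    have hc : (A.map e.toMonoidHom).map (MulAut.conj (e g)).toMonoidHom =
        (A.map (MulAut.conj g).toMonoidHom).map e.toMonoidHom := by
      rw [Subgroup.map_map, Subgroup.map_map]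
      congr 1
      ext x
      simp [MulAut.conj_apply]
    rw [hc]
    exact (Subgroup.map_injective (f := e.toMonoidHom) e.injective).eq_iff
  refine ⟨fun i => (Y i).map e.toMonoidHom, fun i => ?_, fun i j ⟨g, hg⟩ => ?_, fun X hX => ?_⟩
  · rw [Subgroup.card_map_of_injective e.injective]; exact h1 i
  · obtain ⟨g, rfl⟩ := e.surjective g
    exact h2 i j ⟨g, (key _ _ g).mp hg⟩
  · have hsX : (X.comap e.toMonoidHom).map e.toMonoidHom = X :=
      Subgroup.map_comap_eq_self_of_surjective e.surjective X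
    obtain ⟨i, g, hg⟩ := h3 (X.comap e.toMonoidHom)
      (by rw [← Subgroup.card_map_of_injective (f := e.toMonoidHom) e.injective, hsX]; exact hX)
    refine ⟨i, e g, ?_⟩
    rw [← hsX]
    exact (key _ _ g).mpr hg

end Cfsg.Agent.S5514
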