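import Cfsg.Statements.S5515
import Cfsg.Agent.AutPOm.EightOut
import Cfsg.Agent.S0296
import Cfsg.Agent.S1265

set_option autoImplicit false
open Cfsg

namespace Cfsg.Agent.S5515

/-- In the symmetric group of degree four, subgroups of order six are conjugate. -/
theorem exists_conj_perm_four (A B : Subgroup (Equiv.Perm (Fin 4))) (hA : Nat.card A = 6)
    (hB : Nat.card B = 6) :
    ∃ g : Equiv.Perm (Fin 4), A.map (MulAut.conj g).toMonoidHom = B := by
  classical
  have hN : ∀ x : Equiv.Perm (Fin 4), x ^ 3 = 1 → x ≠ 1 →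
      (Finset.univ.filter fun g : Equiv.Perm (Fin 4) =>
        g * x = x * g ∨ g * x = x ^ 2 * g).card = 6 := by decide +kernel
  have hC : ∀ x : Equiv.Perm (Fin 4), x ^ 3 = 1 → x ≠ 1 → ∀ y : Equiv.Perm (Fin 4), y ^ 3 = 1 →
      y ≠ 1 → ∃ g : Equiv.Perm (Fin 4), g * x = y * g := by decide +kernel
  have key : ∀ K : Subgroup (Equiv.Perm (Fin 4)), Nat.card K = 6 →
      ∃ x : Equiv.Perm (Fin 4), x ^ 3 = 1 ∧ x ≠ 1 ∧
        ∀ g, g ∈ K ↔ (g * x = x * g ∨ g * x = x ^ 2 * g) := by
    intro K hK
    haveI : Fact (Nat.Prime 3) := ⟨Nat.prime_three⟩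
    obtain ⟨x, hx⟩ := exists_prime_orderOf_dvd_card' (G := ↥K) 3 (by rw [hK]; norm_num)
    have hx' : orderOf (x : Equiv.Perm (Fin 4)) = 3 := by rw [Subgroup.orderOf_coe, hx]
    have h3 : (x : Equiv.Perm (Fin 4)) ^ 3 = 1 := by rw [← hx']; exact pow_orderOf_eq_one _
    have h1 : (x : Equiv.Perm (Fin 4)) ≠ 1 := by
      intro h
      rw [h, orderOf_one] at hx'
      omega
    refine ⟨x, h3, h1, ?_⟩
    set S := Finset.univ.filter fun g : Equiv.Perm (Fin 4) =>
      g * (x : Equiv.Perm (Fin 4)) = x * g ∨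
        g * (x : Equiv.Perm (Fin 4)) = (x : Equiv.Perm (Fin 4)) ^ 2 * g with hS
    have hidx : (Subgroup.zpowers x).index = 2 := by
      have h := (Subgroup.zpowers x).card_mul_index
      rw [hK, Nat.card_zpowers, hx] at h
      omega
    have hnorm := Subgroup.normal_of_index_eq_two hidx
    have hsub : (Finset.univ.filter fun g => g ∈ K) ⊆ S := by
      intro g hg
      rw [Finset.mem_filter] at hg
      have hmem := hnorm.conj_mem x (Subgroup.mem_zpowers x) ⟨g, hg.2⟩
      rw [mem_zpowers_iff_mem_range_orderOf, hx] at hmem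
      obtain ⟨i, hi, hig⟩ := Finset.mem_image.1 hmem
      rw [Finset.mem_range] at hi
      have hig' : (x : Equiv.Perm (Fin 4)) ^ i = g * x * g⁻¹ := by
        have := congrArg (fun k : ↥K => (k : Equiv.Perm (Fin 4))) hig
        simpa using this
      rw [hS, Finset.mem_filter]
      refine ⟨Finset.mem_univ g, ?_⟩
      rcases (by omega : i = 0 ∨ i = 1 ∨ i = 2) with rfl | rfl | rfl
      · exfalso
        rw [pow_zero, eq_comm, mul_inv_eq_one] at hig'
        exact h1 (mul_left_cancel (hig'.trans (mul_one g).symm))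
      · left
        rw [pow_one] at hig'
        calc g * (x : Equiv.Perm (Fin 4)) = g * x * g⁻¹ * g := by group
          _ = x * g := by rw [← hig']
      · right
        calc g * (x : Equiv.Perm (Fin 4)) = g * x * g⁻¹ * g := by group
          _ = (x : Equiv.Perm (Fin 4)) ^ 2 * g := by rw [← hig']
    have heq : (Finset.univ.filter fun g => g ∈ K) = S := by
      refine Finset.eq_of_subset_of_card_le hsub ?_
      rw [hS, hN _ h3 h1, ← hK, Nat.card_eq_fintype_card, Fintype.card_subtype]
    intro g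
    have h := Finset.ext_iff.1 heq g
    rw [hS] at h
    simpa using h
  obtain ⟨x, hx3, hx1, hxA⟩ := key A hA
  obtain ⟨y, hy3, hy1, hyB⟩ := key B hB
  obtain ⟨g, hg⟩ := hC x hx3 hx1 y hy3 hy1
  refine ⟨g, ?_⟩
  have hg' : y = g * x * g⁻¹ := by rw [hg]; group
  subst hg'
  ext z
  rw [Subgroup.mem_map_equiv, hxA, hyB]
  simp only [MulAut.conj_symm_apply]
  constructor
  · rintro (h | h)
    · left
      calc z * (g * x * g⁻¹) = g * (g⁻¹ * z * g * x) * g⁻¹ := by group
        _ = g * (x * (g⁻¹ * z * g)) * g⁻¹ := by rw [h]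
        _ = g * x * g⁻¹ * z := by group
    · right
      calc z * (g * x * g⁻¹) = g * (g⁻¹ * z * g * x) * g⁻¹ := by group
        _ = g * (x ^ 2 * (g⁻¹ * z * g)) * g⁻¹ := by rw [h]
        _ = (g * x * g⁻¹) ^ 2 * z := by rw [conj_pow]; group
  · rintro (h | h)
    · left
      calc g⁻¹ * z * g * x = g⁻¹ * (z * (g * x * g⁻¹)) * g := by group
        _ = g⁻¹ * (g * x * g⁻¹ * z) * g := by rw [h]
        _ = x * (g⁻¹ * z * g) := by group
    · right
      calc g⁻¹ * z * g * x = g⁻¹ * (z * (g * x * g⁻¹)) * g := by group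
        _ = g⁻¹ * ((g * x * g⁻¹) ^ 2 * z) * g := by rw [h]
        _ = x ^ 2 * (g⁻¹ * z * g) := by rw [conj_pow]; group

/-- A group with trivial centraliser of a normal subgroup `N ≅ L` embeds into `Aut L`, and covers
exactly `|G/N|` outer classes. -/
theorem exists_embedding {G L : Type*} [Group G] [Finite G] [Group L] (N : Subgroup G) [N.Normal]
    (e : ↥N ≃* L) (hC : Subgroup.centralizer (N : Set G) = ⊥) :
    ∃ θ : G →* MulAut L, Function.Injective θ ∧ Cfsg.Inn L ≤ θ.range ∧
      Nat.card ↥(θ.range.map (QuotientGroup.mk' (Cfsg.Inn L))) = N.index := by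
  let θ : G →* MulAut L := (MulAut.congr e).toMonoidHom.comp (MulAut.conjNormal (H := N))
  have happ : ∀ g n, θ g (e n) = e (MulAut.conjNormal g n) := fun g n => by
    simp [θ, MulAut.congr]
  have hinn : ∀ n : ↥N, θ (n : G) = MulAut.conj (e n) := by
    intro n
    refine MulEquiv.ext fun l => ?_
    obtain ⟨m, rfl⟩ := e.surjective l
    rw [happ, MulAut.conjNormal_val, MulAut.conj_apply, MulAut.conj_apply, map_mul, map_mul,
      map_inv]
  have hinj : Function.Injective θ := by
    rw [injective_iff_map_eq_one]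
    intro g hg
    have hmem : g ∈ Subgroup.centralizer (N : Set G) := by
      rw [Subgroup.mem_centralizer_iff]
      intro m hm
      have h := happ g ⟨m, hm⟩
      rw [hg, MulAut.one_apply] at h
      have h' : g * m * g⁻¹ = m := by
        have := congrArg (fun k : ↥N => (k : G)) (e.injective h).symm
        rwa [MulAut.conjNormal_apply] at this
      calc m * g = g * m * g⁻¹ * g := by rw [h']
        _ = g * m := by group
    rw [hC, Subgroup.mem_bot] at hmem
    exact hmem
  have hle : Cfsg.Inn L ≤ θ.range := by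
    rintro _ ⟨l, rfl⟩
    exact ⟨(e.symm l : G), by rw [hinn, MulEquiv.apply_symm_apply]⟩
  refine ⟨θ, hinj, hle, ?_⟩
  have hk : ((QuotientGroup.mk' (Cfsg.Inn L)).comp θ).ker = N := by
    ext g
    rw [MonoidHom.mem_ker, MonoidHom.comp_apply, QuotientGroup.mk'_apply,
      QuotientGroup.eq_one_iff]
    constructor
    · rintro ⟨l, hl⟩
      obtain ⟨n, rfl⟩ := e.surjective l
      rw [← hinn] at hl
      rw [← hinj hl]
      exact n.2
    · intro hg
      exact ⟨e ⟨g, hg⟩, (hinn ⟨g, hg⟩).symm⟩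
  rw [MonoidHom.map_range, ← Nat.card_congr
    (QuotientGroup.quotientKerEquivRange ((QuotientGroup.mk' (Cfsg.Inn L)).comp θ)).toEquiv]
  rw [← Subgroup.index_eq_card, hk]

/-- Two extensions of `L` by a group of order six are isomorphic when `Out L ≅ S₄`. -/
theorem iso_of_out_perm_four {G G' L : Type*} [Group G] [Finite G] [Group G'] [Finite G'] [Group L]
    (N : Subgroup G) [N.Normal] (e : ↥N ≃* L) (hC : Subgroup.centralizer (N : Set G) = ⊥)
    (hi : N.index = 6)
    (N' : Subgroup G') [N'.Normal] (e' : ↥N' ≃* L)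
    (hC' : Subgroup.centralizer (N' : Set G') = ⊥) (hi' : N'.index = 6)
    (o : Cfsg.Out L ≃* Equiv.Perm (Fin 4)) : Nonempty (G ≃* G') := by
  obtain ⟨θ, hθ, hI, hc⟩ := exists_embedding N e hC
  obtain ⟨θ', hθ', hI', hc'⟩ := exists_embedding N' e' hC'
  let q : MulAut L →* Equiv.Perm (Fin 4) := o.toMonoidHom.comp (QuotientGroup.mk' (Cfsg.Inn L))
  have hq : Function.Surjective q := o.surjective.comp (QuotientGroup.mk'_surjective _)
  have hker : q.ker = Cfsg.Inn L := by
    ext φ
    simp [q, QuotientGroup.eq_one_iff]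
  have hcard : ∀ R : Subgroup (MulAut L),
      Nat.card ↥(R.map (QuotientGroup.mk' (Cfsg.Inn L))) = 6 → Nat.card ↥(R.map q) = 6 := by
    intro R hR
    rw [← Subgroup.map_map, ← Nat.card_congr (Subgroup.equivMapOfInjective _ _ o.injective).toEquiv]
    exact hR
  obtain ⟨g, hg⟩ := exists_conj_perm_four _ _ (hcard _ (hc.trans hi)) (hcard _ (hc'.trans hi'))
  obtain ⟨φ, rfl⟩ := hq g
  have himg : (θ.range.map (MulAut.conj φ).toMonoidHom).map q = θ'.range.map q := by
    rw [← hg, Subgroup.map_map, Subgroup.map_map]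
    congr 1
    ext ψ : 1
    simp
  have hle : q.ker ≤ θ.range.map (MulAut.conj φ).toMonoidHom := by
    intro ψ hψ
    have hn := (MonoidHom.normal_ker q).conj_mem ψ hψ φ⁻¹
    rw [hker] at hn
    refine ⟨_, hI hn, ?_⟩
    simp [mul_assoc]
  have hkey : θ.range.map (MulAut.conj φ).toMonoidHom = θ'.range := by
    have h := congrArg (Subgroup.comap q) himg
    rwa [Subgroup.comap_map_eq_self hle, Subgroup.comap_map_eq_self (by rw [hker]; exact hI')]
      at h
  exact ⟨(MonoidHom.ofInjective hθ).trans ((Subgroup.equivMapOfInjective θ.range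
    (MulAut.conj φ).toMonoidHom (MulAut.conj φ).injective).trans
    ((MulEquiv.subgroupCongr hkey).trans (MonoidHom.ofInjective hθ').symm))⟩


theorem index_eq_six {G : Type*} [Group G] {N : Subgroup G} [N.Normal]
    (q : G ⧸ N ≃* Equiv.Perm (Fin 3)) : N.index = 6 := by
  rw [Subgroup.index_eq_card, Nat.card_congr q.toEquiv, Nat.card_perm, Nat.card_fin]
  rfl

theorem centralizer_eq_bot {G : Type*} [Group G] [Finite G]
    [(Cfsg.generalizedFittingSubgroup G).Normal]
    [IsSimpleGroup (Cfsg.POmega (ZMod 3) (Cfsg.quadFormPlus 4 (ZMod 3)))]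
    (e : ↥(Cfsg.generalizedFittingSubgroup G) ≃*
      Cfsg.POmega (ZMod 3) (Cfsg.quadFormPlus 4 (ZMod 3))) :
    Subgroup.centralizer (Cfsg.generalizedFittingSubgroup G : Set G) = ⊥ := by
  haveI : Fact (Nat.Prime 3) := ⟨Nat.prime_three⟩
  set L := Cfsg.POmega (ZMod 3) (Cfsg.quadFormPlus 4 (ZMod 3))
  have hle := Cfsg.Agent.S1265.result (G := G)
  have hnab : ¬ ∀ a b : L, a * b = b * a := by
    intro hab
    haveI : Finite L := Finite.of_equiv _ e.toEquiv
    letI : CommGroup L := { (inferInstance : Group L) with mul_comm := hab }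
    have hp : (Nat.card L).Prime := IsSimpleGroup.prime_card
    obtain ⟨o⟩ := (CfsgLib.AutPOm.out_plus_four (F := ZMod 3) (p := 3) (f := 1) le_rfl
      (by rw [Nat.card_zmod, pow_one])).2 (by norm_num)
    haveI : Fact (Nat.card L).Prime := ⟨hp⟩
    haveI : IsCyclic L := isCyclic_of_prime_card rfl
    have hcomm : ∀ a b : Cfsg.Out L, a * b = b * a := by
      intro a b
      obtain ⟨a, rfl⟩ := QuotientGroup.mk'_surjective (Cfsg.Inn L) a
      obtain ⟨b, rfl⟩ := QuotientGroup.mk'_surjective (Cfsg.Inn L) b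
      obtain ⟨z, hz⟩ := IsCyclic.exists_generator (α := L)
      have : a * b = b * a := by
        refine MulEquiv.ext fun x => ?_
        obtain ⟨i, hi⟩ := Subgroup.mem_zpowers_iff.1 (hz (a z))
        obtain ⟨j, hj⟩ := Subgroup.mem_zpowers_iff.1 (hz (b z))
        obtain ⟨k, rfl⟩ := Subgroup.mem_zpowers_iff.1 (hz x)
        simp only [MulAut.mul_apply, map_zpow]
        rw [← hi, ← hj]
        simp only [map_zpow]
        simp only [← hi, ← hj, ← zpow_mul]
        congr 1
        ring
      rw [← map_mul, ← map_mul, this]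
    have h2 : ∀ a b : Equiv.Perm (Fin 4) × Multiplicative (ZMod 1), a * b = b * a := fun a b => by
      obtain ⟨a, rfl⟩ := o.surjective a
      obtain ⟨b, rfl⟩ := o.surjective b
      rw [← map_mul, ← map_mul, hcomm]
    have h3 := congrArg Prod.fst
      (h2 (Equiv.swap 0 1, 1) (Equiv.swap 1 2, 1))
    exact absurd h3 (by decide)
  rcases Subgroup.Normal.eq_bot_or_eq_top
      (inferInstance : (Subgroup.center L).Normal) with h | h
  · rw [Subgroup.eq_bot_iff_forall]
    intro g hg
    have hc : e ⟨g, hle hg⟩ ∈ Subgroup.center L := by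
      rw [Subgroup.mem_center_iff]
      intro b
      obtain ⟨b, rfl⟩ := e.surjective b
      rw [← map_mul, ← map_mul]
      exact congrArg e (Subtype.ext (Subgroup.mem_centralizer_iff.1 hg _ b.2))
    rw [h, Subgroup.mem_bot, MulEquiv.map_eq_one_iff] at hc
    exact congrArg Subtype.val hc
  · exact absurd (fun a b => Subgroup.mem_center_iff.1 (h ▸ Subgroup.mem_top b) a) hnab

/-- Let G and G′ be finite groups whose generalized Fitting subgroups are isomorphic to PΩ⁺(8, 3) (the commutator subgroup of the isometry group of the hyperbolic quadratic form in dimension 8 over the field with three elements, modulo its centre) with quotients isomorphic to the symmetric group of degree 3. Then G and G′ are isomorphic. -/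
theorem result {G G' : Type*} [Group G] [Finite G] [Group G'] [Finite G'] (hF : Nonempty (↥(Cfsg.generalizedFittingSubgroup G) ≃* Cfsg.POmega (ZMod 3) (Cfsg.quadFormPlus 4 (ZMod 3)))) (hF' : Nonempty (↥(Cfsg.generalizedFittingSubgroup G') ≃* Cfsg.POmega (ZMod 3) (Cfsg.quadFormPlus 4 (ZMod 3)))) [hn : (Cfsg.generalizedFittingSubgroup G).Normal] [hn' : (Cfsg.generalizedFittingSubgroup G').Normal] (hq : Nonempty (G ⧸ Cfsg.generalizedFittingSubgroup G ≃* Equiv.Perm (Fin 3))) (hq' : Nonempty (G' ⧸ Cfsg.generalizedFittingSubgroup G' ≃* Equiv.Perm (Fin 3))) : Nonempty (G ≃* G') := by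
  haveI : Fact (Nat.Prime 3) := ⟨Nat.prime_three⟩
  obtain ⟨e⟩ := hF
  obtain ⟨e'⟩ := hF'
  obtain ⟨q⟩ := hq
  obtain ⟨q'⟩ := hq'
  haveI hS : IsSimpleGroup (Cfsg.POmega (ZMod 3) (Cfsg.quadFormPlus 4 (ZMod 3))) :=
    Cfsg.Agent.S0296.result 4 le_rfl
  obtain ⟨o⟩ := (CfsgLib.AutPOm.out_plus_four (F := ZMod 3) (p := 3) (f := 1) le_rfl
    (by rw [Nat.card_zmod, pow_one])).2 (by norm_num)
  haveI : Subsingleton (Multiplicative (ZMod 1)) := inferInstanceAs (Subsingleton (ZMod 1))
  let o' := o.trans (MulEquiv.prodUnique (M := Equiv.Perm (Fin 4)) (N := Multiplicative (ZMod 1)))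
  exact iso_of_out_perm_four _ e (centralizer_eq_bot e) (index_eq_six q) _ e'
    (centralizer_eq_bot e') (index_eq_six q') o'

end Cfsg.Agent.S5515
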