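import Cfsg.Statements.S5517
import Cfsg.Agent.Spor3T.M22Transport
import Cfsg.Agent.Coset.O73.InFi22

set_option autoImplicit false
open Cfsg

namespace Cfsg.Agent.S5517

/-- Let G be a finite group with trivial centre generated by a conjugation-invariant set D of 3-transpositions on which it acts primitively, such that for some d in D the subgroup generated by the members of D other than d commuting with d has central largest normal 2- and 3-subgroups, and suppose G with D is of type M(22). Then G has a subgroup L generated by the members of D it contains and isomorphic to Ω(7, 3) (the commutator subgroup of the isometry group of a non-degenerate 7-dimensional quadratic form over the field with three elements, modulo its centre), and every Sylow 3-subgroup of L is a Sylow 3-subgroup of G. -/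
theorem result {G : Type*} [Group G] [Finite G] {D : Set G} (hD : Cfsg.IsThreeTranspositionGroup D) (hprim : Cfsg.IsPrimitiveUnderConj D) (d₀ : G) (hd₀ : d₀ ∈ D) (h3 : Cfsg.pCore 3 ↥(Subgroup.closure {y : G | y ∈ D ∧ y ≠ d₀ ∧ Commute d₀ y}) ≤ Subgroup.center ↥(Subgroup.closure {y : G | y ∈ D ∧ y ≠ d₀ ∧ Commute d₀ y})) (h2 : Cfsg.pCore 2 ↥(Subgroup.closure {y : G | y ∈ D ∧ y ≠ d₀ ∧ Commute d₀ y}) ≤ Subgroup.center ↥(Subgroup.closure {y : G | y ∈ D ∧ y ≠ d₀ ∧ Commute d₀ y})) (h22 : Cfsg.IsOfTypeM22 G D) : ∃ L : Subgroup G, Cfsg.IsDSubgroup D L ∧ Nonempty (↥L ≃* Cfsg.POmega (ZMod 3) (Cfsg.quadFormOdd 3 (ZMod 3))) ∧ ∀ P : Sylow 3 ↥L, ∃ P' : Sylow 3 G, (P : Subgroup ↥L).map L.subtype = (P' : Subgroup G) := by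
  obtain ⟨e, he⟩ := CfsgLib.ThreeT.Prod.exists_iso_fi22 hD hprim h22
  have := CfsgLib.Coset.Fi22.card_le.1
  set T := CfsgLib.Coset.genBy CfsgLib.Coset.Fi22.Lg [1, 2, 3, 4, 5, 6, 7, 8] with hT
  obtain ⟨f⟩ := CfsgLib.Coset.O73.nonempty_in_Fi22
  refine ⟨T.map e.toMonoidHom, ?_, ⟨(e.subgroupMap T).symm.trans f⟩, fun P => ?_⟩
  · refine le_antisymm ((Subgroup.closure_le _).2 fun d hd => hd.2) ?_
    rw [hT, CfsgLib.Coset.genBy, MonoidHom.map_closure]
    refine Subgroup.closure_mono ?_
    rintro _ ⟨x, hx, rfl⟩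
    refine ⟨?_, Subgroup.subset_closure ⟨x, hx, rfl⟩⟩
    rw [← he]
    refine ⟨x, ?_, rfl⟩
    obtain ⟨l, hl, rfl⟩ := List.mem_map.1 hx
    exact CfsgLib.ThreeT.Prod.fi22_gen_conj (by
      simp only [List.mem_cons, List.not_mem_nil, or_false] at hl; omega)
  · have hcard : Nat.card ↥((P : Subgroup ↥(T.map e.toMonoidHom)).map (T.map e.toMonoidHom).subtype) =
        3 ^ (Nat.card G).factorization 3 := by
      rw [Subgroup.card_map_of_injective (Subgroup.subtype_injective _), Sylow.card_eq_multiplicity,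
        Subgroup.card_map_of_injective e.injective, ← Nat.card_congr e.toEquiv,
        CfsgLib.Coset.Fi22.card_and_injective.1]
      have hc : Nat.card ↥T = 4585351680 := by
        have h := Subgroup.card_mul_index T
        rw [CfsgLib.Coset.Fi22.index_T, CfsgLib.Coset.Fi22.card_and_injective.1] at h
        omega
      rw [hc]
      congr 1
      haveI : Fact (Nat.Prime 3) := ⟨Nat.prime_three⟩
      rw [Nat.factorization_def _ Nat.prime_three, Nat.factorization_def _ Nat.prime_three,
        show (4585351680 : ℕ) = 3 ^ 9 * 232960 by norm_num,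
        show (64561751654400 : ℕ) = 3 ^ 9 * 3280076800 by norm_num,
        padicValNat.mul (by norm_num) (by norm_num), padicValNat.mul (by norm_num) (by norm_num),
        padicValNat.eq_zero_of_not_dvd (show ¬ 3 ∣ 232960 by norm_num),
        padicValNat.eq_zero_of_not_dvd (show ¬ 3 ∣ 3280076800 by norm_num)]
    exact ⟨Sylow.ofCard _ hcard, rfl⟩

end Cfsg.Agent.S5517
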