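import Cfsg.Statements.S5518
import Cfsg.Agent.Spor3T.M24G2
import Cfsg.Agent.Spor3T.PairNorm
import Cfsg.Agent.Spor3T.M24Far

set_option autoImplicit false
open Cfsg

namespace Cfsg.Agent.S5518

open CfsgLib.ThreeT CfsgLib.ThreeT.Prod

theorem pair_six {G : Type*} [Group G] [Finite G] {D : Set G} {d : G} (P : Point24 D d) {a e : G} (ha : a ∈ D)
    (he : e ∈ D) (hae : ¬ Commute a e) :
    Nat.card ↥(Subgroup.closure ({a, e} : Set G)) = 6 ∧
      ∀ x ∈ Subgroup.closure ({a, e} : Set G), Commute x a → Commute x e → x = 1 := by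
  obtain ⟨hK, hZ⟩ := pair_centralizer24 P ha he hae
  obtain ⟨-, hbot, -⟩ := Pair.normalizer_eq (pre24 P) arith24 ha he hae hK hZ
  have h1 : ∀ x ∈ Subgroup.closure ({a, e} : Set G), Commute x a → Commute x e → x = 1 := by
    intro x hx xa xe
    have : x ∈ Subgroup.closure ({a, e} : Set G) ⊓ Subgroup.closure (tri D a e) := by
      exact ⟨hx, hK ▸ mem_pair_centralizer.2 ⟨xa, xe⟩⟩
    rwa [hbot, Subgroup.mem_bot] at this
  obtain ⟨ε⟩ := Pair.pair_equiv_perm (pre24 P) arith24 ha he hae h1
  refine ⟨?_, h1⟩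
  rw [Nat.card_congr ε.toEquiv, Nat.card_perm, Nat.card_fin]
  rfl

theorem member_data {G : Type*} [Group G] [Finite G] {D : Set G} {p : G} (P : Point24 D p) {a b c d : G}
    (ha : a ∈ D) (hb : b ∈ nb D a) (hc : c ∈ nb D a) (hd : d ∈ nb D b) (hbc : ¬ Commute b c) (had : ¬ Commute a d)
    {B : Subgroup G} (hB : Nat.card B = 13) (hBK : B ≤ Subgroup.centralizer ({a, b, c, d} : Set G)) :
    Subgroup.normalizer ((B : Subgroup G) : Set G) ≤
        Subgroup.normalizer ((Subgroup.centralizer ({a, b, c, d} : Set G) : Subgroup G) : Set G) ∧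
      Nat.card ↥(Subgroup.centralizer ({a, b, c, d} : Set G) ⊓ Subgroup.normalizer ((B : Subgroup G) : Set G)) = 78 ∧
      Subgroup.centralizer ({a, b, c, d} : Set G) ⊓ Subgroup.centralizer ((B : Subgroup G) : Set G) = B ∧
      (((Subgroup.centralizer ({a, b, c, d} : Set G) ⊓ Subgroup.normalizer ((B : Subgroup G) : Set G)) ⊔
        Subgroup.closure ({a, b, c, d} : Set G)).subgroupOf (Subgroup.normalizer ((B : Subgroup G) : Set G))).index = 2 := by
  have hT := P.base.tt
  set W := Subgroup.centralizer ({a, b, c, d} : Set G) with hW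
  set T := Subgroup.closure ({a, b, c, d} : Set G) with hTdef
  set N := Subgroup.normalizer ((B : Subgroup G) : Set G)
  have hmem : ∀ y ∈ ({a, b, c, d} : Set G), y ∈ Subgroup.centralizer (B : Set G) := fun y hy x hx =>
    ((Subgroup.mem_centralizer_iff.1 (hBK hx)) y hy).symm
  obtain ⟨hcd, hΦ, hN, hCW, hNW⟩ := thirteen_six24 P hB (a := a) (b := b) (c := c) (e := d)
    ⟨ha, hmem a (by simp)⟩ ⟨hb, hmem b (by simp)⟩ ⟨hc, hmem c (by simp)⟩ ⟨hd, hmem d (by simp)⟩ hbc had
  have hsix : ∀ y ∈ D ∩ (Subgroup.centralizer (B : Set G) : Set G), y ∈ T := by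
    intro y hy
    rw [hΦ] at hy
    have h : ∀ z ∈ ({a, b, c, d} : Set G), z ∈ T := fun z hz => Subgroup.subset_closure hz
    rcases hy with (rfl | rfl | rfl) | (rfl | rfl | rfl)
    exacts [h _ (by simp), h _ (by simp), mul_mem (mul_mem (h _ (by simp)) (h _ (by simp))) (h _ (by simp)),
      h _ (by simp), h _ (by simp), mul_mem (mul_mem (h _ (by simp)) (h _ (by simp))) (h _ (by simp))]
  have hgenD : ∀ y ∈ ({a, b, c, d} : Set G), y ∈ D := by
    rintro y (rfl | rfl | rfl | rfl)
    exacts [ha, hb.1, hc.1, hd.1]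
  -- the normaliser keeps the six
  have hNT : ∀ g ∈ N, ∀ y ∈ T, g * y * g⁻¹ ∈ T := by
    intro g hg y hy
    have hle : T ≤ T.comap (MulAut.conj g).toMonoidHom := (Subgroup.closure_le _).2 fun z hz =>
      hsix _ ⟨hT.conj g z (hgenD z hz), norm_cent_mem hg (hmem z hz)⟩
    exact hle hy
  have hNK : N ≤ Subgroup.normalizer ((W : Subgroup G) : Set G) := by
    intro g hg
    have hin : ∀ g ∈ N, ∀ x ∈ W, g * x * g⁻¹ ∈ W := by
      intro g hg x hx
      rw [hW, ← Subgroup.centralizer_closure, Subgroup.mem_centralizer_iff] at hx ⊢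
      intro y hy
      have h1 := hx _ (hNT g⁻¹ (inv_mem hg) y hy)
      rw [inv_inv] at h1
      calc y * (g * x * g⁻¹) = g * (g⁻¹ * y * g * x) * g⁻¹ := by group
        _ = g * (x * (g⁻¹ * y * g)) * g⁻¹ := by rw [h1]
        _ = g * x * g⁻¹ * y := by group
    rw [Subgroup.mem_normalizer_iff]
    refine fun x => ⟨hin g hg x, fun hx => ?_⟩
    have := hin g⁻¹ (inv_mem hg) _ hx
    rwa [show g⁻¹ * (g * x * g⁻¹) * g⁻¹⁻¹ = x by group] at this
  refine ⟨hNK, by rw [inf_comm]; exact hNW, by rw [inf_comm]; exact hCW, ?_⟩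
  -- the group of the four
  obtain ⟨h6a, hbota⟩ := pair_six P ha hd.1 had
  obtain ⟨h6b, hbotb⟩ := pair_six P hb.1 hc.1 hbc
  set S1 := Subgroup.closure ({a, d} : Set G)
  set S2 := Subgroup.closure ({b, c} : Set G)
  have hTS : T = S1 ⊔ S2 := by
    rw [hTdef, ← Subgroup.closure_union]
    congr 1
    ext y; simp; tauto
  have hS2 : ∀ y ∈ S2, Commute y a ∧ Commute y d := fun y hy =>
    ⟨commute_of_closure (S := {b, c}) (by rintro z (rfl | rfl); exacts [hb.2.2.symm, hc.2.2.symm]) y hy,
      commute_of_closure (S := {b, c}) (by rintro z (rfl | rfl); exacts [hd.2.2, hcd]) y hy⟩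
  have h12 : ∀ x ∈ S1, ∀ y ∈ S2, x * y = y * x := fun x hx y hy =>
    (commute_of_closure (S := {a, d}) (x := y) (by
      rintro z (rfl | rfl); exacts [(hS2 y hy).1.symm, (hS2 y hy).2.symm]) x hx).eq
  have hS12 : S1 ⊓ S2 = ⊥ := by
    rw [Subgroup.eq_bot_iff_forall]
    exact fun x hx => hbota x hx.1 (hS2 x hx.2).1 (hS2 x hx.2).2
  have hT36 : Nat.card T = 36 := by rw [hTS, (card_sup_comm (C := ⊤) hS12 h12).1, h6a, h6b]
  set F := W ⊓ N
  have hcomm : ∀ x ∈ F, ∀ y ∈ T, x * y = y * x := fun x hx y hy => by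
    have h1 := hx.1
    rw [hW, ← Subgroup.centralizer_closure] at h1
    exact (Subgroup.mem_centralizer_iff.1 h1 y hy).symm
  have hFT : F ⊓ T = ⊥ := by
    rw [Subgroup.eq_bot_iff_forall]
    rintro x ⟨hxF, hxT⟩
    have hxW : ∀ z ∈ ({a, b, c, d} : Set G), Commute x z := fun z hz =>
      (Subgroup.mem_centralizer_iff.1 hxF.1 z hz).symm
    have key : ∀ y ∈ S1, ∀ z ∈ S2, x = y * z → x = 1 := by
      intro y hy z hz e
      have hy1 : y = 1 := by
        refine hbota y hy ?_ ?_
        · have := (hxW a (by simp)).mul_left (hS2 z hz).1.inv_left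
          rwa [e, mul_inv_cancel_right] at this
        · have := (hxW d (by simp)).mul_left (hS2 z hz).2.inv_left
          rwa [e, mul_inv_cancel_right] at this
      rw [hy1, one_mul] at e
      rw [e]
      exact hbotb z hz (e ▸ hxW b (by simp)) (e ▸ hxW c (by simp))
    have hnorm : S2 ≤ Subgroup.normalizer (S1 : Set G) := by
      intro z hz
      rw [Subgroup.mem_normalizer_iff]
      intro y
      constructor
      · intro hy
        rwa [← h12 y hy z hz, mul_inv_cancel_right]
      · intro hy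
        have h := h12 _ hy z hz
        have e : y = z * y * z⁻¹ := by
          calc y = z⁻¹ * (z * y * z⁻¹ * z) := by group
            _ = z⁻¹ * (z * (z * y * z⁻¹)) := by rw [h]
            _ = z * y * z⁻¹ := by group
        rw [e]; exact hy
    have hx2 : x ∈ ((S1 ⊔ S2 : Subgroup G) : Set G) := hTS ▸ hxT
    rw [Subgroup.coe_mul_of_right_le_normalizer_left S1 S2 hnorm] at hx2
    obtain ⟨y, hy, z, hz, e⟩ := hx2
    exact key y hy z hz e.symm
  have hFT' : F ⊔ T ≤ N := sup_le inf_le_right ((Subgroup.closure_le _).2 fun z hz =>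
    Subgroup.centralizer_le_normalizer _ (hmem z hz))
  have hcard : Nat.card ↥(F ⊔ T) = 78 * 36 := by
    rw [(card_sup_comm (C := ⊤) hFT hcomm).1, hT36, show Nat.card F = 78 by rw [← hNW]; exact congrArg _ (by rw [inf_comm])]
  have h := Subgroup.card_mul_index ((F ⊔ T).subgroupOf N)
  rw [Nat.card_congr (Subgroup.subgroupOfEquivOfLe hFT').toEquiv, hcard, hN] at h
  omega


/-- Let G be a finite group with trivial centre generated by a conjugation-invariant set D of 3-transpositions on which it acts primitively, such that for some d in D the subgroup generated by the members of D other than d commuting with d has central largest normal 2- and 3-subgroups, and suppose G with D is of type M(24). Then any two subgroups of order 13 are conjugate; and there are members a, b, c, d of D generating the direct product T of two symmetric groups of degree 3 (a, d non-commuting; b, c non-commuting; b and c commuting with a and d) whose centralizer K is isomorphic to the Chevalley group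 G₂(3), such that for every subgroup B of K of order 13: the normalizer of B lies in the normalizer of K, the normalizer F of B in K is a Frobenius group of order 78 with kernel B (order 78, centralizer of B in it equal to B), and the subgroup generated by F and T has index 2 in the normalizer of B. -/
theorem result {G : Type*} [Group G] [Finite G] {D : Set G} (hD : Cfsg.IsThreeTranspositionGroup D) (hprim : Cfsg.IsPrimitiveUnderConj D) (d₀ : G) (hd₀ : d₀ ∈ D) (h3 : Cfsg.pCore 3 ↥(Subgroup.closure {y : G | y ∈ D ∧ y ≠ d₀ ∧ Commute d₀ y}) ≤ Subgroup.center ↥(Subgroup.closure {y : G | y ∈ D ∧ y ≠ d₀ ∧ Commute d₀ y})) (h2 : Cfsg.pCore 2 ↥(Subgroup.closure {y : G | y ∈ D ∧ y ≠ d₀ ∧ Commute d₀ y}) ≤ Subgroup.center ↥(Subgroup.closure {y : G | y ∈ D ∧ y ≠ d₀ ∧ Commute d₀ y})) (h24 : Cfsg.IsOfTypeM24 G D) : (∀ X Y : Subgroup G, Nat.card X = 13 → Nat.card Y = 13 → ∃ g : G, X.map (MulAut.conj g).toMonoidHom = Y) ∧ ∃ (a b c d : G) (T K : Subgroup G), (∀ x ∈ [a, b, c, d], x ∈ D) ∧ ¬ Commute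 a d ∧ ¬ Commute b c ∧ Commute a b ∧ Commute a c ∧ Commute d b ∧ Commute d c ∧ T = Subgroup.closure ({a, b, c, d} : Set G) ∧ K = Subgroup.centralizer (T : Set G) ∧ Nonempty (↥K ≃* ↥(Cfsg.Lie.chevG2.group (ZMod 3))) ∧ ∀ B : Subgroup G, B ≤ K → Nat.card B = 13 → Subgroup.normalizer ((B : Subgroup G) : Set G) ≤ Subgroup.normalizer ((K : Subgroup G) : Set G) ∧ Nat.card ↥(K ⊓ Subgroup.normalizer ((B : Subgroup G) : Set G)) = 78 ∧ K ⊓ Subgroup.centralizer ((B : Subgroup G) : Set G) = B ∧ (((K ⊓ Subgroup.normalizer ((B : Subgroup G) : Set G)) ⊔ T).subgroupOf (Subgroup.normalizer ((B : Subgroup G) : Set G))).index = 2 := by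
  obtain ⟨p, P⟩ := exists_point24 hD hprim h24
  haveI : Fact (13 : ℕ).Prime := ⟨by norm_num⟩
  obtain ⟨a, b, c, d, ha, hb, hc, hd, hbc, had, hcd, hiso⟩ := exists_g2_24 P
  have hcl : Subgroup.centralizer ((Subgroup.closure ({a, b, c, d} : Set G) : Subgroup G) : Set G) =
      Subgroup.centralizer ({a, b, c, d} : Set G) := Subgroup.centralizer_closure _
  refine ⟨(conj24 P (p := 13) (by norm_num)).1, a, b, c, d, _, _, ?_, had, hbc, hb.2.2, hc.2.2, hd.2.2.symm,
    hcd.symm, rfl, rfl, ?_, ?_⟩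
  · simp only [List.mem_cons, List.not_mem_nil, or_false]
    rintro x (rfl | rfl | rfl | rfl)
    exacts [ha, hb.1, hc.1, hd.1]
  · rw [hcl]; exact hiso
  · intro B hBK hB
    rw [hcl] at hBK ⊢
    exact member_data P ha hb hc hd hbc had hB hBK

end Cfsg.Agent.S5518
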