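import Cfsg.Statements.S5519
import Cfsg.Agent.Spor3T.M22PairExtra
import Cfsg.Agent.LocalB.FStar

set_option autoImplicit false
open Cfsg

namespace Cfsg.Agent.S5519

/-- Let G be a finite group with trivial centre generated by a conjugation-invariant set D of 3-transpositions on which it acts primitively, such that for some d in D the subgroup generated by the members of D other than d commuting with d has central largest normal 2- and 3-subgroups, and suppose G with D is of type M(22). Let d₁, d₂ be distinct commuting members of D and C the centralizer of their product. Then the generalized Fitting subgroup of C is the direct product of a group of order 2 and an extraspecial 2-group of order 2^9, and C modulo it is isomorphic to the full isometry group of the elliptic quadratic form in dimension 6 over the field with two elements. -/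
theorem result {G : Type*} [Group G] [Finite G] {D : Set G} (hD : Cfsg.IsThreeTranspositionGroup D) (hprim : Cfsg.IsPrimitiveUnderConj D) (d₀ : G) (hd₀ : d₀ ∈ D) (h3 : Cfsg.pCore 3 ↥(Subgroup.closure {y : G | y ∈ D ∧ y ≠ d₀ ∧ Commute d₀ y}) ≤ Subgroup.center ↥(Subgroup.closure {y : G | y ∈ D ∧ y ≠ d₀ ∧ Commute d₀ y})) (h2 : Cfsg.pCore 2 ↥(Subgroup.closure {y : G | y ∈ D ∧ y ≠ d₀ ∧ Commute d₀ y}) ≤ Subgroup.center ↥(Subgroup.closure {y : G | y ∈ D ∧ y ≠ d₀ ∧ Commute d₀ y})) (h22 : Cfsg.IsOfTypeM22 G D) (d₁ d₂ : G) (h₁ : d₁ ∈ D) (h₂ : d₂ ∈ D) (hne : d₁ ≠ d₂) (hc : Commute d₁ d₂) (C : Subgroup G) (hC : C = Subgroup.centralizer ({d₁ * d₂} : Set G)) [hn : (Cfsg.generalizedFittingSubgroup ↥C).Normal] : (∃ (E : Type) (_ : Group E) (_ : Finite E), Cfsg.IsExtraspecial 2 E ∧ Nat.card E = 2 ^ 9 ∧ Nonempty (↥(Cfsg.generalizedFittingSubgroup ↥C) ≃* Multiplicative (ZMod 2) × E)) ∧ Nonempty (↥C ⧸ Cfsg.generalizedFittingSubgroup ↥C ≃* Cfsg.isometryGroup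 (ZMod 2) (Cfsg.quadFormMinus 2 (ZMod 2) 1 1)) := by
  subst hC
  haveI : Fact (2 : ℕ).Prime := ⟨Nat.prime_two⟩
  have h := CfsgLib.ThreeT.Prod.geo22 hD hprim h22
  have hb : d₂ ∈ CfsgLib.ThreeT.Prod.nb D d₁ := ⟨h₂, hne.symm, hc⟩
  obtain ⟨cC, cK, cE, hEK, hKC, hVE⟩ := CfsgLib.ThreeT.Prod.pair_orders h hprim h22 h₁ hb
  set C := Subgroup.centralizer ({d₁ * d₂} : Set G)
  have hp := CfsgLib.ThreeT.Prod.pCore_pair h hprim h22 h₁ hb
  have hF : Cfsg.generalizedFittingSubgroup ↥C = (CfsgLib.ThreeT.Prod.fibreKer h.tt d₁ d₂).subgroupOf C := by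
    rw [← hp]
    refine CfsgLib.LocalB.fstar_eq_pCore fun x hx => ?_
    rw [hp] at hx ⊢
    refine hVE (CfsgLib.ThreeT.Prod.cent_fibre h hprim h22 h₁ hb x.2 fun y hy => ?_)
    exact (congrArg Subtype.val (Subgroup.mem_centralizer_iff.1 hx ⟨y, hKC (hEK hy)⟩ hy)).symm
  obtain ⟨E, _, _, hX, hE9, ⟨es⟩⟩ := CfsgLib.ThreeT.Prod.pair_split h hprim h22 h₁ hb
  refine ⟨⟨E, inferInstance, inferInstance, hX, hE9, ⟨((MulEquiv.subgroupCongr hF).trans
    (Subgroup.subgroupOfEquivOfLe (hEK.trans hKC))).trans es⟩⟩, ?_⟩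
  obtain ⟨hn', F, _, _, hF4, ⟨e⟩⟩ := CfsgLib.ThreeT.Prod.pair_quot h hprim h22 h₁ hb
  obtain ⟨e'⟩ := CfsgLib.ThreeT.PairStab.minus_six_aut hF4
  haveI := hn'
  exact ⟨((QuotientGroup.quotientMulEquivOfEq hF).trans e).trans e'.symm⟩

end Cfsg.Agent.S5519
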