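import Cfsg.Statements.S5521
import Cfsg.Agent.Golay.SixPoints

set_option autoImplicit false
open Cfsg

namespace Cfsg.Agent.S5521

/-- The Mathieu group M₂₄ in its natural action on the 24 coordinate positions of the binary Golay code has minimal base size exactly 7: every set of at most 6 positions is fixed pointwise by some non-identity element of M₂₄, while some set of 7 positions is fixed pointwise only by the identity. -/
theorem result :
    (∀ B : Finset Cfsg.GolayPt, B.card ≤ 6 → ∃ g ∈ Cfsg.M24, g ≠ 1 ∧ ∀ b ∈ B, g b = b) ∧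
    (∃ B : Finset Cfsg.GolayPt, B.card = 7 ∧ ∀ g ∈ Cfsg.M24, (∀ b ∈ B, g b = b) → g = 1) := by
  open CfsgLib.Golay in
  refine ⟨fun B hB => ?_, ⟨(Finset.range 7).image bp, ?_, fun g hg hfix => ?_⟩⟩
  · let f : ↥B → GolayPt := fun b => b
    have h1 := (MulAction.stabilizer M24 f).card_mul_index
    rw [MulAction.index_stabilizer, card_M24] at h1
    have h2 : (MulAction.orbit M24 f).ncard ≤ 191102976 := by
      refine le_trans (Set.ncard_le_ncard (Set.subset_univ _)) ?_
      rw [Set.ncard_univ, Nat.card_fun, Nat.card_eq_fintype_card (α := GolayPt), card_golayPt,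
        Nat.card_eq_fintype_card, Fintype.card_coe]
      calc 24 ^ B.card ≤ 24 ^ 6 := Nat.pow_le_pow_right (by norm_num) hB
        _ = 191102976 := by norm_num
    by_contra hno
    push Not at hno
    have hbot : MulAction.stabilizer M24 f = ⊥ := by
      rw [Subgroup.eq_bot_iff_forall]
      intro g hg
      by_contra hg1
      obtain ⟨b, hb, hne⟩ := hno g g.2 fun h => hg1 (Subtype.ext h)
      exact hne (congrFun (MulAction.mem_stabilizer_iff.mp hg) ⟨b, hb⟩)
    rw [hbot, Subgroup.card_bot] at h1
    omega
  · rw [Finset.card_image_of_injOn, Finset.card_range]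
    intro i hi j hj h
    simp only [Finset.coe_range, Set.mem_Iio] at hi hj
    rcases lt_trichotomy i j with hlt | heq | hlt
    · exact absurd h (bp_ne j hj i hlt)
    · exact heq
    · exact absurd h.symm (bp_ne i hi j hlt)
  · exact octAut_rigid (M24_le_octAut hg) fun j hj =>
      hfix _ (Finset.mem_image_of_mem _ (Finset.mem_range.mpr hj))

end Cfsg.Agent.S5521
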