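import Cfsg.Statements.S5522
import Cfsg.Agent.Golay.DodecadFive
import Cfsg.Agent.Golay.IndexPoint
import Cfsg.Agent.Golay.OutTwo22
import Cfsg.Agent.Golay.M11Fusion

set_option autoImplicit false
open scoped Pointwise
open Cfsg

namespace Cfsg.Agent.S5522

/-- The Mathieu group M₁₁, realised as the stabiliser of one point of the dodecad of squares inside the stabiliser M₁₂ of that dodecad in M₂₄, acts on the twelve coordinate positions outside the dodecad of squares (its 3-transitive action of degree 12); in this action every element of prime order fixes a point, i.e. the action is elusive. -/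
theorem result (g : Equiv.Perm Cfsg.GolayPt) (hg : g ∈ Cfsg.Spor.M11) (hord : (orderOf g).Prime) :
    ∃ x : Cfsg.GolayPt, x ∉ Cfsg.Spor.squareDodecad ∧ g x = x := by
  classical
  open CfsgLib.Golay CfsgLib.Golay.Cert in
  have hd : Cfsg.Spor.squareDodecad ∈ Cfsg.dodecads := squareDodecad_mem
  open CfsgLib.Golay CfsgLib.Golay.Cert in
  exact (by
    obtain ⟨⟨hgM, hgd⟩, hg0⟩ := hg
    set d := Cfsg.Spor.squareDodecad with hdd
    let G : ↥Cfsg.M24 := ⟨g, hgM⟩
    have hGd : G ∈ MulAction.stabilizer Cfsg.M24 d := hgd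
    have hGo : orderOf G = orderOf g := order_lift hgM
    have hcard : orderOf g ∣ 7920 := by
      rw [← card_M11]
      exact Subgroup.orderOf_dvd_natCard _ (⟨⟨hgM, hgd⟩, hg0⟩ : g ∈ Cfsg.Spor.M11)
    have hout : ∀ S : Finset Cfsg.GolayPt, (∀ x ∈ S, g x = x) → ¬ S ⊆ d → ∃ x, x ∉ d ∧ g x = x := fun S hS hne => by
      obtain ⟨x, hx, hxd⟩ := Finset.not_subset.mp hne
      exact ⟨x, hxd, hS x hx⟩
    have hfix : ∀ x ∈ fixedPts g, g x = x := fun x hx => by simpa [fixedPts] using hx
    have h0 : (some 0 : Cfsg.GolayPt) ∈ fixedPts g := by simp [fixedPts, show g (some 0) = some 0 from hg0]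
    have h0ne : ¬ (fixedPts g).card = 0 := fun h => by rw [Finset.card_eq_zero] at h; simp [h] at h0
    have hq : orderOf g = 2 ∨ orderOf g = 3 ∨ orderOf g = 5 ∨ orderOf g = 11 := by
      rw [show (7920 : ℕ) = 2 ^ 4 * 3 ^ 2 * 5 * 11 by norm_num] at hcard
      rcases hord.dvd_mul.mp hcard with h | h
      · rcases hord.dvd_mul.mp h with h | h
        · rcases hord.dvd_mul.mp h with h | h
          · exact Or.inl ((Nat.prime_dvd_prime_iff_eq hord Nat.prime_two).mp (hord.dvd_of_dvd_pow h))
          · exact Or.inr (Or.inl ((Nat.prime_dvd_prime_iff_eq hord Nat.prime_three).mp (hord.dvd_of_dvd_pow h)))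
        · exact Or.inr (Or.inr (Or.inl ((Nat.prime_dvd_prime_iff_eq hord (by norm_num)).mp h)))
      · exact Or.inr (Or.inr (Or.inr ((Nat.prime_dvd_prime_iff_eq hord (by norm_num)).mp h)))
    have hmod : 12 % orderOf g ≠ 0 → ∃ x, x ∉ d ∧ g x = x := fun hne => by
      have h := card_inv_mod hord (pow_orderOf_eq_one g) dᶜ
        (fun p hp => Finset.mem_compl.mpr fun e => Finset.mem_compl.mp hp ((apply_mem_iff hGd p).mp e))
      rw [dodecad_card (compl_mem_dodecads hd)] at h
      have hpos : (dᶜ.filter fun p => g p = p).Nonempty := by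
        rw [Finset.nonempty_iff_ne_empty]
        intro e
        rw [e, Finset.card_empty, Nat.zero_mod] at h
        exact hne h
      obtain ⟨x, hx⟩ := hpos
      exact ⟨x, Finset.mem_compl.mp (Finset.mem_filter.mp hx).1, (Finset.mem_filter.mp hx).2⟩
    rcases hq with hq | hq | hq | hq
    · obtain ⟨_, ⟨-, ho, h8⟩ | ⟨-, hz⟩⟩ := two_cases (hGo.trans hq)
      · refine hout _ hfix fun hsub => ?_
        have h := card_inter_octad_dodecad ho hd
        change (fixedPts g ∩ d).card = 2 ∨ _ at h
        change (fixedPts g).card = 8 at h8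
        rw [Finset.inter_eq_left.mpr hsub, h8] at h
        omega
      · exact absurd hz h0ne
    · obtain ⟨_, ⟨-, h6⟩ | ⟨-, hz⟩⟩ := three_cases (hGo.trans hq)
      · refine hout _ hfix fun hsub => ?_
        change (fixedPts g).card = 6 at h6
        have h1 := eq_one_of_five hd hGd hsub (by omega) hfix
        have hg1 : g = 1 := congrArg (fun z : ↥Cfsg.M24 => (z : Equiv.Perm Cfsg.GolayPt)) h1
        rw [hg1, orderOf_one] at hq
        omega
      · exact absurd hz h0ne
    · exact hmod (by rw [hq]; norm_num)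
    · exact hmod (by rw [hq]; norm_num))

end Cfsg.Agent.S5522
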