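import Cfsg.Statements.S5529
import Cfsg.Agent.Golay.TripleGen.Main

set_option autoImplicit false
open Cfsg

namespace Cfsg.Agent.S5529

open CfsgLib.Golay.TripleGen in
/-- Generation of the Mathieu group M₂₃ (the stabiliser of a point in the Mathieu group M₂₄ acting on 24 points) by triples of prime orders. Let p ≤ q ≤ r be primes dividing |M₂₃| = 10200960 = 2⁷·3²·5·7·11·23, not both p and q equal to 2. Then M₂₃ contains elements x, y, z of orders p, q, r with xyz = 1 and ⟨x, y⟩ = M₂₃ if and only if (p, q, r) is none of: (2, 3, r) for any r, (2, 5, 5), (2, 5, 7), (3, 3, 3), (3, 3, 5), (3, 3, 7). -/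
theorem result (p q r : ℕ) (hp : p.Prime) (hq : q.Prime)
    (hr : r.Prime) (hpq : p ≤ q) (hqr : q ≤ r) (hp2 : ¬ (p = 2 ∧ q = 2))
    (hdvd : p ∣ 10200960 ∧ q ∣ 10200960 ∧ r ∣ 10200960) :
    (∃ x y z : Cfsg.Spor.M23, orderOf x = p ∧ orderOf y = q ∧ orderOf z = r ∧ x * y * z = 1 ∧
        Subgroup.closure {x, y} = ⊤) ↔
      ¬ ((p = 2 ∧ q = 3) ∨ (p = 2 ∧ q = 5 ∧ r = 5) ∨ (p = 2 ∧ q = 5 ∧ r = 7) ∨ (p = 3 ∧ q = 3 ∧ r ≤ 7)) := by
  have key : ∀ n : ℕ, n.Prime → n ∣ 10200960 → n ∈ [2, 3, 5, 7, 11, 23] := by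
    intro n hn h
    rw [show (10200960 : ℕ) = 2 ^ 7 * (3 ^ 2 * (5 * (7 * (11 * 23)))) by norm_num] at h
    have e2 : ∀ m : ℕ, m.Prime → n ∣ m → n = m := fun m hm h => (Nat.prime_dvd_prime_iff_eq hn hm).1 h
    simp only [List.mem_cons, List.not_mem_nil, or_false]
    rcases hn.dvd_mul.1 h with h | h
    · exact Or.inl (e2 2 (by norm_num) (hn.dvd_of_dvd_pow h))
    rcases hn.dvd_mul.1 h with h | h
    · exact Or.inr (Or.inl (e2 3 (by norm_num) (hn.dvd_of_dvd_pow h)))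
    rcases hn.dvd_mul.1 h with h | h
    · exact Or.inr (Or.inr (Or.inl (e2 5 (by norm_num) h)))
    rcases hn.dvd_mul.1 h with h | h
    · exact Or.inr (Or.inr (Or.inr (Or.inl (e2 7 (by norm_num) h))))
    rcases hn.dvd_mul.1 h with h | h
    · exact Or.inr (Or.inr (Or.inr (Or.inr (Or.inl (e2 11 (by norm_num) h)))))
    · exact Or.inr (Or.inr (Or.inr (Or.inr (Or.inr (e2 23 (by norm_num) h)))))
  have mp' := key p hp hdvd.1
  have mq := key q hq hdvd.2.1
  have mr := key r hr hdvd.2.2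
  constructor
  · rintro ⟨x, y, z, hx, hy, hz, hxyz, hgen⟩ hex
    have h1 := cyc_excluded p mp' q mq r mr hpq hqr hex
    have h2 := cyc_sum_le hx hy hz hxyz hgen
    omega
  · intro hne
    obtain ⟨c, hc, h⟩ := List.any_eq_true.1 ((certs_cover p mp' q mq r mr hpq hqr hp2).resolve_left hne)
    simp only [Bool.and_eq_true, beq_iff_eq] at h
    obtain ⟨⟨rfl, rfl⟩, rfl⟩ := h
    exact exists_triple hc hp hq hr

end Cfsg.Agent.S5529
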