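import Cfsg.Statements.S5541


set_option autoImplicit false
open Cfsg

namespace Cfsg.Agent.S5541

/-- Let ρ be a representation of a group H on a finite-dimensional real vector space U whose only ρ-invariant subspaces are the zero subspace and U, and suppose U carries a non-zero ρ-invariant symmetric bilinear form. Then the following are equivalent: (1) there is a non-zero ρ-equivariant commutative bilinear product on U of which every ρ-equivariant bilinear product is a scalar multiple; (2) there is a non-zero ρ-invariant trilinear form on U that is symmetric under all permutations of its arguments and of which every ρ-invariant trilinear form is a scalar multiple. -/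
theorem result {H : Type*} [Group H] {U : Type*} [AddCommGroup U] [Module ℝ U] [FiniteDimensional ℝ U] (ρ : Representation ℝ H U) (hirr : ∀ W : Submodule ℝ U, (∀ g : H, W.map (ρ g) ≤ W) → W = ⊥ ∨ W = ⊤) (B : LinearMap.BilinForm ℝ U) (hB0 : B ≠ 0) (hBs : ∀ u v, B u v = B v u) (hBi : ∀ (g : H) (u v : U), B (ρ g u) (ρ g v) = B u v) : (∃ m : U →ₗ[ℝ] U →ₗ[ℝ] U, m ≠ 0 ∧ (∀ u v, m u v = m v u) ∧ (∀ (g : H) (u v : U), m (ρ g u) (ρ g v) = ρ g (m u v)) ∧ ∀ m' : U →ₗ[ℝ] U →ₗ[ℝ] U, (∀ (g : H) (u v : U), m' (ρ g u) (ρ g v) = ρ g (m' u v)) → ∃ c : ℝ, m' = c • m) ↔ (∃ t : U →ₗ[ℝ] U →ₗ[ℝ] U →ₗ[ℝ] ℝ, t ≠ 0 ∧ (∀ u v w, t u v w = t v u w ∧ t u v w = t u w v) ∧ (∀ (g : H) (u v w : U), t (ρ g u) (ρ g v) (ρ g w) = t u v w) ∧ ∀ t' : U →ₗ[ℝ] U →ₗ[ℝ] U →ₗ[ℝ] ℝ, (∀ (g : H) (u v w : U), t' (ρ g u) (ρ g v) (ρ g w) = t' u v w) → ∃ c : ℝ, t' = c • t) := by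
  have hinv : ∀ (g : H) (u : U), ρ g (ρ g⁻¹ u) = u := fun g u => by
    rw [← Module.End.mul_apply, ← map_mul, mul_inv_cancel, map_one, Module.End.one_apply]
  have hker : LinearMap.ker B = ⊥ := by
    refine (hirr _ fun g => ?_).resolve_right fun h => hB0 (LinearMap.ker_eq_top.1 h)
    rintro _ ⟨u, hu, rfl⟩
    refine LinearMap.mem_ker.2 (LinearMap.ext fun v => ?_)
    rw [← hinv g v, hBi, LinearMap.mem_ker.1 hu]
    rfl
  let Φ : U ≃ₗ[ℝ] Module.Dual ℝ U :=
    B.linearEquivOfInjective (LinearMap.ker_eq_bot.1 hker) Subspace.dual_finrank_eq.symm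
  have hΦ : ∀ (φ : Module.Dual ℝ U) (w : U), B (Φ.symm φ) w = φ w := fun φ w =>
    LinearMap.congr_fun (Φ.apply_symm_apply φ) w
  have hext : ∀ u v : U, (∀ w, B u w = B v w) → u = v := fun u v h =>
    (LinearMap.ker_eq_bot.1 hker) (LinearMap.ext h)
  let T : (U →ₗ[ℝ] U →ₗ[ℝ] U) → (U →ₗ[ℝ] U →ₗ[ℝ] U →ₗ[ℝ] ℝ) := fun m => m.compr₂ B
  have hT : ∀ m u v w, T m u v w = B (m u v) w := fun _ _ _ _ => rfl
  let M : (U →ₗ[ℝ] U →ₗ[ℝ] U →ₗ[ℝ] ℝ) → (U →ₗ[ℝ] U →ₗ[ℝ] U) := fun t => t.compr₂ Φ.symm.toLinearMap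
  have hM : ∀ t u v w, B (M t u v) w = t u v w := fun t u v w => hΦ (t u v) w
  have hTe : ∀ m, (∀ (g : H) (u v : U), m (ρ g u) (ρ g v) = ρ g (m u v)) →
      ∀ (g : H) (u v w : U), T m (ρ g u) (ρ g v) (ρ g w) = T m u v w := fun m hm g u v w => by
    rw [hT, hT, hm, hBi]
  have hMe : ∀ t, (∀ (g : H) (u v w : U), t (ρ g u) (ρ g v) (ρ g w) = t u v w) →
      ∀ (g : H) (u v : U), M t (ρ g u) (ρ g v) = ρ g (M t u v) := fun t ht g u v =>
    hext _ _ fun w => by
      rw [hM, ← hinv g w, ht, hBi, hM]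
  constructor
  · rintro ⟨m, hm0, hms, hme, huniq⟩
    have ht0 : T m ≠ 0 := fun h => hm0 (LinearMap.ext₂ fun u v => hext _ _ fun w => by
      rw [← hT, h]; simp)
    have hlift : ∀ t', (∀ (g : H) (u v w : U), t' (ρ g u) (ρ g v) (ρ g w) = t' u v w) →
        ∃ c : ℝ, t' = c • T m := fun t' ht' => by
      obtain ⟨c, hc⟩ := huniq (M t') (hMe t' ht')
      refine ⟨c, LinearMap.ext₂ fun u v => LinearMap.ext fun w => ?_⟩
      rw [← hM t' u v w, hc]
      simp [hT]
    have h12 : ∀ u v w, T m u v w = T m v u w := fun u v w => by rw [hT, hT, hms]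
    obtain ⟨c, hc⟩ := hlift (LinearMap.mk₂ ℝ (fun u v => (T m u).flip v)
      (fun a b v => LinearMap.ext fun w => by simp) (fun r a v => LinearMap.ext fun w => by simp) (fun u a b => by simp) (fun r u a => by simp))
      (fun g u v w => hTe m hme g u w v)
    have hc' : ∀ u v w, T m u w v = c * T m u v w := fun u v w => by
      have := LinearMap.congr_fun (LinearMap.congr_fun₂ hc u v) w
      simpa using this
    refine ⟨T m, ht0, fun u v w => ⟨h12 u v w, ?_⟩, hTe m hme, hlift⟩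
    obtain ⟨u₀, v₀, w₀, hne⟩ : ∃ u v w, T m u v w ≠ 0 := by
      by_contra h
      push Not at h
      exact ht0 (LinearMap.ext₂ fun u v => LinearMap.ext fun w => by simpa using h u v w)
    have hc2 : c * c = 1 := by
      have h1 := hc' u₀ w₀ v₀
      rw [hc' u₀ v₀ w₀, ← mul_assoc] at h1
      exact mul_right_cancel₀ hne (by rw [one_mul, ← h1])
    rcases mul_self_eq_one_iff.1 hc2 with e | e
    · rw [hc' u v w, e, one_mul]
    exfalso
    have hs : ∀ x y z, T m x z y = -T m x y z := fun x y z => by rw [hc' x y z, e, neg_one_mul]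
    have a1 := hs u₀ v₀ w₀
    have a2 := h12 u₀ w₀ v₀
    have a3 := hs w₀ u₀ v₀
    have a4 := h12 w₀ v₀ u₀
    have a5 := hs v₀ w₀ u₀
    have a6 := h12 v₀ u₀ w₀
    exact hne (by linarith)
  · rintro ⟨t, ht0, hts, hte, huniq⟩
    refine ⟨M t, fun h => ht0 ?_, fun u v => hext _ _ fun w => by rw [hM, hM, (hts u v w).1],
      hMe t hte, fun m' hm' => ?_⟩
    · exact LinearMap.ext₂ fun u v => LinearMap.ext fun w => by rw [← hM, h]; simp
    · obtain ⟨c, hc⟩ := huniq (T m') (hTe m' hm')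
      refine ⟨c, LinearMap.ext₂ fun u v => hext _ _ fun w => ?_⟩
      rw [← hT, hc]
      simp [hM]

end Cfsg.Agent.S5541
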