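import Cfsg.Statements.S5543
import Cfsg.Agent.Majorana.Basic

set_option autoImplicit false
open Cfsg

namespace Cfsg.Agent.S5543

/-- Let V be a finite-dimensional real vector space with a commutative bilinear product and a positive-definite symmetric bilinear form that associates with the product and satisfies the Norton inequality (the Majorana setting of the definitions). Let X be a group of linear automorphisms of V in which every element squares to the identity, and suppose every non-identity element x of X is a Majorana involution with an axial vector a(x) of squared length 1, such that for any two distinct non-identity x, y the product a(x) ∘ a(y) equals (1/8)(a(x) + a(y) − a(xy)) (the dihedral subalgebra of type 2A whose third axis belongs to the involution xy). Then X has order at most 4. -/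
theorem result {V : Type*} [AddCommGroup V] [Module ℝ V] [FiniteDimensional ℝ V] (mul : V →ₗ[ℝ] V →ₗ[ℝ] V) (B : LinearMap.BilinForm ℝ V) (hV : Cfsg.Axial.IsMajoranaAmbient mul B) (X : Subgroup (V ≃ₗ[ℝ] V)) (hX : ∀ x ∈ X, x * x = 1) (ax : (V ≃ₗ[ℝ] V) → V) (hax : ∀ x ∈ X, x ≠ 1 → Cfsg.Axial.IsMajoranaPair mul B x (ax x)) (h1 : ∀ x ∈ X, x ≠ 1 → B (ax x) (ax x) = 1) (h2A : ∀ x ∈ X, ∀ y ∈ X, x ≠ 1 → y ≠ 1 → x ≠ y → mul (ax x) (ax y) = (1 / 8 : ℝ) • (ax x + ax y - ax (x * y))) : Nat.card ↥X ≤ 4 := by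
  by_contra hcard
  haveI : Finite X := Nat.finite_of_card_ne_zero (by omega)
  have hinv : ∀ x ∈ X, x⁻¹ = x := fun x hx => inv_eq_of_mul_eq_one_right (hX x hx)
  have hcomm : ∀ x ∈ X, ∀ y ∈ X, x * y = y * x := by
    intro x hx y hy
    rw [← hinv _ (mul_mem hx hy), mul_inv_rev, hinv x hx, hinv y hy]
  obtain ⟨x, hx, hx1⟩ : ∃ x ∈ X, x ≠ 1 := by
    by_contra h
    push Not at h
    have : X = ⊥ := (Subgroup.eq_bot_iff_forall X).2 h
    rw [this, Subgroup.card_bot] at hcard
    omega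
  obtain ⟨y, hy, hyn⟩ : ∃ y ∈ X, y ≠ 1 ∧ y ≠ x := by
    by_contra h
    push Not at h
    have hsub : (X : Set (V ≃ₗ[ℝ] V)) ⊆ {1, x} := fun y hy => by
      by_cases e : y = 1
      · exact Or.inl e
      · exact Or.inr (h y hy e)
    have h1 := Set.ncard_le_ncard hsub
    have h2 := Set.ncard_insert_le (1 : V ≃ₗ[ℝ] V) {x}
    rw [Set.ncard_singleton] at h2
    have h3 : (X : Set (V ≃ₗ[ℝ] V)).ncard = Nat.card X := rfl
    omega
  obtain ⟨w, hw, hwn⟩ : ∃ w ∈ X, w ≠ 1 ∧ w ≠ x ∧ w ≠ y ∧ w ≠ x * y := by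
    by_contra h
    push Not at h
    have hsub : (X : Set (V ≃ₗ[ℝ] V)) ⊆ {1, x, y, x * y} := fun t ht => by
      simp only [Set.mem_insert_iff, Set.mem_singleton_iff]
      by_contra e
      push Not at e
      exact e.2.2.2 (h t ht e.1 e.2.1 e.2.2.1)
    have h1 := Set.ncard_le_ncard hsub
    have h2 := Set.ncard_insert_le (1 : V ≃ₗ[ℝ] V) {x, y, x * y}
    have h3 := Set.ncard_insert_le x {y, x * y}
    have h4 := Set.ncard_insert_le y {x * y}
    rw [Set.ncard_singleton] at h4
    have h5 : (X : Set (V ≃ₗ[ℝ] V)).ncard = Nat.card X := rfl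
    omega
  obtain ⟨hy1, hyx⟩ := hyn
  obtain ⟨hw1, hwx, hwy, hwxy⟩ := hwn
  have hxy := mul_mem hx hy
  have hwy' := mul_mem hw hy
  have hxw := mul_mem hx hw
  have hxwy := mul_mem hxw hy
  -- relations in the group
  have r1 : x * (x * y) = y := by rw [← mul_assoc, hX x hx, one_mul]
  have r2 : (x * y) * w = x * w * y := by rw [mul_assoc, hcomm y hy w hw, ← mul_assoc]
  have r3 : x * (w * y) = x * w * y := (mul_assoc _ _ _).symm
  have r4 : (x * y) * (w * y) = x * w := by
    rw [hcomm w hw y hy, mul_assoc, ← mul_assoc y y w, hX y hy, one_mul]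
  have r5 : (x * w) * (x * w * y) = y := by rw [← mul_assoc, hX _ hxw, one_mul]
  have cancel : ∀ {s t : V ≃ₗ[ℝ] V}, t ∈ X → s * t = 1 → s = t := fun ht e => by
    rw [mul_eq_one_iff_eq_inv.1 e, hinv _ ht]
  have nxy : x * y ≠ 1 := fun e => hyx (cancel hy e).symm
  have nwy : w * y ≠ 1 := fun e => hwy (cancel hy e)
  have nxw : x * w ≠ 1 := fun e => hwx (cancel hw e).symm
  have nxwy : x * w * y ≠ 1 := fun e => hwxy (by
    have := cancel hy e
    calc w = x * (x * w) := by rw [← mul_assoc, hX x hx, one_mul]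
      _ = x * y := by rw [this])
  have d1 : x ≠ x * y := fun e => hy1 (left_eq_mul.1 e)
  have d2 : x ≠ w * y := fun e => hwxy (by rw [e, mul_assoc, hX y hy, mul_one])
  have d3 : x * y ≠ w * y := fun e => hwx (mul_right_cancel e).symm
  have d4 : x * w ≠ x * w * y := fun e => hy1 (left_eq_mul.1 e)
  have d5 : y ≠ x * y := fun e => hx1 (right_eq_mul.1 e)
  -- the differences of two pairs of axes
  have hq : ∀ {s : V ≃ₗ[ℝ] V}, s ∈ X → s ≠ 1 → s ≠ y → s * y ≠ 1 → y ≠ s * y →
      mul (ax y) (ax s - ax (s * y)) = (1 / 4 : ℝ) • (ax s - ax (s * y)) := by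
    intro s hs hs1 hsy hsy1 hysy
    rw [map_sub, h2A y hy s hs hy1 hs1 (Ne.symm hsy), h2A y hy (s * y) (mul_mem hs hy) hy1 hsy1 hysy,
      hcomm y hy s hs,
      show y * (s * y) = s by rw [← mul_assoc, hcomm y hy s hs, mul_assoc, hX y hy, mul_one]]
    module
  have q1 := hq hx hx1 (Ne.symm hyx) nxy d5
  have q2 := hq hw hw1 hwy nwy (fun e => hw1 (right_eq_mul.1 e))
  have q3 := hq hxw nxw (fun e => hwxy (by
    rw [← e, ← mul_assoc, hX x hx, one_mul])) nxwy (fun e => nxw (right_eq_mul.1 e))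
  have hin := CfsgLib.Majorana.fusion (hax y hy hy1).2.2.1.1 (c := 1 / 4) (d := 1 / 4)
      (by simp [Cfsg.Axial.majoranaSpectrum]) (by simp [Cfsg.Axial.majoranaSpectrum]) q1 q2
  rw [CfsgLib.Majorana.law_quarter] at hin
  have hprod : mul (ax x - ax (x * y)) (ax w - ax (w * y)) =
      (-1 / 4 : ℝ) • (ax (x * w) - ax (x * w * y)) := by
    simp only [map_sub, LinearMap.sub_apply]
    rw [h2A x hx w hw hx1 hw1 (Ne.symm hwx), h2A x hx _ hwy' hx1 nwy d2,
      h2A _ hxy w hw nxy hw1 (Ne.symm hwxy), h2A _ hxy _ hwy' nxy nwy d3, r2, r3, r4]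
    module
  rw [hprod] at hin
  have hzero := CfsgLib.Majorana.eq_zero_of_quarter hin (by rw [map_smul, q3, smul_comm])
  have heq : ax (x * w) = ax (x * w * y) :=
    sub_eq_zero.1 ((smul_eq_zero.1 hzero).resolve_left (by norm_num))
  have h3 := h2A _ hxw _ hxwy nxw nxwy d4
  rw [← heq, (hax _ hxw nxw).2.2.1.1.2.1, r5] at h3
  have h4 : ax y = (-6 : ℝ) • ax (x * w) := by linear_combination (norm := module) (8 : ℝ) • h3
  have h5 := h1 y hy hy1
  rw [h4, map_smul, LinearMap.map_smul, LinearMap.smul_apply, h1 _ hxw nxw] at h5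
  norm_num at h5

end Cfsg.Agent.S5543
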