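import Cfsg.Agent.Golay.M24Basics
-- Template for statement S5549 (row 5549; see /opt/grader/pristine/manifest.json for weights).
-- Copy to Cfsg/Agent/S5549.lean and replace the sorry. The statement below is byte-identical to the frozen
-- statement Cfsg.CfsgFrozen.S5549 (Cfsg/Statements/S5549.lean; the theorem Cfsg.gol19_linear_group_with_mathieu_orbits_on_golay_code_is_mathieu);
-- the grader kernel-checks Cfsg.Agent.S5549.result against that frozen type. Keep the theorem IN THIS FILE
-- (a `result` declared elsewhere and merely imported here is not credited); helpers may live anywhere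
-- under Cfsg/Agent/.
import Cfsg.Statements.S5549
-- import your own Cfsg.Agent.* helpers here

set_option autoImplicit false
open Cfsg

namespace Cfsg.Agent.S5549

open Cfsg CfsgLib.Golay Finset

/-- A map of 2-subsets that preserves meeting is induced by an injective map of points. -/
theorem pairMap_point {α : Type*} [DecidableEq α] [Fintype α] (hα : 5 ≤ Fintype.card α)
    (F : Finset α → Finset α) (hcard : ∀ T : Finset α, T.card = 2 → (F T).card = 2)
    (hinj : ∀ T U : Finset α, T.card = 2 → U.card = 2 → F T = F U → T = U)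
    (hmeet : ∀ T U : Finset α, T.card = 2 → U.card = 2 → T ≠ U →
      ((T ∩ U).Nonempty ↔ (F T ∩ F U).Nonempty)) :
    ∃ σ : Equiv.Perm α, ∀ a b : α, a ≠ b → F {a, b} = {σ a, σ b} := by
  have key : ∀ a : α, ∃ u, ∀ b, b ≠ a → u ∈ F {a, b} := by
    intro a
    have h4 : 4 ≤ (Finset.univ.erase a).card := by
      rw [Finset.card_erase_of_mem (Finset.mem_univ a), Finset.card_univ]; omega
    have hD : ∀ b, b ≠ a → ({a, b} : Finset α).card = 2 := fun b hb => by
      rw [Finset.card_pair hb.symm]
    have hne : ∀ b c, b ≠ a → b ≠ c → ({a, b} : Finset α) ≠ {a, c} := fun b c hb hbc h => by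
      have : b ∈ ({a, c} : Finset α) := h ▸ (by simp)
      simp [hb, hbc] at this
    have hI : ∀ b c, b ≠ a → c ≠ a → b ≠ c →
        (F {a, b} ∩ F {a, c}).Nonempty ∧ F {a, b} ≠ F {a, c} := fun b c hb hc hbc =>
      ⟨(hmeet _ _ (hD b hb) (hD c hc) (hne b c hb hbc)).mp ⟨a, by simp⟩,
        fun h => hne b c hb hbc (hinj _ _ (hD b hb) (hD c hc) h)⟩
    obtain ⟨b, hb⟩ := Finset.card_pos.mp (show 0 < (Finset.univ.erase a).card by omega)
    obtain ⟨c, hc⟩ := Finset.card_pos.mp
      (show 0 < ((Finset.univ.erase a).erase b).card by rw [Finset.card_erase_of_mem hb]; omega)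
    simp only [Finset.mem_erase, Finset.mem_univ, and_true] at hb hc
    obtain ⟨⟨u, hu⟩, hbc⟩ := hI b c hb hc.2 hc.1.symm
    rw [Finset.mem_inter] at hu
    obtain ⟨v, hv⟩ := Finset.card_eq_one.mp (show ((F {a, b}).erase u).card = 1 by
      rw [Finset.card_erase_of_mem hu.1, hcard _ (hD b hb)])
    obtain ⟨w, hw⟩ := Finset.card_eq_one.mp (show ((F {a, c}).erase u).card = 1 by
      rw [Finset.card_erase_of_mem hu.2, hcard _ (hD c hc.2)])
    have hFb : F {a, b} = {u, v} := by rw [← Finset.insert_erase hu.1, hv]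
    have hFc : F {a, c} = {u, w} := by rw [← Finset.insert_erase hu.2, hw]
    have hvw : v ≠ w := fun h => hbc (by rw [hFb, hFc, h])
    refine ⟨u, fun d hd => ?_⟩
    by_contra hud
    have sub : ∀ z, z ≠ a → z ≠ b → z ≠ c → u ∉ F {a, z} → F {a, z} = {v, w} := by
      intro z hz hzb hzc huz
      obtain ⟨⟨p, hp⟩, -⟩ := hI z b hz hb hzb
      obtain ⟨⟨q, hq⟩, -⟩ := hI z c hz hc.2 hzc
      rw [Finset.mem_inter, hFb] at hp
      rw [Finset.mem_inter, hFc] at hq
      simp only [Finset.mem_insert, Finset.mem_singleton] at hp hq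
      have hv' : v ∈ F {a, z} := by
        rcases hp.2 with rfl | rfl
        exacts [absurd hp.1 huz, hp.1]
      have hw' : w ∈ F {a, z} := by
        rcases hq.2 with rfl | rfl
        exacts [absurd hq.1 huz, hq.1]
      symm
      refine Finset.eq_of_subset_of_card_le ?_ ?_
      · simp [Finset.insert_subset_iff, hv', hw']
      · rw [Finset.card_pair hvw, hcard _ (hD z hz)]
    have hdb : d ≠ b := by rintro rfl; exact hud hu.1
    have hdc : d ≠ c := by rintro rfl; exact hud hu.2
    have hFd := sub d hd hdb hdc hud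
    obtain ⟨e, he⟩ := Finset.card_pos.mp
      (show 0 < ((((Finset.univ.erase a).erase b).erase c).erase d).card by
        rw [Finset.card_erase_of_mem, Finset.card_erase_of_mem, Finset.card_erase_of_mem]
        · omega
        · simp [hb]
        · simp [hc.1, hc.2]
        · simp [hd, hdb, hdc])
    simp only [Finset.mem_erase, Finset.mem_univ, and_true] at he
    obtain ⟨hed, hec, heb, hea⟩ := he
    by_cases hue : u ∈ F {a, e}
    · obtain ⟨⟨p, hp⟩, -⟩ := hI e d hea hd hed
      rw [Finset.mem_inter, hFd] at hp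
      simp only [Finset.mem_insert, Finset.mem_singleton] at hp
      have huv : u ≠ v := by
        rintro rfl
        simpa [hFb] using hcard _ (hD b hb)
      have huw : u ≠ w := by
        rintro rfl
        simpa [hFc] using hcard _ (hD c hc.2)
      have : F {a, e} = F {a, b} ∨ F {a, e} = F {a, c} := by
        rcases hp.2 with h | h
        · left; rw [hFb]; symm
          refine Finset.eq_of_subset_of_card_le ?_ (le_of_eq ?_)
          · simp [Finset.insert_subset_iff, hue, ← h, hp.1]
          · rw [Finset.card_pair huv, hcard _ (hD e hea)]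
        · right; rw [hFc]; symm
          refine Finset.eq_of_subset_of_card_le ?_ (le_of_eq ?_)
          · simp [Finset.insert_subset_iff, hue, ← h, hp.1]
          · rw [Finset.card_pair huw, hcard _ (hD e hea)]
      rcases this with h | h
      exacts [(hI e b hea hb heb).2 h, (hI e c hea hc.2 hec).2 h]
    · exact (hI e d hea hd hed).2 ((sub e hea heb hec hue).trans hFd.symm)
  choose s hs using key
  have hsinj : Function.Injective s := by
    intro a b hab
    by_contra hne
    obtain ⟨c, hc⟩ := Finset.card_pos.mp (show 0 < ((Finset.univ.erase a).erase b).card by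
      rw [Finset.card_erase_of_mem (by simp [Ne.symm hne]),
        Finset.card_erase_of_mem (Finset.mem_univ a), Finset.card_univ]; omega)
    simp only [Finset.mem_erase, Finset.mem_univ, and_true] at hc
    obtain ⟨d, hd⟩ := Finset.card_pos.mp
      (show 0 < (((Finset.univ.erase a).erase b).erase c).card by
        rw [Finset.card_erase_of_mem, Finset.card_erase_of_mem, Finset.card_erase_of_mem,
          Finset.card_univ]
        · omega
        · simp
        · simp [Ne.symm hne]
        · simp [hc.1, hc.2])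
    simp only [Finset.mem_erase, Finset.mem_univ, and_true] at hd
    have h1 := hs a c hc.2
    have h2 := hs b d hd.2.1
    rw [← hab] at h2
    have hdis := (hmeet {a, c} {b, d} (Finset.card_pair hc.2.symm)
      (Finset.card_pair hd.2.1.symm) (fun h => by
        have : a ∈ ({b, d} : Finset α) := h ▸ (by simp)
        simp [hne, Ne.symm hd.2.2] at this)).mpr ⟨s a, Finset.mem_inter.mpr ⟨h1, h2⟩⟩
    obtain ⟨z, hz⟩ := hdis
    simp only [Finset.mem_inter, Finset.mem_insert, Finset.mem_singleton] at hz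
    rcases hz with ⟨rfl | rfl, h | h⟩
    exacts [hne h, hd.2.2 h.symm, hc.1 h, hd.1 h.symm]
  refine ⟨Equiv.ofBijective s ⟨hsinj, Finite.surjective_of_injective hsinj⟩, fun a b hab => ?_⟩
  symm
  refine Finset.eq_of_subset_of_card_le ?_ (le_of_eq ?_)
  · have h2 := hs b a hab
    rw [Finset.pair_comm] at h2
    simp only [Equiv.ofBijective_apply, Finset.insert_subset_iff, Finset.singleton_subset_iff]
    exact ⟨hs a b hab.symm, h2⟩
  · rw [hcard _ (Finset.card_pair hab), Finset.card_pair]
    simpa using hab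

abbrev Code := ↥Cfsg.golayCode

/-- Sum of the coordinates in `T`. -/
def sumEv (T : Finset GolayPt) : Code →ₗ[ZMod 2] ZMod 2 :=
  ∑ p ∈ T, (LinearMap.proj p).comp Cfsg.golayCode.subtype

theorem sumEv_apply (T : Finset GolayPt) (c : Code) :
    sumEv T c = ∑ p ∈ T, (c : GolayPt → ZMod 2) p := by
  simp [sumEv]

/-- The number of words of weight 8 or 16 on which a functional is nonzero. -/
noncomputable def cnt (f : Code →ₗ[ZMod 2] ZMod 2) : ℕ :=
  Set.ncard {c : Code | (hammingNorm (c : GolayPt → ZMod 2) = 8 ∨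
    hammingNorm (c : GolayPt → ZMod 2) = 16) ∧ f c = 1}

theorem zmod_two_eq (a b : ZMod 2) (h : a ≠ 0 ↔ b ≠ 0) : a = b := by
  revert h; revert a b; decide

theorem code_comp {g : Equiv.Perm GolayPt} (hg : g ∈ Cfsg.M24) {w : GolayPt → ZMod 2}
    (hw : w ∈ Cfsg.golayCode) : (fun p => w (g.symm p)) ∈ Cfsg.golayCode := by
  obtain ⟨w', hw', he⟩ := M24_image hg (s := support₂ w) ⟨w, hw, rfl⟩
  suffices h : (fun p => w (g.symm p)) = w' from h ▸ hw'
  funext p
  apply zmod_two_eq
  have := Finset.ext_iff.mp he p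
  simp only [support₂, Finset.mem_filter, Finset.mem_univ, true_and, Finset.mem_image] at this
  rw [this]
  exact ⟨fun h => ⟨g.symm p, h, by simp⟩, fun ⟨q, hq, hqp⟩ => by simpa [← hqp] using hq⟩

theorem norm_comp (g : Equiv.Perm GolayPt) (w : GolayPt → ZMod 2) :
    hammingNorm (fun p => w (g.symm p)) = hammingNorm w := by
  simp only [hammingNorm]
  refine Finset.card_equiv g.symm (fun p => ?_)
  simp

theorem norm_add_one (w : GolayPt → ZMod 2) :
    hammingNorm (w + fun _ => (1 : ZMod 2)) + hammingNorm w = 24 := by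
  simp only [hammingNorm, Pi.add_apply]
  rw [← CfsgLib.Golay.card_golayPt, ← Finset.card_univ, add_comm,
    ← Finset.card_filter_add_card_filter_not (s := Finset.univ) (fun p => w p ≠ 0)]
  congr 2
  ext p
  simp only [Finset.mem_filter, Finset.mem_univ, true_and]
  exact (by decide : ∀ a : ZMod 2, a + 1 ≠ 0 ↔ ¬a ≠ 0) (w p)

theorem cnt_image {g : Equiv.Perm GolayPt} (hg : g ∈ Cfsg.M24) (T : Finset GolayPt) :
    cnt (sumEv (T.image g)) = cnt (sumEv T) := by
  symm
  refine Set.ncard_congr (fun c _ => (⟨_, code_comp hg c.2⟩ : Code)) ?_ ?_ ?_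
  · rintro c ⟨h1, h2⟩
    refine ⟨by simpa only [norm_comp] using h1, ?_⟩
    rw [sumEv_apply] at h2 ⊢
    rw [Finset.sum_image g.injective.injOn]
    simpa using h2
  · intro a b _ _ h
    apply Subtype.ext; funext q
    simpa using congrFun (congrArg Subtype.val h) (g q)
  · rintro d ⟨h1, h2⟩
    have hd := code_comp (inv_mem hg) d.2
    refine ⟨⟨_, hd⟩, ⟨by simpa only [norm_comp] using h1, ?_⟩, ?_⟩
    · rw [sumEv_apply] at h2 ⊢
      rw [Finset.sum_image g.injective.injOn] at h2
      simpa [Equiv.Perm.inv_def] using h2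
    · apply Subtype.ext; funext q
      simp [Equiv.Perm.inv_def]

theorem cnt_base (k : ℕ) (hk : k ≤ 5) : cnt (sumEv ((Finset.range k).image bp)) =
    ((Finset.range 4096).filter fun c => (wt 24 (word c) = 8 ∨ wt 24 (word c) = 16) ∧
      (∑ i ∈ Finset.range k, vec (word c) (bp i)) = 1).card := by
  have hbp : Set.InjOn bp (Finset.range k : Set ℕ) := by
    intro i hi j hj h
    simp only [Finset.coe_range, Set.mem_Iio] at hi hj
    rcases lt_trichotomy i j with h' | h' | h'
    · exact absurd h (bp_ne j (by omega) i h')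
    · exact h'
    · exact absurd h.symm (bp_ne i (by omega) j h')
  rw [← Set.ncard_coe_finset]
  symm
  refine Set.ncard_congr (fun c _ => (⟨_, vec_word_mem c⟩ : Code)) ?_ ?_ ?_
  · intro c hc
    simp only [Finset.coe_filter, Finset.mem_range, Set.mem_ofPred_eq] at hc
    refine ⟨by simpa [hammingNorm_eq, support_vec, card_pts] using hc.2.1, ?_⟩
    rw [sumEv_apply, Finset.sum_image hbp]
    exact hc.2.2
  · intro a b ha hb h
    simp only [Finset.coe_filter, Finset.mem_range, Set.mem_ofPred_eq] at ha hb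
    rw [← word_mod a ha.1, ← word_mod b hb.1,
      vec_inj (word_lt a ha.1) (word_lt b hb.1) (Subtype.ext_iff.mp h)]
  · rintro ⟨w, hw⟩ ⟨h1, h2⟩
    obtain ⟨c, hc, rfl⟩ := (mem_code_iff w).mp hw
    refine ⟨c, ?_, rfl⟩
    simp only [Finset.coe_filter, Finset.mem_range, Set.mem_ofPred_eq]
    rw [sumEv_apply, Finset.sum_image hbp] at h2
    exact ⟨hc, by simpa [hammingNorm_eq, support_vec, card_pts] using h1, h2⟩

theorem cnt_card_two {T : Finset GolayPt} (hT : T.card = 2) : cnt (sumEv T) = 704 := by
  obtain ⟨a, b, hab, rfl⟩ := Finset.card_eq_two.mp hT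
  let x : ℕ → GolayPt := fun i => if i = 0 then a else b
  obtain ⟨g, hg, hgx⟩ := exists_mem_map_base 2 (by norm_num) x (by
    intro i hi j hj h; interval_cases i <;> interval_cases j <;> simp_all [x])
  have he : ({a, b} : Finset GolayPt) = ((Finset.range 2).image bp).image g := by
    simp [show Finset.range 2 = {0, 1} from rfl, hgx, x]
  rw [he, cnt_image hg, cnt_base 2 (by norm_num), show 4096 = 64 * 64 from rfl,
    card_filter_range_mul]
  decide +kernel

theorem cnt_card_four {T : Finset GolayPt} (hT : T.card = 4) : cnt (sumEv T) = 768 := by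
  let e : Fin 4 ≃ T := (Fintype.equivFinOfCardEq (by simp [hT])).symm
  let x : ℕ → GolayPt := fun i => if h : i < 4 then (e ⟨i, h⟩ : GolayPt) else none
  obtain ⟨g, hg, hgx⟩ := exists_mem_map_base 4 (by norm_num) x fun i hi j hj h => by
    simp only [x, hi, hj, dif_pos] at h
    simpa using e.injective (Subtype.ext h)
  have he : T = ((Finset.range 4).image bp).image g := by
    ext p
    simp only [Finset.mem_image, Finset.mem_range, exists_exists_and_eq_and]
    constructor
    · intro hp
      obtain ⟨i, hi⟩ := e.surjective ⟨p, hp⟩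
      exact ⟨i, i.2, by rw [hgx i i.2]; simp [x, hi]⟩
    · rintro ⟨i, hi, rfl⟩
      rw [hgx i hi]; simp [x, hi]
  rw [he, cnt_image hg, cnt_base 4 (by norm_num), show 4096 = 64 * 64 from rfl,
    card_filter_range_mul]
  decide +kernel

theorem cnt_zero : cnt (sumEv ∅) = 0 := by
  simp [cnt, sumEv_apply]

theorem sumEv_symmDiff (T U : Finset GolayPt) :
    sumEv (symmDiff T U) = sumEv T + sumEv U := by
  refine LinearMap.ext fun c => ?_
  simp only [LinearMap.add_apply, sumEv_apply]
  have h : ∀ S : Finset GolayPt, ∑ p ∈ S, (c : GolayPt → ZMod 2) p =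
      ∑ p, if p ∈ S then (c : GolayPt → ZMod 2) p else 0 := fun S => by
    rw [Finset.sum_ite_mem, Finset.univ_inter]
  rw [h, h T, h U, ← Finset.sum_add_distrib]
  refine Finset.sum_congr rfl fun p _ => ?_
  simp only [Finset.mem_symmDiff]
  generalize (c : GolayPt → ZMod 2) p = a
  by_cases hT : p ∈ T <;> by_cases hU : p ∈ U <;> simp [hT, hU] <;> revert a <;> decide

theorem sumEv_octad {o : Finset GolayPt} (ho : o ∈ octads) : sumEv o = 0 := by
  obtain ⟨v, hv, rfl⟩ := ho.1
  refine LinearMap.ext fun c => ?_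
  rw [sumEv_apply, LinearMap.zero_apply]
  have h := dot_eq_zero hv c.2
  rw [← h, support₂, Finset.sum_filter]
  refine Finset.sum_congr rfl fun p _ => ?_
  have key : ∀ a b : ZMod 2, (if a ≠ 0 then b else 0) = a * b := by decide
  exact key (v p) ((c : GolayPt → ZMod 2) p)

theorem one_mem : (fun _ => (1 : ZMod 2) : GolayPt → ZMod 2) ∈ Cfsg.golayCode :=
  Submodule.subset_span (Or.inr rfl)

theorem sumEv_one (T : Finset GolayPt) : sumEv T ⟨_, one_mem⟩ = (T.card : ZMod 2) := by
  simp [sumEv_apply]

theorem reduce : ∀ n : ℕ, ∀ T : Finset GolayPt, T.card = n →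
    ∃ U : Finset GolayPt, U.card ≤ 4 ∧ sumEv U = sumEv T := by
  intro n
  induction n using Nat.strong_induction_on with
  | _ n ih =>
    intro T hT
    by_cases h4 : n ≤ 4
    · exact ⟨T, by omega, rfl⟩
    obtain ⟨t, ht, htc⟩ := Finset.exists_subset_card_eq (s := T) (n := 5) (by omega)
    obtain ⟨o, ⟨ho, hto⟩, -⟩ := octads_steiner.2 t htc
    have h1 := card_symmDiff_add T o
    have h2 : 5 ≤ (T ∩ o).card := by
      rw [← htc]; exact Finset.card_le_card (Finset.subset_inter ht hto)
    rw [octad_card ho] at h1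
    obtain ⟨U, hU, hUe⟩ := ih _ (show (symmDiff T o).card < n by omega) _ rfl
    exact ⟨U, hU, by rw [hUe, sumEv_symmDiff, sumEv_octad ho, add_zero]⟩

theorem sum_repr (f : Code →ₗ[ZMod 2] ZMod 2) : ∃ T, f = sumEv T := by
  obtain ⟨F, hF⟩ := f.exists_extend
  classical
  refine ⟨Finset.univ.filter fun p => F (Pi.single p 1) ≠ 0, LinearMap.ext fun c => ?_⟩
  rw [sumEv_apply, Finset.sum_filter]
  have h : f c = F (c : GolayPt → ZMod 2) := by rw [← hF]; rfl
  rw [h]
  conv_lhs => rw [← Finset.univ_sum_single (c : GolayPt → ZMod 2), map_sum]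
  refine Finset.sum_congr rfl fun p _ => ?_
  rw [show Pi.single (M := fun _ => ZMod 2) p ((c : GolayPt → ZMod 2) p) =
    (c : GolayPt → ZMod 2) p • Pi.single p (1 : ZMod 2) from by
      rw [← Pi.single_smul]; simp, map_smul, smul_eq_mul]
  generalize (c : GolayPt → ZMod 2) p = a
  generalize F (Pi.single p 1) = b
  revert a b; decide

theorem duad_of_cnt (f : Code →ₗ[ZMod 2] ZMod 2) (hf1 : f ⟨_, one_mem⟩ = 0)
    (hf : cnt f = 704) : ∃ T : Finset GolayPt, T.card = 2 ∧ f = sumEv T := by
  obtain ⟨T₀, rfl⟩ := sum_repr f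
  obtain ⟨T, hT, he⟩ := reduce _ T₀ rfl
  rw [← he] at hf hf1 ⊢
  rw [sumEv_one, ZMod.natCast_eq_zero_iff_even] at hf1
  refine ⟨T, ?_, rfl⟩
  obtain ⟨m, hm⟩ := hf1
  have hm2 : m ≤ 2 := by omega
  interval_cases m
  · rw [Finset.card_eq_zero.mp (by omega : T.card = 0), cnt_zero] at hf; omega
  · omega
  · rw [cnt_card_four (by omega : T.card = 4)] at hf; omega

theorem duad_inj {T U : Finset GolayPt} (hT : T.card = 2) (hU : U.card = 2)
    (h : sumEv T = sumEv U) : T = U := by
  by_contra hne
  have h0 : sumEv (symmDiff T U) = sumEv ∅ := by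
    refine LinearMap.ext fun c => ?_
    rw [sumEv_symmDiff, h]
    simp [sumEv_apply, CharTwo.add_self_eq_zero]
  have h1 := card_symmDiff_add T U
  have h3 : (T ∩ U).card < 2 := by
    by_contra h3
    have hTi := Finset.eq_of_subset_of_card_le (Finset.inter_subset_left : T ∩ U ⊆ T) (by omega)
    have hUi := Finset.eq_of_subset_of_card_le (Finset.inter_subset_right : T ∩ U ⊆ U) (by omega)
    exact hne (hTi.symm.trans hUi)
  have hc : cnt (sumEv (symmDiff T U)) = 0 := by rw [h0, cnt_zero]
  interval_cases hk : (T ∩ U).card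
  · rw [cnt_card_four (by omega : (symmDiff T U).card = 4)] at hc; omega
  · rw [cnt_card_two (by omega : (symmDiff T U).card = 2)] at hc; omega

theorem meet_iff {T U : Finset GolayPt} (hT : T.card = 2) (hU : U.card = 2) (hne : T ≠ U) :
    (T ∩ U).Nonempty ↔ cnt (sumEv T + sumEv U) = 704 := by
  rw [← sumEv_symmDiff, ← Finset.card_pos]
  have h1 := card_symmDiff_add T U
  have h3 : (T ∩ U).card < 2 := by
    by_contra h3
    have hTi := Finset.eq_of_subset_of_card_le (Finset.inter_subset_left : T ∩ U ⊆ T) (by omega)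
    have hUi := Finset.eq_of_subset_of_card_le (Finset.inter_subset_right : T ∩ U ⊆ U) (by omega)
    exact hne (hTi.symm.trans hUi)
  interval_cases hk : (T ∩ U).card
  · rw [cnt_card_four (by omega : (symmDiff T U).card = 4)]; simp
  · rw [cnt_card_two (by omega : (symmDiff T U).card = 2)]; simp

open scoped Pointwise in
theorem mem_M24_of_code_map {g : Equiv.Perm GolayPt}
    (h : ∀ w ∈ Cfsg.golayCode, (fun p => w (g.symm p)) ∈ Cfsg.golayCode) : g ∈ Cfsg.M24 := by
  show g • supports (Cfsg.golayCode : Set (GolayPt → ZMod 2)) = _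
  refine Set.eq_of_subset_of_ncard_le ?_ ?_ (Set.toFinite _)
  · rintro _ ⟨s, ⟨w, hw, rfl⟩, rfl⟩
    refine ⟨_, h w hw, ?_⟩
    ext q
    show q ∈ support₂ _ ↔ q ∈ g • support₂ w
    rw [Finset.mem_smul_finset]
    simp only [support₂, Finset.mem_filter, Finset.mem_univ, true_and]
    constructor
    · intro hq; exact ⟨g.symm q, hq, by simp⟩
    · rintro ⟨p, hp, rfl⟩; simpa using hp
  · rw [Set.ncard_smul_set]

/-- Let X be a group of linear automorphisms of the length-24 binary Golay code of the definitions that fix the all-ones word, containing the coordinate-permutation action of every element of the code's automorphism group (the Mathieu group of degree 24), and such that every element of X sends each codeword into its orbit under that Mathieu group up to adding the all-ones word (X has the same orbits as the Mathieu group on the code modulo the all-ones word). Then every element of X agrees, modulo the all-ones word, with the action of a single element of the Mathieu group: X induces exactly the Mathieu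 group on the code modulo the all-ones word. -/
theorem result (X : Subgroup (↥Cfsg.golayCode ≃ₗ[ZMod 2] ↥Cfsg.golayCode)) (h1 : ∀ x ∈ X, ∀ e : ↥Cfsg.golayCode, (e : (Cfsg.GolayPt → ZMod 2)) = (fun _ => (1 : ZMod 2)) → x e = e) (hM : ∀ σ ∈ Cfsg.M24, ∃ x ∈ X, ∀ c : ↥Cfsg.golayCode, ((x c : ↥Cfsg.golayCode) : (Cfsg.GolayPt → ZMod 2)) = fun p => (c : (Cfsg.GolayPt → ZMod 2)) (σ.symm p)) (horb : ∀ x ∈ X, ∀ c : ↥Cfsg.golayCode, ∃ σ ∈ Cfsg.M24, ((x c : ↥Cfsg.golayCode) : (Cfsg.GolayPt → ZMod 2)) = (fun p => (c : (Cfsg.GolayPt → ZMod 2)) (σ.symm p)) ∨ ((x c : ↥Cfsg.golayCode) : (Cfsg.GolayPt → ZMod 2)) = (fun p => (c : (Cfsg.GolayPt → ZMod 2)) (σ.symm p)) + fun _ => (1 : ZMod 2)) (x : ↥Cfsg.golayCode ≃ₗ[ZMod 2] ↥Cfsg.golayCode) (hx : x ∈ X) : ∃ σ ∈ Cfsg.M24, ∀ c : ↥Cfsg.golayCode, ((x c : ↥Cfsg.golayCode) : (Cfsg.GolayPt → ZMod 2)) = (fun p => (c : (Cfsg.GolayPt → ZMod 2)) (σ.symm p)) ∨ ((x c : ↥Cfsg.golayCode) : (Cfsg.GolayPt → ZMod 2)) = (fun p => (c : (Cfsg.GolayPt → ZMod 2)) (σ.symm p)) + fun _ => (1 : ZMod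 2) := by
  have hone : x ⟨_, one_mem⟩ = ⟨_, one_mem⟩ := h1 x hx _ rfl
  have hnorm : ∀ c : Code, (hammingNorm ((x c : Code) : GolayPt → ZMod 2) = 8 ∨
      hammingNorm ((x c : Code) : GolayPt → ZMod 2) = 16) ↔
      (hammingNorm (c : GolayPt → ZMod 2) = 8 ∨ hammingNorm (c : GolayPt → ZMod 2) = 16) := by
    intro c
    obtain ⟨σ, -, h | h⟩ := horb x hx c
    · rw [h, norm_comp]
    · rw [h]
      have h2 := norm_add_one (fun p => (c : GolayPt → ZMod 2) (σ.symm p))
      rw [norm_comp] at h2
      omega
  have hcnt : ∀ f : Code →ₗ[ZMod 2] ZMod 2, cnt (f.comp x.toLinearMap) = cnt f := by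
    intro f
    refine Set.ncard_congr (fun c _ => x c) (fun c hc => ⟨(hnorm c).mpr hc.1, hc.2⟩)
      (fun a b _ _ h => x.injective h) fun d hd =>
        ⟨x.symm d, ⟨(hnorm _).mp (by simpa using hd.1), by simpa using hd.2⟩, by simp⟩
  have hpull : ∀ T : Finset GolayPt, T.card = 2 →
      ∃ U : Finset GolayPt, U.card = 2 ∧ (sumEv T).comp x.toLinearMap = sumEv U := by
    intro T hT
    refine duad_of_cnt _ ?_ (by rw [hcnt, cnt_card_two hT])
    show sumEv T (x ⟨_, one_mem⟩) = 0
    rw [hone, sumEv_one, hT]; decide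
  choose! F hF2 hFe using hpull
  obtain ⟨τ, hτ⟩ := pairMap_point (by rw [CfsgLib.Golay.card_golayPt]; norm_num) F hF2
    (fun T U hT hU h => duad_inj hT hU <| LinearMap.ext fun c => by
      have := LinearMap.congr_fun ((hFe T hT).trans ((congrArg sumEv h).trans (hFe U hU).symm))
        (x.symm c)
      simpa using this)
    (fun T U hT hU hne => by
      have hne' : F T ≠ F U := fun h => hne <| duad_inj hT hU <| LinearMap.ext fun c => by
        have := LinearMap.congr_fun ((hFe T hT).trans ((congrArg sumEv h).trans (hFe U hU).symm))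
          (x.symm c)
        simpa using this
      rw [meet_iff hT hU hne, meet_iff (hF2 T hT) (hF2 U hU) hne', ← hFe T hT, ← hFe U hU,
        ← LinearMap.add_comp, hcnt])
  have hk : ∀ c : Code, ∃ k : ZMod 2, ∀ p,
      ((x c : Code) : GolayPt → ZMod 2) p = (c : GolayPt → ZMod 2) (τ p) + k := by
    intro c
    refine ⟨((x c : Code) : GolayPt → ZMod 2) none + (c : GolayPt → ZMod 2) (τ none), fun p => ?_⟩
    by_cases hp : p = none
    · subst hp
      generalize ((x c : Code) : GolayPt → ZMod 2) none = a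
      generalize (c : GolayPt → ZMod 2) (τ none) = b
      revert a b; decide
    have h2 := LinearMap.congr_fun (hFe {p, none} (Finset.card_pair hp)) c
    rw [hτ p none hp, LinearMap.comp_apply, sumEv_apply, sumEv_apply, Finset.sum_pair hp,
      Finset.sum_pair (τ.injective.ne hp)] at h2
    revert h2
    simp only [LinearEquiv.coe_coe]
    generalize ((x c : Code) : GolayPt → ZMod 2) p = a
    generalize ((x c : Code) : GolayPt → ZMod 2) none = b
    generalize (c : GolayPt → ZMod 2) (τ p) = d
    generalize (c : GolayPt → ZMod 2) (τ none) = e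
    revert a b d e; decide
  have hmem : τ.symm ∈ Cfsg.M24 := by
    apply mem_M24_of_code_map
    intro w hw
    obtain ⟨k, hk⟩ := hk ⟨w, hw⟩
    have : (fun p => w (τ p)) = ((x ⟨w, hw⟩ : Code) : GolayPt → ZMod 2) + fun _ => k := by
      funext p
      rw [Pi.add_apply, hk p, add_assoc, CharTwo.add_self_eq_zero, add_zero]
    rw [show (fun p => w (τ.symm.symm p)) = fun p => w (τ p) by simp, this]
    refine Submodule.add_mem _ (x ⟨w, hw⟩).2 ?_
    rcases (by decide : ∀ k : ZMod 2, k = 0 ∨ k = 1) k with rfl | rfl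
    · exact Submodule.zero_mem _
    · exact one_mem
  refine ⟨τ.symm, hmem, fun c => ?_⟩
  obtain ⟨k, hk⟩ := hk c
  rcases (by decide : ∀ k : ZMod 2, k = 0 ∨ k = 1) k with rfl | rfl
  · left; funext p; simpa using hk p
  · right; funext p; simpa using hk p

end Cfsg.Agent.S5549
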