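import Cfsg.Statements.S5555
import Cfsg.Agent.ThreeTri.SUDerived
import Mathlib.GroupTheory.Complement

set_option autoImplicit false
open Cfsg

namespace Cfsg.Agent.S5555

open CfsgLib.ThreeTri

variable {G : Type*} [Group G] [Finite G] {D : Set G}

/-- Splitting over a normal subgroup with quotient of order `54` generated by three involutions. -/
theorem splits_of_gens (hD : Cfsg.IsThreeTranspositionClass D) (O : Subgroup G) [O.Normal]
    {Q : Type*} [Group Q] [Finite Q] (hQ : Nat.card Q = 54) (π : G →* Q) (hπ : Function.Surjective π)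
    (hker : π.ker = O) {x y z : Q} (hx : orderOf x = 2) (hy : orderOf y = 2) (hz : orderOf z = 2)
    (hgen : Subgroup.closure {x, y, z} = ⊤) : ∃ K : Subgroup G, O.IsComplement' K := by
  classical
  obtain ⟨⟨hord, h3⟩, ⟨d₀, hd₀, hconj⟩, hclo⟩ := hD
  haveI : Fact (Nat.Prime 2) := ⟨Nat.prime_two⟩
  have hsq : ∀ d ∈ D, d * d = 1 := fun d hd => by rw [← pow_two, ← hord d hd]; exact pow_orderOf_eq_one d
  have hconjD : ∀ g : G, ∀ d ∈ D, g * d * g⁻¹ ∈ D := by
    intro g d hd
    rw [hconj, conjugatesOf, Set.mem_setOf_eq] at hd ⊢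
    exact hd.trans (isConj_iff.2 ⟨g, rfl⟩)
  -- every transposition maps to an involution
  have himg : ∀ d ∈ D, orderOf (π d) = 2 := by
    intro d hd
    refine orderOf_eq_prime (by rw [pow_two, ← map_mul, hsq d hd, map_one]) fun h => ?_
    have hDO : D ⊆ (O : Set G) := by
      intro e he
      rw [hconj, conjugatesOf, Set.mem_setOf_eq] at he hd
      obtain ⟨g, rfl⟩ := isConj_iff.1 (hd.symm.trans he)
      rw [SetLike.mem_coe, ← hker, MonoidHom.mem_ker, map_mul, map_mul, h, mul_one, map_inv, mul_inv_cancel]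
    have hOtop : O = ⊤ := top_le_iff.1 (hclo ▸ (Subgroup.closure_le O).2 hDO)
    obtain ⟨g, hg⟩ := hπ x
    have : g ∈ π.ker := by rw [hker, hOtop]; trivial
    rw [MonoidHom.mem_ker, hg] at this
    simp [this] at hx
  -- every involution of the quotient is the image of a transposition
  have hlift : ∀ u : Q, orderOf u = 2 → ∃ d ∈ D, π d = u := by
    intro u hu
    have hfac : (Nat.card Q).factorization 2 = 1 := by
      rw [hQ]
      refine le_antisymm ?_ ?_
      · by_contra h
        have := (Nat.Prime.pow_dvd_iff_le_factorization Nat.prime_two (by norm_num : (54 : ℕ) ≠ 0)).2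
          (show 2 ≤ (54 : ℕ).factorization 2 by omega)
        norm_num at this
      · exact (Nat.Prime.dvd_iff_one_le_factorization Nat.prime_two (by norm_num)).1 (by norm_num)
    let P : Sylow 2 Q := Sylow.ofCard (Subgroup.zpowers (π d₀))
      (by rw [Nat.card_zpowers, himg _ hd₀, hfac, pow_one])
    let R : Sylow 2 Q := Sylow.ofCard (Subgroup.zpowers u) (by rw [Nat.card_zpowers, hu, hfac, pow_one])
    obtain ⟨m, hm⟩ := MulAction.exists_smul_eq Q P R
    have h1 : u ∈ ((m • P : Sylow 2 Q) : Subgroup Q) := by rw [hm]; exact Subgroup.mem_zpowers u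
    rw [Sylow.coe_subgroup_smul, Subgroup.mem_pointwise_smul_iff_inv_smul_mem] at h1
    obtain ⟨i, hi⟩ := h1
    have h5 : u = m * π d₀ ^ i * m⁻¹ := by
      have := congrArg (fun w => m * w * m⁻¹) hi
      simp at this
      rw [this]; group
    have hi1 : π d₀ ^ i = π d₀ := by
      rcases Int.emod_two_eq_zero_or_one i with h0 | h0
      · exfalso
        rw [← zpow_mod_orderOf, himg _ hd₀, show i % ((2 : ℕ) : ℤ) = 0 from h0, zpow_zero, mul_one,
          mul_inv_cancel] at h5
        simp [h5] at hu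
      · rw [← zpow_mod_orderOf, himg _ hd₀, show i % ((2 : ℕ) : ℤ) = 1 from h0, zpow_one]
    obtain ⟨g, rfl⟩ := hπ m
    exact ⟨g * d₀ * g⁻¹, hconjD g d₀ hd₀, by rw [h5, hi1, map_mul, map_mul, map_inv]⟩
  obtain ⟨a, ha, hax⟩ := hlift x hx
  obtain ⟨b, hb, hby⟩ := hlift y hy
  obtain ⟨c, hc, hcz⟩ := hlift z hz
  -- images with different values do not commute
  have hthree : ∀ d ∈ D, ∀ e ∈ D, π d ≠ π e → (d * e) ^ 3 = 1 := by
    intro d hd e he hne
    refine (h3 d hd e he).resolve_left fun h2 => ?_
    have := four_dvd_of_commute (himg d hd) (himg e he) hne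
      ((commute_of_mul_sq (hsq d hd) (hsq e he) h2).map π)
    rw [hQ] at this
    norm_num at this
  have hbig : ∀ u v : Q, orderOf u = 2 → orderOf v = 2 → Subgroup.closure ({u, v} : Set Q) = ⊤ → False := by
    intro u v hu hv htop
    have huu : u * u = 1 := by rw [← pow_two, ← hu]; exact pow_orderOf_eq_one u
    have hvv : v * v = 1 := by rw [← pow_two, ← hv]; exact pow_orderOf_eq_one v
    have huv : u ≠ v ∨ u = v := ne_or_eq u v
    rcases huv with hne | rfl
    · obtain ⟨p, hp, rfl⟩ := hlift u hu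
      obtain ⟨q, hq, rfl⟩ := hlift v hv
      have h := card_dihedral_le huu hvv (by rw [← map_mul, ← map_pow, hthree p hp q hq hne, map_one])
      rw [htop, Subgroup.card_top, hQ] at h
      norm_num at h
    · have h := card_dihedral_le huu huu (by rw [huu, one_pow])
      rw [htop, Subgroup.card_top, hQ] at h
      norm_num at h
  have hxy : x ≠ y := fun e => hbig y z hy hz (by
    rw [← hgen, e]; simp)
  have hyz : y ≠ z := fun e => hbig x y hx hy (by
    rw [← hgen, e]; simp)
  have hxz : x ≠ z := fun e => hbig x y hx hy (by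
    rw [← hgen, ← e]; congr 1; ext; simp; tauto)
  have hd : (a * (b * c * b)) ^ 3 = 1 := by
    have hbcb : b * c * b ∈ D := by
      have := hconjD b c hc
      rwa [inv_eq_of_mul_eq_one_left (hsq b hb)] at this
    refine hthree a ha _ hbcb fun e => hbig x y hx hy (top_le_iff.1 ?_)
    rw [← hgen, Subgroup.closure_le]
    have e2 : z = y * x * y := by
      have hyy : y * y = 1 := by rw [← pow_two, ← hy]; exact pow_orderOf_eq_one y
      rw [map_mul, map_mul, hax, hby, hcz] at e
      rw [e]
      simp only [mul_assoc, hyy, mul_one]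
      rw [← mul_assoc, hyy, one_mul]
    have m1 : x ∈ Subgroup.closure ({x, y} : Set Q) := Subgroup.subset_closure (by simp)
    have m2 : y ∈ Subgroup.closure ({x, y} : Set Q) := Subgroup.subset_closure (by simp)
    rintro w (rfl | rfl | rfl)
    exacts [m1, m2, e2 ▸ mul_mem (mul_mem m2 m1) m2]
  have hK := card_closure_le (hsq a ha) (hsq b hb) (hsq c hc)
    (hthree a ha b hb (by rw [hax, hby]; exact hxy)) (hthree b hb c hc (by rw [hby, hcz]; exact hyz))
    (hthree a ha c hc (by rw [hax, hcz]; exact hxz)) hd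
  set K := Subgroup.closure ({a, b, c} : Set G) with hKdef
  have hmap : K.map π = ⊤ := by
    rw [hKdef, MonoidHom.map_closure, ← hgen]
    simp [Set.image_insert_eq, hax, hby, hcz]
  refine ⟨K, ?_⟩
  have hsurjK : Function.Surjective (π.comp K.subtype) := by
    intro q
    obtain ⟨k, hk, rfl⟩ := (hmap.symm ▸ trivial : q ∈ K.map π)
    exact ⟨⟨k, hk⟩, rfl⟩
  have hinjK : Function.Injective (π.comp K.subtype) :=
    ((Nat.bijective_iff_surjective_and_card _).2 ⟨hsurjK,
      le_antisymm (hQ.symm ▸ hK) (Nat.card_le_card_of_surjective _ hsurjK)⟩).1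
  refine Subgroup.isComplement'_of_disjoint_and_mul_eq_univ ?_ ?_
  · rw [disjoint_iff, eq_bot_iff]
    rintro g ⟨hgO, hgK⟩
    have h' : (π.comp K.subtype) ⟨g, hgK⟩ = (π.comp K.subtype) 1 := by
      rw [map_one]
      show π g = 1
      rw [← MonoidHom.mem_ker, hker]; exact hgO
    simpa using congrArg Subtype.val (hinjK h')
  · refine Set.eq_univ_of_forall fun g => ?_
    obtain ⟨k, hk⟩ := hsurjK (π g)
    refine ⟨g * (k : G)⁻¹, ?_, k, k.2, by simp⟩
    rw [SetLike.mem_coe, ← hker, MonoidHom.mem_ker, map_mul, map_inv]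
    have hk' : π (k : G) = π g := hk
    rw [hk', mul_inv_cancel]

/-- Let G be a finite group generated by a conjugacy class D of 3-transpositions, with trivial centre and with generalized Fitting subgroup F*(G) = O₂(G) (so the Fitting subgroup is O₂(G) too). If G/O₂(G) is isomorphic to the derived group of SU₃(2) (the group of order 54 generated by nine 3-transpositions), then O₂(G) has a complement in G. -/
theorem result {G : Type*} [Group G] [Finite G] {D : Set G} (hD : Cfsg.IsThreeTranspositionClass D)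
    (hZ : Subgroup.center G = ⊥) (hF : Cfsg.generalizedFittingSubgroup G = Cfsg.pCore 2 G)
    (hq : ∃ (F : Type) (_ : Field F) (_ : Fintype F), Fintype.card F = 4 ∧ Nonempty (G ⧸ Cfsg.pCore 2 G ≃* ↥(commutator ↥(Cfsg.SU 3 F 2)))) :
    ∃ K : Subgroup G, (Cfsg.pCore 2 G).IsComplement' K := by
  obtain ⟨F, _, _, hF4, ⟨e⟩⟩ := hq
  obtain ⟨hcard, x, y, z, hx, hy, hz, hgen, -⟩ := exists_gens hF4
  refine splits_of_gens hD _ hcard (e.toMonoidHom.comp (QuotientGroup.mk' _))
    (e.surjective.comp (QuotientGroup.mk'_surjective _)) ?_ hx hy hz hgen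
  ext g
  simp

end Cfsg.Agent.S5555
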