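import Cfsg.Statements.S5557
import Cfsg.Agent.TwoRadical.Main

set_option autoImplicit false
open Cfsg

namespace Cfsg.Agent.S5557

/-- Let G be a finite group generated by a conjugacy class D of 3-transpositions, with trivial centre and with generalized Fitting subgroup F*(G) = O₂(G) (so the Fitting subgroup is O₂(G) too). If G/O₂(G) is isomorphic to SU₇(2), then O₂(G) is elementary abelian. No complement is asserted. -/
theorem result {G : Type*} [Group G] [Finite G] {D : Set G} (hD : Cfsg.IsThreeTranspositionClass D)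
    (hZ : Subgroup.center G = ⊥) (hF : Cfsg.generalizedFittingSubgroup G = Cfsg.pCore 2 G)
    (hq : ∃ (F : Type) (_ : Field F) (_ : Fintype F), Fintype.card F = 4 ∧ Nonempty (G ⧸ Cfsg.pCore 2 G ≃* ↥(Cfsg.SU 7 F 2))) :
    Cfsg.IsElementaryAbelian 2 (Cfsg.pCore 2 G) := by
  obtain ⟨F, _, _, hc, ⟨e⟩⟩ := hq
  have hF4 : Nat.card F = 2 ^ 2 := by rw [Nat.card_eq_fintype_card, hc]; rfl
  haveI : CharP F 2 := charP_of_card_eq_prime_pow (f := 2) (by rw [hc]; rfl)
  obtain ⟨π, hker, S⟩ := CfsgLib.TwoRad.exists_setting hF4 (Or.inr rfl) hD hZ e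
  exact hker ▸ CfsgLib.TwoRad.isElementaryAbelian_of (S.elementary_of_SU hF4 (Or.inr rfl))

end Cfsg.Agent.S5557
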