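import Cfsg.Statements.S5558
import Cfsg.Agent.TTModule.Unique
import Cfsg.Agent.Comp.Basic
import Cfsg.Agent.LocalB.IsolatedPMinLift

set_option autoImplicit false
set_option linter.style.haveILetI false
open Cfsg

namespace Cfsg.Agent.S5558

open CfsgLib.TTModule

/-- Let G be a finite group generated by a conjugacy class D of 3-transpositions, with trivial centre and with generalized Fitting subgroup F*(G) = O₂(G) (so the Fitting subgroup is O₂(G) too). If moreover O₂(G) is elementary abelian, then D is the only conjugacy class of 3-transpositions generating G. -/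
theorem result {G : Type*} [Group G] [Finite G] {D : Set G} (hD : Cfsg.IsThreeTranspositionClass D)
    (hZ : Subgroup.center G = ⊥) (hF : Cfsg.generalizedFittingSubgroup G = Cfsg.pCore 2 G)
    (hV : Cfsg.IsElementaryAbelian 2 (Cfsg.pCore 2 G)) :
    ∀ E : Set G, Cfsg.IsThreeTranspositionClass E → E = D := by
  intro E hE
  haveI : Fact (Nat.Prime 2) := ⟨Nat.prime_two⟩
  set V := Cfsg.pCore 2 G with hVdef
  haveI hVn : V.Normal := CfsgLib.Solvable.pCore_normal 2
  letI : CommGroup ↥V := { (inferInstance : Group ↥V) with mul_comm := hV.1.is_comm.comm }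
  let act : G → ↥V →* ↥V := fun g => (MulAut.conjNormal g : MulAut ↥V).toMonoidHom
  let S : Ext G (G ⧸ V) (Additive ↥V) :=
    { π := QuotientGroup.mk' V
      surj := QuotientGroup.mk'_surjective V
      ι := fun a => ((Additive.toMul a : ↥V) : G)
      ι_add := fun a b => rfl
      ι_inj := fun a b h => Additive.toMul.injective (Subtype.ext h)
      π_ι := fun a => (QuotientGroup.eq_one_iff _).2 (Additive.toMul a : ↥V).2
      ker := fun g hg => ⟨Additive.ofMul ⟨g, (QuotientGroup.eq_one_iff g).1 hg⟩, rfl⟩
      ρ := fun g => MonoidHom.toAdditive (act g)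
      ρ_spec := fun g a => (MulAut.conjNormal_apply g (Additive.toMul a : ↥V)).symm
      two := fun a => Additive.toMul.injective (Subtype.ext (by
        simpa [pow_two] using hV.2 _ (Additive.toMul a : ↥V).2))
      faith := by
        intro g hg
        refine (QuotientGroup.eq_one_iff g).2 ?_
        have hcen : g ∈ Subgroup.centralizer (V : Set G) := by
          refine Subgroup.mem_centralizer_iff.2 fun x hx => ?_
          have h := congrArg (fun a : Additive ↥V => ((Additive.toMul a : ↥V) : G)) (hg (Additive.ofMul ⟨x, hx⟩))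
          have h' : g * x * g⁻¹ = x := (MulAut.conjNormal_apply g (⟨x, hx⟩ : ↥V)).symm.trans h
          calc x * g = g * x * g⁻¹ * g := by rw [h']
            _ = g * x := inv_mul_cancel_right _ _
        have h2 : Subgroup.centralizer (V : Set G) ≤ V := by
          rw [← hF]; exact CfsgLib.Comp.centralizer_Fstar_le
        exact h2 hcen
      centerfree := by
        intro a ha
        refine Additive.toMul.injective (Subtype.ext ?_)
        have hc : ((Additive.toMul a : ↥V) : G) ∈ Subgroup.center G := by
          refine Subgroup.mem_center_iff.2 fun g => ?_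
          have h := congrArg (fun b : Additive ↥V => ((Additive.toMul b : ↥V) : G)) (ha g)
          have h' : g * ((Additive.toMul a : ↥V) : G) * g⁻¹ = ((Additive.toMul a : ↥V) : G) :=
            (MulAut.conjNormal_apply g (Additive.toMul a : ↥V)).symm.trans h
          calc g * ((Additive.toMul a : ↥V) : G)
              = g * ((Additive.toMul a : ↥V) : G) * g⁻¹ * g := (inv_mul_cancel_right _ _).symm
            _ = _ := by rw [h']
        rw [hZ, Subgroup.mem_bot] at hc
        simpa using hc
      core := CfsgLib.Isolated.pCore_quotient_eq_bot }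
  have mk : ∀ X : Set G, Cfsg.IsThreeTranspositionClass X → Cls S X := by
    rintro X ⟨hts, ⟨d, hd, hconj⟩, hgen⟩
    refine ⟨hts, ?_, ?_, hgen, ⟨d, hd⟩, ?_⟩
    · intro g x hx
      rw [hconj, conjugatesOf, Set.mem_setOf_eq] at hx ⊢
      exact hx.trans (isConj_iff.2 ⟨g, rfl⟩)
    · intro x hx y hy
      rw [hconj, conjugatesOf, Set.mem_setOf_eq] at hx hy
      exact isConj_iff.1 (hx.symm.trans hy)
    · intro x hx h
      have hxV : x ∈ V := (QuotientGroup.eq_one_iff x).1 h
      have hXV : X ⊆ (V : Set G) := by
        intro y hy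
        rw [hconj, conjugatesOf, Set.mem_setOf_eq] at hx hy
        obtain ⟨g, rfl⟩ := isConj_iff.1 (hx.symm.trans hy)
        exact hVn.conj_mem x hxV g
      have hVtop : V = ⊤ := top_le_iff.1 (hgen ▸ (Subgroup.closure_le V).2 hXV)
      have hc : x ∈ Subgroup.center G := Subgroup.mem_center_iff.2 fun g => by
        have := hV.1.is_comm.comm (⟨g, hVtop ▸ trivial⟩ : ↥V) ⟨x, hxV⟩
        exact congrArg Subtype.val this
      rw [hZ, Subgroup.mem_bot] at hc
      exact CfsgLib.ThreeT.ne_one_of_orderOf (hts.1 x hx) hc
  haveI : Finite (Additive ↥V) := Finite.of_equiv ↥V Additive.ofMul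
  exact class_eq (mk D hD) (mk E hE)

end Cfsg.Agent.S5558
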