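import Cfsg.Statements.S5559
import Cfsg.Agent.ThreeTri.SUDerived
import Cfsg.Agent.ThreeTri.Classify
import Cfsg.Agent.Solvable.Basics
import Cfsg.Agent.Solvable.CoprimeAct
import Cfsg.Agent.Comp.Basic
import Cfsg.Agent.CharP.ResidualBasics
import Mathlib.GroupTheory.Perm.Fin
import Mathlib.GroupTheory.Frattini

set_option autoImplicit false
open Cfsg

namespace Cfsg.Agent.S5559

open CfsgLib.ThreeTri

theorem bij_of_map {D : Type*} [Group D] [Finite D] {C : Type*} [Group C] [Finite C] (K : Subgroup D)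
    (f : D →* C) (hf : K.map f = ⊤) (hc : Nat.card K ≤ Nat.card C) : Function.Bijective (f.comp K.subtype) := by
  have hs : Function.Surjective (f.comp K.subtype) := by
    intro q
    obtain ⟨k, hk, rfl⟩ := (hf.symm ▸ trivial : q ∈ K.map f)
    exact ⟨⟨k, hk⟩, rfl⟩
  exact (Nat.bijective_iff_surjective_and_card _).2 ⟨hs, le_antisymm hc (Nat.card_le_card_of_surjective _ hs)⟩

theorem sq_of_order {D : Type*} [Group D] {i : D} (h : orderOf i = 2) : i * i = 1 := by
  rw [← pow_two, ← h]; exact pow_orderOf_eq_one i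

/-- Two groups of the same order covered by one group of at most that order are isomorphic. -/
theorem iso_of_pairs {A B : Type*} [Group A] [Group B] [Finite A] [Finite B] (K : Subgroup (A × B))
    (h1 : K.map (MonoidHom.fst A B) = ⊤) (h2 : K.map (MonoidHom.snd A B) = ⊤)
    (hA : Nat.card K ≤ Nat.card A) (hB : Nat.card K ≤ Nat.card B) : Nonempty (A ≃* B) :=
  ⟨(MulEquiv.ofBijective _ (bij_of_map K _ h1 hA)).symm.trans (MulEquiv.ofBijective _ (bij_of_map K _ h2 hB))⟩

/-- A conjugacy class of involutions generating a two-group. -/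
theorem card_le_two {R : Type*} [Group R] [Finite R] (hR : IsPGroup 2 R) {r : R} (hr : r * r = 1)
    (hgen : Subgroup.closure (conjugatesOf r) = ⊤) : Nat.card R ≤ 2 := by
  haveI : Fact (Nat.Prime 2) := ⟨Nat.prime_two⟩
  haveI : Group.IsNilpotent R := hR.isNilpotent
  have htop : Subgroup.zpowers r = ⊤ := by
    rcases eq_top_or_exists_le_coatom (Subgroup.zpowers r) with h | ⟨M, hM, hle⟩
    · exact h
    exfalso
    haveI : M.Normal := Subgroup.NormalizerCondition.normal_of_coatom M normalizerCondition_of_isNilpotent hM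
    refine hM.1 (top_le_iff.1 (hgen ▸ (Subgroup.closure_le M).2 ?_))
    intro x hx
    obtain ⟨g, rfl⟩ := isConj_iff.1 hx
    exact (inferInstance : M.Normal).conj_mem r (hle (Subgroup.mem_zpowers r)) g
  have h := Nat.le_of_dvd (by norm_num) (orderOf_dvd_of_pow_eq_one (show r ^ 2 = 1 by rw [pow_two, hr]))
  rwa [← Nat.card_zpowers, htop, Subgroup.card_top] at h

/-- Let H be a finite group generated by a conjugacy class E of 3-transpositions with at least two members, with F*(H) = O₂(H), and such that H/O₂(H) has a normal Sylow 3-subgroup of 2-power index (that is, H = O_{2,3,2}(H)). Then H/O₂(H) is isomorphic to the symmetric group of degree 3 or to the derived group of SU₃(2) (of order 54). -/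
theorem result {H : Type*} [Group H] [Finite H] {E : Set H} (hE : Cfsg.IsThreeTranspositionClass E)
    (hE2 : ∃ a ∈ E, ∃ b ∈ E, a ≠ b) (hF : Cfsg.generalizedFittingSubgroup H = Cfsg.pCore 2 H)
    (h232 : ∃ P : Sylow 3 (H ⧸ Cfsg.pCore 2 H), (P : Subgroup (H ⧸ Cfsg.pCore 2 H)).Normal ∧
      ∃ k : ℕ, (P : Subgroup (H ⧸ Cfsg.pCore 2 H)).index = 2 ^ k) :
    Nonempty (H ⧸ Cfsg.pCore 2 H ≃* Equiv.Perm (Fin 3)) ∨
      ∃ (F : Type) (_ : Field F) (_ : Fintype F), Fintype.card F = 4 ∧
        Nonempty (H ⧸ Cfsg.pCore 2 H ≃* ↥(commutator ↥(Cfsg.SU 3 F 2))) := by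
  classical
  haveI : Fact (Nat.Prime 2) := ⟨Nat.prime_two⟩
  haveI : Fact (Nat.Prime 3) := ⟨Nat.prime_three⟩
  obtain ⟨⟨hord, h3⟩, ⟨a, ha, hconj⟩, hclo⟩ := hE
  set O := Cfsg.pCore 2 H with hO
  have hO2 : IsPGroup 2 O := CfsgLib.Solvable.isPGroup_pCore 2
  obtain ⟨P, hPn, k, hk⟩ := h232
  haveI := hPn
  set π := QuotientGroup.mk' O with hπdef
  have hπ : Function.Surjective π := QuotientGroup.mk'_surjective O
  have hsq : ∀ e ∈ E, e * e = 1 := fun e he => by rw [← pow_two, ← hord e he]; exact pow_orderOf_eq_one e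
  have hcj : ∀ g : H, ∀ e ∈ E, g * e * g⁻¹ ∈ E := fun g e he => by
    rw [hconj, conjugatesOf, Set.mem_setOf_eq] at he ⊢
    exact he.trans (isConj_iff.2 ⟨g, rfl⟩)
  have hcl : ∀ e ∈ E, ∃ g : H, g * a * g⁻¹ = e := fun e he => by
    rw [hconj] at he; exact isConj_iff.1 he
  -- `H` is no two-group
  have hnp : ¬ IsPGroup 2 H := by
    intro hH
    have hc : Nat.card H ≤ 2 := card_le_two hH (hsq a ha) (hconj ▸ hclo)
    obtain ⟨x, hx, y, hy, hxy⟩ := hE2
    have hx1 : x ≠ 1 := fun e => by simpa [e] using hord x hx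
    have hy1 : y ≠ 1 := fun e => by simpa [e] using hord y hy
    have := Nat.card_le_card_of_injective ![(1 : H), x, y] (by
      intro i j h
      fin_cases i <;> fin_cases j <;> simp [hx1, hy1, hxy, hx1.symm, hy1.symm, hxy.symm] at h ⊢)
    simp at this
    omega
  have hinv : ∀ e ∈ E, orderOf (π e) = 2 := by
    intro e he
    refine orderOf_eq_prime (by rw [pow_two, ← map_mul, hsq e he, map_one]) fun h => hnp ?_
    obtain ⟨g, rfl⟩ := hcl e he
    have haO : a ∈ O := (QuotientGroup.eq_one_iff a).1 (by simpa [hπdef] using h)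
    have hEO : E ⊆ (O : Set H) := fun e' he' => by
      obtain ⟨g', rfl⟩ := hcl e' he'
      exact (inferInstance : O.Normal).conj_mem a haO g'
    have hOtop : O = ⊤ := top_le_iff.1 (hclo ▸ (Subgroup.closure_le O).2 hEO)
    exact (hOtop ▸ hO2).of_equiv Subgroup.topEquiv
  have hgenQ : Subgroup.closure (conjugatesOf (π a)) = ⊤ := by
    refine top_le_iff.1 ?_
    rw [← Subgroup.map_top_of_surjective π hπ, ← hclo, MonoidHom.map_closure]
    refine Subgroup.closure_mono ?_
    rintro _ ⟨e, he, rfl⟩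
    obtain ⟨g, rfl⟩ := hcl e he
    exact isConj_iff.2 ⟨π g, by simp⟩
  -- the index of the Sylow three-subgroup
  have hidx : (P : Subgroup (H ⧸ O)).index = 2 := by
    have h1 : Nat.card ((H ⧸ O) ⧸ (P : Subgroup (H ⧸ O))) = 2 ^ k := hk
    have hpg : IsPGroup 2 ((H ⧸ O) ⧸ (P : Subgroup (H ⧸ O))) := IsPGroup.of_card h1
    set ρ := QuotientGroup.mk' (P : Subgroup (H ⧸ O))
    have hρ : Function.Surjective ρ := QuotientGroup.mk'_surjective _
    have hle := card_le_two hpg (r := ρ (π a))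
      (by rw [← map_mul, ← map_mul, hsq a ha, map_one, map_one]) (by
        refine top_le_iff.1 ?_
        rw [← Subgroup.map_top_of_surjective ρ hρ, ← hgenQ, MonoidHom.map_closure]
        refine Subgroup.closure_mono ?_
        rintro _ ⟨e, he, rfl⟩
        obtain ⟨g, rfl⟩ := isConj_iff.1 he
        exact isConj_iff.2 ⟨ρ g, by simp⟩)
    rw [h1] at hle
    rcases Nat.eq_zero_or_pos k with rfl | hk'
    · exfalso
      have hmem : π a ∈ (P : Subgroup (H ⧸ O)) := by
        rw [show (P : Subgroup (H ⧸ O)) = ⊤ from Subgroup.index_eq_one.1 (by simpa using hk)]; trivial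
      obtain ⟨j, hj⟩ := IsPGroup.iff_orderOf.1 P.isPGroup' ⟨_, hmem⟩
      rw [← Subgroup.orderOf_coe, hinv a ha] at hj
      rcases Nat.eq_zero_or_pos j with rfl | h
      · simp at hj
      · have : 3 ∣ 2 := hj ▸ dvd_pow_self 3 h.ne'
        omega
    · rw [hk, le_antisymm hle (by simpa using Nat.pow_le_pow_right (n := 2) (by norm_num) hk')]
  obtain ⟨n, hn⟩ := IsPGroup.iff_card.1 P.isPGroup'
  have hQcard : Nat.card (H ⧸ O) = 2 * 3 ^ n := by
    rw [← (P : Subgroup (H ⧸ O)).card_mul_index, hidx, hn, mul_comm]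
  have hfac : (Nat.card (H ⧸ O)).factorization 2 = 1 := by
    rw [hQcard, Nat.factorization_mul (by norm_num) (by positivity)]
    simp [Nat.prime_two.factorization_self, Nat.prime_three.factorization]
  have h4 : ¬ 4 ∣ Nat.card (H ⧸ O) := by
    intro h
    have := (Nat.Prime.pow_dvd_iff_le_factorization Nat.prime_two Nat.card_pos.ne').1 (show 2 ^ 2 ∣ _ from h)
    omega
  have hlift : ∀ i : H ⧸ O, orderOf i = 2 → ∃ e ∈ E, π e = i := by
    intro i hi
    let R₁ : Sylow 2 (H ⧸ O) := Sylow.ofCard (Subgroup.zpowers (π a))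
      (by rw [Nat.card_zpowers, hinv _ ha, hfac, pow_one])
    let R₂ : Sylow 2 (H ⧸ O) := Sylow.ofCard (Subgroup.zpowers i) (by rw [Nat.card_zpowers, hi, hfac, pow_one])
    obtain ⟨m, hm⟩ := MulAction.exists_smul_eq (H ⧸ O) R₁ R₂
    have h1 : i ∈ ((m • R₁ : Sylow 2 (H ⧸ O)) : Subgroup (H ⧸ O)) := by rw [hm]; exact Subgroup.mem_zpowers i
    rw [Sylow.coe_subgroup_smul, Subgroup.mem_pointwise_smul_iff_inv_smul_mem] at h1
    obtain ⟨j, hj⟩ := h1
    have h5 : i = m * π a ^ j * m⁻¹ := by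
      have := congrArg (fun u => m * u * m⁻¹) hj
      simp at this
      rw [this]; group
    obtain ⟨g, rfl⟩ := hπ m
    rcases Int.emod_two_eq_zero_or_one j with h0 | h0 <;>
      rw [← zpow_mod_orderOf, hinv a ha, show j % ((2 : ℕ) : ℤ) = _ from h0] at h5
    · exact absurd hi (by simp [h5])
    · exact ⟨g * a * g⁻¹, hcj g a ha, by simp [h5]⟩
  have hthree : ∀ d ∈ E, ∀ e ∈ E, π d ≠ π e → (d * e) ^ 3 = 1 := fun d hd e he hne =>
    (h3 d hd e he).resolve_left fun h2 => h4 (four_dvd_of_commute (hinv d hd) (hinv e he) hne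
      ((commute_of_mul_sq (hsq d hd) (hsq e he) h2).map π))
  have htwo : ∀ d ∈ E, ∀ e ∈ E, π d = π e → Commute d e := by
    intro d hd e he hde
    rcases h3 d hd e he with h | h
    · exact commute_of_mul_sq (hsq d hd) (hsq e he) h
    · have hker : d * e ∈ O := by
        rw [← QuotientGroup.ker_mk' O, MonoidHom.mem_ker]
        show π (d * e) = 1
        rw [map_mul, hde, ← map_mul, hsq e he, map_one]
      obtain ⟨j, hj⟩ := hO2 ⟨_, hker⟩
      have hj' : (d * e) ^ 2 ^ j = 1 := by simpa using congrArg Subtype.val hj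
      have hco : Nat.Coprime (2 ^ j) 3 := Nat.Coprime.pow_left j (by norm_num)
      have h1 := pow_gcd_eq_one.2 ⟨hj', h⟩
      rw [hco.gcd_eq_one, pow_one] at h1
      have : d = e := by rw [eq_inv_of_mul_eq_one_left h1, inv_eq_of_mul_eq_one_left (hsq e he)]
      rw [this]
  -- an element of order three moves `O` modulo its Frattini subgroup
  obtain ⟨p, hp⟩ : ∃ p : H, orderOf p = 3 := by
    refine exists_prime_orderOf_dvd_card' 3 ?_
    rw [O.card_eq_card_quotient_mul_card_subgroup, hQcard]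
    refine Dvd.dvd.mul_right (Dvd.dvd.mul_left (dvd_pow_self 3 ?_) 2) _
    rintro rfl
    refine hnp ?_
    obtain ⟨j, hj⟩ := IsPGroup.iff_card.1 hO2
    exact IsPGroup.of_card (n := j + 1) (by
      rw [O.card_eq_card_quotient_mul_card_subgroup, hQcard, hj, pow_zero, mul_one, pow_succ, mul_comm])
  set Φ := (frattini O).map O.subtype with hΦ
  haveI hΦn : Φ.Normal := ConjAct.normal_of_characteristic_of_normal
  obtain ⟨v₀, hv₀, hs₀⟩ : ∃ v₀ ∈ O, kComm a v₀ ∉ Φ := by
    by_contra hcon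
    push Not at hcon
    have hEc : ∀ e ∈ E, ∀ v ∈ O, e * v * e⁻¹ * v⁻¹ ∈ Φ := by
      intro e he v hv
      obtain ⟨g, rfl⟩ := hcl e he
      have hai : a⁻¹ = a := inv_eq_of_mul_eq_one_left (hsq a ha)
      have hv' : g⁻¹ * v * g ∈ O := by
        simpa using (inferInstance : O.Normal).conj_mem v hv g⁻¹
      have h := hΦn.conj_mem _ (hcon _ hv') g
      have e1 : g * kComm a (g⁻¹ * v * g) * g⁻¹ = g * a * g⁻¹ * v * (g * a⁻¹ * g⁻¹)⁻¹⁻¹ * v⁻¹ := by
        rw [kComm, inv_inv, hai]; group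
      rw [e1] at h
      simpa [mul_assoc] using h
    set X := QuotientGroup.mk' Φ
    have hXmem : ∀ u : H, X u = 1 ↔ u ∈ Φ := fun u => QuotientGroup.eq_one_iff u
    have hall : ∀ v ∈ O, ∀ q : H, Commute (X q) (X v) := by
      intro v hv q
      have hq : q ∈ (Subgroup.centralizer ({X v} : Set (H ⧸ Φ))).comap X := by
        refine (hclo ▸ (Subgroup.closure_le _).2 fun e he => ?_ : (⊤ : Subgroup H) ≤ _) trivial
        refine Subgroup.mem_centralizer_singleton_iff.2 ?_
        have := (hXmem _).2 (hEc e he v hv)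
        rw [map_mul, map_mul, map_mul, map_inv, map_inv, mul_inv_eq_one, mul_inv_eq_iff_eq_mul] at this
        exact this
      exact Subgroup.mem_centralizer_singleton_iff.1 hq
    have hle : Subgroup.zpowers p ≤ Subgroup.centralizer (O : Set H) := by
      refine CfsgLib.CoprimeAct.trivial_on_frattini_quotient ?_ ?_ ?_
      · exact le_of_le_of_eq le_top (Subgroup.normalizer_eq_top O).symm
      · obtain ⟨j, hj⟩ := IsPGroup.iff_card.1 (hO2.to_subgroup (frattini O))
        rw [Nat.card_zpowers, hp, hj]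
        exact Nat.Coprime.pow_right j (by norm_num)
      · intro q _ v hv
        rw [← hΦ, ← hXmem, map_mul, map_mul, map_mul, map_inv, map_inv, (hall v hv q).eq]
        group
    rw [← hF] at hle
    have := (hle.trans CfsgLib.Comp.centralizer_Fstar_le) (Subgroup.mem_zpowers p)
    rw [hF] at this
    obtain ⟨j, hj⟩ := IsPGroup.iff_orderOf.1 hO2 ⟨p, this⟩
    rw [← Subgroup.orderOf_coe, hp] at hj
    rcases Nat.eq_zero_or_pos j with rfl | h
    · simp at hj
    · have : 2 ∣ 3 := hj ▸ dvd_pow_self 2 h.ne'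
      omega
  -- pass to the quotient by the Frattini subgroup of `O`
  have hΦO : Φ ≤ O := Subgroup.map_subtype_le _
  let πb : H ⧸ Φ →* H ⧸ O := QuotientGroup.lift Φ π (by rw [hπdef, QuotientGroup.ker_mk']; exact hΦO)
  set X := QuotientGroup.mk' Φ with hX
  have hπb : ∀ h : H, πb (X h) = π h := fun h => rfl
  have hker : ∀ u : H ⧸ Φ, u ∈ πb.ker ↔ ∃ v ∈ O, X v = u := by
    intro u
    obtain ⟨h, rfl⟩ := QuotientGroup.mk'_surjective Φ u
    rw [MonoidHom.mem_ker, hπb]
    constructor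
    · intro h1
      exact ⟨h, (QuotientGroup.eq_one_iff h).1 h1, rfl⟩
    · rintro ⟨v, hv, hvh⟩
      rw [← hπb, ← hvh, hπb]
      exact (QuotientGroup.eq_one_iff v).2 hv
  haveI : Group.IsNilpotent O := hO2.isNilpotent
  have hS : Setup (X '' E) πb :=
    { sq := by rintro _ ⟨e, he, rfl⟩; rw [← map_mul, hsq e he, map_one]
      conj := by
        intro g
        obtain ⟨g, rfl⟩ := QuotientGroup.mk'_surjective Φ g
        rintro _ ⟨e, he, rfl⟩
        exact ⟨g * e * g⁻¹, hcj g e he, by rw [map_mul, map_mul, map_inv]⟩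
      three := by
        rintro _ ⟨d, hd, rfl⟩ _ ⟨e, he, rfl⟩ hne
        rw [← map_mul, ← map_pow, hthree d hd e he hne, map_one]
      two := by
        rintro _ ⟨d, hd, rfl⟩ _ ⟨e, he, rfl⟩ heq
        exact (htwo d hd e he heq).map X
      comm := by
        intro u hu v hv
        obtain ⟨u, huO, rfl⟩ := (hker u).1 hu
        obtain ⟨v, hvO, rfl⟩ := (hker v).1 hv
        have hmem : (⟨u, huO⟩ : O) * ⟨v, hvO⟩ * (⟨u, huO⟩ : O)⁻¹ * (⟨v, hvO⟩ : O)⁻¹ ∈ frattini O :=
          CfsgLib.ResidualBasics.commutator_le_frattini_of_nilpotent O (by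
            rw [← commutatorElement_def, commutator_def]
            exact Subgroup.commutator_mem_commutator trivial trivial)
        have h1 : X (u * v * u⁻¹ * v⁻¹) = 1 := (QuotientGroup.eq_one_iff _).2 ⟨_, hmem, rfl⟩
        rw [map_mul, map_mul, map_mul, map_inv, map_inv, mul_inv_eq_one, mul_inv_eq_iff_eq_mul] at h1
        exact h1
      ker := by
        intro u
        obtain ⟨v, hv, hvu⟩ := (hker u).1 u.2
        obtain ⟨j, hj⟩ := hO2 ⟨v, hv⟩
        exact ⟨j, Subtype.ext (by
          rw [SubmonoidClass.coe_pow, ← hvu, ← map_pow,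
            show v ^ 2 ^ j = 1 by simpa using congrArg Subtype.val hj, map_one, Subgroup.coe_one])⟩ }
  have hgen2 : Subgroup.closure {i : H ⧸ O | orderOf i = 2} = ⊤ := by
    refine top_le_iff.1 (hgenQ ▸ Subgroup.closure_mono ?_)
    intro i hi
    obtain ⟨g, rfl⟩ := isConj_iff.1 hi
    show orderOf _ = 2
    exact (orderOf_injective (MulAut.conj g).toMonoidHom (MulAut.conj g).injective _).trans (hinv a ha)
  have hne : ∃ i : H ⧸ O, orderOf i = 2 ∧ i ≠ π a := by
    by_contra hcon
    push Not at hcon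
    have hle : (⊤ : Subgroup (H ⧸ O)) ≤ Subgroup.zpowers (π a) := hgen2 ▸
      (Subgroup.closure_le _).2 (fun i hi => hcon i hi ▸ Subgroup.mem_zpowers _)
    have := Nat.card_mono (Set.toFinite _) hle
    rw [SetLike.coe_sort_coe, SetLike.coe_sort_coe, Subgroup.card_top, Nat.card_zpowers, hinv a ha, hQcard] at this
    have hn0 : n = 0 := by
      by_contra hn0
      have := Nat.pow_le_pow_right (show 1 ≤ 3 by norm_num) (Nat.one_le_iff_ne_zero.2 hn0)
      omega
    refine hnp ?_
    obtain ⟨j, hj⟩ := IsPGroup.iff_card.1 hO2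
    exact IsPGroup.of_card (n := j + 1) (by
      rw [O.card_eq_card_quotient_mul_card_subgroup, hQcard, hn0, hj, pow_zero, mul_one, pow_succ, mul_comm])
  rcases classify hS (P : Subgroup (H ⧸ O)) hidx P.isPGroup' (by rintro _ ⟨e, he, rfl⟩; exact hinv e he)
    (fun i hi => by obtain ⟨e, he, h⟩ := hlift i hi; exact ⟨X e, ⟨e, he, rfl⟩, h⟩) hgen2
    (fun q => by obtain ⟨h, rfl⟩ := hπ q; exact ⟨X h, rfl⟩) (a := X a) (v₀ := X v₀) ⟨a, ha, rfl⟩
    ((hker _).2 ⟨v₀, hv₀, rfl⟩)
    (fun h => hs₀ ((QuotientGroup.eq_one_iff _).1 (by rw [← h]; simp [kComm, hX]))) hne with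
    ⟨x, y, hx, hy, hxy, hgen⟩ | ⟨x, y, z, hx, hy, hz, hxy, hxz, hyz, hzxy, hgen, hnc⟩
  · refine Or.inl ?_
    have s : ∀ {i : H ⧸ O}, orderOf i = 2 → i * i = 1 := fun h => sq_of_order h
    obtain ⟨b, hb, rfl⟩ := hlift x hx
    obtain ⟨c, hc, rfl⟩ := hlift y hy
    have hbc : (π b * π c) ^ 3 = 1 := by rw [← map_mul, ← map_pow, hthree b hb c hc hxy, map_one]
    set u : (H ⧸ O) × Equiv.Perm (Fin 3) := (π b, Equiv.swap 0 1)
    set v : (H ⧸ O) × Equiv.Perm (Fin 3) := (π c, Equiv.swap 1 2)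
    have h01 : (Equiv.swap (0 : Fin 3) 1 * Equiv.swap 1 2) ^ 3 = 1 := by decide
    have hK := card_dihedral_le (a := u) (b := v) (Prod.ext (s hx) (Equiv.swap_mul_self _ _))
      (Prod.ext (s hy) (Equiv.swap_mul_self _ _)) (Prod.ext hbc h01)
    have hP3 : Subgroup.closure ({Equiv.swap 0 1, Equiv.swap 1 2} : Set (Equiv.Perm (Fin 3))) = ⊤ := by
      rw [Subgroup.eq_top_iff']
      intro g
      have m1 : Equiv.swap 0 1 ∈ Subgroup.closure ({Equiv.swap 0 1, Equiv.swap 1 2} : Set (Equiv.Perm (Fin 3))) :=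
        Subgroup.subset_closure (by simp)
      have m2 : Equiv.swap 1 2 ∈ Subgroup.closure ({Equiv.swap 0 1, Equiv.swap 1 2} : Set (Equiv.Perm (Fin 3))) :=
        Subgroup.subset_closure (by simp)
      have : ∀ g : Equiv.Perm (Fin 3), g = 1 ∨ g = Equiv.swap 0 1 ∨ g = Equiv.swap 1 2 ∨
          g = Equiv.swap 0 1 * Equiv.swap 1 2 ∨ g = Equiv.swap 1 2 * Equiv.swap 0 1 ∨
          g = Equiv.swap 0 1 * Equiv.swap 1 2 * Equiv.swap 0 1 := by decide
      rcases this g with rfl | rfl | rfl | rfl | rfl | rfl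
      exacts [one_mem _, m1, m2, mul_mem m1 m2, mul_mem m2 m1, mul_mem (mul_mem m1 m2) m1]
    refine iso_of_pairs (Subgroup.closure {u, v})
      (by rw [MonoidHom.map_closure, ← hgen]; simp [u, v, Set.image_pair])
      (by rw [MonoidHom.map_closure, ← hP3]; simp [u, v, Set.image_pair])
      (hK.trans ?_) (hK.trans (by simp [Fintype.card_perm, Nat.factorial]))
    rw [hQcard]
    have hn0 : n ≠ 0 := by
      intro hn0
      refine hnp ?_
      obtain ⟨j, hj⟩ := IsPGroup.iff_card.1 hO2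
      exact IsPGroup.of_card (n := j + 1) (by
        rw [O.card_eq_card_quotient_mul_card_subgroup, hQcard, hn0, hj, pow_zero, mul_one, pow_succ, mul_comm])
    have := Nat.pow_le_pow_right (show 1 ≤ 3 by norm_num) (Nat.one_le_iff_ne_zero.2 hn0)
    omega
  · refine Or.inr ⟨GaloisField 2 2, inferInstance, Fintype.ofFinite _, ?_, ?_⟩
    · rw [← @Nat.card_eq_fintype_card _ (Fintype.ofFinite _), GaloisField.card 2 2 (by norm_num)]; rfl
    letI : Fintype (GaloisField 2 2) := Fintype.ofFinite _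
    obtain ⟨hcard, x', y', z', hx', hy', hz', hgen', r1, r2, r3, r4⟩ := exists_gens (F := GaloisField 2 2)
      (by rw [← Nat.card_eq_fintype_card, GaloisField.card 2 2 (by norm_num)]; rfl)
    have sQ : ∀ {i : H ⧸ O}, orderOf i = 2 → i * i = 1 := fun h => sq_of_order h
    obtain ⟨b, hb, rfl⟩ := hlift x hx
    obtain ⟨c, hc, rfl⟩ := hlift y hy
    obtain ⟨d, hd, rfl⟩ := hlift z hz
    have q1 : (π b * π c) ^ 3 = 1 := by rw [← map_mul, ← map_pow, hthree b hb c hc hxy, map_one]
    have q2 : (π c * π d) ^ 3 = 1 := by rw [← map_mul, ← map_pow, hthree c hc d hd hyz, map_one]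
    have q3 : (π b * π d) ^ 3 = 1 := by rw [← map_mul, ← map_pow, hthree b hb d hd hxz, map_one]
    have q4 : (π b * (π c * π d * π c)) ^ 3 = 1 := by
      have hmem : c * d * c ∈ E := by simpa [inv_eq_of_mul_eq_one_left (hsq c hc)] using hcj c d hd
      rw [← map_mul, ← map_mul, ← map_mul, ← map_pow, hthree b hb _ hmem ?_, map_one]
      rw [map_mul, map_mul]
      intro e
      apply hzxy
      have eb := braid_of (sQ hx) (sQ hy) q1
      rw [eb, e]
      simp only [mul_assoc, sQ hy, mul_one]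
      rw [← mul_assoc, sQ hy, one_mul]
    have hQ54 : Nat.card (H ⧸ O) = 54 := by
      have hle := card_closure_le (sQ hx) (sQ hy) (sQ hz) q1 q2 q3 q4
      rw [hgen, Subgroup.card_top, hQcard] at hle
      rcases le_or_gt 3 n with h3n | h3n
      · rw [hQcard]
        have := Nat.pow_le_pow_right (show 1 ≤ 3 by norm_num) h3n
        have : 3 ^ n = 27 := by omega
        omega
      · exfalso
        refine hnc ?_
        have hmemP : ∀ {i j : H ⧸ O}, orderOf i = 2 → orderOf j = 2 → i * j ∈ (P : Subgroup (H ⧸ O)) := by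
          have hnot : ∀ {i : H ⧸ O}, orderOf i = 2 → i ∉ (P : Subgroup (H ⧸ O)) := by
            intro i hi hmem
            have := Subgroup.orderOf_dvd_natCard _ hmem
            rw [hi, hn] at this
            exact absurd (Nat.prime_two.dvd_of_dvd_pow this) (by norm_num)
          intro i j hi hj
          exact (Subgroup.mul_mem_iff_of_index_two hidx).2 (iff_of_false (hnot hi) (hnot hj))
        have hab : ∀ p q : (P : Subgroup (H ⧸ O)), p * q = q * p := by
          interval_cases n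
          · have := (Nat.card_eq_one_iff_unique.1 (hn.trans (pow_zero 3))).1
            intro p q; exact Subsingleton.elim _ _
          · haveI := isCyclic_of_prime_card (p := 3) (by simpa using hn)
            exact fun p q => (IsCyclic.commGroup).mul_comm p q
          · exact IsPGroup.commutative_of_card_eq_prime_sq (p := 3) hn
        exact congrArg Subtype.val (hab ⟨_, hmemP hx hy⟩ ⟨_, hmemP hx hz⟩)
    have s' : ∀ {i : commutator ↥(Cfsg.SU 3 (GaloisField 2 2) 2)}, orderOf i = 2 → i * i = 1 :=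
      fun h => sq_of_order h
    set u := ((π b, x') : (H ⧸ O) × commutator ↥(Cfsg.SU 3 (GaloisField 2 2) 2))
    set v := ((π c, y') : (H ⧸ O) × commutator ↥(Cfsg.SU 3 (GaloisField 2 2) 2))
    set w := ((π d, z') : (H ⧸ O) × commutator ↥(Cfsg.SU 3 (GaloisField 2 2) 2))
    have hK := card_closure_le (a := u) (b := v) (c := w) (Prod.ext (sQ hx) (s' hx')) (Prod.ext (sQ hy) (s' hy'))
      (Prod.ext (sQ hz) (s' hz')) (Prod.ext q1 r1) (Prod.ext q2 r2) (Prod.ext q3 r3) (Prod.ext q4 r4)
    exact iso_of_pairs (Subgroup.closure {u, v, w})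
      (by rw [MonoidHom.map_closure, ← hgen]; simp [u, v, w, Set.image_insert_eq])
      (by rw [MonoidHom.map_closure, ← hgen']; simp [u, v, w, Set.image_insert_eq])
      (hK.trans hQ54.ge) (hK.trans hcard.ge)

end Cfsg.Agent.S5559
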