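import Cfsg.Statements.S5562
import Cfsg.Agent.Spor3T.Basic

set_option autoImplicit false
open Cfsg

namespace Cfsg.Agent.S5562

/-- Let G be a finite group, d an involution of G whose conjugates pairwise have products of odd order, and x any involution of G. Then the conjugacy class of d is the disjoint union, over the conjugates a of d commuting with x, of the sets of conjugates of d commuting with ax: every conjugate of d commutes with ax for exactly one conjugate a of d that commutes with x. -/
theorem result {G : Type*} [Group G] [Finite G] (d : G) (hd : orderOf d = 2)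
    (hodd : ∀ a ∈ conjugatesOf d, ∀ b ∈ conjugatesOf d, Odd (orderOf (a * b)))
    (x : G) (hx : orderOf x = 2) :
    ∀ e ∈ conjugatesOf d,
      ∃! a : G, a ∈ conjugatesOf d ∧ Commute a x ∧ Commute e (a * x) := by
  intro e he
  have hc : ∀ g : G, ∀ c ∈ conjugatesOf d, g * c * g⁻¹ ∈ conjugatesOf d := by
    intro g c hc
    exact IsConj.trans hc (isConj_iff.2 ⟨g, rfl⟩)
  have ord : ∀ c ∈ conjugatesOf d, orderOf c = 2 := by
    intro c hc'
    obtain ⟨g, rfl⟩ := isConj_iff.1 hc'
    rw [CfsgLib.ThreeT.orderOf_conj, hd]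
  have ix := CfsgLib.ThreeT.inv_eq_of_orderOf hx
  have oe := ord e he
  have ie := CfsgLib.ThreeT.inv_eq_of_orderOf oe
  set f := x * e * x with hf'
  have hf : f ∈ conjugatesOf d := by
    have := hc x e he
    rwa [ix] at this
  have of' := ord f hf
  have iff' := CfsgLib.ThreeT.inv_eq_of_orderOf of'
  obtain ⟨k, hk⟩ := hodd e he f hf
  have hn : (e * f) ^ (2 * (k + 1)) = e * f := by
    rw [show 2 * (k + 1) = orderOf (e * f) + 1 by omega, pow_succ, pow_orderOf_eq_one, one_mul]
  set u := (e * f) ^ (k + 1) with hu'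
  have huu : u * u = e * f := by rw [hu', ← pow_add, ← two_mul, hn]
  have swap : e * u = u⁻¹ * e := by
    have h0 : e * (e * f) * e⁻¹ = (e * f)⁻¹ := by
      rw [mul_inv_rev, iff', ie]
      calc e * (e * f) * e = (e * e) * f * e := by group
        _ = f * e := by rw [CfsgLib.ThreeT.mul_self_of_orderOf oe, one_mul]
    have h1 : e * u * e⁻¹ = u⁻¹ := by rw [hu', ← conj_pow, h0, inv_pow]
    rw [← h1]; group
  have eq_f : f = e * (u * u) := by rw [huu, CfsgLib.ThreeT.invol_cancel oe]
  have rel : ∀ a ∈ conjugatesOf d, Commute a x → (Commute e (a * x) ↔ a = e * u) := by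
    intro a ha hax
    have oa := ord a ha
    have ia := CfsgLib.ThreeT.inv_eq_of_orderOf oa
    constructor
    · intro h
      have h1 : a * e * a = f := by
        calc a * e * a = a * (e * (a * x)) * x⁻¹ := by group
          _ = a * ((a * x) * e) * x⁻¹ := by rw [h.eq]
          _ = (a * a) * x * e * x⁻¹ := by group
          _ = f := by rw [CfsgLib.ThreeT.mul_self_of_orderOf oa, one_mul, ix]
      have h2 : (e * a) * (e * a) = e * f := by rw [← h1]; group
      obtain ⟨l, hl⟩ := hodd e he a ha
      have h3 : orderOf (e * f) = orderOf (e * a) := by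
        rw [← h2, ← pow_two, (Nat.coprime_two_right.2 ⟨l, hl⟩).orderOf_pow]
      have h4 : e * a = u := by
        rw [hu', ← h2, ← pow_two, ← pow_mul, show 2 * (k + 1) = orderOf (e * a) + 1 by omega,
          pow_succ, pow_orderOf_eq_one, one_mul]
      rw [← h4, CfsgLib.ThreeT.invol_cancel oe]
    · rintro rfl
      have h1 : e * u * e * (e * u) = f := by
        calc e * u * e * (e * u) = e * u * (e * e) * u := by group
          _ = f := by rw [CfsgLib.ThreeT.mul_self_of_orderOf oe, mul_one, mul_assoc, ← eq_f]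
      show e * (e * u * x) = e * u * x * e
      calc e * (e * u * x) = (e * u * (e * u)) * (e * (e * u)) * x := by
            rw [CfsgLib.ThreeT.mul_self_of_orderOf oa, one_mul]; group
        _ = e * u * (e * u * e * (e * u)) * x := by group
        _ = e * u * f * x := by rw [h1]
        _ = e * u * x * e * (x * x) := by rw [hf']; group
        _ = e * u * x * e := by rw [CfsgLib.ThreeT.mul_self_of_orderOf hx, mul_one]
  have hmem : e * u ∈ conjugatesOf d := by
    obtain ⟨j, hj⟩ := Nat.even_or_odd (k + 1)
    · have e1 : u = (e * f) ^ j * (e * f) ^ j := by rw [hu', ← pow_add, ← hj]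
      have h1 := hc ((e * f) ^ j)⁻¹ e he
      rw [inv_inv] at h1
      have : e * u = ((e * f) ^ j)⁻¹ * e * (e * f) ^ j := by
        rw [e1, ← mul_assoc]
        congr 1
        have h0 : e * (e * f) * e⁻¹ = (e * f)⁻¹ := by
          rw [mul_inv_rev, iff', ie]
          calc e * (e * f) * e = (e * e) * f * e := by group
            _ = f * e := by rw [CfsgLib.ThreeT.mul_self_of_orderOf oe, one_mul]
        have h2 : e * (e * f) ^ j * e⁻¹ = ((e * f) ^ j)⁻¹ := by rw [← conj_pow, h0, inv_pow]
        rw [← h2]; group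
      rw [this]; exact h1
    · obtain ⟨j, hj⟩ := ‹Odd (k + 1)›
      have h0 : e * (e * f) * e⁻¹ = (e * f)⁻¹ := by
        rw [mul_inv_rev, iff', ie]
        calc e * (e * f) * e = (e * e) * f * e := by group
          _ = f * e := by rw [CfsgLib.ThreeT.mul_self_of_orderOf oe, one_mul]
      have h2 : e * (e * f) ^ j * e⁻¹ = ((e * f) ^ j)⁻¹ := by rw [← conj_pow, h0, inv_pow]
      have h1 := hc ((e * f) ^ j)⁻¹ f hf
      rw [inv_inv] at h1
      have : e * u = ((e * f) ^ j)⁻¹ * f * (e * f) ^ j := by
        rw [hu', hj, show 2 * j + 1 = j + (1 + j) by omega, pow_add, pow_add, pow_one, ← mul_assoc,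
          ← h2, ie]
        simp only [mul_assoc]
      rw [this]; exact h1
  have hcom : Commute (e * u) x := by
    have oa := ord _ hmem
    have h1 : x * (e * f) * x⁻¹ = (e * f)⁻¹ := by
      rw [mul_inv_rev, iff', ie, ix, hf']
      calc x * (e * (x * e * x)) * x = (x * e * x) * e * (x * x) := by group
        _ = x * e * x * e := by rw [CfsgLib.ThreeT.mul_self_of_orderOf hx, mul_one]
    have h2 : x * u * x⁻¹ = u⁻¹ := by rw [hu', ← conj_pow, h1, inv_pow]
    have h3 : x * (e * u) * x⁻¹ = e * u := by
      calc x * (e * u) * x⁻¹ = (x * e * x⁻¹) * (x * u * x⁻¹) := by group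
        _ = f * u⁻¹ := by rw [h2, ix, ← hf']
        _ = e * u := by rw [eq_f]; group
    show e * u * x = x * (e * u)
    nth_rw 1 [← h3]
    group
  exact ⟨e * u, ⟨hmem, hcom, (rel _ hmem hcom).2 rfl⟩, fun a ⟨ha, hax, h⟩ => (rel a ha hax).1 h⟩

end Cfsg.Agent.S5562
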