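import Cfsg.Statements.S5578
import Cfsg.Agent.J4PGL.Assembly
import Cfsg.Agent.J4Local.Order.OrderMain
import Cfsg.Agent.S5567
import Cfsg.Agent.S5573
import Cfsg.Agent.S5575
import Cfsg.Agent.S5577

set_option autoImplicit false
open Cfsg

namespace Cfsg.Agent.S5578

/-- Let G be a finite non-abelian simple group of Janko-four type (an involution z whose centralizer H has an extraspecial largest normal 2-subgroup E of order 2^13 containing its centralizer in H, a normal subgroup N ≥ E of H with N/E of order 3 and H/N the automorphism group of M₂₂, and a subgroup P ≤ N of order 3 with C_E(P) = ⟨z⟩, N_H(P) ≠ C_H(P) and P ≤ C_H(P)′). Then G has a subgroup isomorphic to PGL₂(23) (the general linear group of degree 2 over the integers modulo 23, modulo its centre). -/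
theorem result {G : Type*} [Group G] [Finite G] [IsSimpleGroup G] (hG : ¬ IsMulCommutative G) (hJ : Cfsg.IsOfJankoFourType G) :
    ∃ K : Subgroup G, Nonempty (↥K ≃* GL (Fin 2) (ZMod 23) ⧸ Subgroup.center (GL (Fin 2) (ZMod 23))) := by
  have hcard : Nat.card G = 86775571046077562880 := by
    obtain ⟨z, hz⟩ := hJ
    exact CfsgLib.J4Order.order_of_type (z := z) hz
  refine CfsgLib.J4PGL.exists_pgl_of hG hJ hcard (fun V hV hc => Cfsg.Agent.S5567.result hG hJ V hV hc)
    (fun z hz S hS hSz => (Cfsg.Agent.S5573.result hG z hz S hS hSz).2.2.2)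
    (fun U => ⟨(Cfsg.Agent.S5575.result hG hJ U).1, (Cfsg.Agent.S5575.result hG hJ U).2.2.2.1⟩) ?_ ?_
  · intro p hp _ U
    obtain ⟨h1, h2, h3, h4, h5⟩ := Cfsg.Agent.S5577.result hG hJ
    simp only [List.mem_cons, List.not_mem_nil, or_false] at hp
    rcases hp with rfl | rfl | rfl | rfl | rfl
    exacts [(h1 U).1, (h2 U).1, (h3 U).1, (h4 U).1, (h5 U).1]
  · intro _ U
    exact ((Cfsg.Agent.S5577.result hG hJ).1 U).2

end Cfsg.Agent.S5578
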