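import Cfsg.Statements.S5601
import Cfsg.Agent.Golay.InvCount

set_option autoImplicit false
open scoped Pointwise
open Cfsg

namespace Cfsg.Agent.S5601

open CfsgLib.Golay CfsgLib.Golay.Cert

/-- The group of the length-24 code has exactly two conjugacy classes of subgroups of order 3: a subgroup of order 3 fixes either exactly 6 of the 24 points or none of them, both cases occur, and two subgroups of order 3 with the same number of fixed points are conjugate. -/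
theorem result : (∀ X : Subgroup ↥Cfsg.M24, Nat.card X = 3 → {p : Cfsg.GolayPt | ∀ x ∈ X, ((x : ↥Cfsg.M24) : Equiv.Perm Cfsg.GolayPt) p = p}.ncard = 6 ∨ {p : Cfsg.GolayPt | ∀ x ∈ X, ((x : ↥Cfsg.M24) : Equiv.Perm Cfsg.GolayPt) p = p}.ncard = 0) ∧ (∃ X : Subgroup ↥Cfsg.M24, Nat.card X = 3 ∧ {p : Cfsg.GolayPt | ∀ x ∈ X, ((x : ↥Cfsg.M24) : Equiv.Perm Cfsg.GolayPt) p = p}.ncard = 6) ∧ (∃ X : Subgroup ↥Cfsg.M24, Nat.card X = 3 ∧ {p : Cfsg.GolayPt | ∀ x ∈ X, ((x : ↥Cfsg.M24) : Equiv.Perm Cfsg.GolayPt) p = p}.ncard = 0) ∧ ∀ X Y : Subgroup ↥Cfsg.M24, Nat.card X = 3 → Nat.card Y = 3 → {p : Cfsg.GolayPt | ∀ x ∈ X, ((x : ↥Cfsg.M24) : Equiv.Perm Cfsg.GolayPt) p = p}.ncard = {p : Cfsg.GolayPt | ∀ x ∈ Y, ((x : ↥Cfsg.M24) : Equiv.Perm Cfsg.GolayPt) p = p}.ncard → ∃ k : ↥Cfsg.M24, MulAut.conj k • X = Y := by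
  classical
  have hfix : ∀ (X : Subgroup M24) (g : M24), X = Subgroup.zpowers g →
      {p : GolayPt | ∀ x ∈ X, ((x : M24) : Equiv.Perm GolayPt) p = p}.ncard = (fixedPts (g : Equiv.Perm GolayPt)).card := by
    intro X g hX
    rw [← Set.ncard_coe_finset]
    congr 1
    ext p
    simp only [fixedPts, Finset.coe_filter, Finset.mem_univ, true_and, Set.mem_ofPred_eq, hX]
    refine ⟨fun h => h g (Subgroup.mem_zpowers g), fun h x hx => ?_⟩
    obtain ⟨n, rfl⟩ := Subgroup.mem_zpowers_iff.mp hx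
    rw [SubgroupClass.coe_zpow]
    exact Equiv.Perm.zpow_apply_eq_self_of_apply_eq_self h n
  have hgen : ∀ X : Subgroup M24, Nat.card X = 3 → ∃ g : M24, orderOf g = 3 ∧ X = Subgroup.zpowers g := by
    intro X hX
    haveI : Fact (Nat.Prime 3) := ⟨Nat.prime_three⟩
    obtain ⟨g, hg⟩ := exists_prime_orderOf_dvd_card' (G := X) 3 (by rw [hX])
    refine ⟨g.1, by rwa [Subgroup.orderOf_coe], (Subgroup.eq_of_le_of_card_ge (Subgroup.zpowers_le.mpr g.2) ?_).symm⟩
    rw [hX, Nat.card_zpowers, Subgroup.orderOf_coe, hg]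
  have hex : ∀ (L : List ℕ) (n : ℕ), genOK L = true → (fixSet L).card = n → powL L 3 = List.range 24 → n < 24 →
      ∃ X : Subgroup M24, Nat.card X = 3 ∧
        {p : GolayPt | ∀ x ∈ X, ((x : M24) : Equiv.Perm GolayPt) p = p}.ncard = n := by
    intro L n hL hn hp hlt
    obtain ⟨r, hr⟩ := genOK_spec hL
    have hcard : (fixedPts r.1).card = n := by rw [fixedPts_eq, hr]; exact hn
    have ho : orderOf r = 3 := by
      haveI : Fact (Nat.Prime 3) := ⟨Nat.prime_three⟩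
      refine orderOf_eq_prime (toList_coe_injective ?_) fun e => ?_
      · show toList ((r ^ 3 : M24) : Equiv.Perm GolayPt) = toList ((1 : M24) : Equiv.Perm GolayPt)
        rw [SubgroupClass.coe_pow, toList_pow, hr, hp, Subgroup.coe_one, toList_one]
      · rw [e] at hcard
        simp [fixedPts, card_golayPt] at hcard
        omega
    exact ⟨_, (Nat.card_zpowers r).trans ho, (hfix _ r rfl).trans hcard⟩
  refine ⟨fun X hX => ?_, hex rep3A 6 reps_eq.2.2.2.2.1 fixSet_spec.2.2.2.1 (by decide +kernel) (by norm_num),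
    hex rep3B 0 reps_eq.2.2.2.2.2 (by rw [fixSet_spec.2.2.2.2.1]; rfl) (by decide +kernel) (by norm_num),
    fun X Y hX hY he => ?_⟩
  · obtain ⟨g, hg, rfl⟩ := hgen X hX
    obtain ⟨k, ⟨-, h⟩ | ⟨-, h⟩⟩ := three_cases hg
    · exact Or.inl ((hfix _ g rfl).trans h)
    · exact Or.inr ((hfix _ g rfl).trans h)
  · obtain ⟨g, hg, rfl⟩ := hgen X hX
    obtain ⟨h, hh, rfl⟩ := hgen Y hY
    rw [hfix _ g rfl, hfix _ h rfl] at he
    obtain ⟨k, hk⟩ := three_cases hg
    obtain ⟨k', hk'⟩ := three_cases hh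
    have e : toList ((k * g * k⁻¹ : M24) : Equiv.Perm GolayPt) = toList ((k' * h * k'⁻¹ : M24) : Equiv.Perm GolayPt) := by
      rcases hk with ⟨e1, h1⟩ | ⟨e1, h1⟩ <;> rcases hk' with ⟨e2, h2⟩ | ⟨e2, h2⟩
      · rw [e1, e2]
      · omega
      · omega
      · rw [e1, e2]
    refine ⟨k'⁻¹ * k, ?_⟩
    rw [← conj_of_same e]
    show Subgroup.map (MulAut.conj (k'⁻¹ * k)).toMonoidHom (Subgroup.zpowers g) = _
    rw [MonoidHom.map_zpowers]
    rfl

end Cfsg.Agent.S5601
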