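import Cfsg.Statements.S5606
import Cfsg.Agent.Golay.InvCount

set_option autoImplicit false
open scoped Pointwise
open Cfsg

namespace Cfsg.Agent.S5606

open CfsgLib.Golay CfsgLib.Golay.Cert

/-- A fixed-point-free involution of the group of the length-24 code maps to themselves exactly 15 octads, exactly 75 trios and exactly 51 sextets. -/
theorem result (g : Equiv.Perm Cfsg.GolayPt) (hg : g ∈ Cfsg.M24) (h₂ : orderOf g = 2) (h₀ : ∀ p, g p ≠ p) : {o : Finset Cfsg.GolayPt | o ∈ Cfsg.octads ∧ g • o = o}.ncard = 15 ∧ {T : Finset (Finset Cfsg.GolayPt) | T ∈ Cfsg.trios ∧ g • T = T}.ncard = 75 ∧ {S : Finset (Finset Cfsg.GolayPt) | S ∈ Cfsg.sextets ∧ g • S = S}.ncard = 51 := by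
  have hc : (fixedPts g).card = 0 := (by simp [fixedPts, Finset.filter_eq_empty_iff, h₀])
  obtain ⟨k, hk⟩ : ∃ k : M24, toList ((k * ⟨g, hg⟩ * k⁻¹ : M24) : Equiv.Perm GolayPt) = rep2B := by
    obtain ⟨k, hk⟩ := two_cases (g := (⟨g, hg⟩ : M24)) ((order_lift hg).trans h₂)
    rcases hk with hk | hk
    · have h' : (fixedPts g).card = 8 := hk.2.2
      omega
    · exact ⟨k, hk.1⟩
  refine ⟨?_, ?_, ?_⟩
  · refine (sets_inv_ncard (C := octCat) octads_cat.1 (⟨g, hg⟩ : M24)).trans ?_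
    rw [ncard_inv_of_conjTo cats_canon.1 octads_cat.2 hk]
    decide +kernel
  · refine (objs_inv_ncard (C := trioCat) trios_cat.1 (⟨g, hg⟩ : M24)).trans ?_
    rw [ncard_inv_of_conjTo cats_canon.2.2.2 trios_cat.2 hk]
    decide +kernel
  · refine (objs_inv_ncard (C := sextCat) sextets_cat.1 (⟨g, hg⟩ : M24)).trans ?_
    rw [ncard_inv_of_conjTo cats_canon.2.2.1 sextets_cat.2 hk]
    decide +kernel

end Cfsg.Agent.S5606
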