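import Cfsg.Statements.S5607
import Cfsg.Agent.Golay.Centralisers

set_option autoImplicit false
open scoped Pointwise
open Cfsg

namespace Cfsg.Agent.S5607

/-- For a fixed-point-free involution t of the group of the length-24 code: its centraliser in that group has order 7680, is transitive on the 24 points, and is contained, together with t, in the stabiliser of some sextet. -/
theorem result (t : Equiv.Perm Cfsg.GolayPt) (ht : t ∈ Cfsg.M24) (h₂ : orderOf t = 2) (h₀ : ∀ p, t p ≠ p) : Nat.card {c : Equiv.Perm Cfsg.GolayPt // c ∈ Cfsg.M24 ∧ c * t = t * c} = 7680 ∧ (∀ p q : Cfsg.GolayPt, ∃ c ∈ Cfsg.M24, c * t = t * c ∧ c p = q) ∧ ∃ S ∈ Cfsg.sextets, t • S = S ∧ ∀ c ∈ Cfsg.M24, c * t = t * c → c • S = S := by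
  obtain ⟨h1, h2, S, hS, htS, hcS⟩ := CfsgLib.Golay.Cert.fpf_centralizer (t := (⟨t, ht⟩ : Cfsg.M24))
    ((CfsgLib.Golay.Cert.order_lift ht).trans h₂) h₀
  have hmem : ∀ (c : Equiv.Perm Cfsg.GolayPt) (hc : c ∈ Cfsg.M24), c * t = t * c ↔
      (⟨c, hc⟩ : Cfsg.M24) ∈ Subgroup.centralizer ({(⟨t, ht⟩ : Cfsg.M24)} : Set Cfsg.M24) := fun c hc => by
    rw [Subgroup.mem_centralizer_singleton_iff]
    exact ⟨fun h => Subtype.ext h, fun h => congrArg Subtype.val h⟩
  refine ⟨?_, fun p q => ?_, S, hS, htS, fun c hc hct => hcS ⟨c, hc⟩ ((hmem c hc).mp hct)⟩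
  · rw [← h1]
    exact Nat.card_congr
      { toFun := fun c => ⟨⟨c.1, c.2.1⟩, (hmem c.1 c.2.1).mp c.2.2⟩
        invFun := fun c => ⟨c.1.1, c.1.2, (hmem c.1.1 c.1.2).mpr c.2⟩
        left_inv := fun _ => rfl
        right_inv := fun _ => rfl }
  · obtain ⟨c, hc, hpq⟩ := h2 p q
    exact ⟨c.1, c.2, (hmem c.1 c.2).mpr hc, hpq⟩

end Cfsg.Agent.S5607
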