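import Cfsg.Statements.S5608
import Cfsg.Agent.Golay.CommTwoThree

set_option autoImplicit false
open scoped Pointwise
open Cfsg

namespace Cfsg.Agent.S5608

open CfsgLib.Golay CfsgLib.Golay.Cert

/-- If an element of order 3 and an involution of the group of the length-24 code commute, then either the element of order 3 has exactly 6 fixed points and the involution exactly 8, or both are fixed-point-free. -/
theorem result (x s : Equiv.Perm Cfsg.GolayPt) (hx : x ∈ Cfsg.M24) (hs : s ∈ Cfsg.M24) (h₃ : orderOf x = 3) (h₂ : orderOf s = 2) (hc : Commute x s) : ((Finset.univ.filter fun p => x p = p).card = 6 ∧ (Finset.univ.filter fun p => s p = p).card = 8) ∨ ((Finset.univ.filter fun p => x p = p).card = 0 ∧ (Finset.univ.filter fun p => s p = p).card = 0) := by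
  have hxo : orderOf (⟨x, hx⟩ : M24) = 3 := (order_lift hx).trans h₃
  have hso : orderOf (⟨s, hs⟩ : M24) = 2 := (order_lift hs).trans h₂
  have hcm : (⟨x, hx⟩ : M24) * ⟨s, hs⟩ = ⟨s, hs⟩ * ⟨x, hx⟩ := Subtype.ext hc
  obtain ⟨k, hk⟩ := three_cases hxo
  obtain ⟨k', hk'⟩ := two_cases hso
  rcases hk with ⟨-, hx6⟩ | ⟨-, hx0⟩ <;> rcases hk' with ⟨-, -, hs8⟩ | ⟨-, hs0⟩
  · exact Or.inl ⟨hx6, hs8⟩
  · exact (not_comm_six hxo hso hcm hx6 hs0).elim
  · exfalso
    -- the element of order three permutes the eight fixed points of the involution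
    let T := fixedPts s
    have hT : ∀ p, p ∈ T ↔ x p ∈ T := by
      intro p
      simp only [T, fixedPts, Finset.mem_filter, Finset.mem_univ, true_and]
      have := congrArg (fun σ : Equiv.Perm GolayPt => σ p) hc.eq
      simp only [Equiv.Perm.mul_apply] at this
      exact ⟨fun h => by rw [← this, h], fun h => x.injective (by rw [this, h])⟩
    haveI : Fact (Nat.Prime 3) := ⟨Nat.prime_three⟩
    have hpow : (x.subtypePerm (p := (· ∈ T)) fun p => (hT p).symm) ^ 3 ^ 1 = 1 := by
      rw [Equiv.Perm.subtypePerm_pow]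
      ext p
      simp [show x ^ 3 = 1 from h₃ ▸ pow_orderOf_eq_one x]
    have hcard : Fintype.card {p // p ∈ T} = 8 := by rw [Fintype.card_coe]; exact hs8
    obtain ⟨⟨p, hp⟩, hpx⟩ := Equiv.Perm.exists_fixed_point_of_prime (p := 3) (by rw [hcard]; norm_num) hpow
    have hpx' : x p = p := congrArg Subtype.val hpx
    have : p ∈ fixedPts x := by simp [fixedPts, hpx']
    rw [Finset.card_eq_zero] at hx0
    simp [hx0] at this
  · exact Or.inr ⟨hx0, hs0⟩

end Cfsg.Agent.S5608
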