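import Cfsg.Statements.S5610
import Cfsg.Agent.Golay.OctadOrbits
import Cfsg.Agent.Golay.SextTrioPos
import Cfsg.Agent.Golay.Orb.OctBase

set_option autoImplicit false
open scoped Pointwise
open Cfsg

namespace Cfsg.Agent.S5610

/-- The stabiliser of an octad in the group of the length-24 code has exactly three orbits on the 3795 trios, of sizes 15, 420 and 3360, and exactly three orbits on the 1771 sextets, of sizes 35, 840 and 896. -/
theorem result (o : Finset Cfsg.GolayPt) (ho : o ∈ Cfsg.octads) : (∃ X₁ ∈ Cfsg.trios, ∃ X₂ ∈ Cfsg.trios, ∃ X₃ ∈ Cfsg.trios, (MulAction.orbit ↥(MulAction.stabilizer Cfsg.M24 o) X₁).ncard = 15 ∧ (MulAction.orbit ↥(MulAction.stabilizer Cfsg.M24 o) X₂).ncard = 420 ∧ (MulAction.orbit ↥(MulAction.stabilizer Cfsg.M24 o) X₃).ncard = 3360 ∧ Cfsg.trios = MulAction.orbit ↥(MulAction.stabilizer Cfsg.M24 o) X₁ ∪ MulAction.orbit ↥(MulAction.stabilizer Cfsg.M24 o) X₂ ∪ MulAction.orbit ↥(MulAction.stabilizer Cfsg.M24 o) X₃) ∧ (∃ Y₁ ∈ Cfsg.sextets, ∃ Y₂ ∈ Cfsg.sextets, ∃ Y₃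 ∈ Cfsg.sextets, (MulAction.orbit ↥(MulAction.stabilizer Cfsg.M24 o) Y₁).ncard = 35 ∧ (MulAction.orbit ↥(MulAction.stabilizer Cfsg.M24 o) Y₂).ncard = 840 ∧ (MulAction.orbit ↥(MulAction.stabilizer Cfsg.M24 o) Y₃).ncard = 896 ∧ Cfsg.sextets = MulAction.orbit ↥(MulAction.stabilizer Cfsg.M24 o) Y₁ ∪ MulAction.orbit ↥(MulAction.stabilizer Cfsg.M24 o) Y₂ ∪ MulAction.orbit ↥(MulAction.stabilizer Cfsg.M24 o) Y₃) := by
  
  open CfsgLib.Golay.Cert in
    refine ⟨?_, ?_⟩
    · obtain ⟨k, hk⟩ := map_one_octad ho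
      have hL := ((bOct_eq ▸ Cat.layout bOct_trio_ok (L := [([10000000000000002], 15), ([200000001], 420), ([100020000], 3360)]) rfl :
        Layout trioCat [one' oStd] _)).at trios_cat.2 hk
      obtain ⟨X0, hX0, hc0, ho0⟩ := hL.orbit trios_cat.2 (K := MulAction.stabilizer M24 o) (fun g => mem_stab_one')
        (v := [10000000000000002]) (n := 15) (by decide) (by decide)
      obtain ⟨X1, hX1, hc1, ho1⟩ := hL.orbit trios_cat.2 (K := MulAction.stabilizer M24 o) (fun g => mem_stab_one')
        (v := [200000001]) (n := 420) (by decide) (by decide)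
      obtain ⟨X2, hX2, hc2, ho2⟩ := hL.orbit trios_cat.2 (K := MulAction.stabilizer M24 o) (fun g => mem_stab_one')
        (v := [100020000]) (n := 3360) (by decide) (by decide)
      refine ⟨X0, trios_cat.1.ge hX0, X1, trios_cat.1.ge hX1, X2, trios_cat.1.ge hX2, hc0, hc1, hc2, ?_⟩
      ext Y
      simp only [Set.mem_union, Set.mem_singleton_iff, ho0, ho1, ho2, Set.mem_ofPred_eq]
      constructor
      · intro hY
        have h := hL.all Y (trios_cat.1.le hY)
        simp only [List.map_cons, List.map_nil, List.mem_cons, List.not_mem_nil, or_false] at h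
        have hm := trios_cat.1.le hY
        tauto
      · intro h
        exact trios_cat.1.ge (by tauto)
    · obtain ⟨k, hk⟩ := map_one_octad ho
      have hL := ((bOct_eq ▸ Cat.layout bOct_sext_ok (L := [([200000004], 35), ([40002], 840), ([1000500], 896)]) rfl :
        Layout sextCat [one' oStd] _)).at sextets_cat.2 hk
      obtain ⟨X0, hX0, hc0, ho0⟩ := hL.orbit sextets_cat.2 (K := MulAction.stabilizer M24 o) (fun g => mem_stab_one')
        (v := [200000004]) (n := 35) (by decide) (by decide)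
      obtain ⟨X1, hX1, hc1, ho1⟩ := hL.orbit sextets_cat.2 (K := MulAction.stabilizer M24 o) (fun g => mem_stab_one')
        (v := [40002]) (n := 840) (by decide) (by decide)
      obtain ⟨X2, hX2, hc2, ho2⟩ := hL.orbit sextets_cat.2 (K := MulAction.stabilizer M24 o) (fun g => mem_stab_one')
        (v := [1000500]) (n := 896) (by decide) (by decide)
      refine ⟨X0, sextets_cat.1.ge hX0, X1, sextets_cat.1.ge hX1, X2, sextets_cat.1.ge hX2, hc0, hc1, hc2, ?_⟩
      ext Y
      simp only [Set.mem_union, Set.mem_singleton_iff, ho0, ho1, ho2, Set.mem_ofPred_eq]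
      constructor
      · intro hY
        have h := hL.all Y (sextets_cat.1.le hY)
        simp only [List.map_cons, List.map_nil, List.mem_cons, List.not_mem_nil, or_false] at h
        have hm := sextets_cat.1.le hY
        tauto
      · intro h
        exact sextets_cat.1.ge (by tauto)


end Cfsg.Agent.S5610
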