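import Cfsg.Statements.S5611
import Cfsg.Agent.Golay.OctadOrbits
import Cfsg.Agent.Golay.SextTrioPos
import Cfsg.Agent.Golay.Orb.SextBase2

set_option autoImplicit false
open scoped Pointwise
open Cfsg

namespace Cfsg.Agent.S5611

/-- The stabiliser of a sextet in the group of the length-24 code has exactly three orbits on the 759 octads, of sizes 15, 360 and 384, and exactly four orbits on the 3795 trios, of sizes 15, 180, 720 and 2880. -/
theorem result (S : Finset (Finset Cfsg.GolayPt)) (hS : S ∈ Cfsg.sextets) : (∃ X₁ ∈ Cfsg.octads, ∃ X₂ ∈ Cfsg.octads, ∃ X₃ ∈ Cfsg.octads, (MulAction.orbit ↥(MulAction.stabilizer Cfsg.M24 S) X₁).ncard = 15 ∧ (MulAction.orbit ↥(MulAction.stabilizer Cfsg.M24 S) X₂).ncard = 360 ∧ (MulAction.orbit ↥(MulAction.stabilizer Cfsg.M24 S) X₃).ncard = 384 ∧ Cfsg.octads = MulAction.orbit ↥(MulAction.stabilizer Cfsg.M24 S) X₁ ∪ MulAction.orbit ↥(MulAction.stabilizer Cfsg.M24 S) X₂ ∪ MulAction.orbit ↥(MulAction.stabilizer Cfsg.M24 S) X₃) ∧ (∃ Y₁ ∈ Cfsg.trios,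 ∃ Y₂ ∈ Cfsg.trios, ∃ Y₃ ∈ Cfsg.trios, ∃ Y₄ ∈ Cfsg.trios, (MulAction.orbit ↥(MulAction.stabilizer Cfsg.M24 S) Y₁).ncard = 15 ∧ (MulAction.orbit ↥(MulAction.stabilizer Cfsg.M24 S) Y₂).ncard = 180 ∧ (MulAction.orbit ↥(MulAction.stabilizer Cfsg.M24 S) Y₃).ncard = 720 ∧ (MulAction.orbit ↥(MulAction.stabilizer Cfsg.M24 S) Y₄).ncard = 2880 ∧ Cfsg.trios = MulAction.orbit ↥(MulAction.stabilizer Cfsg.M24 S) Y₁ ∪ MulAction.orbit ↥(MulAction.stabilizer Cfsg.M24 S) Y₂ ∪ MulAction.orbit ↥(MulAction.stabilizer Cfsg.M24 S) Y₃ ∪ MulAction.orbit ↥(MulAction.stabilizer Cfsg.M24 S) Y₄) := by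
  
  open CfsgLib.Golay.Cert in
    refine ⟨?_, ?_⟩
    · obtain ⟨k, hk⟩ := map_sextet hS
      have hL := (((show bSext2.map toObj = [toObj sStd] from rfl) ▸ Cat.layout bSext2_oct_ok (L := [([200000004], 15), ([40002], 360), ([1000500], 384)]) rfl :
        Layout octCat [toObj sStd] _)).at octads_cat.2 hk
      obtain ⟨X0, hX0, hc0, ho0⟩ := hL.orbit_sets octads_cat.2 octads_cat.1 (K := MulAction.stabilizer M24 S) (fun g => mem_stab_obj)
        (v := [200000004]) (n := 15) (by decide) (by decide)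
      obtain ⟨X1, hX1, hc1, ho1⟩ := hL.orbit_sets octads_cat.2 octads_cat.1 (K := MulAction.stabilizer M24 S) (fun g => mem_stab_obj)
        (v := [40002]) (n := 360) (by decide) (by decide)
      obtain ⟨X2, hX2, hc2, ho2⟩ := hL.orbit_sets octads_cat.2 octads_cat.1 (K := MulAction.stabilizer M24 S) (fun g => mem_stab_obj)
        (v := [1000500]) (n := 384) (by decide) (by decide)
      refine ⟨X0, hX0, X1, hX1, X2, hX2, hc0, hc1, hc2, ?_⟩
      ext Y
      simp only [Set.mem_union, Set.mem_singleton_iff, ho0, ho1, ho2, Set.mem_ofPred_eq]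
      constructor
      · intro hY
        have h := hL.all_sets octads_cat.1 hY
        simp only [List.map_cons, List.map_nil, List.mem_cons, List.not_mem_nil, or_false] at h
        tauto
      · tauto
    · obtain ⟨k, hk⟩ := map_sextet hS
      have hL := (((show bSext2.map toObj = [toObj sStd] from rfl) ▸ Cat.layout bSext2_trio_ok (L := [([600000012], 15), ([200080008], 180), ([120006], 720), ([2041002], 2880)]) rfl :
        Layout trioCat [toObj sStd] _)).at trios_cat.2 hk
      obtain ⟨X0, hX0, hc0, ho0⟩ := hL.orbit trios_cat.2 (K := MulAction.stabilizer M24 S) (fun g => mem_stab_obj)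
        (v := [600000012]) (n := 15) (by decide) (by decide)
      obtain ⟨X1, hX1, hc1, ho1⟩ := hL.orbit trios_cat.2 (K := MulAction.stabilizer M24 S) (fun g => mem_stab_obj)
        (v := [200080008]) (n := 180) (by decide) (by decide)
      obtain ⟨X2, hX2, hc2, ho2⟩ := hL.orbit trios_cat.2 (K := MulAction.stabilizer M24 S) (fun g => mem_stab_obj)
        (v := [120006]) (n := 720) (by decide) (by decide)
      obtain ⟨X3, hX3, hc3, ho3⟩ := hL.orbit trios_cat.2 (K := MulAction.stabilizer M24 S) (fun g => mem_stab_obj)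
        (v := [2041002]) (n := 2880) (by decide) (by decide)
      refine ⟨X0, trios_cat.1.ge hX0, X1, trios_cat.1.ge hX1, X2, trios_cat.1.ge hX2, X3, trios_cat.1.ge hX3, hc0, hc1, hc2, hc3, ?_⟩
      ext Y
      simp only [Set.mem_union, Set.mem_singleton_iff, ho0, ho1, ho2, ho3, Set.mem_ofPred_eq]
      constructor
      · intro hY
        have h := hL.all Y (trios_cat.1.le hY)
        simp only [List.map_cons, List.map_nil, List.mem_cons, List.not_mem_nil, or_false] at h
        have hm := trios_cat.1.le hY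
        tauto
      · intro h
        exact trios_cat.1.ge (by tauto)


end Cfsg.Agent.S5611
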