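import Cfsg.Statements.S5612
import Cfsg.Agent.Golay.OctadOrbits
import Cfsg.Agent.Golay.SextTrioPos
import Cfsg.Agent.Golay.Orb.TrioBase2

set_option autoImplicit false
open scoped Pointwise
open Cfsg

namespace Cfsg.Agent.S5612

/-- The stabiliser of a trio in the group of the length-24 code has exactly three orbits on the 759 octads, of sizes 3, 84 and 672, and exactly four orbits on the 1771 sextets, of sizes 7, 84, 336 and 1344. -/
theorem result (T : Finset (Finset Cfsg.GolayPt)) (hT : T ∈ Cfsg.trios) : (∃ X₁ ∈ Cfsg.octads, ∃ X₂ ∈ Cfsg.octads, ∃ X₃ ∈ Cfsg.octads, (MulAction.orbit ↥(MulAction.stabilizer Cfsg.M24 T) X₁).ncard = 3 ∧ (MulAction.orbit ↥(MulAction.stabilizer Cfsg.M24 T) X₂).ncard = 84 ∧ (MulAction.orbit ↥(MulAction.stabilizer Cfsg.M24 T) X₃).ncard = 672 ∧ Cfsg.octads = MulAction.orbit ↥(MulAction.stabilizer Cfsg.M24 T) X₁ ∪ MulAction.orbit ↥(MulAction.stabilizer Cfsg.M24 T) X₂ ∪ MulAction.orbit ↥(MulAction.stabilizer Cfsg.M24 T) X₃) ∧ (∃ Y₁ ∈ Cfsg.sextets,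 ∃ Y₂ ∈ Cfsg.sextets, ∃ Y₃ ∈ Cfsg.sextets, ∃ Y₄ ∈ Cfsg.sextets, (MulAction.orbit ↥(MulAction.stabilizer Cfsg.M24 T) Y₁).ncard = 7 ∧ (MulAction.orbit ↥(MulAction.stabilizer Cfsg.M24 T) Y₂).ncard = 84 ∧ (MulAction.orbit ↥(MulAction.stabilizer Cfsg.M24 T) Y₃).ncard = 336 ∧ (MulAction.orbit ↥(MulAction.stabilizer Cfsg.M24 T) Y₄).ncard = 1344 ∧ Cfsg.sextets = MulAction.orbit ↥(MulAction.stabilizer Cfsg.M24 T) Y₁ ∪ MulAction.orbit ↥(MulAction.stabilizer Cfsg.M24 T) Y₂ ∪ MulAction.orbit ↥(MulAction.stabilizer Cfsg.M24 T) Y₃ ∪ MulAction.orbit ↥(MulAction.stabilizer Cfsg.M24 T) Y₄) := by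
  
  open CfsgLib.Golay.Cert in
    refine ⟨?_, ?_⟩
    · obtain ⟨k, hk⟩ := map_trio hT
      have hL := (((show bTrio2.map toObj = [toObj tStd] from rfl) ▸ Cat.layout bTrio2_oct_ok (L := [([10000000000000002], 3), ([200000001], 84), ([100020000], 672)]) rfl :
        Layout octCat [toObj tStd] _)).at octads_cat.2 hk
      obtain ⟨X0, hX0, hc0, ho0⟩ := hL.orbit_sets octads_cat.2 octads_cat.1 (K := MulAction.stabilizer M24 T) (fun g => mem_stab_obj)
        (v := [10000000000000002]) (n := 3) (by decide) (by decide)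
      obtain ⟨X1, hX1, hc1, ho1⟩ := hL.orbit_sets octads_cat.2 octads_cat.1 (K := MulAction.stabilizer M24 T) (fun g => mem_stab_obj)
        (v := [200000001]) (n := 84) (by decide) (by decide)
      obtain ⟨X2, hX2, hc2, ho2⟩ := hL.orbit_sets octads_cat.2 octads_cat.1 (K := MulAction.stabilizer M24 T) (fun g => mem_stab_obj)
        (v := [100020000]) (n := 672) (by decide) (by decide)
      refine ⟨X0, hX0, X1, hX1, X2, hX2, hc0, hc1, hc2, ?_⟩
      ext Y
      simp only [Set.mem_union, Set.mem_singleton_iff, ho0, ho1, ho2, Set.mem_ofPred_eq]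
      constructor
      · intro hY
        have h := hL.all_sets octads_cat.1 hY
        simp only [List.map_cons, List.map_nil, List.mem_cons, List.not_mem_nil, or_false] at h
        tauto
      · tauto
    · obtain ⟨k, hk⟩ := map_trio hT
      have hL := (((show bTrio2.map toObj = [toObj tStd] from rfl) ▸ Cat.layout bTrio2_sext_ok (L := [([600000012], 7), ([200080008], 84), ([120006], 336), ([2041002], 1344)]) rfl :
        Layout sextCat [toObj tStd] _)).at sextets_cat.2 hk
      obtain ⟨X0, hX0, hc0, ho0⟩ := hL.orbit sextets_cat.2 (K := MulAction.stabilizer M24 T) (fun g => mem_stab_obj)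
        (v := [600000012]) (n := 7) (by decide) (by decide)
      obtain ⟨X1, hX1, hc1, ho1⟩ := hL.orbit sextets_cat.2 (K := MulAction.stabilizer M24 T) (fun g => mem_stab_obj)
        (v := [200080008]) (n := 84) (by decide) (by decide)
      obtain ⟨X2, hX2, hc2, ho2⟩ := hL.orbit sextets_cat.2 (K := MulAction.stabilizer M24 T) (fun g => mem_stab_obj)
        (v := [120006]) (n := 336) (by decide) (by decide)
      obtain ⟨X3, hX3, hc3, ho3⟩ := hL.orbit sextets_cat.2 (K := MulAction.stabilizer M24 T) (fun g => mem_stab_obj)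
        (v := [2041002]) (n := 1344) (by decide) (by decide)
      refine ⟨X0, sextets_cat.1.ge hX0, X1, sextets_cat.1.ge hX1, X2, sextets_cat.1.ge hX2, X3, sextets_cat.1.ge hX3, hc0, hc1, hc2, hc3, ?_⟩
      ext Y
      simp only [Set.mem_union, Set.mem_singleton_iff, ho0, ho1, ho2, ho3, Set.mem_ofPred_eq]
      constructor
      · intro hY
        have h := hL.all Y (sextets_cat.1.le hY)
        simp only [List.map_cons, List.map_nil, List.mem_cons, List.not_mem_nil, or_false] at h
        have hm := sextets_cat.1.le hY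
        tauto
      · intro h
        exact sextets_cat.1.ge (by tauto)


end Cfsg.Agent.S5612
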