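import Cfsg.Statements.S5613
import Cfsg.Agent.Golay.OctadStab

set_option autoImplicit false
open scoped Pointwise
open Cfsg

namespace Cfsg.Agent.S5613

/-- In the group of the length-24 code, the joint stabiliser of two octads has order 10752, 1152 or 720 according as the octads meet in 0, 4 or 2 points. -/
theorem result (o o' : Finset Cfsg.GolayPt) (ho : o ∈ Cfsg.octads) (ho' : o' ∈ Cfsg.octads) : ((o ∩ o').card = 0 → Nat.card ↥(MulAction.stabilizer Cfsg.M24 o ⊓ MulAction.stabilizer Cfsg.M24 o') = 10752) ∧ ((o ∩ o').card = 4 → Nat.card ↥(MulAction.stabilizer Cfsg.M24 o ⊓ MulAction.stabilizer Cfsg.M24 o') = 1152) ∧ ((o ∩ o').card = 2 → Nat.card ↥(MulAction.stabilizer Cfsg.M24 o ⊓ MulAction.stabilizer Cfsg.M24 o') = 720) := by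
  
  open CfsgLib.Golay CfsgLib.Golay.Cert in
    have key : ∀ (j i n : ℕ), j < 4 → (bOct_octData.getD j ([], 0, [])).1 = [100 ^ i] →
        [1, 30, 280, 448].getD j 0 = n → (o ∩ o').card = i →
        Nat.card ↥(MulAction.stabilizer M24 o ⊓ MulAction.stabilizer M24 o') * n = 322560 := by
      intro j i n hj hv hn hi
      obtain ⟨k, hk⟩ := map_one_octad ho
      have h := (((bOct_eq ▸ Cat.count' bOct_oct_ok j hj hv hn : IsTrans octCat _ _ _)).at octads_cat.2 hk).card_mul
        octads_cat.2 (K := MulAction.stabilizer M24 o) (fun g => mem_stab_one') (X := one' o')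
        (octads_cat.1.le ⟨o', ho', rfl⟩) (by simp [sig, J_one'_one', hi])
      rw [card_stab_octad ho, show MulAction.stabilizer M24 (one' o') = MulAction.stabilizer M24 o' from
        by ext g; simp [fixes_one']] at h
      exact h
    refine ⟨fun h => ?_, fun h => ?_, fun h => ?_⟩
    · have := key 1 0 30 (by norm_num) (by decide +kernel) rfl h; omega
    · have := key 2 4 280 (by norm_num) (by decide +kernel) rfl h; omega
    · have := key 3 2 448 (by norm_num) (by decide +kernel) rfl h; omega

end Cfsg.Agent.S5613
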