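import Cfsg.Statements.S5616
import Cfsg.Agent.Golay.PointsPos
import Cfsg.Agent.Golay.FamSextet

set_option autoImplicit false
open scoped Pointwise
open Cfsg

namespace Cfsg.Agent.S5616

/-- Let Y be a set of 3 of the 24 points. The sextets of the length-24 code whose tetrads meeting Y number 1, 2 or 3 are respectively 21, 630 and 1120 in number, and two sextets with the same number of tetrads meeting Y are conjugate under the setwise stabiliser of Y in the code's group. -/
theorem result (Y : Finset Cfsg.GolayPt) (hY : Y.card = 3) : {S : Finset (Finset Cfsg.GolayPt) | S ∈ Cfsg.sextets ∧ (S.filter fun t => (t ∩ Y).Nonempty).card = 1}.ncard = 21 ∧ {S : Finset (Finset Cfsg.GolayPt) | S ∈ Cfsg.sextets ∧ (S.filter fun t => (t ∩ Y).Nonempty).card = 2}.ncard = 630 ∧ {S : Finset (Finset Cfsg.GolayPt) | S ∈ Cfsg.sextets ∧ (S.filter fun t => (t ∩ Y).Nonempty).card = 3}.ncard = 1120 ∧ ∀ S S' : Finset (Finset Cfsg.GolayPt), S ∈ Cfsg.sextets → S' ∈ Cfsg.sextets → (S.filter fun t => (t ∩ Y).Nonempty).card = (S'.filter fun t => (t ∩ Y).Nonempty).card →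 ∃ g ∈ Cfsg.M24, g • Y = Y ∧ g • S = S' := by
  
  open CfsgLib.Golay CfsgLib.Golay.Cert in
    obtain ⟨k, hk⟩ := map_triple hY
    have hL := ((bTriple_eq ▸ Cat.layout bTriple_sext_ok (L := [([1000005, 1016008020], 21), ([10104, 208484028], 630), ([303, 12366018], 1120)]) rfl :
      Layout sextCat _ _)).at sextets_cat.2 hk
    have hcount : ∀ S ∈ sextets, ∀ i : ℕ, sig [one' Y, thru Y] S ∈
        [[1000005, 1016008020], [10104, 208484028], [303, 12366018]] →
        ((S.filter fun t => (t ∩ Y).Nonempty).card = i ↔ (sig [one' Y, thru Y] S).headD 0 % 100 + i = 6) := by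
      intro S hS i _
      have h1 := J_mod (A := Y) (X := S) (by rw [hS.1]; norm_num)
      have h2 := Finset.card_filter_add_card_filter_not (s := S) (fun t => Y ∩ t = ∅)
      have h3 : (S.filter fun t => ¬ Y ∩ t = ∅) = S.filter fun t => (t ∩ Y).Nonempty :=
        Finset.filter_congr fun t _ => by rw [Finset.nonempty_iff_ne_empty, Finset.inter_comm]
      rw [h3, hS.1] at h2
      simp only [sig, List.map_cons, List.map_nil, List.headD_cons]
      omega
    have hone : ∀ S ∈ sextets, sig [one' Y, thru Y] S ∈
        [[1000005, 1016008020], [10104, 208484028], [303, 12366018]] := fun S hS => by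
      simpa using hL.all S (sextets_cat.1.le hS)
    refine ⟨?_, ?_, ?_, fun S S' hS hS' h => ?_⟩
    · refine Eq.trans ?_ (hL.each ([1000005, 1016008020], 21) (by simp)).ncard
      refine congrArg Set.ncard ?_
      ext S
      simp only [Set.mem_ofPred_eq]
      constructor
      · rintro ⟨hS, h⟩
        refine ⟨sextets_cat.1.le hS, ?_⟩
        have h' := (hcount S hS 1 (hone S hS)).mp h
        have hm := hone S hS
        simp only [List.mem_cons, List.not_mem_nil, or_false] at hm
        rcases hm with hm | hm | hm <;> simp only [hm, List.headD_cons] at h' ⊢ <;> omega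
      · rintro ⟨hS, h⟩
        exact ⟨sextets_cat.1.ge hS, (hcount S (sextets_cat.1.ge hS) 1 (hone S (sextets_cat.1.ge hS))).mpr (by rw [h]; rfl)⟩
    · refine Eq.trans ?_ (hL.each ([10104, 208484028], 630) (by simp)).ncard
      refine congrArg Set.ncard ?_
      ext S
      simp only [Set.mem_ofPred_eq]
      constructor
      · rintro ⟨hS, h⟩
        refine ⟨sextets_cat.1.le hS, ?_⟩
        have h' := (hcount S hS 2 (hone S hS)).mp h
        have hm := hone S hS
        simp only [List.mem_cons, List.not_mem_nil, or_false] at hm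
        rcases hm with hm | hm | hm <;> simp only [hm, List.headD_cons] at h' ⊢ <;> omega
      · rintro ⟨hS, h⟩
        exact ⟨sextets_cat.1.ge hS, (hcount S (sextets_cat.1.ge hS) 2 (hone S (sextets_cat.1.ge hS))).mpr (by rw [h]; rfl)⟩
    · refine Eq.trans ?_ (hL.each ([303, 12366018], 1120) (by simp)).ncard
      refine congrArg Set.ncard ?_
      ext S
      simp only [Set.mem_ofPred_eq]
      constructor
      · rintro ⟨hS, h⟩
        refine ⟨sextets_cat.1.le hS, ?_⟩
        have h' := (hcount S hS 3 (hone S hS)).mp h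
        have hm := hone S hS
        simp only [List.mem_cons, List.not_mem_nil, or_false] at hm
        rcases hm with hm | hm | hm <;> simp only [hm, List.headD_cons] at h' ⊢ <;> omega
      · rintro ⟨hS, h⟩
        exact ⟨sextets_cat.1.ge hS, (hcount S (sextets_cat.1.ge hS) 3 (hone S (sextets_cat.1.ge hS))).mpr (by rw [h]; rfl)⟩
    · have hT : Trans sextCat [one' Y, thru Y] :=
        ((bTriple_eq ▸ Cat.trans' bTriple_sext_ok : Trans sextCat _)).at sextets_cat.2 hk
      have h1 := (hcount S hS _ (hone S hS)).mp rfl
      have h2 := (hcount S' hS' _ (hone S' hS')).mp h.symm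
      obtain ⟨g, hg, hgS⟩ := hT S S' (sextets_cat.1.le hS) (sextets_cat.1.le hS') (by
        have hm := hone S hS
        have hm' := hone S' hS'
        simp only [List.mem_cons, List.not_mem_nil, or_false] at hm hm'
        rcases hm with hm | hm | hm <;> rcases hm' with hm' | hm' | hm' <;>
          simp only [hm, hm', List.headD_cons] at h1 h2 ⊢ <;> omega)
      exact ⟨g, g.2, fixes_one'.mp (hg _ (by simp)), hgS⟩

end Cfsg.Agent.S5616
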