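import Cfsg.Statements.S5617
import Cfsg.Agent.Golay.DodecadPos
import Cfsg.Agent.Golay.FamSextet

set_option autoImplicit false
open scoped Pointwise
open Cfsg

namespace Cfsg.Agent.S5617

/-- The setwise stabiliser, in the group of the length-24 code, of a complementary pair of dodecads has exactly three orbits on the 1771 sextets, of sizes 396, 495 and 880. -/
theorem result (d : Finset Cfsg.GolayPt) (hd : d ∈ Cfsg.dodecads) : ∃ X₁ ∈ Cfsg.sextets, ∃ X₂ ∈ Cfsg.sextets, ∃ X₃ ∈ Cfsg.sextets, (MulAction.orbit ↥(MulAction.stabilizer Cfsg.M24 ({d, Finset.univ \ d} : Finset (Finset Cfsg.GolayPt))) X₁).ncard = 396 ∧ (MulAction.orbit ↥(MulAction.stabilizer Cfsg.M24 ({d, Finset.univ \ d} : Finset (Finset Cfsg.GolayPt))) X₂).ncard = 495 ∧ (MulAction.orbit ↥(MulAction.stabilizer Cfsg.M24 ({d, Finset.univ \ d} : Finset (Finset Cfsg.GolayPt))) X₃).ncard = 880 ∧ Cfsg.sextets = MulAction.orbit ↥(MulAction.stabilizer Cfsg.M24 ({d, Finset.univ \ d} : Finset (Finset Cfsg.GolayPt))) X₁ ∪ MulAction.orbit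 ↥(MulAction.stabilizer Cfsg.M24 ({d, Finset.univ \ d} : Finset (Finset Cfsg.GolayPt))) X₂ ∪ MulAction.orbit ↥(MulAction.stabilizer Cfsg.M24 ({d, Finset.univ \ d} : Finset (Finset Cfsg.GolayPt))) X₃ := by
  
  open CfsgLib.Golay CfsgLib.Golay.Cert in
    rw [← Finset.compl_eq_univ_sdiff]
    obtain ⟨k, hk⟩ := map_dPair hd
    have hL := ((bDPair_eq ▸ Cat.layout bDPair_sext_ok
      (L := [([120000], 396), ([200080002], 495), ([6000600], 880)]) rfl : Layout sextCat _ _)).at sextets_cat.2 hk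
    obtain ⟨X0, hX0, hc0, ho0⟩ := hL.orbit sextets_cat.2 (K := MulAction.stabilizer M24 ({d, dᶜ} : Finset (Finset GolayPt))) (fun g => mem_stab_obj)
      (v := [120000]) (n := 396) (by decide) (by decide)
    obtain ⟨X1, hX1, hc1, ho1⟩ := hL.orbit sextets_cat.2 (K := MulAction.stabilizer M24 ({d, dᶜ} : Finset (Finset GolayPt))) (fun g => mem_stab_obj)
      (v := [200080002]) (n := 495) (by decide) (by decide)
    obtain ⟨X2, hX2, hc2, ho2⟩ := hL.orbit sextets_cat.2 (K := MulAction.stabilizer M24 ({d, dᶜ} : Finset (Finset GolayPt))) (fun g => mem_stab_obj)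
      (v := [6000600]) (n := 880) (by decide) (by decide)
    refine ⟨X0, sextets_cat.1.ge hX0, X1, sextets_cat.1.ge hX1, X2, sextets_cat.1.ge hX2, hc0, hc1, hc2, ?_⟩
    ext Y
    simp only [Set.mem_union, ho0, ho1, ho2, Set.mem_ofPred_eq]
    constructor
    · intro hY
      have h := hL.all Y (sextets_cat.1.le hY)
      have hm := sextets_cat.1.le hY
      simp only [List.map_cons, List.map_nil, List.mem_cons, List.not_mem_nil, or_false] at h
      tauto
    · intro h
      exact sextets_cat.1.ge (by tauto)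

end Cfsg.Agent.S5617
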