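import Cfsg.Statements.S5620
import Cfsg.Agent.Golay.OutTwo12

set_option autoImplicit false
open scoped Pointwise
open Cfsg

namespace Cfsg.Agent.S5620

/-- Inside the stabiliser of the dodecad of squares (a Mathieu group of degree 12), the stabiliser of the residue 0 (a point of the dodecad) and the stabiliser of the extra point (a point outside the dodecad) are isomorphic but not conjugate; conjugation by a suitable element of the code's group that maps the dodecad of squares onto its complement carries the first onto the second. -/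
theorem result : Nonempty (↥(Cfsg.Spor.M12 ⊓ MulAction.stabilizer (Equiv.Perm Cfsg.GolayPt) (none : Cfsg.GolayPt)) ≃* ↥Cfsg.Spor.M11) ∧ (¬ ∃ k ∈ Cfsg.Spor.M12, MulAut.conj k • Cfsg.Spor.M11 = Cfsg.Spor.M12 ⊓ MulAction.stabilizer (Equiv.Perm Cfsg.GolayPt) (none : Cfsg.GolayPt)) ∧ ∃ g ∈ Cfsg.M24, g • Cfsg.Spor.squareDodecad = Finset.univ \ Cfsg.Spor.squareDodecad ∧ MulAut.conj g • Cfsg.Spor.M11 = Cfsg.Spor.M12 ⊓ MulAction.stabilizer (Equiv.Perm Cfsg.GolayPt) (none : Cfsg.GolayPt) := by
  open CfsgLib.Golay CfsgLib.Golay.Cert in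
  exact (by
    have hd : Spor.squareDodecad ∈ dodecads := squareDodecad_mem
    have hn : (none : GolayPt) ∉ Spor.squareDodecad := by rw [squareDodecad_eq, mem_pts]; decide +kernel
    obtain ⟨s, hs⟩ := dodecad_transitive hd (compl_mem_dodecads hd)
    have hs0 : s.1 (some 0) ∈ Spor.squareDodecadᶜ := hs ▸ (smul_mem_iff' s).mpr zero_mem_squareDodecad
    obtain ⟨q, hq⟩ : ∃ q, q ∈ Spor.squareDodecad := ⟨_, zero_mem_squareDodecad⟩
    obtain ⟨t, ⟨htd, -⟩, ht⟩ := stab_dPt_trans hd hq (Finset.mem_compl.mp hs0) hn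
    set g : M24 := t * s with hg
    have hgd : g • Spor.squareDodecad = Spor.squareDodecadᶜ := by
      rw [hg, mul_smul, hs, compl_smul, MulAction.mem_stabilizer_iff.mp htd]
    have hg0 : g.1 (some 0) = none := by rw [hg, Subgroup.coe_mul, Equiv.Perm.mul_apply, ht]
    have heq : MulAut.conj g.1 • Spor.M11 =
        Spor.M12 ⊓ MulAction.stabilizer (Equiv.Perm GolayPt) (none : GolayPt) := by
      ext x
      rw [Subgroup.mem_pointwise_smul_iff_inv_smul_mem]
      have hx : ((MulAut.conj g.1)⁻¹ • x : Equiv.Perm GolayPt) = g.1⁻¹ * x * g.1 := by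
        rw [← map_inv, MulAut.smul_def, MulAut.conj_apply, inv_inv]
      rw [hx]
      constructor
      · rintro ⟨⟨hM, hD⟩, h0⟩
        have hxM : x ∈ M24 := by
          have : g.1 * (g.1⁻¹ * x * g.1) * g.1⁻¹ ∈ M24 := mul_mem (mul_mem g.2 hM) (inv_mem g.2)
          rwa [show g.1 * (g.1⁻¹ * x * g.1) * g.1⁻¹ = x by group] at this
        let X : M24 := ⟨x, hxM⟩
        have hD' : (g⁻¹ * X * g) • Spor.squareDodecad = Spor.squareDodecad := hD
        rw [mul_smul, mul_smul, hgd, inv_smul_eq_iff, hgd, compl_smul, compl_inj_iff] at hD'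
        refine ⟨⟨hxM, hD'⟩, ?_⟩
        have h0' : g.1⁻¹ (x (g.1 (some 0))) = some 0 := h0
        rw [hg0, Equiv.Perm.inv_def, Equiv.symm_apply_eq, hg0] at h0'
        exact h0'
      · rintro ⟨⟨hxM, hD⟩, h0⟩
        refine ⟨⟨M24.mul_mem (M24.mul_mem (M24.inv_mem g.2) hxM) g.2, ?_⟩, ?_⟩
        · show (g⁻¹ * (⟨x, hxM⟩ : M24) * g) • Spor.squareDodecad = Spor.squareDodecad
          rw [mul_smul, mul_smul, hgd, inv_smul_eq_iff, hgd, compl_smul, compl_inj_iff]
          exact hD
        · show g.1⁻¹ (x (g.1 (some 0))) = some 0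
          rw [hg0, show x none = none from h0, Equiv.Perm.inv_def, Equiv.symm_apply_eq, hg0]
    refine ⟨⟨((Subgroup.equivSMul (MulAut.conj g.1) Spor.M11).trans (MulEquiv.subgroupCongr heq)).symm⟩, ?_, g.1, g.2, ?_, heq⟩
    · rintro ⟨k, hk, hkeq⟩
      have hk' : k • Spor.squareDodecad = Spor.squareDodecad := hk.2
      have hk0 : k (some 0) ∈ Spor.squareDodecad := by
        have := (Finset.smul_mem_smul_finset_iff (s := Spor.squareDodecad) k).mpr zero_mem_squareDodecad
        rwa [hk'] at this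
      refine hn ?_
      rw [← m12_sep (y := k (some 0)) (z := none) fun m hm => ?_]
      · exact hk0
      · have : m.1 ∈ MulAut.conj k • Spor.M11 := by
          rw [Subgroup.mem_pointwise_smul_iff_inv_smul_mem, ← map_inv, MulAut.smul_def, MulAut.conj_apply, inv_inv]
          refine ⟨Spor.M12.mul_mem (Spor.M12.mul_mem (Spor.M12.inv_mem hk) m.2) hk, ?_⟩
          show k⁻¹ (m.1 (k (some 0))) = some 0
          rw [hm, Equiv.Perm.inv_def, Equiv.symm_apply_apply]
        rw [hkeq] at this
        exact this.2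
    · show g • Spor.squareDodecad = Finset.univ \ Spor.squareDodecad
      rw [hgd, Finset.compl_eq_univ_sdiff])

end Cfsg.Agent.S5620
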