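import Cfsg.Statements.S5628
import Cfsg.Agent.PlaneFour.Basic

set_option autoImplicit false
open Cfsg

namespace Cfsg.Agent.S5628

/-- In a projective plane of order 4 (a Steiner system S(2, 5, 21)), every permutation of the six points of a hyperoval (a 6-set met by no line in more than two points) is the restriction of exactly one automorphism of the plane. In particular the stabiliser of a hyperoval in the automorphism group is isomorphic to the symmetric group of degree 6 acting faithfully on the hyperoval. -/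
theorem result {α : Type*} [Fintype α] [DecidableEq α] (hα : Fintype.card α = 21) (L : Set (Finset α)) (hL : Cfsg.IsSteinerSystem 2 5 L) (H : Finset α) (hH : (H.card = 6 ∧ ∀ l ∈ L, (l ∩ H).card ≤ 2)) (σ : Equiv.Perm ↥H) : ∃! g : Equiv.Perm α, g ∈ Cfsg.setSystemAut L ∧ ∀ p : ↥H, g p = σ p := by
  have P : Cfsg.Agent.PlaneFour.Plane L := ⟨hL, hα⟩
  obtain ⟨e, he, heσ⟩ := Cfsg.Agent.PlaneFour.exists_iso P P hH.1 hH.2 hH.1 hH.2 σ
  have hmem : ∀ g : Equiv.Perm α, g ∈ Cfsg.setSystemAut L ↔ (fun l => l.image g) '' L = L := by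
    intro g
    exact Iff.rfl
  refine ⟨e, ⟨(hmem e).mpr he, heσ⟩, ?_⟩
  rintro g ⟨hg, hgσ⟩
  rw [hmem] at hg
  exact Cfsg.Agent.PlaneFour.iso_unique P P hH.1 hH.2 hH.1 hH.2 σ g e
    (fun l hl => hg ▸ Set.mem_image_of_mem (fun l : Finset α => l.image g) hl)
    (fun l hl => he ▸ Set.mem_image_of_mem (fun l : Finset α => l.image e) hl) hgσ heσ

end Cfsg.Agent.S5628
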