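import Cfsg.Statements.S5632
import Cfsg.Agent.Geo.Basic
-- import your own Cfsg.Agent.* helpers here

set_option autoImplicit false
open Cfsg

namespace Cfsg.Agent.S5632

/-- For a finite field F and subspaces 0 < W < U of F^n with dim W + dim U = n, the elements of SL_n(F) stabilising both W and U form a subgroup that is not maximal in SL_n(F): some subgroup lies strictly between it and SL_n(F). -/
theorem result {F : Type*} [Field F] [Fintype F] (n : ℕ) (W U : Submodule F (Fin n → F)) (hW0 : W ≠ ⊥) (hWU : W < U) (hdim : Module.finrank F W + Module.finrank F U = n) : ∃ K : Subgroup (Matrix.GeneralLinearGroup (Fin n) F), Cfsg.Geo.subspaceStabilizer W ⊓ Cfsg.Geo.subspaceStabilizer U ⊓ Cfsg.Geo.specialLinear (Fin n) F < K ∧ K < Cfsg.Geo.specialLinear (Fin n) F := by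
  
  have hUtop : U ≠ ⊤ := by
    rintro rfl
    have h1 : 0 < Module.finrank F W :=
      Nat.pos_of_ne_zero fun h => hW0 (Submodule.finrank_eq_zero.1 h)
    rw [finrank_top, Module.finrank_fin_fun] at hdim
    omega
  obtain ⟨a, ha⟩ : ∃ a, a ∉ U := by
    by_contra hall
    push Not at hall
    exact hUtop (Submodule.eq_top_iff'.2 hall)
  obtain ⟨u, hu, huW⟩ := SetLike.exists_of_lt hWU
  refine CfsgLib.Geo.exists_between_of_pair hW0 (ne_top_of_lt hWU) ha hu fun h => ?_
  obtain ⟨w, hw, y, hy, rfl⟩ := Submodule.mem_sup.1 h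
  obtain ⟨c, rfl⟩ := Submodule.mem_span_singleton.1 hy
  rcases eq_or_ne c 0 with rfl | hc
  · simp at huW
    exact huW hw
  · exact ha ((U.smul_mem_iff hc).1 (by simpa using U.sub_mem hu (hWU.le hw)))

end Cfsg.Agent.S5632
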