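import Cfsg.Statements.S5634
import Cfsg.Agent.Geo.MonomialMaximal
import Cfsg.Agent.Geo.LinearDecomposition
import Cfsg.Agent.Aschbacher.General.Member

set_option autoImplicit false
open Cfsg

namespace Cfsg.Agent.S5634

open Matrix CfsgLib.Geo

variable {n t : ℕ} {F : Type*} [Field F] [Fintype F]

lemma lines (hn : 6 ≤ n) (hq : 5 ≤ Fintype.card F) {D : Fin t → Submodule F (Fin n → F)}
    (Θ : (Fin t → Fin 1 → F) ≃ₗ[F] (Fin n → F)) (hΘ : ∀ i v, v ∈ D i ↔ ∀ j, j ≠ i → Θ.symm v j = 0) (htn : t = n)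
    {M : Subgroup (Matrix.GeneralLinearGroup (Fin n) F)}
    (hM : Cfsg.Geo.decompositionStabilizer D ⊓ Cfsg.Geo.specialLinear (Fin n) F ≤ M)
    (hMI : M ≤ Cfsg.Geo.specialLinear (Fin n) F) (hMX : ¬ M ≤ Cfsg.Geo.decompositionStabilizer D) :
    Cfsg.Geo.specialLinear (Fin n) F ≤ M := by
  subst htn
  let L : (Fin t → F) ≃ₗ[F] (Fin t → F) :=
    (LinearEquiv.piCongrRight fun _ : Fin t => (LinearEquiv.funUnique (Fin 1) F F).symm).trans Θ
  let A := LinearMap.toMatrix' L.toLinearMap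
  let B := LinearMap.toMatrix' L.symm.toLinearMap
  let P : GL (Fin t) F := ⟨A, B, by rw [← LinearMap.toMatrix'_comp]; simp,
    by rw [← LinearMap.toMatrix'_comp]; simp⟩
  have hP : ∀ v, (P : Matrix _ _ F) *ᵥ v = L v := fun v => LinearMap.toMatrix'_mulVec _ v
  have hL : ∀ v j, L.symm v j = Θ.symm v j 0 := fun v j => by simp [L, LinearEquiv.funUnique]
  have hmem : ∀ i v, v ∈ D i ↔ ∀ j, j ≠ i → L.symm v j = 0 := fun i v => by
    rw [hΘ]
    refine forall₂_congr fun j _ => ?_
    rw [hL]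
    exact ⟨fun h => by rw [h]; rfl, fun h => funext fun l => by rw [Subsingleton.elim l 0]; exact h⟩
  have hPinv : ∀ v, ((P⁻¹ : GL (Fin t) F) : Matrix _ _ F) *ᵥ v = L.symm v := fun v =>
    LinearMap.toMatrix'_mulVec _ v
  have hline : ∀ i v, v ∈ D i ↔ ∃ a : F, v = a • L (Pi.single i 1) := fun i v => by
    rw [hmem]
    constructor
    · intro h
      refine ⟨L.symm v i, ?_⟩
      rw [← map_smul, ← LinearEquiv.symm_apply_eq]
      funext j
      by_cases hj : j = i
      · subst hj; simp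
      · simp [hj, h j hj]
    · rintro ⟨a, rfl⟩ j hj
      simp [hj]
  have hconj : ∀ g : GL (Fin t) F,
      g ∈ Mono.monomialGroup (Fin t) F ↔ P * g * P⁻¹ ∈ Cfsg.Geo.decompositionStabilizer D := by
    intro g
    have hact : ∀ i, ((P * g * P⁻¹ : GL (Fin t) F) : Matrix _ _ F) *ᵥ L (Pi.single i 1) =
        L ((g : Matrix _ _ F) *ᵥ Pi.single i 1) := fun i => by
      rw [mul_mulVec, mul_mulVec, hPinv, hP, LinearEquiv.symm_apply_apply]
    constructor
    · rintro ⟨π, hπ⟩
      refine ⟨π, fun i => ?_⟩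
      have hcol : (g : Matrix _ _ F) *ᵥ Pi.single i 1 = (g : Matrix _ _ F) (π i) i • Pi.single (π i) 1 :=
        funext fun k => by
          rw [Matrix.mulVec_single_one, Pi.smul_apply, smul_eq_mul]
          by_cases hk : k = π i
          · subst hk; simp
          · rw [Pi.single_eq_of_ne hk, mul_zero]; exact hπ k i hk
      have hc0 : (g : Matrix _ _ F) (π i) i ≠ 0 := fun h0 => by
        rw [h0, zero_smul] at hcol
        have := congrArg (fun x => ((g⁻¹ : GL (Fin t) F) : Matrix (Fin t) (Fin t) F) *ᵥ x) hcol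
        simp only [inv_mulVec_mulVec, Matrix.mulVec_zero] at this
        exact one_ne_zero (Pi.single_eq_zero_iff.1 this)
      ext v
      simp only [Submodule.mem_map, Matrix.toLin'_apply, hline]
      constructor
      · rintro ⟨_, ⟨a, rfl⟩, rfl⟩
        exact ⟨a * (g : Matrix _ _ F) (π i) i, by rw [Matrix.mulVec_smul, hact, hcol, map_smul, smul_smul]⟩
      · rintro ⟨a, rfl⟩
        refine ⟨_, ⟨a / (g : Matrix _ _ F) (π i) i, rfl⟩, ?_⟩
        rw [Matrix.mulVec_smul, hact, hcol, map_smul, smul_smul, div_mul_cancel₀ _ hc0]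
    · rintro ⟨π, hπ⟩
      refine ⟨π, fun k i hk => ?_⟩
      have h : L ((g : Matrix _ _ F) *ᵥ Pi.single i 1) ∈ D (π i) := by
        rw [← hact, ← hπ]
        exact ⟨_, (hline i _).2 ⟨1, (one_smul _ _).symm⟩, by rw [Matrix.toLin'_apply]⟩
      have := (hmem _ _).1 h k hk
      rw [LinearEquiv.symm_apply_apply, Matrix.mulVec_single_one] at this
      exact this
  have hSL : ∀ g : GL (Fin t) F, P * g * P⁻¹ ∈ Cfsg.Geo.specialLinear (Fin t) F ↔
      g ∈ Cfsg.Geo.specialLinear (Fin t) F := fun g => by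
    rw [mem_specialLinear, mem_specialLinear, Units.val_mul, Units.val_mul, Matrix.det_mul, Matrix.det_mul,
      mul_comm, ← mul_assoc, ← Matrix.det_mul, Units.inv_mul, Matrix.det_one, one_mul]
  have hkey := Mono.key (M := M.comap (MulAut.conj P).toMonoidHom) (by simpa using hn) hq
    (fun g hg => hM ⟨(hconj g).1 hg.1, (hSL g).2 hg.2⟩) (fun g hg => (hSL g).1 (hMI hg))
    (fun hle => hMX fun g hg => by
      have h := (hconj (P⁻¹ * g * P)).1 (hle (show P * (P⁻¹ * g * P) * P⁻¹ ∈ M by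
        rwa [show P * (P⁻¹ * g * P) * P⁻¹ = g by group]))
      rwa [show P * (P⁻¹ * g * P) * P⁻¹ = g by group] at h)
  intro g hg
  have h : P * (P⁻¹ * g * P) * P⁻¹ ∈ M := hkey ((hSL _).1 (by rwa [show P * (P⁻¹ * g * P) * P⁻¹ = g by group]))
  rwa [show P * (P⁻¹ * g * P) * P⁻¹ = g by group] at h

/-- For a finite field F with q elements and n ≥ 13, let D be a decomposition of F^n into t ≥ 2 independent subspaces of equal dimension m ≥ 1 spanning F^n. Unless m = 1 and q ≤ 4, or m = 2 and q = 2, the elements of SL_n(F) permuting the members of D form a maximal subgroup of SL_n(F). -/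
theorem result {F : Type*} [Field F] [Fintype F] (n : ℕ) (hn : 13 ≤ n) {t : ℕ} (m : ℕ) (D : Fin t → Submodule F (Fin n → F)) (hD : Cfsg.Geo.IsMDecomposition m D) (h1 : ¬ (m = 1 ∧ Fintype.card F ≤ 4)) (h2 : ¬ (m = 2 ∧ Fintype.card F = 2)) : Cfsg.Geo.IsMaximalIn (Cfsg.Geo.specialLinear (Fin n) F) (Cfsg.Geo.decompositionStabilizer D ⊓ Cfsg.Geo.specialLinear (Fin n) F) := by
  obtain ⟨Θ, hΘ⟩ := Decomp.exists_coords hD
  have htm : t * m = n := by
    have := LinearEquiv.finrank_eq Θ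
    simpa [Module.finrank_pi_fintype, Module.finrank_fintype_fun_eq_card] using this
  refine isMaximalIn_of_key (CfsgLib.Aschbacher.specialLinear_not_le_decomposition hD) fun M hM hMI hMX => ?_
  rcases (by have := hD.pos; omega : m = 1 ∨ 2 ≤ m) with rfl | hm
  · exact lines (by omega) (by omega) Θ hΘ (by omega) hM hMI hMX
  · refine Decomp.key Θ hΘ hM hm hD (fun h2e => ?_) (fun h2e hc => h2 ⟨h2e, hc⟩) hMI hMX
    subst h2e; omega

end Cfsg.Agent.S5634
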