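import Cfsg.Statements.S5635
import Cfsg.Agent.Geo.DecompCoords
import Cfsg.Agent.Geo.Transvection

set_option autoImplicit false
open Cfsg

namespace Cfsg.Agent.S5635

open Matrix CfsgLib.Geo

variable {n : ℕ} {F : Type*} [Field F] {t m : ℕ}

lemma witness {D : Fin t → Submodule F (Fin n → F)} (Θ : (Fin t → Fin m → F) ≃ₗ[F] (Fin n → F))
    (hΘ : ∀ i v, v ∈ D i ↔ ∀ j, j ≠ i → Θ.symm v j = 0) (ht : 6 ≤ t) (p : ℕ)
    (N0 : (Fin 6 → Fin m → F) →ₗ[F] (Fin 6 → Fin m → F)) (hp : p = 2 ∨ p = 3) (hp0 : (p : F) = 0)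
    (hN0 : ∀ y, N0 (N0 y) = 0) (x : Fin m → F) [DecidableEq (Fin m → F)]
    (hinv : ∀ y : Fin 6 → Fin m → F,
      ∑ j, (if (y + N0 y) j = 0 then 0 else 1 : F) = ∑ j, if y j = 0 then 0 else 1)
    (i0 i j : Fin 6) (hij : i ≠ j) (hi : (Pi.single i0 x + N0 (Pi.single i0 x) : Fin 6 → Fin m → F) i ≠ 0)
    (hj : (Pi.single i0 x + N0 (Pi.single i0 x) : Fin 6 → Fin m → F) j ≠ 0) :
    ∃ g : GL (Fin n) F, g ∈ Decomp.preserving (Decomp.weight Θ) ⊓ Cfsg.Geo.specialLinear (Fin n) F ∧
      g ∉ Cfsg.Geo.decompositionStabilizer D := by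
  let s : Fin 6 → Fin t := Fin.castLE ht
  have hs : Function.Injective s := Fin.castLE_injective ht
  let R : (Fin t → Fin m → F) →ₗ[F] (Fin 6 → Fin m → F) := LinearMap.funLeft F _ s
  let X : (Fin 6 → Fin m → F) →ₗ[F] (Fin t → Fin m → F) :=
    { toFun := fun y k => if h : (k : ℕ) < 6 then y ⟨k, h⟩ else 0
      map_add' := fun y z => by funext k; by_cases h : (k : ℕ) < 6 <;> simp [h]
      map_smul' := fun c y => by funext k; by_cases h : (k : ℕ) < 6 <;> simp [h] }
  have hRX : ∀ y, R (X y) = y := fun y => by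
    funext k
    show (if h : ((s k : Fin t) : ℕ) < 6 then y ⟨s k, h⟩ else 0) = y k
    rw [dif_pos (show ((s k : Fin t) : ℕ) < 6 from k.2)]
    rfl
  let N : (Fin t → Fin m → F) →ₗ[F] (Fin t → Fin m → F) := X ∘ₗ N0 ∘ₗ R
  have hNN : ∀ w, N (N w) = 0 := fun w => by
    show X (N0 (R (X (N0 (R w))))) = 0
    rw [hRX, hN0, map_zero]
  let L : (Fin n → F) →ₗ[F] (Fin n → F) := Θ.toLinearMap ∘ₗ N ∘ₗ Θ.symm.toLinearMap
  let M := LinearMap.toMatrix' L
  have hMv : ∀ v, M *ᵥ v = Θ (N (Θ.symm v)) := fun v => LinearMap.toMatrix'_mulVec L v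
  have hMM : M * M = 0 := Matrix.toLin'.injective (LinearMap.ext fun v => by
    rw [Matrix.toLin'_apply, ← Matrix.mulVec_mulVec, hMv, hMv, LinearEquiv.symm_apply_apply, hNN]
    simp)
  let g : GL (Fin n) F := ⟨1 + M, 1 - M, by noncomm_ring; simp [hMM], by noncomm_ring; simp [hMM]⟩
  have hgv : ∀ v, Θ.symm ((g : Matrix (Fin n) (Fin n) F) *ᵥ v) = Θ.symm v + N (Θ.symm v) := fun v => by
    show Θ.symm ((1 + M) *ᵥ v) = _
    rw [Matrix.add_mulVec, Matrix.one_mulVec, map_add, hMv, LinearEquiv.symm_apply_apply]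
  refine ⟨g, ⟨fun v => ?_, mem_specialLinear.2 ?_⟩, fun hg => ?_⟩
  · unfold Decomp.weight
    rw [← Finset.sum_add_sum_compl (Finset.univ.image s), ← Finset.sum_add_sum_compl (Finset.univ.image s)]
    congr 1
    · rw [Finset.sum_image fun a _ b _ h => hs h, Finset.sum_image fun a _ b _ h => hs h]
      have h1 := hinv (R (Θ.symm v))
      have h2 : R (Θ.symm v) + N0 (R (Θ.symm v)) = R (Θ.symm ((g : Matrix (Fin n) (Fin n) F) *ᵥ v)) := by
        rw [hgv, map_add]
        show _ = _ + R (X (N0 (R (Θ.symm v))))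
        rw [hRX]
      rw [h2] at h1
      convert h1 using 3 <;> rfl
    · refine Finset.sum_congr rfl fun k hk => ?_
      have hk6 : ¬ (k : ℕ) < 6 := fun h => by
        refine Finset.mem_compl.1 hk (Finset.mem_image.2 ⟨⟨k, h⟩, Finset.mem_univ _, ?_⟩)
        rfl
      have h0 : N (Θ.symm v) k = 0 := dif_neg hk6
      rw [hgv, Pi.add_apply, h0, add_zero]
  · show (1 + M).det = 1
    rcases hp with rfl | rfl
    · have h2 : (2 : F) = 0 := by exact_mod_cast hp0
      have : (1 + M) * (1 + M) = 1 := by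
        rw [show (1 + M) * (1 + M) = 1 + (2 : F) • M + M * M by rw [two_smul]; noncomm_ring, h2, hMM]
        simp
      have hd := congrArg Matrix.det this
      rw [Matrix.det_mul, Matrix.det_one] at hd
      have : ((1 + M).det - 1) ^ 2 = 0 := by linear_combination hd + (1 - (1 + M).det) * h2
      exact sub_eq_zero.1 (pow_eq_zero_iff two_ne_zero |>.1 this)
    · have h3 : (3 : F) = 0 := by exact_mod_cast hp0
      have hm3 : (1 + M) * (1 + M) * (1 + M) = 1 := by
        rw [show (1 + M) * (1 + M) * (1 + M) = 1 + (3 : F) • M + 3 • (M * M) + M * M * M by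
          rw [show (3 : F) = 1 + 1 + 1 by norm_num, add_smul, add_smul, one_smul]; noncomm_ring, h3, hMM]
        simp
      have hd := congrArg Matrix.det hm3
      rw [Matrix.det_mul, Matrix.det_mul, Matrix.det_one] at hd
      have : ((1 + M).det - 1) ^ 3 = 0 := by
        linear_combination hd + ((1 + M).det - (1 + M).det ^ 2) * h3
      exact sub_eq_zero.1 (pow_eq_zero_iff three_ne_zero |>.1 this)
  · obtain ⟨σ, hσ⟩ := Decomp.stab_components Θ hΘ hg
    have hv := hgv (Θ (Pi.single (s i0) x))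
    rw [LinearEquiv.symm_apply_apply] at hv
    have hR : R (Pi.single (s i0) x) = Pi.single i0 x := funext fun k => by
      show (Pi.single (s i0) x : Fin t → Fin m → F) (s k) = _
      by_cases hk : k = i0
      · subst hk; simp
      · rw [Pi.single_eq_of_ne hk, Pi.single_eq_of_ne (fun h => hk (hs h))]
    have key : ∀ k : Fin 6, (Pi.single i0 x + N0 (Pi.single i0 x) : Fin 6 → Fin m → F) k ≠ 0 →
        σ.symm (s k) = s i0 := by
      intro k hk
      by_contra hne
      apply hk
      have h0 := (hσ (Θ (Pi.single (s i0) x)) (σ.symm (s k))).2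
        (by rw [LinearEquiv.symm_apply_apply]; exact Pi.single_eq_of_ne hne _)
      rw [Equiv.apply_symm_apply, hv] at h0
      rw [← hR]
      have e : (R (Pi.single (s i0) x) + R (N (Pi.single (s i0) x))) k = 0 := h0
      rwa [show R (N (Pi.single (s i0) x)) = N0 (R (Pi.single (s i0) x)) from hRX _] at e
    exact hij (hs (σ.symm.injective ((key i hi).trans (key j hj).symm)))

lemma not_preserving (Θ : (Fin t → Fin m → F) ≃ₗ[F] (Fin n → F)) (ht : 6 ≤ t)
    (e : Decomp.preserving (Decomp.weight Θ) ⊓ Cfsg.Geo.specialLinear (Fin n) F =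
      Cfsg.Geo.specialLinear (Fin n) F) (hm : 0 < m) : False := by
  classical
  let a : Fin t := ⟨0, by omega⟩
  let b : Fin t := ⟨1, by omega⟩
  have hab : b ≠ a := by simp [a, b, Fin.ext_iff]
  let x : Fin m → F := Pi.single ⟨0, hm⟩ 1
  have hx : x ≠ 0 := by simp [x]
  let lam : (Fin n → F) →ₗ[F] F :=
    LinearMap.proj ⟨0, hm⟩ ∘ₗ LinearMap.proj a ∘ₗ Θ.symm.toLinearMap
  let M := LinearMap.toMatrix' (lam.smulRight (Θ (Pi.single b x)))
  have hMv : ∀ v, M *ᵥ v = lam v • Θ (Pi.single b x) := fun v => LinearMap.toMatrix'_mulVec _ v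
  have hlb : lam (Θ (Pi.single b x)) = 0 := by simp [lam, hab.symm]
  have hla : lam (Θ (Pi.single a x)) = 1 := by simp [lam, x]
  let φ : Fin n → F := fun k => lam (Pi.single k 1)
  have hφ : ∀ v, φ ⬝ᵥ v = lam v := fun v => by
    conv_rhs => rw [← Finset.univ_sum_single v]
    rw [map_sum]
    refine Finset.sum_congr rfl fun k _ => ?_
    rw [show (Pi.single k (v k) : Fin n → F) = v k • Pi.single k 1 from by
      rw [← Pi.single_smul, smul_eq_mul, mul_one], map_smul, smul_eq_mul, mul_comm]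
  let g : GL (Fin n) F := tvec (Θ (Pi.single b x)) φ (by rw [hφ, hlb])
  have hg : g ∈ Decomp.preserving (Decomp.weight Θ) ⊓ Cfsg.Geo.specialLinear (Fin n) F := by
    rw [e]; exact tvec_mem_specialLinear _ _ _
  have h1 := hg.1 (Θ (Pi.single a x))
  have hw : ∀ w, Decomp.weight Θ (Θ w) = ∑ k, (if w k = 0 then 0 else 1 : F) := fun w => by
    unfold Decomp.weight
    rw [LinearEquiv.symm_apply_apply]
    exact Finset.sum_congr rfl fun k _ => by by_cases h : w k = 0 <;> simp [h]
  rw [tvec_mulVec, hφ, hla, one_smul, ← map_add, hw, hw] at h1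
  have e1 : ∀ k, (if (Pi.single a x + Pi.single b x : Fin t → Fin m → F) k = 0 then 0 else 1 : F) =
      (if (Pi.single a x : Fin t → Fin m → F) k = 0 then 0 else 1) +
      (if (Pi.single b x : Fin t → Fin m → F) k = 0 then 0 else 1) := fun k => by
    by_cases hka : k = a
    · subst hka; simp [Pi.single_eq_of_ne hab.symm, hx]
    · simp [Pi.single_eq_of_ne hka]
  rw [Finset.sum_congr rfl fun k _ => e1 k, Finset.sum_add_distrib, add_eq_left,
    Finset.sum_eq_single b (fun k _ hk => by simp [Pi.single_eq_of_ne hk]) (by simp)] at h1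
  simp [hx] at h1

set_option maxHeartbeats 8000000 in
/-- For a finite field F with q elements and n ≥ 13, let D be a decomposition of F^n into t ≥ 2 independent subspaces of equal dimension m spanning F^n, where m = 1 and q ≤ 4, or m = 2 and q = 2. Then the elements of SL_n(F) permuting the members of D form a subgroup that is not maximal: some subgroup lies strictly between it and SL_n(F). -/
theorem result {F : Type*} [Field F] [Fintype F] (n : ℕ) (hn : 13 ≤ n) {t : ℕ} (m : ℕ) (D : Fin t → Submodule F (Fin n → F)) (hD : Cfsg.Geo.IsMDecomposition m D) (h : (m = 1 ∧ Fintype.card F ≤ 4) ∨ (m = 2 ∧ Fintype.card F = 2)) : ∃ K : Subgroup (Matrix.GeneralLinearGroup (Fin n) F), Cfsg.Geo.decompositionStabilizer D ⊓ Cfsg.Geo.specialLinear (Fin n) F < K ∧ K < Cfsg.Geo.specialLinear (Fin n) F := by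
  classical
  obtain ⟨Θ, hΘ⟩ := Decomp.exists_coords hD
  have htm : t * m = n := by
    have := LinearEquiv.finrank_eq Θ
    simpa [Module.finrank_pi_fintype, Module.finrank_fintype_fun_eq_card] using this
  have ht : 6 ≤ t := by
    rcases h with ⟨rfl, _⟩ | ⟨rfl, _⟩ <;> omega
  have hne : ∀ x : Fin m → F, x ≠ 0 → (∃ l, x l ≠ 0) := fun x hx => Function.ne_iff.1 hx
  suffices hdata : ∃ (p : ℕ) (N0 : (Fin 6 → Fin m → F) →ₗ[F] (Fin 6 → Fin m → F)) (x : Fin m → F),
      (p = 2 ∨ p = 3) ∧ (p : F) = 0 ∧ (∀ y, N0 (N0 y) = 0) ∧ x ≠ 0 ∧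
      (∀ y : Fin 6 → Fin m → F, ∑ j, (if (y + N0 y) j = 0 then 0 else 1 : F) = ∑ j, if y j = 0 then 0 else 1) ∧
      ∃ i0 i j : Fin 6, i ≠ j ∧ (Pi.single i0 x + N0 (Pi.single i0 x) : Fin 6 → Fin m → F) i ≠ 0 ∧
        (Pi.single i0 x + N0 (Pi.single i0 x) : Fin 6 → Fin m → F) j ≠ 0 by
    obtain ⟨p, N0, x, hp, hp0, hN0, _, hinv, i0, i, j, hij, hi, hj⟩ := hdata
    obtain ⟨g, hgK, hgn⟩ := witness Θ hΘ ht p N0 hp hp0 hN0 x hinv i0 i j hij hi hj
    refine ⟨Decomp.preserving (Decomp.weight Θ) ⊓ Cfsg.Geo.specialLinear (Fin n) F, ?_, ?_⟩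
    · exact lt_of_le_of_ne (inf_le_inf (fun a ha => Decomp.weight_stab Θ hΘ ha) le_rfl)
        (fun e => hgn ((e ▸ hgK : g ∈ Cfsg.Geo.decompositionStabilizer D ⊓ _).1))
    · refine lt_of_le_of_ne inf_le_right fun e => ?_
      exact not_preserving Θ ht e hD.pos
  have h01 : Fintype.card F = 2 → ∀ a : F, a = 0 ∨ a = 1 := fun hq a => by
    by_contra ha
    push Not at ha
    have h3 : ({0, 1, a} : Finset F).card = 3 := by
      rw [Finset.card_eq_three]; exact ⟨0, 1, a, zero_ne_one, ha.1.symm, ha.2.symm, rfl⟩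
    have := Finset.card_le_univ ({0, 1, a} : Finset F)
    omega
  have hchar : (2 : F) = 0 ∨ (3 : F) = 0 ∧ Fintype.card F = 3 := by
    have h2 := Fintype.one_lt_card (α := F)
    have hc : ((Fintype.card F : ℕ) : F) = 0 := FiniteField.cast_card_eq_zero F
    have hle : Fintype.card F ≤ 4 := by rcases h with ⟨_, h⟩ | ⟨_, h⟩ <;> omega
    rcases (by omega : Fintype.card F = 2 ∨ Fintype.card F = 3 ∨ Fintype.card F = 4) with hq | hq | hq <;>
      rw [hq] at hc
    · exact Or.inl (by exact_mod_cast hc)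
    · exact Or.inr ⟨by exact_mod_cast hc, hq⟩
    · left
      have : (2 : F) * 2 = 0 := by norm_num at hc ⊢; exact hc
      simpa using this
  rcases h with ⟨rfl, hq4⟩ | ⟨rfl, hq⟩
  · have hx0 : ∀ x : Fin 1 → F, x = 0 ↔ x 0 = 0 := fun x =>
      ⟨fun h => by rw [h]; rfl, fun h => funext fun l => by rw [Subsingleton.elim l 0]; exact h⟩
    by_cases h3 : Fintype.card F = 3
    · have h30 : (3 : F) = 0 := by
        have hc : ((Fintype.card F : ℕ) : F) = 0 := FiniteField.cast_card_eq_zero F
        rw [h3] at hc; exact_mod_cast hc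
      have hind : ∀ x : Fin 1 → F, (if x = 0 then 0 else 1 : F) = x 0 ^ 2 := fun x => by
        by_cases hx : x = 0
        · simp [hx]
        · have := FiniteField.pow_card_sub_one_eq_one (x 0) (fun h => hx ((hx0 x).2 h))
          rw [h3] at this; rw [if_neg hx]; exact this.symm
      refine ⟨3,
        { toFun := fun y => ![y 3 + y 4 + y 5, y 3 + y 4 + y 5, y 3 + y 4 + y 5,
            -(y 0 + y 1 + y 2), -(y 0 + y 1 + y 2), -(y 0 + y 1 + y 2)]
          map_add' := fun y z => by funext i l; fin_cases i <;> simp <;> ring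
          map_smul' := fun c y => by funext i l; fin_cases i <;> simp <;> ring }, fun _ => 1,
        Or.inr rfl, by exact_mod_cast h30, fun y => ?_, fun h => one_ne_zero (congrFun h 0), fun y => ?_,
        0, 0, 3, by decide, ?_, ?_⟩
      · funext i l; fin_cases i <;> simp
        · linear_combination (-(y 0 l + y 1 l + y 2 l)) * h30
        · linear_combination (-(y 0 l + y 1 l + y 2 l)) * h30
        · linear_combination (-(y 0 l + y 1 l + y 2 l)) * h30
        · linear_combination (-(y 3 l + y 4 l + y 5 l)) * h30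
        · linear_combination (-(y 3 l + y 4 l + y 5 l)) * h30
        · linear_combination (-(y 3 l + y 4 l + y 5 l)) * h30
      · simp only [hind, Fin.sum_univ_six]
        simp
        linear_combination ((y 3 0 + y 4 0 + y 5 0) ^ 2 + (y 0 0 + y 1 0 + y 2 0) ^ 2) * h30
      · simp [hx0]
      · simp [hx0]
    · have h20 : (2 : F) = 0 := hchar.resolve_right fun h => h3 h.2
      refine ⟨2,
        { toFun := fun y => ![y 0 + y 1 + y 2 + y 3, y 0 + y 1 + y 2 + y 3, y 0 + y 1 + y 2 + y 3,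
            y 0 + y 1 + y 2 + y 3, 0, 0]
          map_add' := fun y z => by funext i l; fin_cases i <;> simp <;> ring
          map_smul' := fun c y => by funext i l; fin_cases i <;> simp <;> ring }, fun _ => 1,
        Or.inl rfl, by exact_mod_cast h20, fun y => ?_, fun h => one_ne_zero (congrFun h 0), fun y => ?_,
        0, 1, 2, by decide, ?_, ?_⟩
      · funext i l; fin_cases i <;> simp <;>
          linear_combination (2 * (y 0 l + y 1 l + y 2 l + y 3 l)) * h20
      · have h2 := Fintype.one_lt_card (α := F)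
        rcases (by omega : Fintype.card F = 2 ∨ Fintype.card F = 4) with hq | hq
        · have hind : ∀ x : Fin 1 → F, (if x = 0 then 0 else 1 : F) = x 0 := fun x => by
            rcases h01 hq (x 0) with h | h
            · simp [(hx0 x).2 h]
            · rw [h, if_neg (fun e => one_ne_zero (h.symm.trans ((hx0 x).1 e)))]
          simp only [hind, Fin.sum_univ_six]
          simp
          linear_combination (2 * (y 0 0 + y 1 0 + y 2 0 + y 3 0)) * h20
        · have hind : ∀ x : Fin 1 → F, (if x = 0 then 0 else 1 : F) = x 0 ^ 3 := fun x => by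
            by_cases hx : x = 0
            · simp [hx]
            · have := FiniteField.pow_card_sub_one_eq_one (x 0) (fun h => hx ((hx0 x).2 h))
              rw [hq] at this; rw [if_neg hx]; exact this.symm
          simp only [hind, Fin.sum_univ_six]
          simp
          linear_combination (3 * (y 0 0 + y 1 0 + y 2 0 + y 3 0) *
            (y 0 0 ^ 2 + y 1 0 ^ 2 + y 2 0 ^ 2 + y 3 0 ^ 2 + y 0 0 * y 1 0 + y 0 0 * y 2 0 + y 0 0 * y 3 0 +
              y 1 0 * y 2 0 + y 1 0 * y 3 0 + y 2 0 * y 3 0) + 2 * (y 0 0 + y 1 0 + y 2 0 + y 3 0) ^ 3) * h20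
      · simp [hx0]
      · simp [hx0]
  · have h20 : (2 : F) = 0 := hchar.resolve_right fun h => by omega
    have hind : ∀ x : Fin 2 → F, (if x = 0 then 0 else 1 : F) = x 0 ^ 2 + x 0 * x 1 + x 1 ^ 2 := fun x => by
      rcases h01 hq (x 0) with a | a <;> rcases h01 hq (x 1) with b | b
      · rw [if_pos (funext fun l => by fin_cases l <;> simp [a, b])]; simp [a, b]
      · rw [if_neg (fun e => one_ne_zero (b.symm.trans (congrFun e 1)))]; simp [a, b]
      · rw [if_neg (fun e => one_ne_zero (a.symm.trans (congrFun e 0)))]; simp [a, b]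
      · rw [if_neg (fun e => one_ne_zero (a.symm.trans (congrFun e 0))), a, b]
        linear_combination -h20
    refine ⟨2,
      { toFun := fun y => ![![y 0 1 + y 1 1 + y 2 1, 0], ![y 0 1 + y 1 1 + y 2 1, 0],
          ![y 0 1 + y 1 1 + y 2 1, 0], 0, 0, 0]
        map_add' := fun y z => by funext i l; fin_cases i <;> fin_cases l <;> simp <;> ring
        map_smul' := fun c y => by funext i l; fin_cases i <;> fin_cases l <;> simp <;> ring }, ![0, 1],
      Or.inl rfl, by exact_mod_cast h20, fun y => ?_, fun h => one_ne_zero (congrFun h 1), fun y => ?_,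
      0, 1, 2, by decide, ?_, ?_⟩
    · funext i l; fin_cases i <;> fin_cases l <;> simp
    · simp only [hind, Fin.sum_univ_six]
      simp
      have hL : (y 0 1 + y 1 1 + y 2 1) ^ 2 = y 0 1 + y 1 1 + y 2 1 := by
        rcases h01 hq (y 0 1 + y 1 1 + y 2 1) with h | h <;> simp [h]
      linear_combination ((y 0 1 + y 1 1 + y 2 1) * (y 0 0 + y 1 0 + y 2 0) +
        2 * (y 0 1 + y 1 1 + y 2 1) ^ 2) * h20
    · intro h; simpa using congrFun h 0
    · intro h; simpa using congrFun h 0

end Cfsg.Agent.S5635
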