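import Cfsg.Statements.S5638

set_option autoImplicit false
open Cfsg Matrix
open scoped Kronecker

namespace Cfsg.Agent.S5638

set_option maxHeartbeats 2000000 in
/-- Over the field with 2 elements, for n = 2 n₂ ≥ 13, the stabiliser in SL_n of a tensor decomposition with factors of dimensions 2 and n₂ (the conjugate by any P of the Kronecker-product subgroup transported along any bijection Fin n ≃ Fin 2 × Fin n₂, intersected with SL_n) is not a maximal subgroup: some subgroup lies strictly between it and SL_n. -/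
theorem result {F : Type*} [Field F] [Fintype F] (n : ℕ) (hn : 13 ≤ n) (hq : Fintype.card F = 2) (n₂ : ℕ) (e : Fin n ≃ Fin 2 × Fin n₂) (P : Matrix.GeneralLinearGroup (Fin n) F) : ∃ K : Subgroup (Matrix.GeneralLinearGroup (Fin n) F), Cfsg.Geo.tensorProductSubgroup 2 n₂ e P ⊓ Cfsg.Geo.specialLinear (Fin n) F < K ∧ K < Cfsg.Geo.specialLinear (Fin n) F := by
  have h01 : ∀ x : F, x = 0 ∨ x = 1 := by
    classical
    intro x
    by_contra hx
    push Not at hx
    have h3 : ({0, 1, x} : Finset F).card = 3 := by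
      rw [Finset.card_eq_three]; exact ⟨0, 1, x, zero_ne_one, hx.1.symm, hx.2.symm, rfl⟩
    have := Finset.card_le_univ ({0, 1, x} : Finset F)
    omega
  have h11 : (1 : F) + 1 = 0 := by
    rcases h01 (1 + 1) with h | h
    · exact h
    · exact absurd (add_eq_left.1 h) one_ne_zero
  have hn2 : n = 2 * n₂ := by
    simpa using Fintype.card_congr e
  -- the order-three element
  let w : Matrix (Fin 2) (Fin 2) F := !![0, 1; 1, 1]
  let w' : Matrix (Fin 2) (Fin 2) F := !![1, 1; 1, 0]
  have hww : w * w' = 1 := by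
    ext i j; fin_cases i <;> fin_cases j <;> simp [w, w', Matrix.mul_apply, Fin.sum_univ_two, h11]
  have hww' : w' * w = 1 := by
    ext i j; fin_cases i <;> fin_cases j <;> simp [w, w', Matrix.mul_apply, Fin.sum_univ_two, h11]
  let c : GL (Fin 2 × Fin n₂) F :=
    ⟨w ⊗ₖ 1, w' ⊗ₖ 1, by rw [← Matrix.mul_kronecker_mul, hww, one_mul, Matrix.one_kronecker_one],
      by rw [← Matrix.mul_kronecker_mul, hww', one_mul, Matrix.one_kronecker_one]⟩
  let K0 : Subgroup (GL (Fin 2 × Fin n₂) F) :=
    Subgroup.normalizer (Subgroup.zpowers c : Set (GL (Fin 2 × Fin n₂) F))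
  have hK0 : ∀ g : GL (Fin 2 × Fin n₂) F, (g * c = c * g ∨ g * c = c⁻¹ * g) → g ∈ K0 := by
    intro g hg
    have hm : (Subgroup.zpowers c).map (MulAut.conj g).toMonoidHom = Subgroup.zpowers c := by
      rw [MonoidHom.map_zpowers]
      rcases hg with hg | hg
      · congr 1; simp [MulAut.conj_apply, hg]
      · rw [show (MulAut.conj g).toMonoidHom c = c⁻¹ by simp [MulAut.conj_apply, hg],
          Subgroup.zpowers_inv]
    refine Subgroup.mem_normalizer_iff.2 fun h => ⟨fun hh => ?_, fun hh => ?_⟩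
    · rw [← hm]; exact ⟨h, hh, rfl⟩
    · rw [← hm] at hh
      obtain ⟨k, hk, hk'⟩ := hh
      have : k = h := (MulAut.conj g).injective hk'
      exact this ▸ hk
  have hle : Cfsg.Geo.kroneckerSubgroup 2 n₂ F ≤ K0 := by
    rintro g ⟨A, B, hg⟩
    apply hK0
    have key : (A : Matrix (Fin 2) (Fin 2) F) * w = w * A ∨ (A : Matrix (Fin 2) (Fin 2) F) * w = w' * A := by
      have hdet : (A : Matrix (Fin 2) (Fin 2) F).det ≠ 0 := Matrix.det_ne_zero_of_left_inverse A.inv_mul
      rw [Matrix.det_fin_two] at hdet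
      rcases h01 ((A : Matrix (Fin 2) (Fin 2) F) 0 0) with a | a <;>
      rcases h01 ((A : Matrix (Fin 2) (Fin 2) F) 0 1) with b | b <;>
      rcases h01 ((A : Matrix (Fin 2) (Fin 2) F) 1 0) with c' | c' <;>
      rcases h01 ((A : Matrix (Fin 2) (Fin 2) F) 1 1) with d | d <;>
      simp [a, b, c', d] at hdet <;>
      rw [Matrix.eta_fin_two (A : Matrix (Fin 2) (Fin 2) F), a, b, c', d] <;>
      simp [w, w', h11]
    rcases key with h | h
    · left; apply Units.ext
      rw [Units.val_mul, Units.val_mul, hg, ← Matrix.mul_kronecker_mul, h, mul_one,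
        ← Matrix.mul_kronecker_mul, one_mul]
    · right; apply Units.ext
      rw [Units.val_mul, Units.val_mul, hg, ← Matrix.mul_kronecker_mul, h, mul_one]
      show _ = (w' ⊗ₖ 1) * _
      rw [← Matrix.mul_kronecker_mul, one_mul]
  let a : Fin n₂ := ⟨0, by omega⟩
  let b : Fin n₂ := ⟨1, by omega⟩
  have hab : a ≠ b := by simp [a, b, Fin.ext_iff]
  have hEE : Matrix.single a b (1 : F) * Matrix.single a b (1 : F) = 0 :=
    Matrix.single_mul_single_of_ne _ _ _ _ hab.symm _
  let N : Matrix (Fin 2 × Fin n₂) (Fin 2 × Fin n₂) F := w ⊗ₖ Matrix.single a b (1 : F)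
  have hN : N * N = 0 := by
    simp only [N, ← Matrix.mul_kronecker_mul, hEE, Matrix.kronecker_zero]
  let g : GL (Fin 2 × Fin n₂) F := ⟨1 + N, 1 - N, by noncomm_ring; simp [hN], by noncomm_ring; simp [hN]⟩
  have hgK : g ∈ K0 := by
    apply hK0; left; apply Units.ext
    show (1 + N) * (w ⊗ₖ 1) = (w ⊗ₖ 1) * (1 + N)
    rw [add_mul, mul_add, one_mul, mul_one]
    simp only [N, ← Matrix.mul_kronecker_mul, one_mul, mul_one]
  have hgH : g ∉ Cfsg.Geo.kroneckerSubgroup 2 n₂ F := by
    rintro ⟨A, B, hg⟩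
    have e1 : (1 : F) = (A : Matrix (Fin 2) (Fin 2) F) 0 0 * (B : Matrix (Fin n₂) (Fin n₂) F) a a := by
      have := congrFun (congrFun hg (0, a)) (0, a)
      simpa [g, N, Matrix.single_apply, hab, w] using this
    have e2 : (0 : F) = (A : Matrix (Fin 2) (Fin 2) F) 0 0 * (B : Matrix (Fin n₂) (Fin n₂) F) a b := by
      have := congrFun (congrFun hg (0, a)) (0, b)
      simpa [g, N, Matrix.single_apply, hab, w, Matrix.one_apply] using this
    have e3 : (1 : F) = (A : Matrix (Fin 2) (Fin 2) F) 0 1 * (B : Matrix (Fin n₂) (Fin n₂) F) a b := by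
      have := congrFun (congrFun hg (0, a)) (1, b)
      simpa [g, N, Matrix.single_apply, hab, w, Matrix.one_apply] using this
    rcases mul_eq_zero.1 e2.symm with h | h
    · exact one_ne_zero (by rw [e1, h, zero_mul])
    · exact one_ne_zero (by rw [e3, h, mul_zero])
  let T : Matrix (Fin 2 × Fin n₂) (Fin 2 × Fin n₂) F := Matrix.single (0, a) (0, b) (1 : F)
  have hT : T * T = 0 :=
    Matrix.single_mul_single_of_ne _ _ _ _ (by simp [Ne, Prod.ext_iff, hab.symm]) _
  let t : GL (Fin 2 × Fin n₂) F := ⟨1 + T, 1 - T, by noncomm_ring; simp [hT], by noncomm_ring; simp [hT]⟩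
  have htK : t ∉ K0 := by
    intro ht
    have hmem := (Subgroup.mem_normalizer_iff.1 ht c).1 (Subgroup.mem_zpowers c)
    have hc3 : c ^ 3 = 1 := by
      apply Units.ext
      have h2 : w * w = w' := by
        ext i j; fin_cases i <;> fin_cases j <;> simp [w, w', Matrix.mul_apply, Fin.sum_univ_two, h11]
      show (w ⊗ₖ 1) ^ 3 = _
      rw [pow_succ, sq, ← Matrix.mul_kronecker_mul, ← Matrix.mul_kronecker_mul, h2, hww', one_mul, one_mul,
        Matrix.one_kronecker_one]
      rfl
    obtain ⟨k, hk⟩ := Subgroup.mem_zpowers_iff.1 hmem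
    have hk' : c ^ k = c ^ (k % 3) := by
      conv_lhs => rw [← Int.emod_add_mul_ediv k 3, _root_.zpow_add, _root_.zpow_mul]
      norm_num [hc3]
    have h1 := Int.emod_nonneg k (show (3 : ℤ) ≠ 0 by norm_num)
    have h2 := Int.emod_lt_of_pos k (show (0 : ℤ) < 3 by norm_num)
    have htc : t * c = 1 * t ∨ t * c = c * t ∨ t * c = c⁻¹ * t := by
      rw [hk'] at hk
      rcases (by omega : k % 3 = 0 ∨ k % 3 = 1 ∨ k % 3 = 2) with h | h | h <;> rw [h] at hk
      · left; rw [zpow_zero] at hk; rw [hk]; group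
      · right; left; rw [zpow_one] at hk; conv_rhs => rw [hk]
        group
      · right; right
        have : c ^ (2 : ℤ) = c⁻¹ := eq_inv_of_mul_eq_one_left (by group; simpa using hc3)
        rw [this] at hk; rw [hk]; group
    rcases htc with h | h | h
    · have := congrArg (fun u : GL (Fin 2 × Fin n₂) F => (u : Matrix (Fin 2 × Fin n₂) (Fin 2 × Fin n₂) F) (0, b) (0, b)) h
      simp [t, c, T, w, Matrix.mul_apply, Fintype.sum_prod_type, Fin.sum_univ_two, Matrix.single_apply,
        Matrix.one_apply, hab, Prod.ext_iff] at this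
    · have := congrArg (fun u : GL (Fin 2 × Fin n₂) F => (u : Matrix (Fin 2 × Fin n₂) (Fin 2 × Fin n₂) F) (0, a) (1, b)) h
      simp [t, c, T, w, Matrix.mul_apply, Fintype.sum_prod_type, Fin.sum_univ_two, Matrix.single_apply,
        Matrix.one_apply, hab, hab.symm, Prod.ext_iff] at this
    · have := congrArg (fun u : GL (Fin 2 × Fin n₂) F => (u : Matrix (Fin 2 × Fin n₂) (Fin 2 × Fin n₂) F) (0, b) (0, b)) h
      simp [t, c, T, w, w', Matrix.mul_apply, Fintype.sum_prod_type, Fin.sum_univ_two, Matrix.single_apply,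
        Matrix.one_apply, hab, Prod.ext_iff] at this
  let Φ : GL (Fin 2 × Fin n₂) F →* GL (Fin n) F :=
    (MulAut.conj P).toMonoidHom.comp (Cfsg.Geo.glReindex e.symm).toMonoidHom
  have hΦ : Function.Injective Φ :=
    (MulAut.conj P).injective.comp (Cfsg.Geo.glReindex e.symm).injective
  have hH : Cfsg.Geo.tensorProductSubgroup 2 n₂ e P = (Cfsg.Geo.kroneckerSubgroup 2 n₂ F).map Φ :=
    Subgroup.map_map _ _ _
  have hSL : Cfsg.Geo.specialLinear (Fin n) F = ⊤ := by
    refine eq_top_iff.2 fun x _ => MonoidHom.mem_ker.2 (Units.ext ?_)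
    rcases h01 ((Matrix.GeneralLinearGroup.det x : Fˣ) : F) with h | h
    · exact absurd h (Units.ne_zero _)
    · simpa using h
  refine ⟨K0.map Φ, ?_, ?_⟩
  · rw [hSL, inf_top_eq, hH]
    exact (Subgroup.map_lt_map_iff_of_injective hΦ).2
      (lt_of_le_of_ne hle fun h => hgH (h.symm ▸ hgK))
  · rw [hSL, lt_top_iff_ne_top]
    intro h
    obtain ⟨x, hx, hxt⟩ := (h ▸ Subgroup.mem_top (Φ t) : Φ t ∈ K0.map Φ)
    exact htK (hΦ hxt ▸ hx)

end Cfsg.Agent.S5638
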