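import Cfsg.Statements.S5639
import Cfsg.Agent.Geo.SubfieldOvergroup

set_option autoImplicit false
open Cfsg

namespace Cfsg.Agent.S5639

/-- For a finite field F, a subfield F₀ with |F| = |F₀| ^ r for a prime r, and n ≥ 13, the subfield group (the conjugate by any P of the product of GL_n(F₀) with the non-zero scalars of F, intersected with SL_n(F)) is a maximal subgroup of SL_n(F). -/
theorem result {F : Type*} [Field F] [Fintype F] (n : ℕ) (hn : 13 ≤ n) (F₀ : Subfield F) (r : ℕ) (hr : r.Prime) (hcard : Fintype.card F = Nat.card F₀ ^ r) (P : Matrix.GeneralLinearGroup (Fin n) F) : Cfsg.Geo.IsMaximalIn (Cfsg.Geo.specialLinear (Fin n) F) (Cfsg.Geo.subfieldSubgroup F₀ P ⊓ Cfsg.Geo.specialLinear (Fin n) F) := by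
  refine CfsgLib.Geo.isMaximalIn_conj P (CfsgLib.Geo.specialLinear_map_conj P)
    (CfsgLib.Geo.isMaximalIn_of_key (X := CfsgLib.Geo.ratScalar (Fin n) F₀) ?_ ?_)
  · refine CfsgLib.Geo.subfield_proper ?_ (by rw [Fintype.card_fin]; omega)
    intro h
    have h1 : Nat.card F₀ = Fintype.card F := by
      rw [h, Nat.card_congr Subfield.topEquiv.toEquiv, Nat.card_eq_fintype_card]
    rw [h1] at hcard
    have : 1 = r := Nat.pow_right_injective (Fintype.one_lt_card (α := F)) ((pow_one _).trans hcard)
    exact hr.one_lt.ne this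
  · exact fun M hM hMS hne =>
      CfsgLib.Geo.subfield_key hM hMS (by rw [Fintype.card_fin]; omega) hr hcard hne

end Cfsg.Agent.S5639
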