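import Cfsg.Statements.S5644
import Cfsg.Agent.Geo.OrthogonalOvergroup

set_option autoImplicit false
open Cfsg

namespace Cfsg.Agent.S5644

/-- For a finite field F of odd order and n ≥ 13, let Q be a non-degenerate quadratic form on F^n (its polar form is non-degenerate). Then the elements of SL_n(F) that are similarities of Q (Q(gv) = c Q(v) for a non-zero scalar c depending on g) form a maximal subgroup of SL_n(F). -/
theorem result {F : Type*} [Field F] [Fintype F] (n : ℕ) (hn : 13 ≤ n) (hodd : Odd (Fintype.card F)) (Q : (Fin n → F) → F) (hQ : Cfsg.Geo.IsNondegenerateQuadraticForm Q) : Cfsg.Geo.IsMaximalIn (Cfsg.Geo.specialLinear (Fin n) F) (Cfsg.Geo.quadSimilarityGroup Q ⊓ Cfsg.Geo.specialLinear (Fin n) F) := by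
  have h2 : (2 : F) ≠ 0 := by
    intro h0
    haveI : CharP F 2 := CharTwo.of_one_ne_zero_of_two_eq_zero one_ne_zero h0
    have h3 := FiniteField.even_card_of_char_two (F := F) (ringChar.eq F 2)
    rw [Nat.odd_iff] at hodd
    omega
  have hf := CfsgLib.Geo.Orth.isSymmForm_polar h2 hQ
  have h13 : 13 ≤ Fintype.card (Fin n) := by rwa [Fintype.card_fin]
  rw [← CfsgLib.Geo.Orth.similarity_polar h2 hQ]
  exact CfsgLib.Geo.isMaximalIn_of_key (CfsgLib.Geo.Orth.proper hf (le_trans (by norm_num) h13))
    fun M hM _ hne => CfsgLib.Geo.Orth.key hf hM (le_trans (by norm_num) h13) hne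

end Cfsg.Agent.S5644
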