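import Cfsg.Statements.S5647
import Cfsg.Agent.Geo.SympOrthDecomp

set_option autoImplicit false
open Cfsg

namespace Cfsg.Agent.S5647

/-- For a finite field F with q elements and m ≥ 7, let D be a decomposition of F^(2m) into t ≥ 2 pairwise orthogonal subspaces of equal dimension k on each of which the standard alternating form is non-degenerate, spanning F^(2m). Unless k = 2 and q = 2, the elements of Sp_2m(F) permuting the members of D form a maximal subgroup of Sp_2m(F). -/
theorem result {F : Type*} [Field F] [Fintype F] (m : ℕ) (hm : 7 ≤ m) {t : ℕ} (k : ℕ) (D : Fin t → Submodule F (Fin m ⊕ Fin m → F)) (hD : Cfsg.Geo.IsNondegenerateMDecomposition (Cfsg.sympForm m F) k D) (hex : ¬ (k = 2 ∧ Fintype.card F = 2)) : Cfsg.Geo.IsMaximalIn (Cfsg.spGL m F) (Cfsg.Geo.decompositionStabilizer D ⊓ Cfsg.spGL m F) := by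
  classical
  refine CfsgLib.Geo.isMaximalIn_of_key (CfsgLib.Geo.SpTv.orthDecomp_proper hD)
    fun M h1 h2 h3 => CfsgLib.Geo.SpTv.orthDecomp_key hD ?_ h1 h2 h3
  intro l a ha ha0
  by_cases hq : Fintype.card F = 2
  · have hk2 : k ≠ 2 := fun e => hex ⟨e, hq⟩
    obtain ⟨x, hx, hax⟩ := CfsgLib.Geo.SpTv.nondeg_partner (hD.nondegenerate l) ha ha0
    have hindep : LinearIndependent F ![a, x] := by
      refine LinearIndependent.pair_iff.2 fun c d hcd => ?_
      have := congrArg (CfsgLib.Symp.form a) hcd
      rw [CfsgLib.Symp.form_add_right, CfsgLib.Symp.form_smul_right, CfsgLib.Symp.form_smul_right,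
        CfsgLib.Symp.form_self, CfsgLib.Symp.form_zero_right, mul_zero, zero_add] at this
      have hd := (mul_eq_zero.1 this).resolve_right hax
      rw [hd, zero_smul, add_zero] at hcd
      exact ⟨(smul_eq_zero.1 hcd).resolve_right ha0, hd⟩
    have hk : 2 ≤ k := by
      have hsub : Submodule.span F (Set.range ![a, x]) ≤ D l := by
        rw [Submodule.span_le]
        rintro _ ⟨i, rfl⟩
        fin_cases i
        · exact ha
        · exact hx
      have := Submodule.finrank_mono hsub
      rw [finrank_span_eq_card hindep, hD.decomp.finrank_eq, Fintype.card_fin] at this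
      exact this
    let L : D l →ₗ[F] F :=
      { toFun := fun y => CfsgLib.Symp.form a (y : Fin m ⊕ Fin m → F)
        map_add' := fun y z => CfsgLib.Symp.form_add_right a (y : Fin m ⊕ Fin m → F) (z : Fin m ⊕ Fin m → F)
        map_smul' := fun c y => CfsgLib.Symp.form_smul_right c a (y : Fin m ⊕ Fin m → F) }
    by_contra hcon
    push Not at hcon
    have hker : (LinearMap.ker L).map (D l).subtype ≤ F ∙ a := by
      rintro _ ⟨y, hy, rfl⟩
      rcases eq_or_ne (y : Fin m ⊕ Fin m → F) 0 with h0 | h0
      · rw [show (D l).subtype y = 0 from h0]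
        exact Submodule.zero_mem _
      by_cases hya : (y : Fin m ⊕ Fin m → F) = a
      · rw [show (D l).subtype y = a from hya]
        exact Submodule.mem_span_singleton_self a
      · exact absurd (LinearMap.mem_ker.1 hy) (hcon _ y.2 h0 hya)
    have h4 := L.finrank_range_add_finrank_ker
    have h5 := Submodule.finrank_le (LinearMap.range L)
    have h6 := Submodule.finrank_mono hker
    rw [Submodule.finrank_map_subtype_eq, finrank_span_singleton ha0] at h6
    rw [Module.finrank_self] at h5
    rw [hD.decomp.finrank_eq] at h4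
    omega
  · obtain ⟨c, hc0, hc1⟩ : ∃ c : F, c ≠ 0 ∧ c ≠ 1 := by
      by_contra hcon
      push Not at hcon
      refine hq ?_
      have : (Finset.univ : Finset F) = {0, 1} := by
        ext x
        simpa using (em (x = 0)).imp_right (hcon x)
      rw [← Finset.card_univ, this]
      simp
    refine ⟨c • a, (D l).smul_mem c ha, smul_ne_zero hc0 ha0, fun e => hc1 ?_, ?_⟩
    · have h4 : (c - 1) • a = 0 := by rw [sub_smul, e, one_smul, sub_self]
      exact sub_eq_zero.1 ((smul_eq_zero.1 h4).resolve_right ha0)
    · rw [CfsgLib.Symp.form_smul_right, CfsgLib.Symp.form_self, mul_zero]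

end Cfsg.Agent.S5647
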