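import Cfsg.Statements.S5648
import Cfsg.Agent.Geo.SympOrthDecomp
import Cfsg.Agent.Geo.SympQuadOvergroup

set_option autoImplicit false
open Cfsg

namespace Cfsg.Agent.S5648

/-- Over the field with 2 elements and for m ≥ 7, let D be a decomposition of F^(2m) into t pairwise orthogonal non-degenerate 2-dimensional subspaces for the standard alternating form (t = m ≥ 2). Then the elements of Sp_2m(2) permuting the members of D form a subgroup that is not maximal: some subgroup lies strictly between it and Sp_2m(2). -/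
theorem result {F : Type*} [Field F] [Fintype F] (m : ℕ) (hm : 7 ≤ m) (hq : Fintype.card F = 2) {t : ℕ} (D : Fin t → Submodule F (Fin m ⊕ Fin m → F)) (hD : Cfsg.Geo.IsNondegenerateMDecomposition (Cfsg.sympForm m F) 2 D) : ∃ K : Subgroup (Matrix.GeneralLinearGroup (Fin m ⊕ Fin m) F), Cfsg.Geo.decompositionStabilizer D ⊓ Cfsg.spGL m F < K ∧ K < Cfsg.spGL m F := by
  classical
  haveI : CharP F 2 := ringChar.of_eq (by rw [FiniteField.even_card_iff_char_two, hq])
  have h2 : (2 : F) = 0 := CharP.cast_eq_zero F 2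
  have hF : ∀ x : F, x ≠ 0 → x = 1 := by
    have hu : (Finset.univ : Finset F) = {0, 1} := by
      refine (Finset.eq_of_subset_of_card_le (Finset.subset_univ _) ?_).symm
      simp [hq]
    intro x hx
    have := Finset.mem_univ x
    rw [hu] at this
    simpa [hx] using this
  have hc : ∀ x : F, x ^ 2 = x := fun x => by
    rcases eq_or_ne x 0 with rfl | hx
    · simp
    · rw [hF x hx, one_pow]
  -- the quadratic form counting the non-zero components
  let δ : (Fin m ⊕ Fin m → F) → F := fun a => if a = 0 then 0 else 1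
  let Q : (Fin m ⊕ Fin m → F) → F := fun x => ∑ i, δ (CfsgLib.Geo.SpTv.comp hD i x)
  have hδ : ∀ i, ∀ a ∈ D i, ∀ b ∈ D i, δ (a + b) = δ a + δ b + CfsgLib.Symp.form a b := by
    intro i a ha b hb
    have hnon : ∀ a ∈ D i, ∀ b ∈ D i, a ≠ 0 → b ≠ 0 → a ≠ b → CfsgLib.Symp.form a b = 1 := by
      intro a ha b hb ha0 hb0 hab
      refine hF _ fun h0 => ?_
      have hindep : LinearIndependent F ![a, b] := by
        refine LinearIndependent.pair_iff.2 fun c d hcd => ?_
        rcases eq_or_ne c 0 with rfl | hc0 <;> rcases eq_or_ne d 0 with rfl | hd0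
        · exact ⟨rfl, rfl⟩
        · simp [hF d hd0, hb0] at hcd
        · simp [hF c hc0, ha0] at hcd
        · rw [hF c hc0, hF d hd0, one_smul, one_smul] at hcd
          refine absurd ?_ hab
          funext x
          have h3 : a x + b x = 0 := congrFun hcd x
          linear_combination h3 - b x * h2
      have hspan : Submodule.span F (Set.range ![a, b]) = D i := by
        refine Submodule.eq_of_le_of_finrank_le ?_ ?_
        · rw [Submodule.span_le]
          rintro _ ⟨j, rfl⟩
          fin_cases j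
          · exact ha
          · exact hb
        · rw [finrank_span_eq_card hindep, hD.decomp.finrank_eq, Fintype.card_fin]
      obtain ⟨x, hx, hax⟩ := CfsgLib.Geo.SpTv.nondeg_partner (hD.nondegenerate i) ha ha0
      rw [← hspan, Matrix.range_cons, Matrix.range_cons, Matrix.range_empty, Set.union_empty,
        Set.singleton_union, Submodule.mem_span_pair] at hx
      obtain ⟨c, d, rfl⟩ := hx
      exact hax (by rw [CfsgLib.Symp.form_add_right, CfsgLib.Symp.form_smul_right,
        CfsgLib.Symp.form_smul_right, CfsgLib.Symp.form_self, h0, mul_zero, mul_zero, add_zero])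
    rcases eq_or_ne a 0 with rfl | ha0
    · simp [δ, CfsgLib.Symp.form_zero_left]
    rcases eq_or_ne b 0 with rfl | hb0
    · simp [δ, CfsgLib.Symp.form_zero_right]
    rcases eq_or_ne a b with rfl | hab
    · have : a + a = 0 := funext fun x => by simpa [two_mul] using congrArg (· * a x) h2
      simp [δ, this, ha0, CfsgLib.Symp.form_self]
      linear_combination -h2
    · have : a + b ≠ 0 := fun h0 => hab (funext fun x => by
        have h3 : a x + b x = 0 := congrFun h0 x
        linear_combination h3 - b x * h2)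
      simp [δ, this, ha0, hb0, hnon a ha b hb ha0 hb0 hab]
      linear_combination h2
  have hQa : ∀ u v, Q (u + v) = Q u + Q v + CfsgLib.Symp.form u v := fun u v => by
    simp only [Q, CfsgLib.Geo.SpTv.comp_add]
    rw [CfsgLib.Geo.SpTv.form_eq_sum hD u v, ← Finset.sum_add_distrib, ← Finset.sum_add_distrib]
    exact Finset.sum_congr rfl fun i _ => hδ i _ (CfsgLib.Geo.SpTv.comp_mem hD i u) _
      (CfsgLib.Geo.SpTv.comp_mem hD i v)
  have hQs : ∀ (c : F) v, Q (c • v) = c ^ 2 * Q v := fun c v => by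
    rw [hc]
    rcases eq_or_ne c 0 with rfl | hc0
    · simp only [Q, CfsgLib.Geo.SpTv.comp_smul, zero_smul, zero_mul]
      exact Finset.sum_eq_zero fun i _ => by simp [δ, CfsgLib.Geo.SpTv.comp_of_mem hD (D i).zero_mem]
    · rw [hF c hc0, one_smul, one_mul]
  have hsq : ∀ a : F, ∃ t, t ^ 2 = a := fun a => ⟨a, hc a⟩
  have hne : ∀ l, ∃ a ∈ D l, a ≠ 0 := fun l => (Submodule.ne_bot_iff _).1 fun e => by
    have := hD.decomp.finrank_eq l
    rw [e, finrank_bot] at this
    omega
  refine ⟨Cfsg.Geo.quadSimilarityGroup Q ⊓ Cfsg.spGL m F, lt_of_le_not_ge ?_ ?_,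
    lt_of_le_not_ge inf_le_right fun h => CfsgLib.Geo.SpTv.quad_proper h2 (by omega) hQs hQa hsq
      (h.trans inf_le_left)⟩
  · rintro g ⟨hg, hgS⟩
    refine ⟨⟨1, fun v => ?_⟩, hgS⟩
    obtain ⟨σ, hσ⟩ := CfsgLib.Geo.exists_perm_of_mem hg
    rw [Units.val_one, one_mul]
    have key : ∀ i, CfsgLib.Geo.SpTv.comp hD (σ i) ((g : Matrix _ _ F).mulVec v) =
        (g : Matrix _ _ F).mulVec (CfsgLib.Geo.SpTv.comp hD i v) := by
      intro i
      conv_lhs => rw [← CfsgLib.Geo.SpTv.sum_comp hD v, Matrix.mulVec_sum]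
      rw [CfsgLib.Geo.SpTv.comp_sum, Finset.sum_eq_single i (fun j _ hj =>
        CfsgLib.Geo.SpTv.comp_of_mem_ne hD (fun e => hj (σ.injective e).symm)
          (hσ j _ (CfsgLib.Geo.SpTv.comp_mem hD j v))) (by simp),
        CfsgLib.Geo.SpTv.comp_of_mem hD (hσ i _ (CfsgLib.Geo.SpTv.comp_mem hD i v))]
    simp only [Q]
    rw [← Equiv.sum_comp σ (fun i => δ (CfsgLib.Geo.SpTv.comp hD i ((g : Matrix _ _ F).mulVec v)))]
    refine Finset.sum_congr rfl fun i _ => ?_
    rw [key]
    have hinj : ∀ x : Fin m ⊕ Fin m → F, (g : Matrix (Fin m ⊕ Fin m) (Fin m ⊕ Fin m) F).mulVec x = 0 ↔ x = 0 := fun x =>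
      ⟨fun h => by rw [← CfsgLib.Geo.inv_mulVec_mulVec g x, h, Matrix.mulVec_zero],
        fun h => by rw [h, Matrix.mulVec_zero]⟩
    simp [δ, hinj]
  · intro hle
    have ht : 3 ≤ t := by
      by_contra ht
      let L : (Fin m ⊕ Fin m → F) →ₗ[F] (∀ i, D i) :=
        { toFun := fun v i => ⟨_, CfsgLib.Geo.SpTv.comp_mem hD i v⟩
          map_add' := fun u v => funext fun i => Subtype.ext (CfsgLib.Geo.SpTv.comp_add hD i u v)
          map_smul' := fun c u => funext fun i => Subtype.ext (CfsgLib.Geo.SpTv.comp_smul hD i c u) }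
      have hinj : Function.Injective L := fun u v huv => by
        rw [← CfsgLib.Geo.SpTv.sum_comp hD u, ← CfsgLib.Geo.SpTv.sum_comp hD v]
        exact Finset.sum_congr rfl fun i _ => congrArg Subtype.val (congrFun huv i)
      have h3 := LinearMap.finrank_le_finrank_of_injective hinj
      rw [Module.finrank_fintype_fun_eq_card, Module.finrank_pi_fintype, Fintype.card_sum,
        Fintype.card_fin, Finset.sum_congr rfl fun i _ => hD.decomp.finrank_eq i, Finset.sum_const,
        Finset.card_univ, Fintype.card_fin, smul_eq_mul] at h3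
      omega
    choose a ha ha0 using hne
    let i : Fin t := ⟨0, by omega⟩
    let j : Fin t := ⟨1, by omega⟩
    let l : Fin t := ⟨2, by omega⟩
    have hij : i ≠ j := by simp [i, j]
    have hil : i ≠ l := by simp [i, l]
    have hjl : j ≠ l := by simp [j, l]
    have hQ1 : ∀ p, ∀ x ∈ D p, x ≠ 0 → Q x = 1 := fun p x hx hx0 => by
      simp only [Q]
      rw [Finset.sum_eq_single p (fun q _ hq => by simp [δ, CfsgLib.Geo.SpTv.comp_of_mem_ne hD hq hx])
        (by simp), CfsgLib.Geo.SpTv.comp_of_mem hD hx]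
      simp [δ, hx0]
    have hQv : Q (a i + a j + a l) = 1 := by
      rw [hQa, hQa, hQ1 i _ (ha i) (ha0 i), hQ1 j _ (ha j) (ha0 j), hQ1 l _ (ha l) (ha0 l),
        CfsgLib.Symp.form_add_left, show CfsgLib.Symp.form (a i) (a j) = 0 from hD.orthogonal i j hij _ (ha i) _ (ha j),
        show CfsgLib.Symp.form (a i) (a l) = 0 from hD.orthogonal i l hil _ (ha i) _ (ha l),
        show CfsgLib.Symp.form (a j) (a l) = 0 from hD.orthogonal j l hjl _ (ha j) _ (ha l)]
      linear_combination h2
    have hmem := hle (CfsgLib.Geo.SpTv.stv_mem_quad h2 (by omega) hQs hQa hsq (a i + a j + a l) (by rw [hQv]; exact one_ne_zero))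
    rw [hQv, inv_one] at hmem
    obtain ⟨σ, hσ⟩ := CfsgLib.Geo.exists_perm_of_mem hmem.1
    obtain ⟨x, hx, hax⟩ := CfsgLib.Geo.SpTv.nondeg_partner (hD.nondegenerate i) (ha i) (ha0 i)
    have h1 := hσ i x hx
    rw [CfsgLib.Geo.SpTv.stv_mulVec, one_mul, CfsgLib.Symp.form_swap, CfsgLib.Symp.form_add_left,
      CfsgLib.Symp.form_add_left,
      show CfsgLib.Symp.form (a j) x = 0 from hD.orthogonal j i (Ne.symm hij) _ (ha j) _ hx,
      show CfsgLib.Symp.form (a l) x = 0 from hD.orthogonal l i (Ne.symm hil) _ (ha l) _ hx,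
      add_zero, add_zero] at h1
    set c := -CfsgLib.Symp.form (a i) x
    have hc0 : c ≠ 0 := neg_ne_zero.2 hax
    have hcomp : ∀ p, σ i ≠ p → CfsgLib.Geo.SpTv.comp hD p x + c • (CfsgLib.Geo.SpTv.comp hD p (a i) +
        CfsgLib.Geo.SpTv.comp hD p (a j) + CfsgLib.Geo.SpTv.comp hD p (a l)) = 0 := fun p hp => by
      rw [← CfsgLib.Geo.SpTv.comp_add, ← CfsgLib.Geo.SpTv.comp_add, ← CfsgLib.Geo.SpTv.comp_smul,
        ← CfsgLib.Geo.SpTv.comp_add, CfsgLib.Geo.SpTv.comp_of_mem_ne hD (Ne.symm hp) h1]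
    by_cases hσj : σ i = j
    · have := hcomp l (by rw [hσj]; exact hjl)
      simp [CfsgLib.Geo.SpTv.comp_of_mem hD (ha l), CfsgLib.Geo.SpTv.comp_of_mem_ne hD (Ne.symm hil) hx,
        CfsgLib.Geo.SpTv.comp_of_mem_ne hD (Ne.symm hil) (ha i), CfsgLib.Geo.SpTv.comp_of_mem_ne hD (Ne.symm hjl) (ha j),
        hc0, ha0 l] at this
    · have := hcomp j hσj
      simp [CfsgLib.Geo.SpTv.comp_of_mem hD (ha j), CfsgLib.Geo.SpTv.comp_of_mem_ne hD (Ne.symm hij) hx,
        CfsgLib.Geo.SpTv.comp_of_mem_ne hD (Ne.symm hij) (ha i), CfsgLib.Geo.SpTv.comp_of_mem_ne hD hjl (ha l),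
        hc0, ha0 j] at this

end Cfsg.Agent.S5648
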