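import Cfsg.Statements.S5649
import Cfsg.Agent.Geo.SympLagrangianPair

set_option autoImplicit false
open Cfsg

namespace Cfsg.Agent.S5649

/-- For a finite field F of odd order and m ≥ 7, let D be a decomposition of F^(2m) into two complementary subspaces of dimension m on each of which the standard alternating form vanishes identically. Then the elements of Sp_2m(F) preserving or interchanging the two subspaces form a maximal subgroup of Sp_2m(F). -/
theorem result {F : Type*} [Field F] [Fintype F] (m : ℕ) (hm : 7 ≤ m) (hodd : Odd (Fintype.card F)) (D : Fin 2 → Submodule F (Fin m ⊕ Fin m → F)) (hD : Cfsg.Geo.IsMDecomposition m D) (hts : ∀ i, Cfsg.Geo.IsTotallySingularFor (Cfsg.sympForm m F) (D i)) : Cfsg.Geo.IsMaximalIn (Cfsg.spGL m F) (Cfsg.Geo.decompositionStabilizer D ⊓ Cfsg.spGL m F) := by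
  have h2 : (2 : F) ≠ 0 := by
    refine Ring.two_ne_zero fun h => ?_
    rw [FiniteField.even_card_iff_char_two] at h
    exact Nat.not_even_iff_odd.2 hodd (Nat.even_iff.2 h)
  have h : CfsgLib.Geo.SpTv.LagPair (D 0) (D 1) :=
    { singW := hts 0
      singU := hts 1
      split := fun x => by
        have hx : x ∈ D 0 ⊔ D 1 := by
          have e : iSup D ≤ D 0 ⊔ D 1 := iSup_le fun i => by
            fin_cases i
            · exact le_sup_left
            · exact le_sup_right
          exact e (hD.iSup_eq_top ▸ Submodule.mem_top)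
        obtain ⟨w, hw, u, hu, e⟩ := Submodule.mem_sup.1 hx
        exact ⟨w, hw, u, hu, e.symm⟩
      disj := fun x hx hx' => Submodule.disjoint_def.1 (hD.indep.pairwiseDisjoint (by decide : (0 : Fin 2) ≠ 1)) x hx hx'
      dimW := hD.finrank_eq 0
      dimU := hD.finrank_eq 1 }
  exact CfsgLib.Geo.isMaximalIn_of_key (CfsgLib.Geo.SpTv.lagPair_proper D h (by omega))
    fun M h1 h3 h4 => CfsgLib.Geo.SpTv.lagPair_key D hD h (by omega) h2 h1 h3 h4

end Cfsg.Agent.S5649
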