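import Cfsg.Statements.S5651
import Cfsg.Agent.Geo.PauliSp.Entry

set_option autoImplicit false
open Cfsg

namespace Cfsg.Agent.S5651

/-- Let p be an odd prime, F the field with p elements, and m ≥ 7. Let R be a 2-subgroup of GL_2m(F) of exponent 4 in which every characteristic abelian subgroup is cyclic, of order 2^(1+2k) with centre of order 2 and with no elementary abelian subgroup of order 2^(k+1) (minus type), acting absolutely irreducibly on F^(2m) and consisting of isometries of the standard alternating form. Then the elements of Sp_2m(F) normalising R form a maximal subgroup of Sp_2m(F). -/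
theorem result {F : Type*} [Field F] [Fintype F] (m : ℕ) (hm : 7 ≤ m) (p k : ℕ) (hp : p.Prime) (hpo : Odd p) (hF : Fintype.card F = p) (R : Subgroup (Matrix.GeneralLinearGroup (Fin m ⊕ Fin m) F)) (hR : Cfsg.Geo.IsSymplecticTypeGroup 2 R) (hirr : Cfsg.Geo.ActsAbsolutelyIrreducibly (Cfsg.Geo.matrixSet R)) (hRD : R ≤ Cfsg.spGL m F) (hcard : Nat.card R = 2 ^ (1 + 2 * k)) (hZ : Nat.card (Subgroup.center R) = 2) (hminus : Cfsg.Geo.IsOfMinusType k R) : Cfsg.Geo.IsMaximalIn (Cfsg.spGL m F) (Cfsg.Geo.subgroupNormalizer R ⊓ Cfsg.spGL m F) := by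
  haveI : Fact p.Prime := ⟨hp⟩
  have h2 : (2 : F) ≠ 0 := by
    have hc := CharP.cast_eq_zero_iff F (ringChar F)
    haveI : CharP F p := by
      rw [← hF]
      haveI := ringChar.charP F
      obtain ⟨n, hr, hn⟩ := FiniteField.card F (ringChar F)
      rw [hF] at hn
      have : ringChar F = p := ((Nat.prime_dvd_prime_iff_eq hr hp).1 ⟨(ringChar F) ^ ((n : ℕ) - 1), by
        rw [hn, ← pow_succ', Nat.sub_add_cancel n.pos]⟩)
      rw [hF, ← this]; infer_instance
    intro h
    have h' := (CharP.cast_eq_zero_iff F p 2).1 (by exact_mod_cast h)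
    rw [(Nat.prime_dvd_prime_iff_eq hp Nat.prime_two).1 h'] at hpo
    exact absurd hpo (by decide)
  obtain ⟨V, iV₁, iV₂, iV₃, S, hk, hS⟩ :=
    CfsgLib.Geo.PauliSp.exists_sys h2 (by omega) k hR hirr hRD hcard hZ hminus
  have hk4 : 4 ≤ S.k := by
    by_contra h
    have h1 := S.two_m
    have h2 : 2 ^ S.k ≤ 2 ^ 3 := Nat.pow_le_pow_right (by norm_num) (by omega)
    norm_num at h2
    omega
  rw [← hS]
  exact CfsgLib.Geo.PauliSp.maximal hp hF S.k m V S rfl (by omega)

end Cfsg.Agent.S5651
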