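import Cfsg.Statements.S5652
import Cfsg.Agent.Geo.SympQuadOvergroup

set_option autoImplicit false
open Cfsg

namespace Cfsg.Agent.S5652

/-- For a finite field F of characteristic two and m ≥ 7, let Q be a non-degenerate quadratic form on F^(2m) whose polar form is the standard alternating form. Then the elements of Sp_2m(F) that are similarities of Q (they are exactly the isometries of Q) form a maximal subgroup of Sp_2m(F). -/
theorem result {F : Type*} [Field F] [Fintype F] (m : ℕ) (hm : 7 ≤ m) (heven : ¬ Odd (Fintype.card F)) (Q : (Fin m ⊕ Fin m → F) → F) (hQ : Cfsg.Geo.IsNondegenerateQuadraticForm Q) (hpol : ∀ u v, QuadraticMap.polar Q u v = Cfsg.sympForm m F u v) : Cfsg.Geo.IsMaximalIn (Cfsg.spGL m F) (Cfsg.Geo.quadSimilarityGroup Q ⊓ Cfsg.spGL m F) := by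
  have hF2 : ringChar F = 2 := by
    rw [FiniteField.even_card_iff_char_two]
    exact Nat.even_iff.1 (Nat.not_odd_iff_even.1 heven)
  haveI : CharP F 2 := ringChar.of_eq hF2
  refine CfsgLib.Geo.isMaximalIn_of_key ?_ fun M h1 h2 h3 => ?_
  · exact CfsgLib.Geo.SpTv.quad_proper (CharP.cast_eq_zero F 2) (by omega) hQ.smul
      (fun u v => by rw [← show QuadraticMap.polar Q u v = CfsgLib.Symp.form u v from hpol u v,
        QuadraticMap.polar]; ring)
      (fun a => (FiniteField.isSquare_of_char_two hF2 a).imp fun t ht => by rw [pow_two, ht])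
  · exact CfsgLib.Geo.SpTv.quad_key (CharP.cast_eq_zero F 2) (by omega) hQ.smul
      (fun u v => by rw [← show QuadraticMap.polar Q u v = CfsgLib.Symp.form u v from hpol u v,
        QuadraticMap.polar]; ring)
      (fun a => (FiniteField.isSquare_of_char_two hF2 a).imp fun t ht => by rw [pow_two, ht]) h1 h2 h3

end Cfsg.Agent.S5652
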