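import Cfsg.Statements.S5656
import Cfsg.Agent.Geo.DecompCoords
import Cfsg.Agent.Geo.UnitTv
import Cfsg.Agent.Unitary.Decompose
import Cfsg.Agent.Aschbacher.UnitaryMember

set_option autoImplicit false
open Cfsg

namespace Cfsg.Agent.S5656

open Matrix CfsgLib.Geo

variable {n : ℕ} {F : Type*} [Field F]

lemma herm_sum_left {κ : Type*} [Fintype κ] (r : κ → F) (c : κ → Fin n → F) (y : Fin n → F) :
    Cfsg.hermForm n F 2 (∑ k, r k • c k) y = ∑ k, r k * Cfsg.hermForm n F 2 (c k) y := by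
  simp only [Cfsg.hermForm, Finset.sum_apply, Pi.smul_apply, smul_eq_mul, Finset.mul_sum, Finset.sum_mul]
  rw [Finset.sum_comm]
  simp only [mul_assoc]

lemma herm_sum_right [Fintype F] (hF : Nat.card F = 2 ^ 2) {κ : Type*} [Fintype κ] (r : κ → F)
    (c : κ → Fin n → F) (x : Fin n → F) :
    Cfsg.hermForm n F 2 x (∑ k, r k • c k) = ∑ k, r k ^ 2 * Cfsg.hermForm n F 2 x (c k) := by
  have hswap := fun a b : Fin n → F => CfsgLib.Unitary.herm_swap hF a b
  rw [hswap (∑ k, r k • c k) x, herm_sum_left, ← UTv.frobEquiv_apply hF, map_sum]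
  refine Finset.sum_congr rfl fun k _ => ?_
  rw [map_mul, UTv.frobEquiv_apply hF, UTv.frobEquiv_apply hF, ← hswap (c k) x]

/-- Let F be the field with 4 elements (q = 2) and n ≥ 13. Let D be a decomposition of F^n into t pairwise orthogonal 2-dimensional subspaces, each non-degenerate for the standard unitary form Σ u_i v_i². Then the elements of SU_n(2) permuting the members of D form a subgroup that is not maximal: some subgroup lies strictly between it and SU_n(2). -/
theorem result {F : Type*} [Field F] [Fintype F] (n : ℕ) (hF : Fintype.card F = 4) (hn : 13 ≤ n) {t : ℕ} (D : Fin t → Submodule F (Fin n → F)) (hD : Cfsg.Geo.IsNondegenerateMDecomposition (Cfsg.hermForm n F 2) 2 D) : ∃ K : Subgroup (Matrix.GeneralLinearGroup (Fin n) F), Cfsg.Geo.decompositionStabilizer D ⊓ (Cfsg.GU n F 2 ⊓ Cfsg.Geo.specialLinear (Fin n) F) < K ∧ K < (Cfsg.GU n F 2 ⊓ Cfsg.Geo.specialLinear (Fin n) F) := by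
  classical
  have hF' : Nat.card F = 2 ^ 2 := by rw [Nat.card_eq_fintype_card, hF]; norm_num
  have hf := UTv.isUnitaryForm hF' (n := n)
  have hfam : ∀ i, ∃ b : Fin 2 → (Fin n → F), (∀ l, b l ∈ D i) ∧
      (∀ l l', Cfsg.hermForm n F 2 (b l) (b l') = if l = l' then 1 else 0) ∧
      ∀ v ∈ D i, ∃ r : Fin 2 → F, v = ∑ l, r l • b l := by
    intro i
    have hnd : ∀ u ∈ D i, (∀ v ∈ D i, Cfsg.hermForm n F 2 u v = 0) → u = 0 := fun u hu h => by
      by_contra h0
      obtain ⟨-, x, hx, hne⟩ := hD.nondegenerate i u hu h0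
      exact hne (h x hx)
    obtain ⟨b, hb⟩ := CfsgLib.Unitary.exists_orthonormal_family hF' (D i) (hD.decomp.finrank_eq i) hnd
    refine ⟨fun l => (b l : Fin n → F), fun l => (b l).2, hb, fun v hv => ⟨fun l => b.repr ⟨v, hv⟩ l, ?_⟩⟩
    have := congrArg (fun w : D i => (w : Fin n → F)) (b.sum_repr ⟨v, hv⟩)
    simpa only [AddSubmonoidClass.coe_finset_sum, Submodule.coe_smul] using this.symm
  choose b hbD hbo hbs using hfam
  obtain ⟨Θ, -⟩ := Decomp.exists_coords hD.decomp
  have htn : Fintype.card (Fin t × Fin 2) = n := by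
    have := LinearEquiv.finrank_eq Θ
    simpa [Module.finrank_pi_fintype, Module.finrank_fintype_fun_eq_card] using this
  have htn' : t * 2 = n := by simpa using htn
  let ε : Fin n ≃ Fin t × Fin 2 := (Fintype.equivFinOfCardEq htn).symm
  let c : Fin n → (Fin n → F) := fun k => b (ε k).1 (ε k).2
  have hc : ∀ k k', Cfsg.hermForm n F 2 (c k) (c k') = if k = k' then 1 else 0 := by
    intro k k'
    by_cases h1 : (ε k).1 = (ε k').1
    · simp only [c]
      rw [h1, hbo]
      by_cases h2 : (ε k).2 = (ε k').2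
      · rw [if_pos h2, if_pos (ε.injective (Prod.ext h1 h2))]
      · rw [if_neg h2, if_neg (fun e => h2 (by rw [e]))]
    · rw [if_neg (fun e => h1 (by rw [e])), hD.orthogonal _ _ h1 _ (hbD _ _) _ (hbD _ _)]
  let U : Matrix (Fin n) (Fin n) F := Matrix.of fun i k => c k i
  have hUv : ∀ x, U *ᵥ x = ∑ k, x k • c k := fun x => by
    funext i; simp [U, Matrix.mulVec, dotProduct, mul_comm]
  have hUp : ∀ x y, Cfsg.hermForm n F 2 (U *ᵥ x) (U *ᵥ y) = Cfsg.hermForm n F 2 x y := by
    intro x y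
    rw [hUv, hUv]
    have hL := CfsgLib.Unitary.uForm hF' n
    calc Cfsg.hermForm n F 2 (∑ k, x k • c k) (∑ k, y k • c k)
        = ∑ k, x k * ∑ k', (y k') ^ 2 * Cfsg.hermForm n F 2 (c k) (c k') := by
          rw [herm_sum_left]
          refine Finset.sum_congr rfl fun k _ => ?_
          rw [herm_sum_right hF']
      _ = _ := by
          simp only [hc]
          simp [Cfsg.hermForm, mul_comm]
  have hUu : IsUnit U := by
    rw [← Matrix.mulVec_injective_iff_isUnit]
    intro x y h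
    funext k
    have e : ∀ z, Cfsg.hermForm n F 2 (U *ᵥ z) (U *ᵥ Pi.single k 1) = z k := fun z => by
      rw [hUp]; simp [Cfsg.hermForm, Pi.single_apply]
    have := e x
    rw [show U *ᵥ x = U *ᵥ y from h, e y] at this
    exact this.symm
  let u : GL (Fin n) F := hUu.unit
  have huv : ∀ k, (u : Matrix (Fin n) (Fin n) F) *ᵥ Pi.single k 1 = c k := fun k => by
    funext i; simp [u, U]
  have huGU : u ∈ Cfsg.GU n F 2 := UTv.mem_GU.2 fun x y => by simpa [u] using hUp x y
  let L : Fin n → Submodule F (Fin n → F) := fun k => F ∙ c k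
  have hc0 : ∀ k, c k ≠ 0 := fun k h => by
    have := hc k k
    rw [h, if_pos rfl] at this
    simp [Cfsg.hermForm] at this
  have hli : LinearIndependent F c := by
    rw [Fintype.linearIndependent_iff]
    intro r hr k
    have h1 : Cfsg.hermForm n F 2 (∑ k', r k' • c k') (c k) = 0 := by
      rw [hr]; simp [Cfsg.hermForm]
    rw [herm_sum_left] at h1
    simpa [hc] using h1
  have hL : Cfsg.Geo.IsNondegenerateMDecomposition (Cfsg.hermForm n F 2) 1 L := by
    refine ⟨⟨by omega, one_pos, fun k => finrank_span_singleton (hc0 k), hli.iSupIndep_span_singleton, ?_⟩,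
      fun k v hv hv0 => ?_, fun k k' hk v hv w hw => ?_⟩
    · rw [← Submodule.span_range_eq_iSup]
      exact hli.span_eq_top_of_card_eq_finrank' (by simp)
    · obtain ⟨a, rfl⟩ := Submodule.mem_span_singleton.1 hv
      have ha : a ≠ 0 := fun h => hv0 (by rw [h, zero_smul])
      refine ⟨⟨c k, Submodule.mem_span_singleton_self _, ?_⟩, c k, Submodule.mem_span_singleton_self _, ?_⟩
      · rw [Unit.smul_right hf, hc, if_pos rfl, mul_one, map_ne_zero]; exact ha
      · rw [hf.smul_left, hc, if_pos rfl, mul_one]; exact ha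
    · obtain ⟨a, rfl⟩ := Submodule.mem_span_singleton.1 hv
      obtain ⟨a', rfl⟩ := Submodule.mem_span_singleton.1 hw
      rw [hf.smul_left, Unit.smul_right hf, hc, if_neg hk, mul_zero, mul_zero]
  refine ⟨Cfsg.Geo.decompositionStabilizer L ⊓ (Cfsg.GU n F 2 ⊓ Cfsg.Geo.specialLinear (Fin n) F),
    lt_of_le_of_ne (le_inf ?_ inf_le_right) ?_, lt_of_le_of_ne inf_le_right ?_⟩
  · rintro g ⟨⟨σ, hσ⟩, hgI⟩
    have hgI' : g ∈ UTv.suGL n F 2 := hgI
    have hone : ∀ k, ∃ (k' : Fin n) (a : F), (g : Matrix (Fin n) (Fin n) F) *ᵥ c k = a • c k' := by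
      intro k
      have hmem : (g : Matrix (Fin n) (Fin n) F) *ᵥ c k ∈ D (σ (ε k).1) := by
        rw [← hσ]; exact ⟨c k, hbD _ _, by rw [Matrix.toLin'_apply]⟩
      obtain ⟨r, hr⟩ := hbs _ _ hmem
      have h1 := UTv.herm_mulVec hgI' (c k) (c k)
      rw [hr, hc, if_pos rfl, herm_sum_left, Fin.sum_univ_two, herm_sum_right hF', herm_sum_right hF',
        Fin.sum_univ_two, Fin.sum_univ_two, hbo, hbo, hbo, hbo] at h1
      simp at h1
      have hnorm : ∀ a : F, a ≠ 0 → a * a ^ 2 = 1 := fun a ha => by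
        have := FiniteField.pow_card_sub_one_eq_one a ha
        rw [hF] at this
        rw [← pow_succ']; exact this
      by_cases h0 : r 0 = 0
      · refine ⟨ε.symm (σ (ε k).1, 1), r 1, ?_⟩
        rw [hr, Fin.sum_univ_two, h0, zero_smul, zero_add]
        simp [c]
      by_cases h1' : r 1 = 0
      · refine ⟨ε.symm (σ (ε k).1, 0), r 0, ?_⟩
        rw [hr, Fin.sum_univ_two, h1', zero_smul, add_zero]
        simp [c]
      exfalso
      rw [hnorm _ h0, hnorm _ h1'] at h1
      exact one_ne_zero (add_eq_left.1 h1)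
    choose π a hπ using hone
    have ha0 : ∀ k, a k ≠ 0 := fun k h => by
      have := hπ k
      rw [h, zero_smul] at this
      exact hc0 k (by rw [← inv_mulVec_mulVec g (c k), this, Matrix.mulVec_zero])
    have hπi : Function.Injective π := by
      intro k k' hk
      by_contra hne
      have h1 := hπ k
      have h2 := UTv.herm_mulVec hgI' (c k) (c k')
      rw [h1, hπ k', hc, if_neg hne, hf.smul_left, Unit.smul_right hf, hk, hc, if_pos rfl, mul_one] at h2
      exact mul_ne_zero (ha0 k) ((map_ne_zero _).2 (ha0 k')) h2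
    refine ⟨Equiv.ofBijective π hπi.bijective_of_finite, fun k => ?_⟩
    rw [Submodule.map_span, Set.image_singleton, Matrix.toLin'_apply, hπ k]
    exact Submodule.span_singleton_smul_eq (ha0 k).isUnit _
  · intro e
    let p : Fin 3 → Fin n := fun l => ε.symm ((⟨l, by omega⟩ : Fin t), 0)
    have hp : Function.Injective p := fun l l' h => by
      have := congrArg Prod.fst (ε.symm.injective h)
      exact Fin.ext (by simpa [Fin.ext_iff] using this)
    let ρ : Equiv.Perm (Fin n) := Equiv.swap (p 0) (p 1) * Equiv.swap (p 1) (p 2)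
    let P : GL (Fin n) F := ⟨ρ.permMatrix F, (ρ⁻¹).permMatrix F,
      by rw [← Matrix.permMatrix_mul, inv_mul_cancel, Matrix.permMatrix_one],
      by rw [← Matrix.permMatrix_mul, mul_inv_cancel, Matrix.permMatrix_one]⟩
    have hPv : ∀ x, (P : Matrix (Fin n) (Fin n) F) *ᵥ x = x ∘ ρ := fun x => Matrix.permMatrix_mulVec ρ
    let g := u * P * u⁻¹
    have hgc : ∀ k, (g : Matrix (Fin n) (Fin n) F) *ᵥ c k = c (ρ.symm k) := by
      intro k
      simp only [g, Units.val_mul, ← Matrix.mulVec_mulVec]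
      rw [← huv k, inv_mulVec_mulVec, hPv, ← huv]
      congr 1
      funext i
      simp only [Function.comp_apply, Pi.single_apply, Equiv.eq_symm_apply]
    have hPG : P ∈ Cfsg.GU n F 2 := UTv.mem_GU.2 fun x y => by
      rw [hPv, hPv]
      exact Equiv.sum_comp ρ fun i => x i * y i ^ 2
    have hgI : g ∈ Cfsg.GU n F 2 ⊓ Cfsg.Geo.specialLinear (Fin n) F := by
      refine ⟨(Cfsg.GU n F 2).mul_mem ((Cfsg.GU n F 2).mul_mem huGU hPG) ((Cfsg.GU n F 2).inv_mem huGU), mem_specialLinear.2 ?_⟩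
      simp only [g, Units.val_mul]
      rw [Matrix.det_mul, Matrix.det_mul, mul_comm, ← mul_assoc, ← Matrix.det_mul, Units.inv_mul,
        Matrix.det_one, one_mul]
      show (ρ.permMatrix F).det = 1
      rw [Matrix.det_permutation]
      simp [ρ, Equiv.Perm.sign_mul, Equiv.Perm.sign_swap (hp.ne (show (0 : Fin 3) ≠ 1 by decide)),
        Equiv.Perm.sign_swap (hp.ne (show (1 : Fin 3) ≠ 2 by decide))]
    have hgL : g ∈ Cfsg.Geo.decompositionStabilizer L := ⟨ρ.symm, fun k => by
      rw [Submodule.map_span, Set.image_singleton, Matrix.toLin'_apply, hgc]⟩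
    obtain ⟨⟨σ, hσ⟩, -⟩ : g ∈ Cfsg.Geo.decompositionStabilizer D ⊓ _ := e.symm ▸ Subgroup.mem_inf.2 ⟨hgL, hgI⟩
    have hkey : ∀ l, c (ρ.symm (ε.symm ((⟨0, by omega⟩ : Fin t), l))) ∈ D (σ ⟨0, by omega⟩) := fun l => by
      rw [← hgc, ← hσ]
      refine ⟨_, ?_, by rw [Matrix.toLin'_apply]⟩
      simp only [c, Equiv.apply_symm_apply]
      exact hbD _ _
    have h0 := hkey 0
    have h1 := hkey 1
    have hq1 : ρ.symm (ε.symm ((⟨0, by omega⟩ : Fin t), (1 : Fin 2))) = ε.symm (⟨0, by omega⟩, 1) := by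
      rw [Equiv.symm_apply_eq]
      symm
      have hne : ∀ l, ε.symm ((⟨0, by omega⟩ : Fin t), (1 : Fin 2)) ≠ p l := fun l h => by
        simpa using congrArg Prod.snd (ε.symm.injective h)
      simp [ρ, Equiv.swap_apply_of_ne_of_ne (hne 1) (hne 2), Equiv.swap_apply_of_ne_of_ne (hne 0) (hne 1)]
    have hq0 : ρ.symm (p 0) ≠ p 0 := by
      rw [Ne, Equiv.symm_apply_eq]
      intro h
      have h' : ρ (p 0) = p 1 := by
        simp [ρ, Equiv.swap_apply_of_ne_of_ne (hp.ne (show (0 : Fin 3) ≠ 1 by decide))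
          (hp.ne (show (0 : Fin 3) ≠ 2 by decide))]
      exact hp.ne (show (0 : Fin 3) ≠ 1 by decide) (h.trans h')
    rw [hq1] at h1
    have hblk : ∀ k i, c k ∈ D i → (ε k).1 = i := fun k i h => by
      by_contra hne
      have := hD.orthogonal _ _ hne _ (hbD (ε k).1 (ε k).2) _ h
      rw [show b (ε k).1 (ε k).2 = c k from rfl, hc, if_pos rfl] at this
      exact one_ne_zero this
    have hσ0 : σ ⟨0, by omega⟩ = (⟨0, by omega⟩ : Fin t) := by
      rw [← hblk _ _ h1, Equiv.apply_symm_apply]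
    have h0' := hblk _ _ h0
    rw [hσ0] at h0'
    apply hq0
    have hp0 : p 0 = ε.symm ((⟨0, by omega⟩ : Fin t), (0 : Fin 2)) := rfl
    have hρ : ∃ l, ρ.symm (p 0) = p l := by
      refine ⟨2, ?_⟩
      rw [Equiv.symm_apply_eq]
      simp [ρ, Equiv.swap_apply_of_ne_of_ne (hp.ne (show (0 : Fin 3) ≠ 1 by decide))
        (hp.ne (show (0 : Fin 3) ≠ 2 by decide))]
    obtain ⟨l, hl⟩ := hρ
    rw [← hp0, hl] at h0'
    simp only [p, Equiv.apply_symm_apply, Fin.ext_iff] at h0'
    rw [hl]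
    exact congrArg p (Fin.ext h0')
  · intro e
    let ι' := Fintype.card (Fin n)
    let η : Fin ι' ≃ Fin n := finCongr (Fintype.card_fin n)
    have hL' : Cfsg.Geo.IsNondegenerateMDecomposition (Cfsg.hermForm n F 2) 1 (L ∘ η) := by
      refine ⟨⟨by simp [ι']; omega, one_pos, fun k => hL.decomp.finrank_eq _,
        hL.decomp.indep.comp η.injective, ?_⟩, fun k => hL.nondegenerate _,
        fun k k' h => hL.orthogonal _ _ (η.injective.ne h)⟩
      show ⨆ k, L (η k) = ⊤
      rw [Equiv.iSup_comp (g := L) η]; exact hL.decomp.iSup_eq_top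
    refine CfsgLib.Aschbacher.isoSL_not_le_frame hf (by simp; omega) hL' fun g hg => ?_
    obtain ⟨σ, hσ⟩ := ((inf_eq_right.1 e) (hg : g ∈ Cfsg.GU n F 2 ⊓ Cfsg.Geo.specialLinear (Fin n) F))
    exact ⟨(η.trans σ).trans η.symm, fun k => by simpa using hσ (η k)⟩

end Cfsg.Agent.S5656
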