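import Cfsg.Statements.S5657
import Cfsg.Agent.Geo.UnitSingularPair

set_option autoImplicit false
open Cfsg

namespace Cfsg.Agent.S5657

/-- Let F be the field with q² elements and n = 2k ≥ 13. Let D be a decomposition of F^n into two complementary subspaces of dimension k on each of which the standard unitary form vanishes identically. Then the elements of SU_n(q) preserving or interchanging the two subspaces form a maximal subgroup of SU_n(q). -/
theorem result {F : Type*} [Field F] [Fintype F] (n q : ℕ) (hF : Fintype.card F = q ^ 2) (hn : 13 ≤ n) (k : ℕ) (hk : 2 * k = n) (D : Fin 2 → Submodule F (Fin n → F)) (hD : Cfsg.Geo.IsMDecomposition k D) (hts : ∀ i, Cfsg.Geo.IsTotallySingularFor (Cfsg.hermForm n F q) (D i)) : Cfsg.Geo.IsMaximalIn (Cfsg.GU n F q ⊓ Cfsg.Geo.specialLinear (Fin n) F) (Cfsg.Geo.decompositionStabilizer D ⊓ (Cfsg.GU n F q ⊓ Cfsg.Geo.specialLinear (Fin n) F)) := by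
  have hF' : Nat.card F = q ^ 2 := by rw [Nat.card_eq_fintype_card, hF]
  have h : CfsgLib.Geo.UTv.UPair q (D 0) (D 1) :=
    { singW := hts 0
      singU := hts 1
      split := fun x => by
        have e : iSup D ≤ D 0 ⊔ D 1 := iSup_le fun i => by
          fin_cases i
          · exact le_sup_left
          · exact le_sup_right
        obtain ⟨w, hw, u, hu, e⟩ := Submodule.mem_sup.1 (e (hD.iSup_eq_top ▸ Submodule.mem_top) : x ∈ D 0 ⊔ D 1)
        exact ⟨w, hw, u, hu, e.symm⟩
      disj := fun x hx hx' =>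
        Submodule.disjoint_def.1 (hD.indep.pairwiseDisjoint (by decide : (0 : Fin 2) ≠ 1)) x hx hx' }
  exact CfsgLib.Geo.isMaximalIn_of_key (CfsgLib.Geo.UTv.uPair_proper hF' D hD h (by omega))
    fun M h1 h2 h3 => CfsgLib.Geo.UTv.uPair_key hF' D hD h (by omega) h1 h2 h3

end Cfsg.Agent.S5657
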