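import Cfsg.Statements.S5659
import Cfsg.Agent.Geo.UnitOrthogonalSub

set_option autoImplicit false
open Cfsg

namespace Cfsg.Agent.S5659

/-- Let F be the field with q² elements, q odd, n ≥ 13, and F₀ the subfield with q elements. Let P be an invertible matrix such that the standard unitary form takes values in F₀ on the F₀-span of the columns of P (so it restricts to a non-degenerate symmetric bilinear form there). Then the elements of SU_n(q) lying in the subfield group of P form a maximal subgroup of SU_n(q). -/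
theorem result {F : Type*} [Field F] [Fintype F] (n q : ℕ) (hF : Fintype.card F = q ^ 2) (hn : 13 ≤ n) (hodd : Odd q) (F₀ : Subfield F) (hcard : Fintype.card F = Nat.card F₀ ^ 2) (P : Matrix.GeneralLinearGroup (Fin n) F) (hP : Cfsg.Geo.IsFormRationalStructure (Cfsg.hermForm n F q) F₀ 1 P) : Cfsg.Geo.IsMaximalIn (Cfsg.GU n F q ⊓ Cfsg.Geo.specialLinear (Fin n) F) (Cfsg.Geo.subfieldSubgroup F₀ P ⊓ (Cfsg.GU n F q ⊓ Cfsg.Geo.specialLinear (Fin n) F)) := by
  have hF' : Nat.card F = q ^ 2 := by rw [Nat.card_eq_fintype_card, hF]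
  have hq : Nat.card F₀ = q := Nat.pow_left_injective (by norm_num) (hcard.symm.trans hF)
  haveI := Fintype.ofFinite F₀
  have hfix : ∀ x ∈ F₀, x ^ q = x := fun x hx => by
    have h1 := FiniteField.pow_card (⟨x, hx⟩ : F₀)
    rw [← Nat.card_eq_fintype_card, hq] at h1
    exact congrArg Subtype.val h1
  have h2 : (2 : F) ≠ 0 := by
    intro h0
    haveI : CharP F 2 := CharTwo.of_one_ne_zero_of_two_eq_zero one_ne_zero h0
    have h3 := FiniteField.even_card_of_char_two (F := F) (ringChar.eq F 2)
    have h4 : Odd (Fintype.card F) := by rw [hF]; exact hodd.pow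
    rw [Nat.odd_iff] at h4
    omega
  have hS : CfsgLib.Geo.UTv.OrthSub n q F F₀ P :=
    { fixed := hfix
      mem_of_fixed := CfsgLib.Geo.UTv.mem_of_fixed hF' hfix hq h2
      two := h2
      rational := hP }
  exact CfsgLib.Geo.isMaximalIn_of_key (CfsgLib.Geo.UTv.orthSub_proper hF' hS (by omega))
    fun M h1 h2 h3 => CfsgLib.Geo.UTv.orthSub_key hF' hS (by omega) h1 h2 h3

end Cfsg.Agent.S5659
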