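import Cfsg.Statements.S5660
import Cfsg.Agent.Geo.UnitSymplecticSub

set_option autoImplicit false
open Cfsg

namespace Cfsg.Agent.S5660

/-- Let F be the field with q² elements, n ≥ 13 even, and F₀ the subfield with q elements. Let ζ be a non-zero element with ζ + ζ^q = 0 and P an invertible matrix such that ζ times the standard unitary form takes values in F₀ on the F₀-span of the columns of P and the form vanishes on every pair (u, u) of that span (so ζ times the form restricts to a non-degenerate alternating form there). Then the elements of SU_n(q) lying in the subfield group of P form a maximal subgroup of SU_n(q). -/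
theorem result {F : Type*} [Field F] [Fintype F] (n q : ℕ) (hF : Fintype.card F = q ^ 2) (hn : 13 ≤ n) (heven : Even n) (F₀ : Subfield F) (hcard : Fintype.card F = Nat.card F₀ ^ 2) (ζ : F) (hζ0 : ζ ≠ 0) (hζ : ζ + ζ ^ q = 0) (P : Matrix.GeneralLinearGroup (Fin n) F) (hP : Cfsg.Geo.IsFormRationalStructure (Cfsg.hermForm n F q) F₀ ζ P) (halt : ∀ u : Fin n → F, (∀ i, u i ∈ F₀) → Cfsg.hermForm n F q (Matrix.mulVec (P : Matrix (Fin n) (Fin n) F) u) (Matrix.mulVec (P : Matrix (Fin n) (Fin n) F) u) = 0) : Cfsg.Geo.IsMaximalIn (Cfsg.GU n F q ⊓ Cfsg.Geo.specialLinear (Fin n) F) (Cfsg.Geo.subfieldSubgroup F₀ P ⊓ (Cfsg.GU n F q ⊓ Cfsg.Geo.specialLinear (Fin n) F)) := by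
  have hF' : Nat.card F = q ^ 2 := by rw [Nat.card_eq_fintype_card, hF]
  have hq : Nat.card F₀ = q := Nat.pow_left_injective (by norm_num) (hcard.symm.trans hF)
  haveI := Fintype.ofFinite F₀
  have hS : CfsgLib.Geo.UTv.SympSub n q F F₀ ζ P :=
    { fixed := fun x hx => by
        have h1 := FiniteField.pow_card (⟨x, hx⟩ : F₀)
        rw [← Nat.card_eq_fintype_card, hq] at h1
        exact congrArg Subtype.val h1
      card := hq
      ne_zero := hζ0
      skew := hζ
      rational := hP
      alt := halt }
  exact CfsgLib.Geo.isMaximalIn_of_key (CfsgLib.Geo.UTv.sympSub_proper (hF := hF') hS (by omega))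
    fun M h1 h2 h3 => CfsgLib.Geo.UTv.sympSub_key (hF := hF') hS (by omega) h1 h2 h3

end Cfsg.Agent.S5660
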