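import Cfsg.Statements.S5666
import Cfsg.Agent.Geo.TensorSym.Bridge

set_option autoImplicit false
open Cfsg

namespace Cfsg.Agent.S5666

/-- For a finite field F of odd order q and m ≥ 7, suppose the standard alternating form on F^(2m) is similar, through a change of basis P and a bijection of index sets e, to the tensor product of a non-degenerate symplectic form f₁ on F^(n₁) and a non-degenerate symmetric bilinear form f₂ on F^(n₂) with n₂ ≥ 3. Unless q = 3 and n₂ = 3, the elements of Sp_2m(F) in the stabiliser of this tensor decomposition (the conjugate by P of the Kronecker-product subgroup transported along e) form a maximal subgroup of Sp_2m(F). -/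
theorem result {F : Type*} [Field F] [Fintype F] (m : ℕ) (hm : 7 ≤ m) (hodd : Odd (Fintype.card F)) (n₁ n₂ : ℕ) (hn₂ : 3 ≤ n₂) (hex : ¬ (Fintype.card F = 3 ∧ n₂ = 3)) (e : (Fin m ⊕ Fin m) ≃ Fin n₁ × Fin n₂) (P : Matrix.GeneralLinearGroup (Fin m ⊕ Fin m) F) (f₁ : (Fin n₁ → F) → (Fin n₁ → F) → F) (f₂ : (Fin n₂ → F) → (Fin n₂ → F) → F) (hf₁ : Cfsg.Geo.IsSymplecticForm f₁) (hf₂ : Cfsg.Geo.IsSymmetricForm f₂) (hT : Cfsg.Geo.IsTensorFormStructure id (Cfsg.sympForm m F) f₁ f₂ e P) : Cfsg.Geo.IsMaximalIn (Cfsg.spGL m F) (Cfsg.Geo.tensorProductSubgroup n₁ n₂ e P ⊓ Cfsg.spGL m F) := by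
  rcases Nat.lt_or_ge n₁ 3 with h | h
  · have hcard := Fintype.card_congr e
    simp at hcard
    have h2 : n₁ = 2 := by
      interval_cases n₁
      · omega
      · exfalso
        obtain ⟨hbn, hba⟩ := CfsgLib.Geo.TensorO.nondeg_bilOfIs hf₁ (c := 1) one_ne_zero
        obtain ⟨w, hw⟩ := CfsgLib.Geo.TensorO.exists_left_one hbn (y := fun _ => (1 : F))
          (fun h => one_ne_zero (congrFun h 0))
        rw [show w = w 0 • (fun _ => (1 : F)) by funext i; fin_cases i; simp, map_smul, LinearMap.smul_apply, hba,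
          smul_zero] at hw
        exact zero_ne_one hw
      · rfl
    exact CfsgLib.Geo.TensorSp.tensor_symp_orth_maximal (by omega) hodd hn₂ (by omega) (Or.inr (by subst h2; omega))
      (Or.inr h2) e P hf₁ hf₂ hT
  · refine CfsgLib.Geo.TensorSp.tensor_symp_orth_maximal_large (by omega) hodd h hn₂ ?_ e P hf₁ hf₂ hT
    by_cases h5 : 5 ≤ Fintype.card F
    · exact Or.inr h5
    · exact Or.inl (by
        rcases Nat.lt_or_ge n₂ 4 with h4 | h4
        · exact absurd ⟨CfsgLib.Geo.TensorSp.card_eq_three hodd h5, by omega⟩ hex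
        · exact h4)

end Cfsg.Agent.S5666
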