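import Cfsg.Statements.S5667
import Cfsg.Agent.Geo.SympTv
import Cfsg.Agent.Geo.OrthogonalBasic

set_option autoImplicit false
open Cfsg

namespace Cfsg.Agent.S5667

open Matrix CfsgLib.Geo
open scoped Kronecker

variable {F : Type*} [Field F]

lemma gram_formula {κ : Type} [Fintype κ] [DecidableEq κ] {f : (κ → F) → (κ → F) → F}
    (hf : Cfsg.Geo.IsBilinearForm f) (x y : κ → F) :
    f x y = ∑ a, ∑ b, x a * Cfsg.Geo.gramMatrix f a b * y b := by
  let φ : (κ → F) →ₗ[F] (κ → F) →ₗ[F] F :=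
    LinearMap.mk₂ F f hf.add_left hf.smul_left (fun u v w => hf.add_right u v w) fun a u v => hf.smul_right a u v
  show φ x y = _
  conv_lhs => rw [pi_eq_sum_univ' x, pi_eq_sum_univ' y]
  simp only [map_sum, map_smul, LinearMap.sum_apply, LinearMap.smul_apply, smul_eq_mul, Finset.mul_sum]
  rw [Finset.sum_comm]
  exact Finset.sum_congr rfl fun a _ => Finset.sum_congr rfl fun b _ => by
    simp only [φ, LinearMap.mk₂_apply, Cfsg.Geo.gramMatrix]; ring

/-- A ternary symmetric form over three elements has an orthogonal basis of equal norms. -/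
lemma exists_basis3 (h30 : (3 : F) = 0) (hpm : ∀ a : F, a ≠ 0 → a * a = 1) (h20 : (2 : F) ≠ 0)
    {f : (Fin 3 → F) → (Fin 3 → F) → F} (hf : Orth.IsSymmForm f) :
    ∃ (bb : Fin 3 → Fin 3 → F) (ν : F), ν ≠ 0 ∧ ∀ i j, f (bb i) (bb j) = if i = j then ν else 0 := by
  classical
  haveI : Invertible (2 : F) := invertibleOfNonzero h20
  let B : LinearMap.BilinForm F (Fin 3 → F) :=
    LinearMap.mk₂ F f hf.add_left hf.smul_left (Orth.add_right hf) fun a u v => Orth.smul_right hf a u v
  obtain ⟨b₀, hb₀⟩ := LinearMap.BilinForm.exists_orthogonal_basis (B := B) ⟨fun u v => hf.symm u v⟩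
  let b := b₀.reindex (finCongr (Module.finrank_fin_fun F (n := 3)))
  have hbo : ∀ i j, i ≠ j → f (b i) (b j) = 0 := fun i j h => by
    simp only [b, Module.Basis.reindex_apply]
    exact hb₀ ((finCongr _).symm.injective.ne h)
  have hd : ∀ i, f (b i) (b i) ≠ 0 := by
    intro i h0
    obtain ⟨x, hx⟩ := (hf.nondegenerate (b i) (b.ne_zero i)).1
    apply hx
    rw [← b.sum_repr x, show f (∑ l, b.repr x l • b l) (b i) = Orth.lin hf (b i) (∑ l, b.repr x l • b l) from rfl,
      map_sum]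
    refine Finset.sum_eq_zero fun l _ => ?_
    show f (b.repr x l • b l) (b i) = 0
    rw [hf.smul_left]
    by_cases hl : l = i
    · rw [hl, h0, mul_zero]
    · rw [hbo l i hl, mul_zero]
  have hflip : ∀ a a' : F, a ≠ 0 → a' ≠ 0 → a ≠ a' → a' = -a := fun a a' ha ha' hne => by
    have : (a' - a) * (a' + a) = 0 := by linear_combination hpm a' ha' - hpm a ha
    rcases mul_eq_zero.1 this with h | h
    · exact absurd (sub_eq_zero.1 h).symm hne
    · exact eq_neg_of_add_eq_zero_left h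
  have hfix : ∀ i j k : Fin 3, i ≠ j → i ≠ k → j ≠ k → f (b i) (b i) = f (b j) (b j) →
      f (b k) (b k) ≠ f (b i) (b i) →
      ∃ (bb : Fin 3 → Fin 3 → F) (ν : F), ν ≠ 0 ∧ ∀ i j, f (bb i) (bb j) = if i = j then ν else 0 := by
    intro i j k hij hik hjk he hne
    have hk : f (b k) (b k) = -f (b i) (b i) := hflip _ _ (hd i) (hd k) (Ne.symm hne)
    refine ⟨![b i + b j, b i + -(1 : F) • b j, b k], f (b k) (b k), hd k, fun p q => ?_⟩
    fin_cases p <;> fin_cases q <;>
      simp [hf.add_left, Orth.add_right hf, hf.smul_left, Orth.smul_right hf, hbo _ _ hij, hbo _ _ hij.symm,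
        hbo _ _ hik, hbo _ _ hik.symm, hbo _ _ hjk, hbo _ _ hjk.symm, -neg_smul]
    all_goals
      first
      | linear_combination he
      | linear_combination -he
      | linear_combination (f (b i) (b i)) * h30 - he - hk
  by_cases h01 : f (b 0) (b 0) = f (b 1) (b 1)
  · by_cases h02 : f (b 2) (b 2) = f (b 0) (b 0)
    · refine ⟨b, f (b 0) (b 0), hd 0, fun p q => ?_⟩
      by_cases hpq : p = q
      · subst hpq; rw [if_pos rfl]; fin_cases p
        · rfl
        · exact h01.symm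
        · exact h02
      · rw [if_neg hpq]; exact hbo _ _ hpq
    · exact hfix 0 1 2 (by decide) (by decide) (by decide) h01 h02
  · by_cases h02 : f (b 0) (b 0) = f (b 2) (b 2)
    · exact hfix 0 2 1 (by decide) (by decide) (by decide) h02 (Ne.symm h01)
    · have h12 : f (b 1) (b 1) = f (b 2) (b 2) := by
        rw [hflip _ _ (hd 0) (hd 1) h01, hflip _ _ (hd 0) (hd 2) h02]
      exact hfix 1 2 0 (by decide) (by decide) (by decide) h12 h01

set_option maxHeartbeats 2000000 in
/-- Over the field with 3 elements and for m ≥ 7, suppose the standard alternating form on F^(2m) is similar, through P and e, to the tensor product of a non-degenerate symplectic form f₁ on F^(n₁) and a non-degenerate symmetric bilinear form f₂ on F^3. Then the elements of Sp_2m(3) in the stabiliser of this tensor decomposition form a subgroup that is not maximal: some subgroup lies strictly between it and Sp_2m(3). -/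
theorem result {F : Type*} [Field F] [Fintype F] (m : ℕ) (hm : 7 ≤ m) (hq : Fintype.card F = 3) (n₁ : ℕ) (e : (Fin m ⊕ Fin m) ≃ Fin n₁ × Fin 3) (P : Matrix.GeneralLinearGroup (Fin m ⊕ Fin m) F) (f₁ : (Fin n₁ → F) → (Fin n₁ → F) → F) (f₂ : (Fin 3 → F) → (Fin 3 → F) → F) (hf₁ : Cfsg.Geo.IsSymplecticForm f₁) (hf₂ : Cfsg.Geo.IsSymmetricForm f₂) (hT : Cfsg.Geo.IsTensorFormStructure id (Cfsg.sympForm m F) f₁ f₂ e P) : ∃ K : Subgroup (Matrix.GeneralLinearGroup (Fin m ⊕ Fin m) F), Cfsg.Geo.tensorProductSubgroup n₁ 3 e P ⊓ Cfsg.spGL m F < K ∧ K < Cfsg.spGL m F := by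
  classical
  have h30 : (3 : F) = 0 := by
    have := FiniteField.cast_card_eq_zero F
    rw [hq] at this; exact_mod_cast this
  have h20 : (2 : F) ≠ 0 := fun h => one_ne_zero (α := F) (by linear_combination h30 - h)
  have hpm : ∀ a : F, a ≠ 0 → a * a = 1 := fun a ha => by
    have := FiniteField.pow_card_sub_one_eq_one a ha
    rw [hq] at this
    rw [← sq]; exact this
  have hn : 2 * m = n₁ * 3 := by
    have := Fintype.card_congr e
    simp at this; omega
  obtain ⟨c, hc, hcT⟩ := hT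
  have g2 : Orth.IsSymmForm f₂ :=
    ⟨h20, hf₂.bilinear.add_left, hf₂.bilinear.smul_left, hf₂.symm, hf₂.nondegenerate⟩
  obtain ⟨bb, ν, hν, hbb⟩ := exists_basis3 h30 hpm h20 g2
  have hcoef : ∀ (r : Fin 3 → F) (l : Fin 3), f₂ (∑ k, r k • bb k) (bb l) = r l * ν := by
    intro r l
    have := (map_sum (Orth.lin g2 (bb l)) (fun k => r k • bb k) Finset.univ)
    rw [show f₂ (∑ k, r k • bb k) (bb l) = Orth.lin g2 (bb l) (∑ k, r k • bb k) from rfl, this]
    simp [Orth.lin, g2.smul_left, hbb]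
  have hspan : ∀ u : Fin 3 → F, ∃ r : Fin 3 → F, u = ∑ k, r k • bb k := by
    intro u
    have hli : LinearIndependent F bb := by
      rw [Fintype.linearIndependent_iff]
      intro r hr l
      have := hcoef r l
      rw [hr, Orth.zero_left g2] at this
      exact (mul_eq_zero.1 this.symm).resolve_right hν
    have hx : u ∈ Submodule.span F (Set.range bb) :=
      (hli.span_eq_top_of_card_eq_finrank' (by simp)) ▸ Submodule.mem_top
    obtain ⟨r, hr⟩ := Submodule.mem_span_range_iff_exists_fun F |>.1 hx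
    exact ⟨r, hr.symm⟩
  -- pure tensors
  let T : (Fin 3 → F) → (Fin n₁ → F) → (Fin m ⊕ Fin m → F) := fun u x =>
    (P : Matrix _ _ F) *ᵥ ((fun p : Fin n₁ × Fin 3 => x p.1 * u p.2) ∘ e)
  have hTf : ∀ u w x y, CfsgLib.Symp.form (T u x) (T w y) = c * (f₁ x y * f₂ u w) := by
    intro u w x y
    show Cfsg.sympForm m F (T u x) (T w y) = _
    simp only [T, hcT]
    rw [gram_formula hf₁.bilinear x y, gram_formula hf₂.bilinear u w]
    congr 1
    simp only [Cfsg.Geo.formOfGram, Matrix.kroneckerMap_apply, id_eq, Fintype.sum_prod_type, Finset.sum_mul_sum]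
    exact Finset.sum_congr rfl fun _ _ => Finset.sum_congr rfl fun _ _ => Finset.sum_congr rfl fun _ _ =>
      Finset.sum_congr rfl fun _ _ => by ring
  have hTaddl : ∀ u w x, T (u + w) x = T u x + T w x := fun u w x => by
    simp only [T, ← Matrix.mulVec_add]; congr 1; funext i; simp [mul_add]
  have hTaddr : ∀ u x y, T u (x + y) = T u x + T u y := fun u x y => by
    simp only [T, ← Matrix.mulVec_add]; congr 1; funext i; simp [add_mul]
  have hTsl : ∀ (a : F) u x, T (a • u) x = a • T u x := fun a u x => by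
    simp only [T, ← Matrix.mulVec_smul]; congr 1; funext i; simp [mul_left_comm]
  have hTsr : ∀ (a : F) u x, T u (a • x) = a • T u x := fun a u x => by
    simp only [T, ← Matrix.mulVec_smul]; congr 1; funext i; simp [mul_assoc]
  have hT0 : ∀ u, T u 0 = 0 := fun u => by simpa using hTsr 0 u 0
  let L : (Fin 3 → Fin n₁ → F) →ₗ[F] (Fin m ⊕ Fin m → F) :=
    { toFun := fun w => T (bb 0) (w 0) + T (bb 1) (w 1) + T (bb 2) (w 2)
      map_add' := fun a b => by simp only [Pi.add_apply, hTaddr]; abel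
      map_smul' := fun a b => by simp only [Pi.smul_apply, hTsr, RingHom.id_apply, smul_add] }
  have hLdef : ∀ w, L w = T (bb 0) (w 0) + T (bb 1) (w 1) + T (bb 2) (w 2) := fun _ => rfl
  have hLf : ∀ w k y, CfsgLib.Symp.form (L w) (T (bb k) y) = c * (f₁ (w k) y * ν) := by
    intro w k y
    rw [hLdef, CfsgLib.Symp.form_add_left, CfsgLib.Symp.form_add_left, hTf, hTf, hTf, hbb, hbb, hbb]
    fin_cases k <;> simp
  have hinj : Function.Injective L := by
    rw [← LinearMap.ker_eq_bot, Submodule.eq_bot_iff]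
    intro w hw
    funext k
    by_contra hk
    obtain ⟨x, hx⟩ := (hf₁.nondegenerate _ hk).2
    have h := hLf w k x
    rw [LinearMap.mem_ker.1 hw, CfsgLib.Symp.form_zero_left] at h
    exact hx ((mul_eq_zero.1 ((mul_eq_zero.1 h.symm).resolve_left hc)).resolve_right hν)
  let D : Fin 3 → Submodule F (Fin m ⊕ Fin m → F) := fun l =>
    LinearMap.range (L ∘ₗ LinearMap.single F (fun _ : Fin 3 => Fin n₁ → F) l)
  have hmemD : ∀ l v, v ∈ D l ↔ ∃ x, v = T (bb l) x := by
    intro l v
    have e1 : ∀ x, (L ∘ₗ LinearMap.single F (fun _ : Fin 3 => Fin n₁ → F) l) x = T (bb l) x := fun x => by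
      rw [LinearMap.comp_apply, hLdef]
      fin_cases l <;> simp [hT0]
    exact ⟨fun ⟨x, hx⟩ => ⟨x, by rw [← e1]; exact hx.symm⟩, fun ⟨x, hx⟩ => ⟨x, by rw [e1]; exact hx.symm⟩⟩
  have hmem0 : ∀ w k, L w ∈ D k → ∀ l, l ≠ k → w l = 0 := by
    rintro w k ⟨x, hx⟩ l hl
    rw [← hinj hx]
    simp [Pi.single_eq_of_ne hl]
  have hact : ∀ (g : GL (Fin m ⊕ Fin m) F) (A : GL (Fin n₁) F) (B : GL (Fin 3) F) (k : GL (Fin n₁ × Fin 3) F),
      (k : Matrix (Fin n₁ × Fin 3) (Fin n₁ × Fin 3) F) =
        (A : Matrix (Fin n₁) (Fin n₁) F) ⊗ₖ (B : Matrix (Fin 3) (Fin 3) F) →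
      g = P * Cfsg.Geo.glReindex e.symm k * P⁻¹ →
      ∀ u x, (g : Matrix _ _ F) *ᵥ T u x =
        T ((B : Matrix (Fin 3) (Fin 3) F) *ᵥ u) ((A : Matrix (Fin n₁) (Fin n₁) F) *ᵥ x) := by
    intro g A B k hk hg u x
    subst hg
    simp only [T, Units.val_mul, ← Matrix.mulVec_mulVec, inv_mulVec_mulVec]
    congr 1
    show (Matrix.reindexAlgEquiv F F e.symm (k : Matrix _ _ F)) *ᵥ _ = _
    rw [Matrix.coe_reindexAlgEquiv, Matrix.reindex_apply, Matrix.submatrix_mulVec_equiv]
    funext i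
    simp only [Function.comp_apply, hk, Matrix.mulVec, dotProduct, Equiv.symm_symm,
      Equiv.apply_symm_apply, Matrix.kroneckerMap_apply, Fintype.sum_prod_type, Finset.sum_mul_sum]
    exact Finset.sum_congr rfl fun a _ => Finset.sum_congr rfl fun b _ => by ring
  obtain ⟨z, x', hzx⟩ : ∃ z x', f₁ x' z ≠ 0 := by
    have : (Pi.single (⟨0, by omega⟩ : Fin n₁) 1 : Fin n₁ → F) ≠ 0 := by simp
    obtain ⟨x, hx⟩ := (hf₁.nondegenerate _ this).1
    exact ⟨_, x, hx⟩
  have hz0 : z ≠ 0 := fun h => hzx (by simpa [h] using hf₁.bilinear.smul_right 0 x' z)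
  refine ⟨Cfsg.Geo.decompositionStabilizer D ⊓ Cfsg.spGL m F,
    lt_of_le_of_ne (le_inf ?_ inf_le_right) ?_, lt_of_le_of_ne inf_le_right ?_⟩
  · rintro g ⟨hg, hgI⟩
    obtain ⟨-, ⟨k, ⟨A, B, hk⟩, rfl⟩, hgk⟩ := hg
    have hgT := hact g A B k hk hgk.symm
    let a := fun l => (B : Matrix (Fin 3) (Fin 3) F) *ᵥ bb l
    have hAs : ∀ y, ∃ x, (A : Matrix (Fin n₁) (Fin n₁) F) *ᵥ x = y := fun y => ⟨_, mulVec_inv_mulVec A y⟩
    obtain ⟨p, hp⟩ := hAs x'
    obtain ⟨r', hr'⟩ := hAs z
    have hab : ∀ i j, f₁ x' z * f₂ (a i) (a j) = f₁ p r' * (if i = j then ν else 0) := fun i j => by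
      have h := SpTv.form_mulVec (show g ∈ Cfsg.spGL m F from hgI) (T (bb i) p) (T (bb j) r')
      rw [hgT, hgT, hTf, hTf, hbb, hp, hr'] at h
      exact mul_left_cancel₀ hc h
    set lam := f₁ p r' * ν * (f₁ x' z)⁻¹ with hlam
    have haa : ∀ i j, f₂ (a i) (a j) = if i = j then lam else 0 := fun i j => by
      rw [← mul_right_inj' hzx, hab]
      by_cases hij : i = j
      · rw [if_pos hij, if_pos hij, hlam]; field_simp
      · rw [if_neg hij, if_neg hij, mul_zero, mul_zero]
    choose r hr using fun i => hspan (a i)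
    let R : Matrix (Fin 3) (Fin 3) F := Matrix.of r
    have hRR : R * Rᵀ = (lam * ν) • (1 : Matrix (Fin 3) (Fin 3) F) := by
      ext i j
      have h : f₂ (a i) (a j) = ∑ l, r j l * (r i l * ν) := by
        conv_lhs => rw [hr j]
        rw [g2.symm, show f₂ (∑ k, r j k • bb k) (a i) = Orth.lin g2 (a i) (∑ k, r j k • bb k) from rfl, map_sum]
        refine Finset.sum_congr rfl fun l _ => ?_
        show f₂ (r j l • bb l) (a i) = _
        rw [g2.smul_left, g2.symm, hr i, hcoef]
      rw [haa] at h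
      simp only [R, Matrix.mul_apply, Matrix.transpose_apply, Matrix.of_apply, Matrix.smul_apply, smul_eq_mul,
        Matrix.one_apply]
      have h1 : ∑ l, r i l * r j l = (∑ l, r j l * (r i l * ν)) * ν := by
        rw [Finset.sum_mul]
        exact Finset.sum_congr rfl fun l _ => by linear_combination (-(r i l * r j l)) * hpm ν hν
      rw [h1, ← h]
      by_cases hij : i = j <;> simp [hij]
    have hlam0 : lam ≠ 0 := by
      intro h0
      have := hcoef (r 0)
      have hz : a 0 = 0 := by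
        by_contra hne
        obtain ⟨y, hy⟩ := (g2.nondegenerate _ hne).2
        obtain ⟨s, hs⟩ := hspan ((((B⁻¹ : GL (Fin 3) F)) : Matrix (Fin 3) (Fin 3) F) *ᵥ y)
        have e1 : y = ∑ l, s l • a l := by
          conv_lhs => rw [← mulVec_inv_mulVec B y, hs]
          rw [Matrix.mulVec_sum]
          simp [a, Matrix.mulVec_smul]
        rw [g2.symm, e1, show f₂ (∑ l, s l • a l) (a 0) = Orth.lin g2 (a 0) (∑ l, s l • a l) from rfl,
          map_sum] at hy
        simp [Orth.lin, g2.smul_left, haa, h0] at hy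
      have : bb 0 = 0 := by
        rw [← inv_mulVec_mulVec B (bb 0), show (B : Matrix (Fin 3) (Fin 3) F) *ᵥ bb 0 = 0 from hz,
          Matrix.mulVec_zero]
      have h00 := hbb 0 0
      rw [this, Orth.zero_left g2, if_pos rfl] at h00
      exact hν h00.symm
    have hμ : lam * ν = 1 := by
      have hd := congrArg Matrix.det hRR
      rw [Matrix.det_mul, Matrix.det_transpose, Matrix.det_smul, Matrix.det_one, Fintype.card_fin, mul_one] at hd
      have hl := hpm _ (mul_ne_zero hlam0 hν)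
      have hd0 : R.det ≠ 0 := fun h => pow_ne_zero 3 (mul_ne_zero hlam0 hν) (by rw [← hd, h, mul_zero])
      linear_combination (1 : F) * hpm _ hd0 - (1 : F) * hd.symm.symm - (lam * ν) * hl
    have hline : ∀ i, ∃ (l : Fin 3) (s : F), a i = s • bb l := by
      intro i
      have h := congrFun (congrFun hRR i) i
      rw [hμ, one_smul, Matrix.one_apply_eq] at h
      simp only [R, Matrix.mul_apply, Matrix.transpose_apply, Matrix.of_apply, Fin.sum_univ_three] at h
      by_cases h0 : r i 0 = 0 <;> by_cases h1 : r i 1 = 0 <;> by_cases h2 : r i 2 = 0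
      · simp [h0, h1, h2] at h
      · exact ⟨2, r i 2, by simp [hr i, Fin.sum_univ_three, h0, h1]⟩
      · exact ⟨1, r i 1, by simp [hr i, Fin.sum_univ_three, h0, h2]⟩
      · rw [hpm _ h1, hpm _ h2, h0, mul_zero, zero_add] at h
        exact absurd h (by simp)
      · exact ⟨0, r i 0, by simp [hr i, Fin.sum_univ_three, h1, h2]⟩
      · rw [hpm _ h0, hpm _ h2, h1, mul_zero, add_zero] at h
        exact absurd h (by simp)
      · rw [hpm _ h0, hpm _ h1, h2, mul_zero, add_zero] at h
        exact absurd h (by simp)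
      · rw [hpm _ h0, hpm _ h1, hpm _ h2] at h
        exact absurd (show (1 : F) = 0 by linear_combination h30 - h) one_ne_zero
    choose π s hπ using hline
    have hs : ∀ i, s i ≠ 0 := fun i h => hlam0 (by
      have := haa i i
      rw [hπ i, h, zero_smul, Orth.zero_left g2, if_pos rfl] at this
      exact this.symm)
    have hπi : Function.Injective π := by
      intro i j h
      by_contra hij
      have := haa i j
      rw [hπ i, hπ j, g2.smul_left, Orth.smul_right g2, h, hbb, if_pos rfl, if_neg hij] at this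
      exact mul_ne_zero (hs i) (mul_ne_zero (hs j) hν) this
    refine ⟨Equiv.ofBijective π hπi.bijective_of_finite, fun l => ?_⟩
    ext v
    simp only [Submodule.mem_map, hmemD, Matrix.toLin'_apply, Equiv.ofBijective_apply]
    constructor
    · rintro ⟨_, ⟨x, rfl⟩, rfl⟩
      refine ⟨s l • ((A : Matrix (Fin n₁) (Fin n₁) F) *ᵥ x), ?_⟩
      rw [hgT, hTsr, ← hTsl, ← hπ l]
    · rintro ⟨y, rfl⟩
      obtain ⟨x, hx⟩ := hAs ((s l)⁻¹ • y)
      refine ⟨_, ⟨x, rfl⟩, ?_⟩
      rw [hgT, hx, show (B : Matrix (Fin 3) (Fin 3) F) *ᵥ bb l = s l • bb (π l) from hπ l, hTsl, hTsr,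
        smul_smul, mul_inv_cancel₀ (hs l), one_smul]
  · intro heq
    let g := SpTv.stv (T (bb 0) z) (1 : F)
    have hgv := fun v => SpTv.stv_mulVec (T (bb 0) z) (1 : F) v
    have hgD : g ∈ Cfsg.Geo.decompositionStabilizer D := by
      refine ⟨1, fun l => ?_⟩
      have hst : g ∈ Cfsg.Geo.subspaceStabilizer (D l) := by
        refine mem_subspaceStabilizer.2 fun v hv => ?_
        rw [hgv v]
        obtain ⟨x, rfl⟩ := (hmemD l v).1 hv
        rw [hTf, hbb]
        fin_cases l
        · exact (D 0).add_mem ((hmemD 0 _).2 ⟨x, rfl⟩) ((D 0).smul_mem _ ((hmemD 0 _).2 ⟨z, rfl⟩))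
        · simpa using (hmemD 1 _).2 ⟨x, rfl⟩
        · simpa using (hmemD 2 _).2 ⟨x, rfl⟩
      ext v
      simp only [Submodule.mem_map, Matrix.toLin'_apply, Equiv.Perm.one_apply]
      constructor
      · rintro ⟨y, hy, rfl⟩; exact mem_subspaceStabilizer.1 hst y hy
      · intro hv
        refine ⟨_, ?_, mulVec_inv_mulVec g v⟩
        exact mem_subspaceStabilizer.1 (inv_mem hst) v hv
    have hgH : g ∈ Cfsg.Geo.tensorProductSubgroup n₁ 3 e P ⊓ Cfsg.spGL m F := by
      rw [heq]; exact ⟨hgD, SpTv.stv_mem _ _⟩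
    obtain ⟨⟨-, ⟨k, ⟨A, B, hk⟩, rfl⟩, hgk⟩, -⟩ := hgH
    have hgT := hact g A B k hk hgk.symm
    choose r hr using fun l => hspan ((B : Matrix (Fin 3) (Fin 3) F) *ᵥ bb l)
    have hgen : ∀ l x, T ((B : Matrix (Fin 3) (Fin 3) F) *ᵥ bb l) ((A : Matrix (Fin n₁) (Fin n₁) F) *ᵥ x) =
        L fun k => r l k • ((A : Matrix (Fin n₁) (Fin n₁) F) *ᵥ x) := fun l x => by
      rw [hLdef, hr l, Fin.sum_univ_three]
      simp only [hTaddl, hTsl, hTsr]
    have hT1 : ∀ x, r 1 1 • ((A : Matrix (Fin n₁) (Fin n₁) F) *ᵥ x) = x := fun x => by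
      have h := hgv (T (bb 1) x)
      rw [hgT, hTf, hbb, if_neg (by decide), mul_zero, mul_zero, mul_zero, zero_smul, add_zero, hgen] at h
      have h' : (fun k => r 1 k • ((A : Matrix (Fin n₁) (Fin n₁) F) *ᵥ x)) = ![0, x, 0] :=
        hinj (by rw [h, hLdef]; simp [hT0])
      exact congrFun h' 1
    have hT0' : r 0 0 • ((A : Matrix (Fin n₁) (Fin n₁) F) *ᵥ x') = x' + (c * (f₁ x' z * ν)) • z := by
      have h := hgv (T (bb 0) x')
      rw [hgT, hTf, hbb, if_pos rfl, one_mul, hgen] at h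
      have h' : (fun k => r 0 k • ((A : Matrix (Fin n₁) (Fin n₁) F) *ᵥ x')) =
          ![x' + (c * (f₁ x' z * ν)) • z, 0, 0] :=
        hinj (by rw [h, hLdef]; simp [hTaddr, hTsr, hT0])
      exact congrFun h' 0
    have hzz : f₁ z z = 0 := hf₁.alternating z
    have key : r 0 0 * f₁ x' z = r 1 1 * f₁ x' z := by
      have h3 := congrArg (fun y => f₁ (r 1 1 • y) z) hT0'
      simp only [smul_smul, mul_comm (r 1 1) (r 0 0), smul_add] at h3
      rw [mul_smul, hT1, hf₁.bilinear.smul_left, hf₁.bilinear.add_left, hf₁.bilinear.smul_left,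
        hf₁.bilinear.smul_left, hzz, mul_zero, add_zero] at h3
      exact h3
    rw [mul_right_cancel₀ hzx key, hT1] at hT0'
    exact smul_ne_zero (mul_ne_zero hc (mul_ne_zero hzx hν)) hz0 (add_eq_left.1 hT0'.symm)
  · intro heq
    let w := T (bb 0) z + T (bb 1) z
    obtain ⟨σ, hσD⟩ : SpTv.stv w (1 : F) ∈ Cfsg.Geo.decompositionStabilizer D :=
      (inf_eq_right.1 heq) (SpTv.stv_mem w 1)
    set κ := c * (f₁ x' z * ν)
    have himg : T (bb 0) x' + κ • w ∈ D (σ 0) := by
      rw [← hσD]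
      refine ⟨_, (hmemD 0 _).2 ⟨x', rfl⟩, ?_⟩
      rw [Matrix.toLin'_apply, SpTv.stv_mulVec]
      simp [w, κ, CfsgLib.Symp.form_add_right, hTf, hbb]
    have hLe : L ![x' + κ • z, κ • z, 0] = T (bb 0) x' + κ • w := by
      rw [hLdef]
      simp [w, hTaddr, hTsr, hT0, smul_add]
      abel
    rw [← hLe] at himg
    have hzero := hmem0 _ _ himg
    by_cases hσ0 : σ 0 = 1
    · have h0 := hzero 0 (by rw [hσ0]; decide)
      simp only [Matrix.cons_val_zero] at h0
      have := congrArg (fun y => f₁ y z) h0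
      simp only [hf₁.bilinear.add_left, hf₁.bilinear.smul_left, hf₁.alternating z, mul_zero, add_zero] at this
      exact hzx (this.trans (by simpa using hf₁.bilinear.smul_left 0 z z))
    · exact smul_ne_zero (mul_ne_zero hc (mul_ne_zero hzx hν)) hz0 (by simpa [κ] using hzero 1 (Ne.symm hσ0))

end Cfsg.Agent.S5667
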