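import Cfsg.Statements.S5671
import Cfsg.Agent.Geo.UnitTv

set_option autoImplicit false
open Cfsg

namespace Cfsg.Agent.S5671

open Matrix CfsgLib.Geo
open scoped Kronecker

variable {F : Type*} [Field F]

lemma gram_formula {κ : Type} [Fintype κ] [DecidableEq κ] {σ : F ≃+* F} {f : (κ → F) → (κ → F) → F}
    (hf : Cfsg.Geo.IsUnitaryForm σ f) (x y : κ → F) :
    f x y = ∑ a, ∑ b, x a * Cfsg.Geo.gramMatrix f a b * σ (y b) := by
  let φ : (κ → F) →+ F :=
    { toFun := fun u => f u y, map_zero' := (Unit.linLeft hf).zero_left y, map_add' := fun u v => hf.add_left u v y }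
  have hx : ∀ z : κ → F, z = ∑ a, z a • (Pi.single a 1 : κ → F) := fun z => pi_eq_sum_univ' z
  conv_lhs => rw [hx x]
  show φ _ = _
  rw [map_sum]
  refine Finset.sum_congr rfl fun a _ => ?_
  show f (x a • Pi.single a 1) y = _
  rw [hf.smul_left]
  let ψ : (κ → F) →+ F :=
    { toFun := fun v => f (Pi.single a 1) v, map_zero' := Unit.zero_right hf _,
      map_add' := fun u v => Unit.add_right hf _ u v }
  conv_lhs => rw [hx y]
  show x a * ψ _ = _
  rw [map_sum, Finset.mul_sum]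
  refine Finset.sum_congr rfl fun b _ => ?_
  show x a * f (Pi.single a 1) (y b • Pi.single b 1) = _
  rw [Unit.smul_right hf]
  simp only [Cfsg.Geo.gramMatrix]
  ring

/-- Let F be the field with 4 elements (q = 2) and n = 2 n₂ ≥ 13. Suppose the standard unitary form Σ u_i v_i² on F^n is similar, through P and e, to the tensor product of non-degenerate unitary forms f₁ on F^2 and f₂ on F^(n₂). Then the elements of SU_n(2) in the stabiliser of this tensor decomposition form a subgroup that is not maximal: some subgroup lies strictly between it and SU_n(2). -/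
theorem result {F : Type*} [Field F] [Fintype F] (n : ℕ) (hF : Fintype.card F = 4) (hn : 13 ≤ n) (n₂ : ℕ) (e : Fin n ≃ Fin 2 × Fin n₂) (P : Matrix.GeneralLinearGroup (Fin n) F) (f₁ : (Fin 2 → F) → (Fin 2 → F) → F) (f₂ : (Fin n₂ → F) → (Fin n₂ → F) → F) (hf₁ : Cfsg.Geo.IsUnitaryFormPow 2 f₁) (hf₂ : Cfsg.Geo.IsUnitaryFormPow 2 f₂) (hT : Cfsg.Geo.IsTensorFormStructure (fun x : F => x ^ 2) (Cfsg.hermForm n F 2) f₁ f₂ e P) : ∃ K : Subgroup (Matrix.GeneralLinearGroup (Fin n) F), Cfsg.Geo.tensorProductSubgroup 2 n₂ e P ⊓ (Cfsg.GU n F 2 ⊓ Cfsg.Geo.specialLinear (Fin n) F) < K ∧ K < (Cfsg.GU n F 2 ⊓ Cfsg.Geo.specialLinear (Fin n) F) := by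
  classical
  have hF' : Nat.card F = 2 ^ 2 := by rw [Nat.card_eq_fintype_card, hF]; norm_num
  have hf := UTv.isUnitaryForm hF' (n := n)
  have hσ : ∀ a : F, UTv.frobEquiv hF' a = a ^ 2 := UTv.frobEquiv_apply hF'
  have hn2 : n = 2 * n₂ := by simpa using Fintype.card_congr e
  have g1 : Cfsg.Geo.IsUnitaryForm (UTv.frobEquiv hF') f₁ :=
    ⟨hf.ne_refl, hf.involutive, hf₁.add_left, hf₁.smul_left, fun v w => by rw [hσ]; exact hf₁.herm v w,
      hf₁.nondegenerate⟩
  have g2 : Cfsg.Geo.IsUnitaryForm (UTv.frobEquiv hF') f₂ :=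
    ⟨hf.ne_refl, hf.involutive, hf₂.add_left, hf₂.smul_left, fun v w => by rw [hσ]; exact hf₂.herm v w,
      hf₂.nondegenerate⟩
  obtain ⟨c, hc, hcT⟩ := hT
  -- an orthogonal pair for the first factor
  obtain ⟨u0, -, h00⟩ := Unit.exists_anisotropic g1 (T := ⊤) (by simp)
  obtain ⟨v, hv⟩ : ∃ v : Fin 2 → F, v ∉ F ∙ u0 := by
    by_contra h
    push Not at h
    have := Submodule.finrank_mono (s := (⊤ : Submodule F (Fin 2 → F))) (t := F ∙ u0) fun x _ => h x
    have h2 := finrank_span_le_card (R := F) ({u0} : Set (Fin 2 → F))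
    simp at this h2
    omega
  let u1 : Fin 2 → F := v + (-(f₁ v u0 / f₁ u0 u0)) • u0
  have h10 : f₁ u1 u0 = 0 := by
    simp only [u1, g1.add_left, g1.smul_left]
    field_simp
    ring
  have h01 : f₁ u0 u1 = 0 := by rw [g1.herm, h10, map_zero]
  let uu : Fin 2 → Fin 2 → F := ![u0, u1]
  have hspan : ∀ x : Fin 2 → F, ∃ r : Fin 2 → F, x = ∑ l, r l • uu l := by
    intro x
    have hli : LinearIndependent F ![u0, v] := by
      rw [LinearIndependent.pair_iff' (fun h => h00 (by rw [h, (Unit.linLeft g1).zero_left]))]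
      exact fun a ha => hv (Submodule.mem_span_singleton.2 ⟨a, ha⟩)
    have htop := hli.span_eq_top_of_card_eq_finrank' (by simp)
    have hx : x ∈ Submodule.span F (Set.range ![u0, v]) := htop ▸ Submodule.mem_top
    obtain ⟨r, hr⟩ := Submodule.mem_span_range_iff_exists_fun F |>.1 hx
    refine ⟨![r 0 + r 1 * (f₁ v u0 / f₁ u0 u0), r 1], ?_⟩
    rw [← hr]
    simp [Fin.sum_univ_two, uu, u1, smul_add, add_smul, smul_smul]
    abel
  have h11 : f₁ u1 u1 ≠ 0 := by
    intro h
    have hu1 : u1 ≠ 0 := by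
      intro e0
      apply hv
      exact Submodule.mem_span_singleton.2 ⟨f₁ v u0 / f₁ u0 u0, by
        have := e0; simp only [u1, neg_smul, ← sub_eq_add_neg, sub_eq_zero] at this; exact this.symm⟩
    obtain ⟨x, hx⟩ := (g1.nondegenerate u1 hu1).1
    obtain ⟨r, rfl⟩ := hspan x
    simp [Fin.sum_univ_two, uu, g1.add_left, g1.smul_left, h01, h] at hx
  have hone : ∀ a : F, UTv.frobEquiv hF' a = a → a ≠ 0 → a = 1 := fun a h1 h2 => by
    rw [hσ] at h1
    exact (mul_eq_left₀ h2).1 (by rw [← sq]; exact h1)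
  have huu : ∀ k l, f₁ (uu k) (uu l) = if k = l then 1 else 0 := by
    intro k l
    fin_cases k <;> fin_cases l <;> simp [uu, h01, h10, hone _ (Unit.sigma_self g1 _) h00,
      hone _ (Unit.sigma_self g1 _) h11]
  -- pure tensors
  let T : (Fin 2 → F) → (Fin n₂ → F) → (Fin n → F) := fun u x =>
    (P : Matrix (Fin n) (Fin n) F) *ᵥ ((fun p : Fin 2 × Fin n₂ => u p.1 * x p.2) ∘ e)
  have hTf : ∀ u w x y, Cfsg.hermForm n F 2 (T u x) (T w y) = c * (f₁ u w * f₂ x y) := by
    intro u w x y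
    simp only [T, hcT]
    rw [gram_formula g1 u w, gram_formula g2 x y]
    congr 1
    simp only [Cfsg.Geo.formOfGram, Matrix.kroneckerMap_apply, hσ, Fintype.sum_prod_type, Finset.sum_mul_sum]
    exact Finset.sum_congr rfl fun _ _ => Finset.sum_congr rfl fun _ _ => Finset.sum_congr rfl fun _ _ =>
      Finset.sum_congr rfl fun _ _ => by ring
  have hTaddl : ∀ u w x, T (u + w) x = T u x + T w x := fun u w x => by
    simp only [T, ← Matrix.mulVec_add]; congr 1; funext i; simp [add_mul]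
  have hTaddr : ∀ u x y, T u (x + y) = T u x + T u y := fun u x y => by
    simp only [T, ← Matrix.mulVec_add]; congr 1; funext i; simp [mul_add]
  have hTsl : ∀ (a : F) u x, T (a • u) x = a • T u x := fun a u x => by
    simp only [T, ← Matrix.mulVec_smul]; congr 1; funext i; simp [mul_assoc]
  have hTsr : ∀ (a : F) u x, T u (a • x) = a • T u x := fun a u x => by
    simp only [T, ← Matrix.mulVec_smul]; congr 1; funext i; simp [mul_left_comm]
  let L : (Fin 2 → Fin n₂ → F) →ₗ[F] (Fin n → F) :=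
    { toFun := fun w => T (uu 0) (w 0) + T (uu 1) (w 1)
      map_add' := fun a b => by simp only [Pi.add_apply, hTaddr]; abel
      map_smul' := fun a b => by simp only [Pi.smul_apply, hTsr, RingHom.id_apply, smul_add] }
  have hLdef : ∀ w, L w = T (uu 0) (w 0) + T (uu 1) (w 1) := fun _ => rfl
  have hLf : ∀ w k y, Cfsg.hermForm n F 2 (L w) (T (uu k) y) = c * f₂ (w k) y := by
    intro w k y
    rw [hLdef, hf.add_left, hTf, hTf, huu, huu]
    fin_cases k <;> simp
  have hinj : Function.Injective L := by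
    rw [← LinearMap.ker_eq_bot, Submodule.eq_bot_iff]
    intro w hw
    funext k
    by_contra hk
    obtain ⟨x, hx⟩ := (g2.nondegenerate _ hk).1
    have h := hLf w k x
    rw [LinearMap.mem_ker.1 hw, (Unit.linLeft hf).zero_left] at h
    rcases mul_eq_zero.1 h.symm with h | h
    · exact hc h
    · exact hx (by rw [g2.herm, h, map_zero])
  have hsurj : Function.Surjective L :=
    (LinearMap.injective_iff_surjective_of_finrank_eq_finrank (by
      simp [Module.finrank_pi_fintype, hn2])).1 hinj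
  let D : Fin 2 → Submodule F (Fin n → F) := fun l =>
    LinearMap.range (L ∘ₗ LinearMap.single F (fun _ : Fin 2 => Fin n₂ → F) l)
  have hmemD : ∀ l v, v ∈ D l ↔ ∃ x, v = T (uu l) x := by
    intro l v
    have e1 : ∀ x, (L ∘ₗ LinearMap.single F (fun _ : Fin 2 => Fin n₂ → F) l) x = T (uu l) x := fun x => by
      have hz : ∀ u, T u 0 = 0 := fun u => by simpa using hTsr 0 u 0
      rw [LinearMap.comp_apply, hLdef]
      fin_cases l <;> simp [hz]
    exact ⟨fun ⟨x, hx⟩ => ⟨x, by rw [← e1]; exact hx.symm⟩, fun ⟨x, hx⟩ => ⟨x, by rw [e1]; exact hx.symm⟩⟩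
  have hmem0 : ∀ w k, (∀ l, l ≠ k → w l = 0) ↔ L w ∈ D k := by
    intro w k
    constructor
    · intro h
      refine ⟨w k, ?_⟩
      simp only [LinearMap.comp_apply]
      congr 1
      funext l
      by_cases hl : l = k
      · subst hl; simp
      · simp [Pi.single_eq_of_ne hl, h l hl]
    · rintro ⟨x, hx⟩ l hl
      rw [← hinj hx]
      simp [Pi.single_eq_of_ne hl]
  have hact : ∀ (g : GL (Fin n) F) (A : GL (Fin 2) F) (B : GL (Fin n₂) F) (k : GL (Fin 2 × Fin n₂) F),
      (k : Matrix (Fin 2 × Fin n₂) (Fin 2 × Fin n₂) F) =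
        (A : Matrix (Fin 2) (Fin 2) F) ⊗ₖ (B : Matrix (Fin n₂) (Fin n₂) F) →
      g = P * Cfsg.Geo.glReindex e.symm k * P⁻¹ →
      ∀ u x, (g : Matrix (Fin n) (Fin n) F) *ᵥ T u x =
        T ((A : Matrix (Fin 2) (Fin 2) F) *ᵥ u) ((B : Matrix (Fin n₂) (Fin n₂) F) *ᵥ x) := by
    intro g A B k hk hg u x
    subst hg
    simp only [T, Units.val_mul, ← Matrix.mulVec_mulVec, inv_mulVec_mulVec]
    congr 1
    show (Matrix.reindexAlgEquiv F F e.symm (k : Matrix _ _ F)) *ᵥ _ = _
    rw [Matrix.coe_reindexAlgEquiv, Matrix.reindex_apply, Matrix.submatrix_mulVec_equiv]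
    funext i
    simp only [Function.comp_apply, hk, Matrix.mulVec, dotProduct, Equiv.symm_symm,
      Equiv.apply_symm_apply, Matrix.kroneckerMap_apply, Fintype.sum_prod_type, Finset.sum_mul_sum]
    exact Finset.sum_congr rfl fun a _ => Finset.sum_congr rfl fun b _ => by ring
  obtain ⟨z, x', hzz, hzx, -, -⟩ := Unit.exists_isotropic_perp g2 (![] : Fin 0 → (Fin n₂ → F))
    (by simp; omega)
  have hz0 : z ≠ 0 := fun h => hzx (by rw [h, (Unit.linLeft g2).zero_left])
  have hx'z : f₂ x' z ≠ 0 := fun h => hzx (by rw [g2.herm, h, map_zero])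
  have h2 : (1 : F) + 1 ^ 2 = 0 := by
    have := FiniteField.cast_card_eq_zero F
    rw [hF] at this
    have h4 : (2 : F) * 2 = 0 := by norm_num at this ⊢; exact this
    linear_combination mul_self_eq_zero.1 h4
  refine ⟨Cfsg.Geo.decompositionStabilizer D ⊓ (Cfsg.GU n F 2 ⊓ Cfsg.Geo.specialLinear (Fin n) F),
    lt_of_le_of_ne (le_inf ?_ inf_le_right) ?_, lt_of_le_of_ne inf_le_right ?_⟩
  · rintro g ⟨hg, hgI⟩
    obtain ⟨-, ⟨k, ⟨A, B, hk⟩, rfl⟩, hgk⟩ := hg
    have hgT := hact g A B k hk hgk.symm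
    have hgU : g ∈ UTv.suGL n F 2 := hgI
    let a := fun l => (A : Matrix (Fin 2) (Fin 2) F) *ᵥ uu l
    have hBs : ∀ y, ∃ x, (B : Matrix (Fin n₂) (Fin n₂) F) *ᵥ x = y := fun y => ⟨_, mulVec_inv_mulVec B y⟩
    have hab : ∀ i j x y, f₁ (a i) (a j) * f₂ ((B : Matrix (Fin n₂) (Fin n₂) F) *ᵥ x)
        ((B : Matrix (Fin n₂) (Fin n₂) F) *ᵥ y) = (if i = j then 1 else 0) * f₂ x y := fun i j x y => by
      have h := UTv.herm_mulVec hgU (T (uu i) x) (T (uu j) y)
      rw [hgT, hgT, hTf, hTf, huu] at h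
      exact mul_left_cancel₀ hc h
    have hd : ∀ i, f₁ (a i) (a i) ≠ 0 := fun i h => by
      have := hab i i z x'
      rw [h, zero_mul, if_pos rfl, one_mul] at this
      exact hzx this.symm
    have ho : f₁ (a 0) (a 1) = 0 := by
      obtain ⟨p, hp⟩ := hBs z
      obtain ⟨r, hr⟩ := hBs x'
      have := hab 0 1 p r
      rw [hp, hr, if_neg (by decide), zero_mul] at this
      exact (mul_eq_zero.1 this).resolve_right hzx
    have hline : ∀ i, ∃ (l : Fin 2) (s : F), a i = s • uu l := by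
      intro i
      obtain ⟨r, hr⟩ := hspan (a i)
      have h := hd i
      rw [hr, Fin.sum_univ_two, g1.add_left, Unit.add_right g1, Unit.add_right g1, g1.smul_left, g1.smul_left,
        g1.smul_left, g1.smul_left, Unit.smul_right g1, Unit.smul_right g1, Unit.smul_right g1,
        Unit.smul_right g1, huu, huu, huu, huu] at h
      simp at h
      by_cases h0 : r 0 = 0
      · exact ⟨1, r 1, by rw [hr, Fin.sum_univ_two, h0, zero_smul, zero_add]⟩
      by_cases h1 : r 1 = 0
      · exact ⟨0, r 0, by rw [hr, Fin.sum_univ_two, h1, zero_smul, add_zero]⟩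
      exfalso
      have hn : ∀ t : F, t ≠ 0 → t * t ^ 2 = 1 := fun t ht => by
        have := FiniteField.pow_card_sub_one_eq_one t ht
        rw [hF] at this
        rw [← pow_succ']; exact this
      rw [hσ, hσ, hn _ h0, hn _ h1] at h
      exact h (by linear_combination h2)
    choose π s hπ using hline
    have hs : ∀ i, s i ≠ 0 := fun i h => hd i (by rw [hπ i, h, zero_smul, (Unit.linLeft g1).zero_left])
    have hπi : Function.Injective π := by
      intro i j h
      by_contra hij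
      have : f₁ (a i) (a j) = 0 := by
        fin_cases i <;> fin_cases j
        · exact absurd rfl hij
        · exact ho
        · rw [g1.herm]; exact (congrArg _ ho).trans (map_zero _)
        · exact absurd rfl hij
      rw [hπ i, hπ j, g1.smul_left, Unit.smul_right g1, h, huu, if_pos rfl, mul_one] at this
      exact mul_ne_zero (hs i) ((map_ne_zero _).2 (hs j)) this
    refine ⟨Equiv.ofBijective π hπi.bijective_of_finite, fun l => ?_⟩
    ext v
    simp only [Submodule.mem_map, hmemD, Matrix.toLin'_apply, Equiv.ofBijective_apply]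
    constructor
    · rintro ⟨_, ⟨x, rfl⟩, rfl⟩
      refine ⟨s l • ((B : Matrix (Fin n₂) (Fin n₂) F) *ᵥ x), ?_⟩
      rw [hgT, hTsr, ← hTsl, ← hπ l]
    · rintro ⟨y, rfl⟩
      obtain ⟨x, hx⟩ := hBs ((s l)⁻¹ • y)
      refine ⟨_, ⟨x, rfl⟩, ?_⟩
      rw [hgT, hx, show (A : Matrix (Fin 2) (Fin 2) F) *ᵥ uu l = s l • uu (π l) from hπ l, hTsl, hTsr,
        smul_smul, mul_inv_cancel₀ (hs l), one_smul]
  · intro heq
    have hw : Cfsg.hermForm n F 2 (T (uu 0) z) (T (uu 0) z) = 0 := by rw [hTf, hzz, mul_zero, mul_zero]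
    let g := tvec (T (uu 0) z) (UTv.uax 2 (T (uu 0) z) 1) (UTv.uax_dot_self hw 1)
    have hgv := fun v => UTv.utv_mulVec hF' hw (1 : F) v
    have hgD : g ∈ Cfsg.Geo.decompositionStabilizer D := by
      refine ⟨1, fun l => ?_⟩
      have hst : g ∈ Cfsg.Geo.subspaceStabilizer (D l) := by
        refine mem_subspaceStabilizer.2 fun v hv => ?_
        rw [hgv v]
        obtain ⟨x, rfl⟩ := (hmemD l v).1 hv
        rw [hTf, huu]
        fin_cases l
        · exact (D 0).add_mem ((hmemD 0 _).2 ⟨x, rfl⟩) ((D 0).smul_mem _ ((hmemD 0 _).2 ⟨z, rfl⟩))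
        · simp only [Fin.mk_one, Fin.isValue, one_ne_zero, ↓reduceIte, zero_mul, mul_zero, zero_smul, add_zero]
          exact (hmemD 1 _).2 ⟨x, rfl⟩
      ext v
      simp only [Submodule.mem_map, Matrix.toLin'_apply, Equiv.Perm.one_apply]
      constructor
      · rintro ⟨y, hy, rfl⟩; exact mem_subspaceStabilizer.1 hst y hy
      · intro hv
        refine ⟨_, ?_, mulVec_inv_mulVec g v⟩
        exact mem_subspaceStabilizer.1 (inv_mem hst) v hv
    have hgH : g ∈ Cfsg.Geo.tensorProductSubgroup 2 n₂ e P ⊓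
        (Cfsg.GU n F 2 ⊓ Cfsg.Geo.specialLinear (Fin n) F) := by
      rw [heq]; exact ⟨hgD, UTv.utv_mem hF' hw h2⟩
    obtain ⟨⟨-, ⟨k, ⟨A, B, hk⟩, rfl⟩, hgk⟩, -⟩ := hgH
    have hgT := hact g A B k hk hgk.symm
    obtain ⟨r0, hr0⟩ := hspan ((A : Matrix (Fin 2) (Fin 2) F) *ᵥ uu 0)
    obtain ⟨r1, hr1⟩ := hspan ((A : Matrix (Fin 2) (Fin 2) F) *ᵥ uu 1)
    have hT1 : ∀ x, r1 1 • ((B : Matrix (Fin n₂) (Fin n₂) F) *ᵥ x) = x := fun x => by
      have h := hgv (T (uu 1) x)
      rw [hgT, hTf, huu, if_neg (by decide), zero_mul, mul_zero, mul_zero, zero_smul, add_zero, hr1,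
        Fin.sum_univ_two, hTaddl, hTsl, hTsl, ← hTsr, ← hTsr] at h
      have h' : L ![r1 0 • ((B : Matrix (Fin n₂) (Fin n₂) F) *ᵥ x), r1 1 • ((B : Matrix (Fin n₂) (Fin n₂) F) *ᵥ x)]
          = L ![0, x] := by
        rw [hLdef, hLdef]
        simp only [Matrix.cons_val_zero, Matrix.cons_val_one]
        rw [h, show T (uu 0) 0 = 0 by simpa using hTsr 0 (uu 0) 0, zero_add]
      simpa using congrFun (hinj h') 1
    have hT0 : r0 0 • ((B : Matrix (Fin n₂) (Fin n₂) F) *ᵥ x') = x' + (c * f₂ x' z) • z := by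
      have h := hgv (T (uu 0) x')
      rw [hgT, hTf, huu, if_pos rfl, one_mul, one_mul, hr0, Fin.sum_univ_two, hTaddl, hTsl, hTsl, ← hTsr,
        ← hTsr, ← hTsr] at h
      have h' : L ![r0 0 • ((B : Matrix (Fin n₂) (Fin n₂) F) *ᵥ x'), r0 1 • ((B : Matrix (Fin n₂) (Fin n₂) F) *ᵥ x')]
          = L ![x' + (c * f₂ x' z) • z, 0] := by
        rw [hLdef, hLdef]
        simp only [Matrix.cons_val_zero, Matrix.cons_val_one]
        rw [h, hTaddr, show T (uu 1) 0 = 0 by simpa using hTsr 0 (uu 1) 0, add_zero]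
      simpa using congrFun (hinj h') 0
    have hne : r1 1 ≠ 0 := fun h => hz0 (by rw [← hT1 z, h, zero_smul])
    have key : f₂ x' z * r0 0 = r1 1 * f₂ x' z := by
      have h3 := congrArg (fun y => f₂ (r1 1 • y) z) hT0
      simp only [smul_smul, mul_comm (r1 1) (r0 0), smul_add] at h3
      rw [mul_smul, hT1, g2.smul_left, g2.add_left, g2.smul_left, g2.smul_left, hzz, mul_zero, add_zero] at h3
      rw [mul_comm]; exact h3
    have hr : r0 0 = r1 1 := mul_left_cancel₀ hx'z (by rw [key, mul_comm])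
    rw [hr, hT1] at hT0
    exact smul_ne_zero (mul_ne_zero hc hx'z) hz0 (add_eq_left.1 hT0.symm)
  · intro heq
    let w := T (uu 0) z + T (uu 1) z
    have hw : Cfsg.hermForm n F 2 w w = 0 := by
      simp only [w, hf.add_left, Unit.add_right hf, hTf, hzz, mul_zero, add_zero]
    have hg := UTv.utv_mem hF' hw h2
    have hgS : tvec w (UTv.uax 2 w 1) (UTv.uax_dot_self hw 1) ∈ Cfsg.Geo.decompositionStabilizer D :=
      (inf_eq_right.1 heq) hg
    obtain ⟨σ, hσD⟩ := hgS
    have hv : T (uu 0) x' ∈ D 0 := (hmemD 0 _).2 ⟨x', rfl⟩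
    have himg : T (uu 0) x' + (1 * Cfsg.hermForm n F 2 (T (uu 0) x') w) • w ∈ D (σ 0) := by
      rw [← hσD]
      exact ⟨_, hv, by rw [Matrix.toLin'_apply, UTv.utv_mulVec hF' hw]⟩
    have hb : Cfsg.hermForm n F 2 (T (uu 0) x') w = c * f₂ x' z := by
      simp [w, Unit.add_right hf, hTf, huu]
    rw [hb, one_mul] at himg
    have hLe : L ![x' + (c * f₂ x' z) • z, (c * f₂ x' z) • z] =
        T (uu 0) x' + (c * f₂ x' z) • w := by
      rw [hLdef]
      simp only [Matrix.cons_val_zero, Matrix.cons_val_one, w, hTaddr, hTsr, smul_add]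
      abel
    rw [← hLe] at himg
    have hzero := (hmem0 _ _).2 himg
    obtain ⟨l0, hl0⟩ : ∃ l, σ 0 = l := ⟨_, rfl⟩
    rw [hl0] at hzero
    fin_cases l0
    · exact smul_ne_zero (mul_ne_zero hc hx'z) hz0 (by simpa using hzero 1 (by simp))
    · have h0 := hzero 0 (by simp)
      simp only [Matrix.cons_val_zero] at h0
      have := congrArg (fun y => f₂ y z) h0
      simp only [g2.add_left, g2.smul_left, hzz, mul_zero, add_zero, (Unit.linLeft g2).zero_left] at this
      exact hx'z this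

end Cfsg.Agent.S5671
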