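import Cfsg.Statements.S5674
import Cfsg.Agent.Geo.OrthSingular
import Cfsg.Agent.Quad.Concrete

set_option autoImplicit false
open Cfsg

namespace Cfsg.Agent.S5674

/-- Let F be a finite field of odd order, m ≥ 6, Q the standard quadratic form x₀² + Σ x_i y_i on F^(2m+1) and Ω the commutator subgroup of its isometry group inside GL_(2m+1)(F). The elements of Ω stabilising a non-zero subspace on which Q vanishes form a maximal subgroup of Ω. -/
theorem result {F : Type*} [Field F] [Fintype F] (hodd : Odd (Fintype.card F)) (m : ℕ) (hm : 6 ≤ m) (W : Submodule F (Unit ⊕ (Fin m ⊕ Fin m) → F)) (hW0 : W ≠ ⊥) (hW : Cfsg.Geo.IsTotallySingularQuad (Cfsg.quadFormOdd m F) W) : Cfsg.Geo.IsMaximalIn (Cfsg.Geo.omegaGL (Cfsg.quadFormOdd m F)) (Cfsg.Geo.subspaceStabilizer W ⊓ Cfsg.Geo.omegaGL (Cfsg.quadFormOdd m F)) := by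
  have h2 : (2 : F) ≠ 0 := fun h => by
    have := CfsgLib.Forms.odd_card_of_two_ne (F := F)
    haveI : CharP F 2 := CharTwo.of_one_ne_zero_of_two_eq_zero one_ne_zero h
    exact (Nat.not_even_iff_odd.2 hodd) (Nat.even_iff.2 (FiniteField.even_card_of_char_two (ringChar.eq F 2)))
  obtain ⟨Q, hQc, hQ⟩ : ∃ Q : QuadraticForm F (Unit ⊕ (Fin m ⊕ Fin m) → F),
      ⇑Q = Cfsg.quadFormOdd m F ∧ (QuadraticMap.polarBilin Q).Nondegenerate :=
    ⟨_, CfsgLib.Quad.oddQ_coe m, CfsgLib.Quad.oddQ_nondeg h2 m⟩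
  rw [← hQc] at hW ⊢
  have hd : Module.finrank F (Unit ⊕ (Fin m ⊕ Fin m) → F) = 1 + (m + m) := by simp
  refine CfsgLib.Geo.OS.isMaximalIn_omegaGL Q W
    (CfsgLib.Geo.OS.ts_maximal hQ (by omega) hW hW0 ?_)
  by_cases hk : 2 * Module.finrank F W + 3 ≤ Module.finrank F (Unit ⊕ (Fin m ⊕ Fin m) → F)
  · exact Or.inl hk
  right
  intro U hWU hU
  refine (Submodule.eq_of_le_of_finrank_le hWU ?_).symm
  by_contra hcc
  obtain ⟨x, hx, hx0⟩ := CfsgLib.Quad.exists_aniso_of_finrank hQ (K := U) (by omega)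
  exact hx0 (hU x hx)

end Cfsg.Agent.S5674
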