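import Cfsg.Statements.S5675
import Cfsg.Agent.Geo.OrthPlus
import Cfsg.Agent.Quad.Concrete

set_option autoImplicit false
open Cfsg

namespace Cfsg.Agent.S5675

/-- Let F be a finite field of odd order q, m ≥ 6, Q the standard quadratic form on F^(2m+1) and Ω the commutator subgroup of its isometry group. Let W be a non-zero subspace of even dimension on which the polar form of Q is non-degenerate; exclude the case q = 3, dim W = 2 with Q vanishing on some line of W (a plus-type plane). Then the elements of Ω stabilising W (equivalently, stabilising its orthogonal complement, of odd dimension) form a maximal subgroup of Ω. -/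
theorem result {F : Type*} [Field F] [Fintype F] (hodd : Odd (Fintype.card F)) (m : ℕ) (hm : 6 ≤ m) (W : Submodule F (Unit ⊕ (Fin m ⊕ Fin m) → F)) (hW0 : W ≠ ⊥) (hev : Even (Module.finrank F W)) (hW : Cfsg.Geo.IsNondegenerateOn (QuadraticMap.polar (Cfsg.quadFormOdd m F)) W) (hex : ¬ (Fintype.card F = 3 ∧ Module.finrank F W = 2 ∧ Cfsg.Geo.IsPlusTypeOn (Cfsg.quadFormOdd m F) W)) : Cfsg.Geo.IsMaximalIn (Cfsg.Geo.omegaGL (Cfsg.quadFormOdd m F)) (Cfsg.Geo.subspaceStabilizer W ⊓ Cfsg.Geo.omegaGL (Cfsg.quadFormOdd m F)) := by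
  have h2 : (2 : F) ≠ 0 := fun h => by
    haveI : CharP F 2 := CharTwo.of_one_ne_zero_of_two_eq_zero one_ne_zero h
    exact (Nat.not_even_iff_odd.2 hodd) (Nat.even_iff.2 (FiniteField.even_card_of_char_two (ringChar.eq F 2)))
  obtain ⟨Q, hQc, hQ⟩ : ∃ Q : QuadraticForm F (Unit ⊕ (Fin m ⊕ Fin m) → F),
      ⇑Q = Cfsg.quadFormOdd m F ∧ (QuadraticMap.polarBilin Q).Nondegenerate :=
    ⟨_, CfsgLib.Quad.oddQ_coe m, CfsgLib.Quad.oddQ_nondeg h2 m⟩
  rw [← hQc] at hW hex ⊢
  have hd : Fintype.card (Unit ⊕ (Fin m ⊕ Fin m)) = 1 + (m + m) := by simp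
  have hdV := Module.finrank_fintype_fun_eq_card F (η := Unit ⊕ (Fin m ⊕ Fin m))
  have hsum := CfsgLib.Quad.finrank_perpS hQ W
  obtain ⟨r, hr⟩ := hev
  refine CfsgLib.Geo.OS.nondeg_subspace_maximal hQ (by omega) hW0 ?_
    (CfsgLib.Geo.OS.nd_of_isNondegenerateOn hW) ?_ (fun h => by omega)
  · intro h
    rw [h, finrank_top] at hr
    omega
  · rintro S (rfl | rfl) h2S
    swap
    · exfalso; omega
    by_cases han : ∀ x ∈ S, Q x = 0 → x = 0
    · exact Or.inl han
    push Not at han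
    obtain ⟨z, hz, hz0, hne⟩ := han
    refine Or.inr ?_
    rw [Nat.card_eq_fintype_card]
    by_contra hlt
    refine hex ⟨?_, h2S, CfsgLib.Geo.OS.plusType_of_singular h2S hz hne hz0⟩
    have := Fintype.one_lt_card (α := F)
    obtain ⟨k, hk⟩ := hodd
    omega

end Cfsg.Agent.S5675
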