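import Cfsg.Statements.S5676
import Cfsg.Agent.Geo.OrthNonMaximal
import Cfsg.Agent.Quad.Concrete

set_option autoImplicit false
open Cfsg

namespace Cfsg.Agent.S5676

/-- Let F be the field with 3 elements, m ≥ 6, Q the standard quadratic form on F^(2m+1) and Ω the commutator subgroup of its isometry group. Let W be a 2-dimensional subspace on which the polar form is non-degenerate and which contains a line on which Q vanishes. Then the elements of Ω stabilising W form a subgroup that is not maximal: some subgroup lies strictly between it and Ω. -/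
theorem result {F : Type*} [Field F] [Fintype F] (hq : Fintype.card F = 3) (m : ℕ) (hm : 6 ≤ m) (W : Submodule F (Unit ⊕ (Fin m ⊕ Fin m) → F)) (hdim : Module.finrank F W = 2) (hW : Cfsg.Geo.IsNondegenerateOn (QuadraticMap.polar (Cfsg.quadFormOdd m F)) W) (hplus : Cfsg.Geo.IsPlusTypeOn (Cfsg.quadFormOdd m F) W) : ∃ K : Subgroup (Matrix.GeneralLinearGroup (Unit ⊕ (Fin m ⊕ Fin m)) F), Cfsg.Geo.subspaceStabilizer W ⊓ Cfsg.Geo.omegaGL (Cfsg.quadFormOdd m F) < K ∧ K < Cfsg.Geo.omegaGL (Cfsg.quadFormOdd m F) := by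
  have h2 : (2 : F) ≠ 0 := fun h => by
    haveI : CharP F 2 := CharTwo.of_one_ne_zero_of_two_eq_zero one_ne_zero h
    have := FiniteField.even_card_of_char_two (ringChar.eq F 2)
    omega
  obtain ⟨Q, hQc, hQ⟩ : ∃ Q : QuadraticForm F (Unit ⊕ (Fin m ⊕ Fin m) → F),
      ⇑Q = Cfsg.quadFormOdd m F ∧ (QuadraticMap.polarBilin Q).Nondegenerate :=
    ⟨_, CfsgLib.Quad.oddQ_coe m, CfsgLib.Quad.oddQ_nondeg h2 m⟩
  rw [← hQc] at hW hplus ⊢
  have hd : Module.finrank F (Unit ⊕ (Fin m ⊕ Fin m) → F) = 1 + (m + m) := by simp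
  obtain ⟨U, hUW, hU, hUd⟩ := hplus
  obtain ⟨z, hz, hz0⟩ := Submodule.exists_mem_ne_zero_of_ne_bot (p := U) (fun h => by
    rw [h, finrank_bot] at hUd; omega)
  refine CfsgLib.Geo.OS.plane_nonmax hQ (by omega) (fun a ha => ?_) hdim
    (CfsgLib.Geo.OS.nd_of_isNondegenerateOn hW) ⟨z, hUW hz, hz0, hU z hz⟩
  have h1 := FiniteField.pow_card_sub_one_eq_one a ha
  rw [hq] at h1
  exact mul_self_eq_one_iff.1 (by simpa [pow_two] using h1)

end Cfsg.Agent.S5676
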