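import Cfsg.Statements.S5677
import Cfsg.Agent.Geo.OrthDecompOvergroup
import Cfsg.Agent.Geo.DecompCoords
import Cfsg.Agent.Quad.Concrete

set_option autoImplicit false
open Cfsg

namespace Cfsg.Agent.S5677

/-- Let F be a finite field of odd order q, m ≥ 6, Q the standard quadratic form on F^(2m+1) and Ω the commutator subgroup of its isometry group. Let D be a decomposition of F^(2m+1) into t ≥ 2 pairwise orthogonal, pairwise Q-isometric subspaces of equal dimension k > 1 on which the polar form is non-degenerate. Unless q = 3 and k = 3, the elements of Ω permuting the members of D form a maximal subgroup of Ω. -/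
theorem result {F : Type*} [Field F] [Fintype F] (hodd : Odd (Fintype.card F)) (m : ℕ) (hm : 6 ≤ m) {t : ℕ} (k : ℕ) (hk : 1 < k) (D : Fin t → Submodule F (Unit ⊕ (Fin m ⊕ Fin m) → F)) (hD : Cfsg.Geo.IsOrthogonalMDecomposition (Cfsg.quadFormOdd m F) k D) (hex : ¬ (Fintype.card F = 3 ∧ k = 3)) : Cfsg.Geo.IsMaximalIn (Cfsg.Geo.omegaGL (Cfsg.quadFormOdd m F)) (Cfsg.Geo.decompositionStabilizer D ⊓ Cfsg.Geo.omegaGL (Cfsg.quadFormOdd m F)) := by
  have h2 : (2 : F) ≠ 0 := fun h => by
    haveI : CharP F 2 := CharTwo.of_one_ne_zero_of_two_eq_zero one_ne_zero h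
    exact (Nat.not_even_iff_odd.2 hodd) (Nat.even_iff.2 (FiniteField.even_card_of_char_two (ringChar.eq F 2)))
  obtain ⟨Q, hQc, hQ⟩ : ∃ Q : QuadraticForm F (Unit ⊕ (Fin m ⊕ Fin m) → F),
      ⇑Q = Cfsg.quadFormOdd m F ∧ (QuadraticMap.polarBilin Q).Nondegenerate :=
    ⟨_, CfsgLib.Quad.oddQ_coe m, CfsgLib.Quad.oddQ_nondeg h2 m⟩
  rw [← hQc] at hD ⊢
  have hd : Module.finrank F (Unit ⊕ (Fin m ⊕ Fin m) → F) = 1 + (m + m) := by simp
  have htk : t * k = 1 + (m + m) := by
    obtain ⟨Θ, -⟩ := CfsgLib.Geo.Decomp.exists_coords hD.decomp.decomp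
    have := Θ.finrank_eq
    rw [hd, Module.finrank_pi_fintype] at this
    simpa using this
  have hk3 : 3 ≤ k := by
    by_contra hlt
    obtain rfl : k = 2 := by omega
    omega
  have hOD : CfsgLib.Geo.OS.OD Q k D :=
    { three := hk3
      two := hD.decomp.decomp.two_le
      dim := hD.decomp.decomp.finrank_eq
      nd := fun i => CfsgLib.Geo.OS.nd_of_isNondegenerateOn (hD.decomp.nondegenerate i)
      orth := hD.decomp.orthogonal
      top := hD.decomp.decomp.iSup_eq_top
      iso := hD.isometric }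
  refine CfsgLib.Geo.OS.isMaximalIn_map_omega (L := CfsgLib.Geo.OS.decompStab Q D) (fun g _ => ?_)
    (CfsgLib.Geo.OS.decomp_maximal hQ h2 hOD (by omega) fun hk => ?_)
  · have hmap : ∀ X : Submodule F (Unit ⊕ (Fin m ⊕ Fin m) → F),
        X.map (Matrix.toLin' (CfsgLib.Geo.OS.toGL Q g : Matrix _ _ F)) = X.map g.1.toLinearMap :=
      fun X => congrArg (Submodule.map · X)
        (LinearMap.ext fun x => by rw [Matrix.toLin'_apply, CfsgLib.Geo.OS.toGL_mulVec]; rfl)
    exact exists_congr fun σ => forall_congr' fun i => by rw [hmap]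
  · rw [Nat.card_eq_fintype_card]
    have h3 : Fintype.card F ≠ 3 := fun h => hex ⟨h, hk⟩
    have := Fintype.one_lt_card (α := F)
    obtain ⟨r, hr⟩ := hodd
    omega

end Cfsg.Agent.S5677
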