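import Cfsg.Statements.S5678
import Cfsg.Agent.Geo.OrthDecompNonMax
import Cfsg.Agent.Geo.DecompCoords
import Cfsg.Agent.Quad.Concrete

set_option autoImplicit false
open Cfsg

namespace Cfsg.Agent.S5678

/-- Let F be the field with 3 elements, m ≥ 6, Q the standard quadratic form on F^(2m+1) and Ω the commutator subgroup of its isometry group. Let D be a decomposition of F^(2m+1) into t pairwise orthogonal, pairwise Q-isometric 3-dimensional subspaces on which the polar form is non-degenerate. Then the elements of Ω permuting the members of D form a subgroup that is not maximal: some subgroup lies strictly between it and Ω. -/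
theorem result {F : Type*} [Field F] [Fintype F] (hq : Fintype.card F = 3) (m : ℕ) (hm : 6 ≤ m) {t : ℕ} (D : Fin t → Submodule F (Unit ⊕ (Fin m ⊕ Fin m) → F)) (hD : Cfsg.Geo.IsOrthogonalMDecomposition (Cfsg.quadFormOdd m F) 3 D) : ∃ K : Subgroup (Matrix.GeneralLinearGroup (Unit ⊕ (Fin m ⊕ Fin m)) F), Cfsg.Geo.decompositionStabilizer D ⊓ Cfsg.Geo.omegaGL (Cfsg.quadFormOdd m F) < K ∧ K < Cfsg.Geo.omegaGL (Cfsg.quadFormOdd m F) := by
  classical
  have h2 : (2 : F) ≠ 0 := fun h => by
    haveI : CharP F 2 := CharTwo.of_one_ne_zero_of_two_eq_zero one_ne_zero h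
    have := FiniteField.even_card_of_char_two (F := F) (ringChar.eq F 2)
    omega
  obtain ⟨Q, hQc, hQ⟩ : ∃ Q : QuadraticForm F (Unit ⊕ (Fin m ⊕ Fin m) → F),
      ⇑Q = Cfsg.quadFormOdd m F ∧ (QuadraticMap.polarBilin Q).Nondegenerate :=
    ⟨_, CfsgLib.Quad.oddQ_coe m, CfsgLib.Quad.oddQ_nondeg h2 m⟩
  rw [← hQc] at hD ⊢
  have hd : Module.finrank F (Unit ⊕ (Fin m ⊕ Fin m) → F) = 1 + (m + m) := by simp
  have htk : t * 3 = 1 + (m + m) := by
    obtain ⟨Θ, -⟩ := CfsgLib.Geo.Decomp.exists_coords hD.decomp.decomp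
    have := Θ.finrank_eq
    rw [hd, Module.finrank_pi_fintype] at this
    simpa using this
  exact CfsgLib.Geo.OS.odd_decomp_nonmax hQ (by omega) (by omega) hD
    (Or.inl ⟨by rw [Nat.card_eq_fintype_card, hq], Or.inr rfl⟩)

end Cfsg.Agent.S5678
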