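import Cfsg.Statements.S5689
import Cfsg.Agent.Geo.OrthPlus

set_option autoImplicit false
open Cfsg

namespace Cfsg.Agent.S5689

/-- Let F be a finite field with q elements, n ≥ 13 even, Q a non-degenerate quadratic form on F^n of minus type (no subspace of dimension n/2 is totally singular), and Ω the commutator subgroup of the isometry group of Q, viewed inside GL_n(F). Let W be a non-zero proper subspace on which the polar form of Q is non-degenerate, not of odd dimension n/2. Exclude the case q ≤ 3 in which W, or its orthogonal complement, is a plane containing a line on which Q vanishes. Then the elements of Ω stabilising W form a maximal subgroup of Ω. -/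
theorem result {F : Type*} [Field F] [Fintype F] {n : ℕ} (hn : 13 ≤ n) (heven : Even n) (Q : (Fin n → F) → F) (hQ : Cfsg.Geo.IsNondegenerateQuadraticForm Q) (hminus : ¬ Cfsg.Geo.IsPlusTypeOn Q ⊤) (W : Submodule F (Fin n → F)) (hW0 : W ≠ ⊥) (hW1 : W ≠ ⊤) (hdim : ¬ (2 * Module.finrank F W = n ∧ Odd (Module.finrank F W))) (hW : Cfsg.Geo.IsNondegenerateOn (QuadraticMap.polar Q) W) (hex : ¬ (Fintype.card F ≤ 3 ∧ (∃ U : Submodule F (Fin n → F), Module.finrank F U = 2 ∧ Cfsg.Geo.IsNondegenerateOn (QuadraticMap.polar Q) U ∧ Cfsg.Geo.IsPlusTypeOn Q U ∧ (U = W ∨ (Cfsg.Geo.AreOrthogonalFor (QuadraticMap.polar Q) U W ∧ Module.finrank F U + Module.finrank F W = n))))) : Cfsg.Geo.IsMaximalIn (Cfsg.Geo.omegaGL Q) (Cfsg.Geo.subspaceStabilizer W ⊓ Cfsg.Geo.omegaGL Q) := by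
  obtain ⟨q, rfl, hq⟩ := CfsgLib.Geo.OS.exists_quadraticForm hQ
  have hd : Module.finrank F (Fin n → F) = n := Module.finrank_fin_fun F
  have hsum := CfsgLib.Quad.finrank_perpS hq W
  refine CfsgLib.Geo.OS.nondeg_subspace_maximal hq (by simpa using hn) hW0 hW1
    (CfsgLib.Geo.OS.nd_of_isNondegenerateOn hW) ?_ ?_
  swap
  · intro he g hg
    rw [Fintype.card_fin] at he
    obtain ⟨j, hj⟩ : Even (Module.finrank F W) := Nat.not_odd_iff_even.1 fun h => hdim ⟨he, h⟩
    obtain ⟨T, hT, hTd⟩ :=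
      CfsgLib.Geo.OS.exists_ts_of_swap (CfsgLib.Geo.OS.nd_of_isNondegenerateOn hW) hj g hg
    exact hminus ⟨T, le_top, hT, by rw [finrank_top, hTd]; omega⟩
  intro S hS h2S
  by_cases han : ∀ x ∈ S, q x = 0 → x = 0
  · exact Or.inl han
  push Not at han
  obtain ⟨z, hz, hz0, hne⟩ := han
  refine Or.inr ?_
  rw [Nat.card_eq_fintype_card]
  by_contra hlt
  have hSn : Cfsg.Geo.IsNondegenerateOn (QuadraticMap.polar ⇑q) S := by
    intro w hw hw0
    have hnd : CfsgLib.Geo.OS.ND q S := by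
      rcases hS with rfl | rfl
      · exact CfsgLib.Geo.OS.nd_of_isNondegenerateOn hW
      · exact CfsgLib.Geo.OS.ND.perp hq (CfsgLib.Geo.OS.nd_of_isNondegenerateOn hW)
    obtain ⟨y, hy, hwy⟩ := CfsgLib.Geo.OS.ND.partner hnd hw hw0
    exact ⟨⟨y, hy, by rwa [QuadraticMap.polar_comm]⟩, y, hy, hwy⟩
  refine hex ⟨by omega, S, h2S, hSn, CfsgLib.Geo.OS.plusType_of_singular h2S hz hne hz0, ?_⟩
  rcases hS with rfl | rfl
  · exact Or.inl rfl
  · refine Or.inr ⟨fun u hu v hv => ?_, by omega⟩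
    rw [QuadraticMap.polar_comm]
    exact hu v hv

end Cfsg.Agent.S5689
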