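import Cfsg.Statements.S5697
import Cfsg.Agent.Geo.OrthLagrangianPair

set_option autoImplicit false
open Cfsg

namespace Cfsg.Agent.S5697

/-- Let F be a finite field with q elements, n ≥ 13 even, Q a non-degenerate quadratic form on F^n of plus type (some subspace of dimension n/2 is totally singular), and Ω the commutator subgroup of the isometry group of Q, viewed inside GL_n(F). Suppose n/2 is even and let D be a decomposition of F^n into two complementary subspaces of dimension n/2 on each of which Q vanishes. Then the elements of Ω preserving or interchanging the two subspaces form a maximal subgroup of Ω. -/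
theorem result {F : Type*} [Field F] [Fintype F] {n : ℕ} (hn : 13 ≤ n) (heven : Even n) (Q : (Fin n → F) → F) (hQ : Cfsg.Geo.IsNondegenerateQuadraticForm Q) (hplus : Cfsg.Geo.IsPlusTypeOn Q ⊤) (k : ℕ) (hk : 2 * k = n) (hke : Even k) (D : Fin 2 → Submodule F (Fin n → F)) (hD : Cfsg.Geo.IsMDecomposition k D) (hts : ∀ i, Cfsg.Geo.IsTotallySingularQuad Q (D i)) : Cfsg.Geo.IsMaximalIn (Cfsg.Geo.omegaGL Q) (Cfsg.Geo.decompositionStabilizer D ⊓ Cfsg.Geo.omegaGL Q) := by
  obtain ⟨q, rfl, hq⟩ := CfsgLib.Geo.OS.exists_quadraticForm hQ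
  have hd : Module.finrank F (Fin n → F) = n := Module.finrank_fin_fun F
  have hlag : ∀ i, CfsgLib.Geo.OS.IsLag q (D i) := fun i => ⟨hts i, by rw [hD.finrank_eq i]; omega⟩
  have h01 : D 0 ⊓ D 1 = ⊥ :=
    disjoint_iff.1 (hD.indep.pairwiseDisjoint (by decide : (0 : Fin 2) ≠ 1))
  refine CfsgLib.Geo.OS.isMaximalIn_map_omega (L := CfsgLib.Geo.OS.pairStab q (D 0) (D 1))
    (fun g _ => ?_) (CfsgLib.Geo.OS.lagPair_maximal hq (by omega) ⟨hlag 0, hlag 1, h01⟩
      (by rw [hD.finrank_eq]; exact hke) (by rw [hD.finrank_eq]; omega))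
  have hmap : ∀ X : Submodule F (Fin n → F),
      X.map (Matrix.toLin' (CfsgLib.Geo.OS.toGL q g : Matrix (Fin n) (Fin n) F)) =
        X.map g.1.toLinearMap := fun X => congrArg (Submodule.map · X)
      (LinearMap.ext fun x => by rw [Matrix.toLin'_apply, CfsgLib.Geo.OS.toGL_mulVec]; rfl)
  constructor
  · rintro ⟨σ, hσ⟩
    have h0 := hσ 0
    have h1 := hσ 1
    rw [hmap] at h0 h1
    rcases Fin.exists_fin_two.1 ⟨σ 0, rfl⟩ with e | e <;>
      rcases Fin.exists_fin_two.1 ⟨σ 1, rfl⟩ with e' | e'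
    · exact absurd (σ.injective (e.trans e'.symm)) (by decide)
    · rw [e] at h0; rw [e'] at h1; exact Or.inl ⟨h0, h1⟩
    · rw [e] at h0; rw [e'] at h1; exact Or.inr ⟨h0, h1⟩
    · exact absurd (σ.injective (e.trans e'.symm)) (by decide)
  · rintro (⟨h0, h1⟩ | ⟨h0, h1⟩)
    · refine ⟨1, fun i => ?_⟩
      rw [hmap]
      rcases Fin.exists_fin_two.1 ⟨i, rfl⟩ with e | e <;> subst e
      exacts [h0, h1]
    · refine ⟨Equiv.swap 0 1, fun i => ?_⟩
      rw [hmap]
      rcases Fin.exists_fin_two.1 ⟨i, rfl⟩ with e | e <;> subst e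
      · rw [Equiv.swap_apply_left]; exact h0
      · rw [Equiv.swap_apply_right]; exact h1

end Cfsg.Agent.S5697
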