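import Cfsg.Statements.S5699
import Cfsg.Agent.Geo.OrthNonMaximal
import Cfsg.Agent.Geo.Basic

set_option autoImplicit false
open Cfsg

namespace Cfsg.Agent.S5699

/-- Let F be a finite field with q elements, n ≥ 13 even, Q a non-degenerate quadratic form on F^n (of either type), and Ω the commutator subgroup of the isometry group of Q, viewed inside GL_n(F). Let D be a decomposition of F^n into two orthogonal subspaces of odd dimension n/2 on which the polar form is non-degenerate and which are not Q-isometric to each other. Then the elements of Ω permuting (necessarily fixing) the two subspaces form a maximal subgroup of Ω. -/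
theorem result {F : Type*} [Field F] [Fintype F] {n : ℕ} (hn : 13 ≤ n) (heven : Even n) (Q : (Fin n → F) → F) (hQ : Cfsg.Geo.IsNondegenerateQuadraticForm Q) (k : ℕ) (hk : 2 * k = n) (hko : Odd k) (D : Fin 2 → Submodule F (Fin n → F)) (hD : Cfsg.Geo.IsNondegenerateMDecomposition (QuadraticMap.polar Q) k D) (hni : ¬ Cfsg.Geo.AreIsometricFor Q (D 0) (D 1)) : Cfsg.Geo.IsMaximalIn (Cfsg.Geo.omegaGL Q) (Cfsg.Geo.decompositionStabilizer D ⊓ Cfsg.Geo.omegaGL Q) := by
  obtain ⟨q, rfl, hq⟩ := CfsgLib.Geo.OS.exists_quadraticForm hQ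
  have hd : Module.finrank F (Fin n → F) = n := Module.finrank_fin_fun F
  have h0 := hD.decomp.finrank_eq 0
  have h1 := hD.decomp.finrank_eq 1
  have hnd : CfsgLib.Geo.OS.ND q (D 0) := CfsgLib.Geo.OS.nd_of_isNondegenerateOn (hD.nondegenerate 0)
  have hD1 : D 1 = CfsgLib.Quad.perpS q (D 0) := by
    refine Submodule.eq_of_le_of_finrank_le
      (fun y hy x hx => hD.orthogonal 0 1 (by decide) x hx y hy) ?_
    have := CfsgLib.Quad.finrank_perpS hq (D 0)
    omega
  have hiso : ∀ g : CfsgLib.Quad.oGroup q, ¬ ∀ x ∈ D 0, g.1 x ∈ CfsgLib.Quad.perpS q (D 0) := by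
    intro g hg
    refine hni ?_
    have hmap : (D 0).map g.1.toLinearMap = D 1 := by
      refine Submodule.eq_of_le_of_finrank_le ?_ (by rw [LinearEquiv.finrank_map_eq]; omega)
      rintro _ ⟨x, hx, rfl⟩
      rw [hD1]; exact hg x hx
    exact ⟨(g.1.submoduleMap (D 0)).trans (LinearEquiv.ofEq _ _ hmap), fun w => g.2 w⟩
  have heq : Cfsg.Geo.decompositionStabilizer D ⊓ Cfsg.Geo.omegaGL ⇑q =
      Cfsg.Geo.subspaceStabilizer (D 0) ⊓ Cfsg.Geo.omegaGL ⇑q := by
    ext y
    refine and_congr_left fun hy => ?_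
    rw [← CfsgLib.Geo.OS.map_omega] at hy
    obtain ⟨g, -, rfl⟩ := hy
    have hmap : ∀ X : Submodule F (Fin n → F),
        X.map (Matrix.toLin' (CfsgLib.Geo.OS.toGL q g : Matrix (Fin n) (Fin n) F)) =
          X.map g.1.toLinearMap := fun X => congrArg (Submodule.map · X)
        (LinearMap.ext fun x => by rw [Matrix.toLin'_apply, CfsgLib.Geo.OS.toGL_mulVec]; rfl)
    change CfsgLib.Geo.OS.toGL q g ∈ Cfsg.Geo.decompositionStabilizer D ↔
      CfsgLib.Geo.OS.toGL q g ∈ Cfsg.Geo.subspaceStabilizer (D 0)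
    rw [CfsgLib.Geo.mem_subspaceStabilizer]
    simp only [CfsgLib.Geo.OS.toGL_mulVec]
    constructor
    · rintro ⟨σ, hσ⟩ x hx
      have h := hσ 0
      rw [hmap] at h
      rcases Fin.exists_fin_two.1 ⟨σ 0, rfl⟩ with e | e
      · rw [e] at h; rw [← h]; exact ⟨x, hx, rfl⟩
      · exfalso
        rw [e] at h
        exact hiso g fun z hz => by rw [← hD1, ← h]; exact ⟨z, hz, rfl⟩
    · intro hg
      have hs : g ∈ CfsgLib.Geo.OS.stabO q (D 0) := CfsgLib.Geo.OS.mem_stabO_of_le hg
      have hs1 := CfsgLib.Geo.OS.stabO_perp hs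
      rw [← hD1] at hs1
      refine ⟨1, fun i => ?_⟩
      rw [hmap, Equiv.Perm.one_apply]
      refine Submodule.eq_of_le_of_finrank_le ?_ (LinearEquiv.finrank_map_eq g.1 (D i)).ge
      rintro _ ⟨x, hx, rfl⟩
      rcases Fin.exists_fin_two.1 ⟨i, rfl⟩ with e | e <;> subst e
      exacts [hg x hx, (hs1 x).2 hx]
  rw [heq]
  refine CfsgLib.Geo.OS.nondeg_subspace_maximal hq (by simpa using hn) ?_ ?_ hnd ?_ fun _ => hiso
  · intro h; rw [h, finrank_bot] at h0; omega
  · intro h; rw [h, finrank_top] at h0; omega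
  · intro S hS h2
    exfalso
    rcases hS with rfl | rfl
    · omega
    · rw [← hD1] at h2; omega

end Cfsg.Agent.S5699
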