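import Cfsg.Statements.S5703
import Cfsg.Agent.Geo.PauliPlus.Entry
import Cfsg.Agent.Geo.OrthSiegel

set_option autoImplicit false
open Cfsg

namespace Cfsg.Agent.S5703

/-- Let p be an odd prime, F the field with p elements, n ≥ 13 even, Q a non-degenerate quadratic form on F^n of plus type and Ω the commutator subgroup of its isometry group. Let R be a 2-subgroup of GL_n(F) of exponent 4 in which every characteristic abelian subgroup is cyclic, of order 2^(1+2k) with centre of order 2 and containing an elementary abelian subgroup of order 2^(k+1) (plus type), acting absolutely irreducibly and consisting of isometries of Q. Then the elements of Ω normalising R form a maximal subgroup of Ω. -/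
theorem result {F : Type*} [Field F] [Fintype F] {n : ℕ} (hn : 13 ≤ n) (heven : Even n) (Q : (Fin n → F) → F) (hQ : Cfsg.Geo.IsNondegenerateQuadraticForm Q) (hplus : Cfsg.Geo.IsPlusTypeOn Q ⊤) (p k : ℕ) (hp : p.Prime) (hpo : Odd p) (hF : Fintype.card F = p) (R : Subgroup (Matrix.GeneralLinearGroup (Fin n) F)) (hR : Cfsg.Geo.IsSymplecticTypeGroup 2 R) (hirr : Cfsg.Geo.ActsAbsolutelyIrreducibly (Cfsg.Geo.matrixSet R)) (hRD : R ≤ Cfsg.isometryGroup F Q) (hcard : Nat.card R = 2 ^ (1 + 2 * k)) (hZ : Nat.card (Subgroup.center R) = 2) (hpt : Cfsg.Geo.IsOfPlusType k R) : Cfsg.Geo.IsMaximalIn (Cfsg.Geo.omegaGL Q) (Cfsg.Geo.subgroupNormalizer R ⊓ Cfsg.Geo.omegaGL Q) := by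
  haveI : Fact p.Prime := ⟨hp⟩
  have h2 : (2 : F) ≠ 0 := by
    intro h
    have h0 := FiniteField.cast_card_eq_zero F
    rw [hF] at h0
    obtain ⟨j, hj⟩ := hpo
    rw [hj, Nat.cast_add, Nat.cast_mul, Nat.cast_ofNat, Nat.cast_one, h, zero_mul, zero_add] at h0
    exact one_ne_zero h0
  obtain ⟨Q₀, rfl, hnd⟩ := CfsgLib.Geo.OS.exists_quadraticForm hQ
  obtain ⟨V, iV₁, iV₂, iV₃, S, hk, hSp, hS⟩ := CfsgLib.Geo.PauliPlus.exists_sys (Q₀ := Q₀) ⟨hnd, h2⟩
    ⟨⟨0, by omega⟩⟩ k hR hirr hRD hcard hZ hpt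
  have hk4 : 4 ≤ S.k := by
    by_contra h
    have h1 := S.card_eq
    have h3 : 2 ^ S.k ≤ 2 ^ 3 := Nat.pow_le_pow_right (by norm_num) (by omega)
    rw [Fintype.card_fin] at h1
    norm_num at h3
    omega
  rw [← hS]
  exact S.maximal hp hF hSp hk4

end Cfsg.Agent.S5703
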