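import Cfsg.Statements.S5705
import Cfsg.Agent.Aschbacher.Form.OrthTwelveTensor
import Cfsg.Agent.Aschbacher.Form.FourPlanes

set_option autoImplicit false
open Cfsg

namespace Cfsg.Agent.S5705

open CfsgLib.Aschbacher Matrix
open scoped Kronecker

/-- Let F be the field with 2 elements, n = 2 n₂ ≥ 13 even, Q a non-degenerate quadratic form on F^n of plus type and Ω the commutator subgroup of its isometry group. Suppose that, through P and e, the polar form of Q is similar to the tensor product of non-degenerate symplectic forms f₁ on F^2 and f₂ on F^(n₂), and Q vanishes on the images of all pure tensors. Then the elements of Ω in the stabiliser of this tensor decomposition form a subgroup that is not maximal: some subgroup lies strictly between it and Ω. -/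
theorem result {F : Type*} [Field F] [Fintype F] {n : ℕ} (hn : 13 ≤ n) (heven : Even n) (Q : (Fin n → F) → F) (hQ : Cfsg.Geo.IsNondegenerateQuadraticForm Q) (hplus : Cfsg.Geo.IsPlusTypeOn Q ⊤) (hq : Fintype.card F = 2) (n₂ : ℕ) (h2 : 2 < n₂) (e : (Fin n) ≃ Fin 2 × Fin n₂) (P : Matrix.GeneralLinearGroup (Fin n) F) (f₁ : (Fin 2 → F) → (Fin 2 → F) → F) (f₂ : (Fin n₂ → F) → (Fin n₂ → F) → F) (hf₁ : Cfsg.Geo.IsSymplecticForm f₁) (hf₂ : Cfsg.Geo.IsSymplecticForm f₂) (hT : Cfsg.Geo.IsTensorFormStructure id (QuadraticMap.polar Q) f₁ f₂ e P) (hpure : (∀ (x₁ : Fin 2 → F) (x₂ : Fin n₂ → F), Q (Matrix.mulVec (P : Matrix (Fin n) (Fin n) F) ((fun a : Fin 2 × Fin n₂ => x₁ a.1 * x₂ a.2) ∘ e)) = 0)) : ∃ K : Subgroup (Matrix.GeneralLinearGroup (Fin n) F), Cfsg.Geo.tensorProductSubgroup 2 n₂ e P ⊓ Cfsg.Geo.omegaGL Q < K ∧ K < Cfsg.Geo.omegaGL Q := by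
  classical
  have hn5 : 5 ≤ Fintype.card (Fin n) := by rw [Fintype.card_fin]; omega
  have hn₂ : n = 2 * n₂ := by
    have := Fintype.card_congr e
    rwa [Fintype.card_prod, Fintype.card_fin, Fintype.card_fin, Fintype.card_fin] at this
  have hel := eq_zero_or_one_of_card_two hq
  have h20 : (2 : F) = 0 := by
    have := FiniteField.cast_card_eq_zero F
    rw [hq] at this
    exact_mod_cast this
  have hneg : ∀ x : F, -x = x := fun x => by linear_combination (-x) * h20
  set W : Matrix (Fin 2) (Fin 2) F := !![0, 1; 1, 1] with hW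
  set X : Matrix (Fin n) (Fin n) F := (P : Matrix (Fin n) (Fin n) F) *
    (W ⊗ₖ (1 : Matrix (Fin n₂) (Fin n₂) F)).submatrix e e * ((P⁻¹ : GL (Fin n) F) : Matrix (Fin n) (Fin n) F) with hX
  let T : (Fin 2 → F) → (Fin n₂ → F) → (Fin n → F) := fun x y =>
    (P : Matrix (Fin n) (Fin n) F) *ᵥ ((fun a : Fin 2 × Fin n₂ => x a.1 * y a.2) ∘ e)
  have hXT : ∀ x y, X *ᵥ T x y = T (W *ᵥ x) y := fun x y => by
    simp only [T, hX, mulVec_mulVec, mul_assoc, Units.inv_mul, mul_one]
    rw [← mulVec_mulVec, submatrix_mulVec_equiv, Function.comp_assoc, Equiv.self_comp_symm, Function.comp_id]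
    congr 2
    funext ⟨i, j⟩
    simp [mulVec, dotProduct, Fintype.sum_prod_type, Matrix.one_apply, Finset.sum_mul, mul_assoc]
    ring
  obtain ⟨c, hc, hT'⟩ := hT
  have key : ∀ x x' y y', QuadraticMap.polar Q (T x y) (T x' y') = c * (f₁ x x' * f₂ y y') := fun x x' y y' =>
    tensor_form_pure (σ := RingEquiv.refl F) (isSesq_of_bilinear hf₁.bilinear) (isSesq_of_bilinear hf₂.bilinear) hT'
      x x' y y'
  have hb := hQ.polar_bilinear
  -- the adjoint of `X`
  have hadj : ∀ v w, QuadraticMap.polar Q (X *ᵥ v) w = QuadraticMap.polar Q v (X *ᵥ w + w) := by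
    have hpure : ∀ x x' y y', QuadraticMap.polar Q (X *ᵥ T x y) (T x' y') =
        QuadraticMap.polar Q (T x y) (X *ᵥ T x' y' + T x' y') := fun x x' y y' => by
      rw [hXT, hXT, hb.add_right, key, key, key, ← mul_add, ← add_mul]
      congr 2
      have hd : ∀ z : Fin 2 → F, z = z 0 • (Pi.single 0 1 : Fin 2 → F) + z 1 • Pi.single 1 1 := fun z => by
        funext i; fin_cases i <;> simp
      have hexp : ∀ z z' : Fin 2 → F, f₁ z z' = (z 0 * z' 1 - z 1 * z' 0) * f₁ (Pi.single 0 1) (Pi.single 1 1) := by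
        intro z z'
        conv_lhs => rw [hd z, hd z']
        simp only [hf₁.bilinear.add_left, hf₁.bilinear.add_right, hf₁.bilinear.smul_left, hf₁.bilinear.smul_right,
          hf₁.alternating, hf₁.skew (Pi.single 1 1) (Pi.single 0 1)]
        ring
      rw [hexp, hexp x, hexp x x']
      simp [hW, mulVec, dotProduct, Fin.sum_univ_two]
      linear_combination (f₁ (Pi.single 0 1) (Pi.single 1 1) * (x 1 * x' 1 - x 0 * x' 1 - x 0 * x' 0)) * h20
    intro v w
    let Bl : (Fin n → F) →ₗ[F] (Fin n → F) →ₗ[F] F :=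
      LinearMap.mk₂ F (QuadraticMap.polar Q) hb.add_left hb.smul_left hb.add_right hb.smul_right
    have hbasis : ∀ i, ∃ x y, (P : Matrix (Fin n) (Fin n) F) *ᵥ Pi.single i 1 = T x y := fun i => by
      refine ⟨Pi.single (e i).1 1, Pi.single (e i).2 1, ?_⟩
      congr 1
      funext j
      by_cases hj : j = i
      · subst hj; simp
      · have : e j ≠ e i := e.injective.ne hj
        simp only [Function.comp_apply, Pi.single_apply, hj, if_false]
        by_cases h1 : (e j).1 = (e i).1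
        · have h2' : (e j).2 ≠ (e i).2 := fun h' => this (Prod.ext h1 h')
          simp [h2']
        · simp [h1]
    let b := (Pi.basisFun F (Fin n)).map (LinearEquiv.ofBijective (Matrix.toLin' (P : Matrix (Fin n) (Fin n) F))
      ⟨CfsgLib.Aschbacher.mulVec_injective_GL P,
        LinearMap.surjective_of_injective (CfsgLib.Aschbacher.mulVec_injective_GL P)⟩)
    have hbv : ∀ i, b i = (P : Matrix (Fin n) (Fin n) F) *ᵥ Pi.single i 1 := fun i => by
      simp only [b, Module.Basis.map_apply, Pi.basisFun_apply]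
      rfl
    have hE : Bl.compl₁₂ (Matrix.toLin' X) LinearMap.id =
        Bl.compl₁₂ LinearMap.id (Matrix.toLin' X + LinearMap.id) := by
      refine LinearMap.ext_basis b b fun i j => ?_
      obtain ⟨x, y, hxy⟩ := hbasis i
      obtain ⟨x', y', hxy'⟩ := hbasis j
      simp only [hbv, Matrix.toLin'_apply,
        LinearMap.compl₁₂_apply, LinearMap.id_apply, LinearMap.add_apply, Bl, LinearMap.mk₂_apply, hxy, hxy']
      exact hpure x x' y y'
    exact LinearMap.congr_fun (LinearMap.congr_fun hE v) w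
  -- the vectors
  obtain ⟨w₁, hw₁⟩ : ∃ w : Fin n₂ → F, w ≠ 0 :=
    ⟨Pi.single ⟨0, by omega⟩ 1, fun h => by simpa using congrFun h ⟨0, by omega⟩⟩
  let φ : (Fin n₂ → F) → (Fin n₂ → F) →ₗ[F] F := fun w =>
    { toFun := fun z => f₂ w z
      map_add' := fun a b => hf₂.bilinear.add_right _ _ _
      map_smul' := fun s a => hf₂.bilinear.smul_right _ _ _ }
  have hker : n₂ - 1 ≤ Module.finrank F (LinearMap.ker (φ w₁)) := by
    have h1 := LinearMap.finrank_range_add_finrank_ker (φ w₁)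
    have h3 := Submodule.finrank_le (LinearMap.range (φ w₁))
    rw [Module.finrank_fintype_fun_eq_card, Fintype.card_fin] at h1
    rw [Module.finrank_self] at h3
    omega
  obtain ⟨w₂, hw₂, hw₂n⟩ := SetLike.not_le_iff_exists.mp (fun h : LinearMap.ker (φ w₁) ≤ Submodule.span F {w₁} => by
    have := Submodule.finrank_mono h
    rw [finrank_span_singleton hw₁] at this
    omega)
  have h12 : f₂ w₁ w₂ = 0 := hw₂
  have h21 : f₂ w₂ w₁ = 0 := by rw [hf₂.skew, h12, neg_zero]
  have hw₂0 : w₂ ≠ 0 := fun h => hw₂n (h ▸ Submodule.zero_mem _)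
  set e₀ : Fin 2 → F := Pi.single 0 1 with he₀
  set e₁ : Fin 2 → F := Pi.single 1 1 with he₁
  obtain ⟨u, hu⟩ : ∃ u, u = T e₀ w₁ + T e₁ w₂ := ⟨_, rfl⟩
  have hWe₀ : W *ᵥ e₀ = e₁ := by funext i; fin_cases i <;> simp [hW, he₀, he₁]
  have hQ2 : ∀ a b, Q (T a w₁ + T b w₂) = 0 := fun a b => by
    rw [quad_add hQ, key, h12, mul_zero, mul_zero, add_zero,
      show Q (T a w₁) = 0 from hpure a w₁, show Q (T b w₂) = 0 from hpure b w₂, add_zero]
  have hQu : Q u = 0 := by rw [hu]; exact hQ2 _ _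
  have hXu : X *ᵥ u = T (W *ᵥ e₀) w₁ + T (W *ᵥ e₁) w₂ := by rw [hu, mulVec_add, hXT, hXT]
  have hQXu : Q (X *ᵥ u) = 0 := by rw [hXu]; exact hQ2 _ _
  have hpuXu : QuadraticMap.polar Q u (X *ᵥ u) = 0 := by
    rw [hXu, hu, hb.add_left, hb.add_right, hb.add_right, key, key, key, key, hf₂.alternating, hf₂.alternating, h12,
      h21]
    ring
  obtain ⟨g, hg, hgx⟩ := OE.exists_siegel_omega hQ hn5 hQu hpuXu
  have hgx' : ∀ x, (g : Matrix (Fin n) (Fin n) F) *ᵥ x =
      x + QuadraticMap.polar Q x u • (X *ᵥ u) - QuadraticMap.polar Q x (X *ᵥ u) • u := fun x => by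
    rw [hgx, hQXu, zero_mul, add_zero]
  have hcomm : (g : Matrix (Fin n) (Fin n) F) * X = X * (g : Matrix (Fin n) (Fin n) F) := by
    refine Matrix.toLin'.injective (LinearMap.ext fun x => ?_)
    simp only [Matrix.toLin'_apply, ← mulVec_mulVec]
    have hXX : X *ᵥ (X *ᵥ u) = X *ᵥ u + u := by
      simp only [hu, mulVec_add, hXT]
      have hWW : ∀ z : Fin 2 → F, W *ᵥ (W *ᵥ z) = W *ᵥ z + z := fun z => by
        funext i
        fin_cases i <;> simp [hW, mulVec, dotProduct, Fin.sum_univ_two] <;> linear_combination (z 1) * 0 * h20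
      have hTadd : ∀ a b y, T (a + b) y = T a y + T b y := fun a b y => by
        simp only [T, ← mulVec_add]; congr 1; funext l; simp [add_mul]
      rw [hWW, hWW, hTadd, hTadd]
      abel
    rw [hgx', hgx', mulVec_sub, mulVec_add, mulVec_smul, mulVec_smul, hXX, hadj, hadj, hXX, hb.add_right,
      hb.add_right, hb.add_right]
    have hn2 : ∀ z : Fin n → F, z + z = 0 := fun z => by rw [← two_smul F z, h20, zero_smul]
    have hsub : ∀ a b : Fin n → F, a - b = a + b := fun a b => by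
      rw [sub_eq_iff_eq_add, add_assoc, hn2, add_zero]
    simp only [hsub, smul_add, add_smul]
    abel_nf
    simp [two_zsmul, two_nsmul, two_mul, hn2]
  obtain ⟨K, hK, hKG, hKc⟩ := OE.field_of_tensor_two' hq (by omega) e P
    (inf_le_left : Geo.tensorProductSubgroup 2 n₂ e P ⊓ Geo.omegaGL Q ≤ _)
  refine ⟨Geo.subalgebraNormalizer K ⊓ Geo.omegaGL Q, lt_of_le_of_ne (le_inf hKG inf_le_right) ?_,
    lt_of_le_of_ne inf_le_right fun h => OE.not_le_field hQ hn5 le_rfl hK (h ▸ inf_le_left)⟩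
  intro heq
  have hgt : g ∈ Geo.tensorProductSubgroup 2 n₂ e P := (heq ▸ ⟨hKc g hcomm, hg⟩ :
    g ∈ Geo.tensorProductSubgroup 2 n₂ e P ⊓ Geo.omegaGL Q).1
  obtain ⟨a, b, hab⟩ := OE.exists_kron hgt
  have hgT : ∀ x y, (g : Matrix (Fin n) (Fin n) F) *ᵥ T x y =
      T ((a : Matrix (Fin 2) (Fin 2) F) *ᵥ x) ((b : Matrix (Fin n₂) (Fin n₂) F) *ᵥ y) := fun x y => by
    simp only [T, hab, mulVec_mulVec, mul_assoc, Units.inv_mul, mul_one]
    rw [← mulVec_mulVec, submatrix_mulVec_equiv, Function.comp_assoc, Equiv.self_comp_symm, Function.comp_id]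
    congr 2
    funext ⟨i, j⟩
    simp [mulVec, dotProduct, Fintype.sum_prod_type, Finset.sum_mul, Finset.mul_sum, mul_mul_mul_comm,
      ← Finset.sum_add_distrib, add_mul]
  have hTinj : ∀ x y x' y', T x y = T x' y' → ∀ i j, x i * y j = x' i * y' j := fun x y x' y' h i j => by
    have := congrFun (CfsgLib.Aschbacher.mulVec_injective_GL P h) (e.symm (i, j))
    simpa using this
  have hpol : ∀ x y, QuadraticMap.polar Q (T x y) u = c * (f₁ x e₀ * f₂ y w₁) + c * (f₁ x e₁ * f₂ y w₂) ∧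
      QuadraticMap.polar Q (T x y) (X *ᵥ u) =
        c * (f₁ x (W *ᵥ e₀) * f₂ y w₁) + c * (f₁ x (W *ᵥ e₁) * f₂ y w₂) := fun x y => by
    rw [hu, hb.add_right, key, key, mulVec_add, hb.add_right, hXT, hXT, key, key]
    exact ⟨rfl, rfl⟩
  -- the first factor is trivial
  obtain ⟨y, hy1, hy0⟩ : ∃ y, (f₂ y w₁ = 0 ∧ f₂ y w₂ = 0) ∧ y ≠ 0 := by
    obtain ⟨z, hz, hz0⟩ := (LinearMap.ker (φ w₁) ⊓ LinearMap.ker (φ w₂)).ne_bot_iff.mp fun h => by
      have h1 := Submodule.finrank_sup_add_finrank_inf_eq (LinearMap.ker (φ w₁)) (LinearMap.ker (φ w₂))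
      have h2' := Submodule.finrank_le (LinearMap.ker (φ w₁) ⊔ LinearMap.ker (φ w₂))
      have h3 := LinearMap.finrank_range_add_finrank_ker (φ w₂)
      have h4 := Submodule.finrank_le (LinearMap.range (φ w₂))
      rw [Module.finrank_fintype_fun_eq_card, Fintype.card_fin] at h2' h3
      rw [Module.finrank_self] at h4
      rw [h, finrank_bot] at h1
      omega
    exact ⟨z, ⟨by rw [hf₂.skew, show f₂ w₁ z = 0 from hz.1, neg_zero],
      by rw [hf₂.skew, show f₂ w₂ z = 0 from hz.2, neg_zero]⟩, hz0⟩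
  have ha1 : ∀ x, (a : Matrix (Fin 2) (Fin 2) F) *ᵥ x = x := by
    intro x
    have h1 := hgx' (T x y)
    rw [(hpol x y).1, (hpol x y).2, hy1.1, hy1.2, hgT] at h1
    simp only [mul_zero, add_zero, zero_smul, sub_zero] at h1
    have h3 := hTinj _ _ _ _ h1
    obtain ⟨j, hj⟩ := Function.ne_iff.mp hy0
    have hj1 : y j = 1 := (hel (y j)).resolve_left hj
    funext i
    have h4 := h3 i j
    rw [hj1, mul_one] at h4
    rcases hel (((b : Matrix (Fin n₂) (Fin n₂) F) *ᵥ y) j) with h5 | h5 <;> rw [h5] at h4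
    · -- then `x` vanishes
      rw [mul_zero] at h4
      have hx0 : ∀ i, x i = 0 := fun i => by
        have := h3 i j
        rw [h5, mul_zero, hj1, mul_one] at this
        exact this.symm
      have : x = 0 := funext hx0
      rw [this, mulVec_zero]
    · rwa [mul_one] at h4
  obtain ⟨y', hy', hy2⟩ : ∃ y', f₂ y' w₁ = 1 ∧ f₂ y' w₂ = 0 := by
    obtain ⟨z, hz, hz'⟩ := SetLike.not_le_iff_exists.mp (fun h : LinearMap.ker (φ w₂) ≤ LinearMap.ker (φ w₁) => by
      have h3 := LinearMap.finrank_range_add_finrank_ker (φ w₁)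
      have h4 := LinearMap.finrank_range_add_finrank_ker (φ w₂)
      have h5 := Submodule.finrank_le (LinearMap.range (φ w₂))
      rw [Module.finrank_fintype_fun_eq_card, Fintype.card_fin] at h3 h4
      rw [Module.finrank_self] at h5
      obtain ⟨z0, hz0⟩ : ∃ z, φ w₁ z ≠ 0 := by
        obtain ⟨-, z, hz⟩ := hf₂.nondegenerate w₁ hw₁
        exact ⟨z, hz⟩
      have h6 : LinearMap.ker (φ w₂) = LinearMap.ker (φ w₁) := by
        refine Submodule.eq_of_le_of_finrank_le h ?_
        have : 0 < Module.finrank F (LinearMap.range (φ w₁)) := Nat.pos_of_ne_zero fun h0 => hz0 (by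
          have := Submodule.finrank_eq_zero.mp h0
          exact LinearMap.congr_fun (LinearMap.range_eq_bot.mp this) z0)
        omega
      apply hw₂n
      have heq : φ w₂ = φ w₁ := by
        refine LinearMap.ext fun z => ?_
        rcases hel (φ w₁ z) with h7 | h7
        · rw [h7]; exact LinearMap.mem_ker.mp (h6 ▸ LinearMap.mem_ker.mpr h7 : z ∈ LinearMap.ker (φ w₂))
        · rw [h7]
          refine (hel (φ w₂ z)).resolve_left fun h8 => ?_
          have : z ∈ LinearMap.ker (φ w₁) := h6 ▸ LinearMap.mem_ker.mpr h8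
          rw [LinearMap.mem_ker, h7] at this
          exact one_ne_zero this
      have : w₂ = w₁ := by
        by_contra hne
        obtain ⟨-, z, hz⟩ := hf₂.nondegenerate (w₂ - w₁) (sub_ne_zero.mpr hne)
        apply hz
        have e : w₂ - w₁ = w₂ + (-1 : F) • w₁ := by rw [neg_one_smul, sub_eq_add_neg]
        rw [e, hf₂.bilinear.add_left, hf₂.bilinear.smul_left, show f₂ w₂ z = f₂ w₁ z from LinearMap.congr_fun heq z]
        ring
      rw [this]; exact Submodule.mem_span_singleton_self w₁)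
    exact ⟨z, by rw [hf₂.skew, hneg]; exact (hel _).resolve_left hz',
      by rw [hf₂.skew, show f₂ w₂ z = 0 from hz, neg_zero]⟩
  have h1 := hgx' (T e₀ y')
  have hf01 : f₁ e₀ e₁ ≠ 0 := fun h0 => by
    obtain ⟨-, z, hz⟩ := hf₁.nondegenerate e₀ (fun h => by simpa [he₀] using congrFun h 0)
    apply hz
    rw [show z = z 0 • e₀ + z 1 • e₁ by funext i; fin_cases i <;> simp [he₀, he₁], hf₁.bilinear.add_right,
      hf₁.bilinear.smul_right, hf₁.bilinear.smul_right, hf₁.alternating, h0]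
    ring
  rw [(hpol e₀ y').1, (hpol e₀ y').2, hy', hy2, hf₁.alternating, hWe₀, hgT, ha1] at h1
  simp only [mul_zero, zero_mul, add_zero, zero_smul, mul_one] at h1
  rw [(hel c).resolve_left hc, (hel (f₁ e₀ e₁)).resolve_left hf01, one_mul, one_smul, hu] at h1
  obtain ⟨j, hj⟩ := Function.ne_iff.mp hw₂0
  apply hj
  have h2' := congrFun (congrArg (((P⁻¹ : GL (Fin n) F) : Matrix (Fin n) (Fin n) F) *ᵥ ·) h1) (e.symm (1, j))
  simp [T, mulVec_sub, mulVec_add, mulVec_mulVec, he₀, he₁] at h2'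
  exact h2'

end Cfsg.Agent.S5705
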