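import Cfsg.Statements.S5722
import Cfsg.Agent.CompLength.Bound

set_option autoImplicit false
open Cfsg

namespace Cfsg.Agent.S5722

/-- If a finite group G acts faithfully on a finite set with n points and r orbits, then the composition length of G is at most 4(n − r)/3. Here the composition length is expressed through chains: the conclusion bounds the length l of every chain of subgroups 1 = H₀ < H₁ < ⋯ < H_l = G in which each term is normal in the next (the longest such chains are exactly the composition series). -/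
theorem result {G Ω : Type*} [Group G] [Finite G] [MulAction G Ω] [FaithfulSMul G Ω] [Fintype Ω]
    (l : ℕ) (H : Fin (l + 1) → Subgroup G) (h0 : H 0 = ⊥) (hl : H (Fin.last l) = ⊤)
    (hchain : ∀ i : Fin l, H i.castSucc < H i.succ ∧ ((H i.castSucc).subgroupOf (H i.succ)).Normal) :
    3 * l ≤ 4 * (Fintype.card Ω - Nat.card (Quotient (MulAction.orbitRel G Ω))) := by
  classical
  set n := Nat.card Ω with hn
  obtain ⟨e⟩ : Nonempty (Ω ≃ Fin n) := ⟨Finite.equivFin Ω⟩
  let f : G →* Equiv.Perm (Fin n) := e.permCongrHom.toMonoidHom.comp (MulAction.toPermHom G Ω)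
  have hf : Function.Injective f := e.permCongrHom.injective.comp MulAction.toPerm_injective
  have hfa : ∀ (g : G) (x : Ω), (f g) (e x) = e (g • x) := fun g x => by
    simp [f, Equiv.permCongr_apply]
  have hQ : Nat.card (Quotient (MulAction.orbitRel G Ω)) =
      Nat.card (MulAction.orbitRel.Quotient f.range (Fin n)) :=
    Nat.card_congr (Quotient.congr e fun x y => by
      show (MulAction.orbitRel G Ω) x y ↔ (MulAction.orbitRel f.range (Fin n)) (e x) (e y)
      rw [MulAction.orbitRel_apply, MulAction.orbitRel_apply]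
      constructor
      · rintro ⟨g, rfl⟩
        exact ⟨⟨f g, ⟨g, rfl⟩⟩, hfa g y⟩
      · rintro ⟨⟨_, g, rfl⟩, hg⟩
        exact ⟨g, e.injective ((hfa g y).symm.trans hg)⟩)
  have h1 := CfsgLib.CompLength.hyp_all (n + 1) f.range (Fin n) (by rw [Nat.card_fin]; omega)
  have h2 : CfsgLib.CompLength.CLe G (CfsgLib.CompLength.bnd f.range (Fin n)) := by
    refine (h1.congr (MonoidHom.ofInjective (f := MulAction.toPermHom f.range (Fin n)) ?_).symm).congr
      (MonoidHom.ofInjective hf).symm
    intro a b hab
    exact Subtype.ext hab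
  let H' : ℕ → Subgroup G := fun i => if h : i < l + 1 then H ⟨i, h⟩ else ⊤
  have hH' : ∀ i (h : i < l + 1), H' i = H ⟨i, h⟩ := fun i h => dif_pos h
  have h3 := h2 l H' (by rw [hH' l (by omega)]; exact hl) fun i hi => by
    obtain ⟨hlt, hnorm⟩ := hchain ⟨i, hi⟩
    rw [hH' i (by omega), hH' (i + 1) (by omega)]
    exact ⟨hlt.le, (Subgroup.normal_subgroupOf_iff_le_normalizer hlt.le).1 hnorm⟩
  have h4 : CfsgLib.CompLength.steps H' l = l := by
    rw [CfsgLib.CompLength.steps, Finset.filter_true_of_mem, Finset.card_range]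
    intro i hi
    have hi' := Finset.mem_range.1 hi
    rw [hH' i (by omega), hH' (i + 1) (by omega)]
    exact (hchain ⟨i, hi'⟩).1.ne
  rw [h4, CfsgLib.CompLength.bnd, Nat.card_fin, Nat.le_div_iff_mul_le (by norm_num)] at h3
  rw [hQ, ← Nat.card_eq_fintype_card, ← hn]
  omega

end Cfsg.Agent.S5722
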