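import Cfsg.Statements.S5728

set_option autoImplicit false
open Cfsg

namespace Cfsg.Agent.S5728

/-- An elusive transitive action. Let p = 2^s − 1 be a prime and let F be the field with p² elements. Inside the group of affine maps x ↦ a·x + b of F (a ≠ 0), consider the subgroup of maps with both coefficients in the prime field. Then every element of prime order of the affine group is conjugate, within the affine group, to an element of that subgroup; equivalently, in the transitive action of the affine group on the cosets of that subgroup (of degree p(p + 1)) every element of prime order fixes a point. -/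
theorem result (p s : ℕ) [Fact p.Prime] (hs : p = 2 ^ s - 1)
    (g : Equiv.Perm (GaloisField p 2)) (hg : g ∈ Cfsg.affineGroup (GaloisField p 2)) (hord : (orderOf g).Prime) :
    ∃ x ∈ Cfsg.affineGroup (GaloisField p 2), ∃ a b : ZMod p, a ≠ 0 ∧
      ∀ y : GaloisField p 2, (x * g * x⁻¹) y = algebraMap (ZMod p) (GaloisField p 2) a * y + algebraMap (ZMod p) (GaloisField p 2) b := by
  obtain ⟨a, b, hg⟩ := hg
  have hK : Nat.card (GaloisField p 2) = p ^ 2 := GaloisField.card p 2 (by norm_num)
  haveI := Fintype.ofFinite (GaloisField p 2)
  have hp := (Fact.out : p.Prime)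
  rcases eq_or_ne (a : GaloisField p 2) 1 with ha | ha
  · rcases eq_or_ne b 0 with hb | hb
    · exfalso
      have : g = 1 := Equiv.ext fun y => by simp [hg y, ha, hb]
      rw [this, orderOf_one] at hord
      exact Nat.not_prime_one hord
    · refine ⟨⟨fun y => b⁻¹ * y, fun y => b * y, fun y => by simp [hb], fun y => by simp [hb]⟩,
        ⟨Units.mk0 b⁻¹ (inv_ne_zero hb), 0, fun y => by simp⟩, 1, 1, one_ne_zero, fun y => ?_⟩
      simp only [map_one, one_mul, Equiv.Perm.mul_apply]
      change b⁻¹ * g (b * y) = y + 1
      rw [hg, ha, one_mul, mul_add, inv_mul_cancel_left₀ hb, inv_mul_cancel₀ hb]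
  · have ha1 : (1 : GaloisField p 2) - a ≠ 0 := sub_ne_zero.2 (Ne.symm ha)
    set c := b / ((1 : GaloisField p 2) - a) with hc
    have hiter : ∀ k : ℕ, ∀ y : GaloisField p 2, (g ^ k) y = (a : GaloisField p 2) ^ k * (y - c) + c := by
      intro k
      induction k with
      | zero => intro y; simp
      | succ k ih =>
        intro y
        rw [pow_succ', Equiv.Perm.mul_apply, ih, hg, pow_succ']
        have : b = c * ((1 : GaloisField p 2) - a) := by rw [hc, div_mul_cancel₀ _ ha1]
        rw [this]
        ring
    set r := orderOf g with hrdef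
    have har : (a : GaloisField p 2) ^ r = 1 := by
      have h := hiter r (c + 1)
      rw [hrdef, pow_orderOf_eq_one] at h
      rw [Equiv.Perm.one_apply] at h
      linear_combination -h
    have hord' : orderOf (a : GaloisField p 2) = r := by
      haveI := Fact.mk hord
      exact orderOf_eq_prime har ha
    have hdvd : r ∣ (p - 1) * (p + 1) := by
      rw [← hord']
      apply orderOf_dvd_of_pow_eq_one
      have := FiniteField.pow_card_sub_one_eq_one (a : GaloisField p 2) a.ne_zero
      rw [← Nat.card_eq_fintype_card, hK] at this
      rwa [show (p - 1) * (p + 1) = p ^ 2 - 1 by rw [← one_pow 2, Nat.sq_sub_sq, one_pow, mul_comm]]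
    have hr1 : r ∣ p - 1 := by
      rcases hord.dvd_mul.1 hdvd with h | h
      · exact h
      · have h1 : 1 ≤ 2 ^ s := Nat.one_le_two_pow
        have hp1 : p + 1 = 2 ^ s := by omega
        rw [hp1] at h
        have h2 : r = 2 := (Nat.prime_dvd_prime_iff_eq hord Nat.prime_two).1 (hord.dvd_of_dvd_pow h)
        rcases hp.eq_two_or_odd with h2p | hodd
        · exfalso
          rcases s with _ | s
          · simp at hp1; omega
          · rw [pow_succ] at hp1; omega
        · rw [h2]; omega
    have hap : (a : GaloisField p 2) ^ p = a := by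
      obtain ⟨m, hm⟩ := hr1
      have : (a : GaloisField p 2) ^ (p - 1) = 1 := by rw [hm, pow_mul, har, one_pow]
      calc (a : GaloisField p 2) ^ p = (a : GaloisField p 2) ^ (p - 1 + 1) := by
            rw [Nat.sub_add_cancel hp.one_le]
        _ = a := by rw [pow_succ, this, one_mul]
    obtain ⟨a₀, ha₀⟩ : ∃ a₀ : ZMod p, algebraMap (ZMod p) (GaloisField p 2) a₀ = a := by
      have hmem : (a : GaloisField p 2) ∈ (⊥ : Subfield (GaloisField p 2)) :=
        (Subfield.mem_bot_iff_pow_eq_self (GaloisField p 2) p).2 hap
      have hbot : (⊥ : Subfield (GaloisField p 2)) ≤ (algebraMap (ZMod p) (GaloisField p 2)).fieldRange :=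
        bot_le
      exact hbot hmem
    refine ⟨⟨fun y => y - c, fun y => y + c, fun y => by simp, fun y => by simp⟩,
      ⟨1, -c, fun y => by simp [sub_eq_add_neg]⟩, a₀, 0, ?_, fun y => ?_⟩
    · rintro rfl
      rw [map_zero] at ha₀
      exact a.ne_zero ha₀.symm
    · simp only [map_zero, add_zero, ha₀, Equiv.Perm.mul_apply]
      change g (y + c) - c = _
      have h := hiter 1 (y + c)
      rw [pow_one, pow_one] at h
      rw [h]
      ring

end Cfsg.Agent.S5728
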