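import Cfsg.Statements.S5729

set_option autoImplicit false
open Cfsg

namespace Cfsg.Agent.S5729

/-- Let a finite group G act faithfully and transitively on a set with n ≥ 3 points. Then either G is a Frobenius permutation group (Frobenius as a permutation group: transitive, some non-identity element fixes a point, and no non-identity element fixes two points) of order n(n − 1) and exactly |G|/n of its elements are derangements (fix no point), or the number of derangements is greater than |G|/n. -/
theorem result {G Ω : Type*} [Group G] [Finite G] [MulAction G Ω] [FaithfulSMul G Ω] [Fintype Ω] (htr : MulAction.IsPretransitive G Ω) (hn : 3 ≤ Fintype.card Ω) :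
    ((MulAction.IsPretransitive G Ω ∧ (∃ g : G, g ≠ 1 ∧ ∃ ω : Ω, g • ω = ω) ∧ ∀ g : G, g ≠ 1 → Nat.card (MulAction.fixedBy Ω g) ≤ 1) ∧ Nat.card G = Fintype.card Ω * (Fintype.card Ω - 1) ∧ Fintype.card Ω * Nat.card {g : G // ∀ ω : Ω, g • ω ≠ ω} = Nat.card G) ∨
    Nat.card G < Fintype.card Ω * Nat.card {g : G // ∀ ω : Ω, g • ω ≠ ω} := by
  classical
  haveI := htr
  haveI := Fintype.ofFinite G
  set n := Fintype.card Ω with hn'
  let f : G → ℤ := fun g => (Fintype.card (MulAction.fixedBy Ω g) : ℤ)
  have horb1 : Fintype.card (Quotient (MulAction.orbitRel G Ω)) = 1 := by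
    rw [Fintype.card_eq_one_iff]
    obtain ⟨ω⟩ : Nonempty Ω := Fintype.card_pos_iff.1 (by omega)
    refine ⟨Quotient.mk'' ω, fun y => ?_⟩
    induction y using Quotient.inductionOn' with
    | h b => exact Quotient.sound' (MulAction.exists_smul_eq G ω b)
  set r := Fintype.card (Quotient (MulAction.orbitRel G (Ω × Ω))) with hr
  have h1 : ∑ g : G, f g = (Fintype.card G : ℤ) := by
    have := MulAction.sum_card_fixedBy_eq_card_orbits_mul_card_group G Ω
    rw [horb1, one_mul] at this
    simp only [f]
    exact_mod_cast this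
  have h2 : ∑ g : G, f g ^ 2 = (r : ℤ) * Fintype.card G := by
    have := MulAction.sum_card_fixedBy_eq_card_orbits_mul_card_group G (Ω × Ω)
    rw [← hr] at this
    simp only [f]
    rw [show (r : ℤ) * Fintype.card G = ((r * Fintype.card G : ℕ) : ℤ) by push_cast; ring, ← this]
    push_cast
    refine Finset.sum_congr rfl fun g _ => ?_
    rw [sq, ← Nat.cast_mul, ← Fintype.card_prod]
    exact congrArg Nat.cast (Fintype.card_congr
      ⟨fun x => ⟨(x.1.1, x.2.1), Prod.ext x.1.2 x.2.2⟩,
       fun x => (⟨x.1.1, congrArg Prod.fst x.2⟩, ⟨x.1.2, congrArg Prod.snd x.2⟩),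
       fun x => rfl, fun x => rfl⟩)
  obtain ⟨a, b, hab⟩ := Fintype.exists_pair_of_one_lt_card (show 1 < Fintype.card Ω by omega)
  have hne : (Quotient.mk'' (a, a) : Quotient (MulAction.orbitRel G (Ω × Ω))) ≠ Quotient.mk'' (a, b) := by
    intro h
    obtain ⟨g, hg⟩ := Quotient.exact' h
    have e1 : g • a = a := congrArg Prod.fst hg
    have e2 : g • b = a := congrArg Prod.snd hg
    exact hab (smul_left_cancel g (e1.trans e2.symm))
  have hr2 : 2 ≤ r := Fintype.one_lt_card_iff.2 ⟨_, _, hne⟩
  set D := Finset.univ.filter (fun g : G => f g = 0) with hD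
  have hDcard : Nat.card {g : G // ∀ ω : Ω, g • ω ≠ ω} = D.card := by
    rw [Nat.card_eq_fintype_card, Fintype.card_subtype]
    congr 1
    ext g
    simp [hD, f, Fintype.card_eq_zero_iff, isEmpty_subtype, MulAction.mem_fixedBy]
  have hfn : ∀ g, f g ≤ n := fun g => Nat.cast_le.2 (set_fintype_card_le_univ _)
  have hnn : ∀ g ∈ Finset.univ.filter (fun g : G => ¬ f g = 0), 0 ≤ (f g - 1) * ((n : ℤ) - f g) := by
    intro g hg
    have h0 : 0 ≤ f g := Nat.cast_nonneg _
    have : f g ≠ 0 := (Finset.mem_filter.1 hg).2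
    exact mul_nonneg (by omega) (by linarith [hfn g])
  have key : (∑ g ∈ Finset.univ.filter (fun g : G => ¬ f g = 0), (f g - 1) * ((n : ℤ) - f g))
      = (n : ℤ) * D.card - ((r : ℤ) - 1) * Fintype.card G := by
    have hall : ∑ g : G, (f g - 1) * ((n : ℤ) - f g) = -((r : ℤ) - 1) * Fintype.card G := by
      have : ∀ g, (f g - 1) * ((n : ℤ) - f g) = ((n : ℤ) + 1) * f g - f g ^ 2 - n := fun g => by ring
      simp only [this, Finset.sum_sub_distrib, ← Finset.mul_sum, h1, h2, Finset.sum_const,
        Finset.card_univ, nsmul_eq_mul]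
      ring
    rw [← Finset.sum_filter_add_sum_filter_not Finset.univ (fun g => f g = 0), ← hD] at hall
    have hDs : ∑ g ∈ D, (f g - 1) * ((n : ℤ) - f g) = -(n : ℤ) * D.card := by
      rw [Finset.sum_congr rfl (fun g hg => by rw [(Finset.mem_filter.1 hg).2]),
        Finset.sum_const, nsmul_eq_mul]
      ring
    linarith
  have hG : (0 : ℤ) < Fintype.card G := Nat.cast_pos.2 Fintype.card_pos
  have hsum := Finset.sum_nonneg hnn
  rw [key] at hsum
  rw [hDcard, Nat.card_eq_fintype_card]
  by_cases hlt : Fintype.card G < n * D.card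
  · exact Or.inr hlt
  left
  have hge : (n : ℤ) * D.card ≤ Fintype.card G := by exact_mod_cast not_lt.1 hlt
  have hr' : (2 : ℤ) ≤ r := by exact_mod_cast hr2
  have hr2' : (r : ℤ) = 2 := by nlinarith
  have heq : (n : ℤ) * D.card = Fintype.card G := by rw [hr2'] at hsum; linarith
  have hzero : ∀ g, ¬ f g = 0 → (f g - 1) * ((n : ℤ) - f g) = 0 := fun g hg =>
    (Finset.sum_eq_zero_iff_of_nonneg hnn).1 (by rw [key, hr2', heq]; ring) g (by simp [hg])
  have hle1 : ∀ g : G, g ≠ 1 → Nat.card (MulAction.fixedBy Ω g) ≤ 1 := by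
    intro g hg
    rw [Nat.card_eq_fintype_card]
    by_cases h0 : f g = 0
    · have h0' : Fintype.card (MulAction.fixedBy Ω g) = 0 := Nat.cast_eq_zero.1 h0
      omega
    rcases mul_eq_zero.1 (hzero g h0) with h | h
    · have : (Fintype.card (MulAction.fixedBy Ω g) : ℤ) = 1 := by linarith
      omega
    · exfalso
      have hc : Fintype.card (MulAction.fixedBy Ω g) = n := by
        have : (Fintype.card (MulAction.fixedBy Ω g) : ℤ) = n := by linarith
        omega
      refine hg (eq_of_smul_eq_smul (α := Ω) fun x => ?_)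
      rw [one_smul]
      exact (Set.eq_univ_iff_forall.1 ((set_fintype_card_eq_univ_iff (MulAction.fixedBy Ω g)).1 hc) x)
  have hrep : ∀ c d : Ω, c ≠ d → ∃ g : G, g • (a, b) = (c, d) := by
    intro c d hcd
    have h3 : (Quotient.mk'' (c, d) : Quotient (MulAction.orbitRel G (Ω × Ω))) = Quotient.mk'' (a, b) := by
      have hcard : Fintype.card (Quotient (MulAction.orbitRel G (Ω × Ω))) = 2 := by
        rw [← hr]; exact_mod_cast hr2'
      by_contra hne'
      have hsub : ({Quotient.mk'' (a, a), Quotient.mk'' (a, b), Quotient.mk'' (c, d)} :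
          Finset (Quotient (MulAction.orbitRel G (Ω × Ω)))).card = 3 := by
        refine Finset.card_eq_three.2 ⟨_, _, _, hne, ?_, Ne.symm hne', rfl⟩
        intro h
        obtain ⟨g, hg⟩ := Quotient.exact' h.symm
        exact hcd ((congrArg Prod.fst hg).symm.trans (congrArg Prod.snd hg))
      have := Finset.card_le_univ ({Quotient.mk'' (a, a), Quotient.mk'' (a, b), Quotient.mk'' (c, d)} :
          Finset (Quotient (MulAction.orbitRel G (Ω × Ω))))
      omega
    exact Quotient.exact' h3
  have hcardG : Fintype.card G = n * (n - 1) := by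
    let φ : G → {x : Ω × Ω // x.1 ≠ x.2} := fun g => ⟨(g • a, g • b), fun h => hab (smul_left_cancel g h)⟩
    have hinj : Function.Injective φ := by
      intro g h hgh
      have e := congrArg Subtype.val hgh
      by_contra hne'
      have hne1 : h⁻¹ * g ≠ 1 := fun h1 => hne' (inv_mul_eq_one.1 h1).symm
      have h2le := hle1 _ hne1
      have ha : a ∈ MulAction.fixedBy Ω (h⁻¹ * g) := by
        have : g • a = h • a := congrArg Prod.fst e
        simp [MulAction.mem_fixedBy, mul_smul, this]
      have hb : b ∈ MulAction.fixedBy Ω (h⁻¹ * g) := by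
        have : g • b = h • b := congrArg Prod.snd e
        simp [MulAction.mem_fixedBy, mul_smul, this]
      rw [Nat.card_eq_fintype_card, Fintype.card_le_one_iff] at h2le
      exact hab (congrArg Subtype.val (h2le ⟨a, ha⟩ ⟨b, hb⟩))
    have hsurj : Function.Surjective φ := fun x => by
      obtain ⟨g, hg⟩ := hrep x.1.1 x.1.2 x.2
      exact ⟨g, Subtype.ext hg⟩
    rw [Fintype.card_congr (Equiv.ofBijective φ ⟨hinj, hsurj⟩), Fintype.card_subtype]
    have : (Finset.univ.filter fun x : Ω × Ω => x.1 ≠ x.2) = (Finset.univ : Finset Ω).offDiag := by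
      ext x; simp
    rw [this, Finset.offDiag_card, Finset.card_univ, ← hn', Nat.mul_sub, mul_one]
  refine ⟨⟨htr, ?_, hle1⟩, hcardG, by exact_mod_cast heq⟩
  obtain ⟨c, d, hcd, hca, hda⟩ : ∃ c d : Ω, c ≠ d ∧ c ≠ a ∧ d ≠ a := by
    have hcard : 1 < (Finset.univ.erase a).card := by
      rw [Finset.card_erase_of_mem (Finset.mem_univ a), Finset.card_univ]
      omega
    obtain ⟨c, hc, d, hd, hcd⟩ := Finset.one_lt_card.1 hcard
    exact ⟨c, d, hcd, Finset.ne_of_mem_erase hc, Finset.ne_of_mem_erase hd⟩
  rcases eq_or_ne c b with rfl | hcb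
  · obtain ⟨g, hg⟩ := hrep a d hda.symm
    refine ⟨g, ?_, a, congrArg Prod.fst hg⟩
    rintro rfl
    exact hcd (by simpa using congrArg Prod.snd hg)
  · obtain ⟨g, hg⟩ := hrep a c hca.symm
    refine ⟨g, ?_, a, congrArg Prod.fst hg⟩
    rintro rfl
    exact hcb (by simpa using (congrArg Prod.snd hg).symm)

end Cfsg.Agent.S5729
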