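import Cfsg.Statements.S5730
import Cfsg.Agent.DerangeTwo.Bound

set_option autoImplicit false
open Cfsg

namespace Cfsg.Agent.S5730

/-- Let a finite group G act faithfully and transitively on a set with n ≥ 7 points. Then either G is a Frobenius permutation group (Frobenius as a permutation group: transitive, some non-identity element fixes a point, and no non-identity element fixes two points) of order n(n − 1)/a with a ∈ {1, 2}, in which case exactly a|G|/n of its elements are derangements, or the number of derangements is at least 2|G|/n. (Equality does occur: PSL₃(2) acting on the 7 points of the Fano plane has exactly 2|G|/7 derangements.) -/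
theorem result {G Ω : Type*} [Group G] [Finite G] [MulAction G Ω] [FaithfulSMul G Ω] [Fintype Ω] (htr : MulAction.IsPretransitive G Ω) (hn : 7 ≤ Fintype.card Ω) :
    (∃ a : ℕ, (a = 1 ∨ a = 2) ∧ (MulAction.IsPretransitive G Ω ∧ (∃ g : G, g ≠ 1 ∧ ∃ ω : Ω, g • ω = ω) ∧ ∀ g : G, g ≠ 1 → Nat.card (MulAction.fixedBy Ω g) ≤ 1) ∧ a * Nat.card G = Fintype.card Ω * (Fintype.card Ω - 1) ∧ Fintype.card Ω * Nat.card {g : G // ∀ ω : Ω, g • ω ≠ ω} = a * Nat.card G) ∨
    2 * Nat.card G ≤ Fintype.card Ω * Nat.card {g : G // ∀ ω : Ω, g • ω ≠ ω} := by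
  classical
  haveI := htr
  haveI := Fintype.ofFinite G
  set n := Fintype.card Ω with hn'
  let f : G → ℚ := fun g => (DerangeTwo.nfix G Ω g : ℚ)
  have hf : ∀ g, DerangeTwo.nfix G Ω g = Fintype.card (MulAction.fixedBy Ω g) := fun g =>
    Nat.card_eq_fintype_card
  have horb1 : Fintype.card (Quotient (MulAction.orbitRel G Ω)) = 1 := by
    rw [Fintype.card_eq_one_iff]
    obtain ⟨ω⟩ : Nonempty Ω := Fintype.card_pos_iff.1 (by omega)
    refine ⟨Quotient.mk'' ω, fun y => ?_⟩
    induction y using Quotient.inductionOn' with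
    | h b => exact Quotient.sound' (MulAction.exists_smul_eq G ω b)
  set r := Fintype.card (Quotient (MulAction.orbitRel G (Ω × Ω))) with hr
  have h1 : ∑ g : G, f g = (Fintype.card G : ℚ) := by
    have := MulAction.sum_card_fixedBy_eq_card_orbits_mul_card_group G Ω
    rw [horb1, one_mul] at this
    simp only [f, hf]
    exact_mod_cast this
  have h2 : ∑ g : G, f g ^ 2 = (r : ℚ) * Fintype.card G := by
    have := MulAction.sum_card_fixedBy_eq_card_orbits_mul_card_group G (Ω × Ω)
    rw [← hr] at this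
    simp only [f, hf]
    rw [show (r : ℚ) * Fintype.card G = ((r * Fintype.card G : ℕ) : ℚ) by push_cast; ring, ← this]
    push_cast
    refine Finset.sum_congr rfl fun g _ => ?_
    rw [sq, ← Nat.cast_mul, ← Fintype.card_prod]
    exact congrArg Nat.cast (Fintype.card_congr
      ⟨fun x => ⟨(x.1.1, x.2.1), Prod.ext x.1.2 x.2.2⟩,
       fun x => (⟨x.1.1, congrArg Prod.fst x.2⟩, ⟨x.1.2, congrArg Prod.snd x.2⟩),
       fun x => rfl, fun x => rfl⟩)
  obtain ⟨a, b, hab⟩ := Fintype.exists_pair_of_one_lt_card (show 1 < Fintype.card Ω by omega)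
  have hne : (Quotient.mk'' (a, a) : Quotient (MulAction.orbitRel G (Ω × Ω))) ≠
      Quotient.mk'' (a, b) := by
    intro h
    obtain ⟨g, hg⟩ := Quotient.exact' h
    have e1 : g • a = a := congrArg Prod.fst hg
    have e2 : g • b = a := congrArg Prod.snd hg
    exact hab (smul_left_cancel g (e1.trans e2.symm))
  have hr2 : 2 ≤ r := Fintype.one_lt_card_iff.2 ⟨_, _, hne⟩
  set D := Finset.univ.filter (fun g : G => f g = 0) with hD
  have hDcard : Nat.card {g : G // ∀ ω : Ω, g • ω ≠ ω} = D.card := by
    rw [Nat.card_eq_fintype_card, Fintype.card_subtype]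
    congr 1
    ext g
    simp [hD, f, hf, Fintype.card_eq_zero_iff, isEmpty_subtype, MulAction.mem_fixedBy]
  set Q := ∑ g : G, (f g - 1) * ((n : ℚ) - f g) * (if f g = 0 then 0 else 1) with hQdef
  have key : (n : ℚ) * D.card = Q + ((r : ℚ) - 1) * Fintype.card G := by
    have hall : ∑ g : G, (f g - 1) * ((n : ℚ) - f g) = -((r : ℚ) - 1) * Fintype.card G := by
      have : ∀ g, (f g - 1) * ((n : ℚ) - f g) = ((n : ℚ) + 1) * f g - f g ^ 2 - n := fun g => by ring
      simp only [this, Finset.sum_sub_distrib, ← Finset.mul_sum, h1, h2, Finset.sum_const,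
        Finset.card_univ, nsmul_eq_mul]
      ring
    have hpt : ∀ g, (f g - 1) * ((n : ℚ) - f g) =
        (f g - 1) * ((n : ℚ) - f g) * (if f g = 0 then 0 else 1) +
          (if f g = 0 then -(n : ℚ) else 0) := fun g => by
      split_ifs with h
      · rw [h]; ring
      · ring
    rw [Finset.sum_congr rfl fun g _ => hpt g, Finset.sum_add_distrib, ← hQdef,
      ← Finset.sum_filter, ← hD, Finset.sum_const, nsmul_eq_mul] at hall
    linarith
  have hfn : ∀ g, f g ≤ n := fun g => by
    simp only [f, hf]; exact Nat.cast_le.2 (set_fintype_card_le_univ _)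
  have hQ0 : 0 ≤ Q := Finset.sum_nonneg fun g _ => by
    split_ifs with h
    · simp
    · have h0 : (1 : ℚ) ≤ f g := by
        simp only [f] at h ⊢
        exact_mod_cast Nat.one_le_iff_ne_zero.2 (by exact_mod_cast h)
      rw [mul_one]; exact mul_nonneg (by linarith) (by linarith [hfn g])
  have hG : (0 : ℚ) < Fintype.card G := Nat.cast_pos.2 Fintype.card_pos
  have hright : 2 * (Fintype.card G : ℚ) ≤ n * D.card →
      2 * Nat.card G ≤ n * Nat.card {g : G // ∀ ω : Ω, g • ω ≠ ω} := fun h => by
    rw [hDcard, Nat.card_eq_fintype_card]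
    exact_mod_cast h
  by_cases hr3 : 3 ≤ r
  · right
    apply hright
    have : (3 : ℚ) ≤ r := by exact_mod_cast hr3
    nlinarith
  have hr2' : r = 2 := by omega
  have htwo : DerangeTwo.TwoTrans G Ω := by
    intro p q c d hpq hcd
    have h3 : ∀ u v : Ω, u ≠ v →
        (Quotient.mk'' (u, v) : Quotient (MulAction.orbitRel G (Ω × Ω))) = Quotient.mk'' (a, b) := by
      intro u v huv
      by_contra hne'
      have hsub : ({Quotient.mk'' (a, a), Quotient.mk'' (a, b), Quotient.mk'' (u, v)} :
          Finset (Quotient (MulAction.orbitRel G (Ω × Ω)))).card = 3 := by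
        refine Finset.card_eq_three.2 ⟨_, _, _, hne, ?_, Ne.symm hne', rfl⟩
        intro h
        obtain ⟨g, hg⟩ := Quotient.exact' h.symm
        exact huv ((congrArg Prod.fst hg).symm.trans (congrArg Prod.snd hg))
      have := Finset.card_le_univ ({Quotient.mk'' (a, a), Quotient.mk'' (a, b),
          Quotient.mk'' (u, v)} : Finset (Quotient (MulAction.orbitRel G (Ω × Ω))))
      omega
    obtain ⟨g, hg⟩ := Quotient.exact' ((h3 c d hcd).trans (h3 p q hpq).symm)
    exact ⟨g, congrArg Prod.fst hg, congrArg Prod.snd hg⟩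
  -- double counting over ordered pairs of distinct points
  have hdc : ∀ φ : G → ℚ, ∑ g : G, φ g * (f g * (f g - 1)) =
      ∑ p ∈ (Finset.univ : Finset Ω).offDiag, ∑ g : DerangeTwo.pairStab G p.1 p.2, φ (g : G) := by
    intro φ
    have hcard : ∀ g : G, f g * (f g - 1) =
        (((Finset.univ : Finset Ω).offDiag.filter
          fun p => g • p.1 = p.1 ∧ g • p.2 = p.2).card : ℚ) := by
      intro g
      have e : ((Finset.univ : Finset Ω).offDiag.filter fun p => g • p.1 = p.1 ∧ g • p.2 = p.2) =
          (Finset.univ.filter fun x : Ω => g • x = x).offDiag := by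
        ext p; simp; tauto
      have e2 : DerangeTwo.nfix G Ω g = (Finset.univ.filter fun x : Ω => g • x = x).card := by
        rw [hf, Fintype.card_subtype]; simp [MulAction.mem_fixedBy]
      rw [e, Finset.offDiag_card, Nat.cast_sub (Nat.le_mul_self _), Nat.cast_mul]
      simp only [f, e2]; ring
    simp only [hcard, Finset.card_filter, Nat.cast_sum, Finset.mul_sum]
    rw [Finset.sum_comm]
    refine Finset.sum_congr rfl fun p _ => ?_
    rw [← Finset.sum_subtype (Finset.univ.filter fun g : G => g • p.1 = p.1 ∧ g • p.2 = p.2)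
      (fun g => by simp [DerangeTwo.mem_pairStab]) φ, Finset.sum_filter]
    refine Finset.sum_congr rfl fun g _ => ?_
    split_ifs <;> simp
  have hone : (Fintype.card G : ℚ) = ∑ g : G, (1 : ℚ) * (f g * (f g - 1)) := by
    have : ∀ g, (1 : ℚ) * (f g * (f g - 1)) = f g ^ 2 - f g := fun g => by ring
    simp only [this, Finset.sum_sub_distrib, h1, h2, hr2']
    push_cast; ring
  by_cases hk : ∃ p q : Ω, p ≠ q ∧ DerangeTwo.pairStab G p q ≠ ⊥
  · right
    apply hright
    obtain ⟨p, q, hpq, hK⟩ := hk
    have hk2 : ∀ u v : Ω, u ≠ v → 2 ≤ Fintype.card (DerangeTwo.pairStab G u v) := fun u v huv => by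
      rw [← Nat.card_eq_fintype_card, DerangeTwo.pairStab_card_eq htwo hpq huv]
      exact (Subgroup.one_lt_card_iff_ne_bot _).2 hK
    have hQ : Q = ∑ g : G, (((n : ℚ) - f g) / f g) * (f g * (f g - 1)) := by
      refine Finset.sum_congr rfl fun g _ => ?_
      split_ifs with h
      · rw [h]; simp
      · field_simp
    have hQ1 : (Fintype.card G : ℚ) ≤ Q := by
      rw [hQ, hdc, hone, hdc]
      refine Finset.sum_le_sum fun u hu => ?_
      have huv := (Finset.mem_offDiag.1 hu).2.2
      have hb := DerangeTwo.sum_pair_bound htwo hn huv _ rfl (hk2 _ _ huv)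
      have hpt : ∀ g : DerangeTwo.pairStab G u.1 u.2,
          ((n : ℚ) - f g) / f g = (n : ℚ) / DerangeTwo.nfix G Ω (g : G) - 1 := fun g => by
        have : f g ≠ 0 := by
          simp only [f, Nat.cast_ne_zero, hf, ← pos_iff_ne_zero]
          exact Fintype.card_pos_iff.2 ⟨⟨u.1, (DerangeTwo.mem_pairStab.1 g.2).1⟩⟩
        rw [sub_div, div_self this]
      rw [Finset.sum_congr rfl fun g _ => hpt g, Finset.sum_sub_distrib]
      simp only [Finset.sum_const, Finset.card_univ, nsmul_eq_mul, mul_one]
      linarith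
    rw [hr2'] at key
    push_cast at key
    linarith
  left
  push_neg at hk
  have hle1 : ∀ g : G, g ≠ 1 → Nat.card (MulAction.fixedBy Ω g) ≤ 1 := by
    intro g hg
    rw [Nat.card_eq_fintype_card]
    by_contra hc
    obtain ⟨⟨p, hp⟩, ⟨q, hq⟩, hpq⟩ := Fintype.exists_pair_of_one_lt_card (not_le.1 hc)
    have h3 : g ∈ DerangeTwo.pairStab G p q := DerangeTwo.mem_pairStab.2 ⟨hp, hq⟩
    rw [hk p q (fun e => hpq (Subtype.ext e))] at h3
    exact hg (Subgroup.mem_bot.1 h3)
  have hterm : ∀ g : G, g ≠ 1 → f g = 0 ∨ f g = 1 := fun g hg => by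
    have := hle1 g hg
    rw [Nat.card_eq_fintype_card, ← hf] at this
    simp only [f]
    rcases Nat.le_one_iff_eq_zero_or_eq_one.1 this with e | e <;> simp [e]
  have hf1 : f (1 : G) = n := by simp [f, hf, hn']
  have hcardG : (Fintype.card G : ℚ) = n * (n - 1) := by
    rw [hone, Finset.sum_eq_single (1 : G)]
    · rw [hf1]; ring
    · intro g _ hg
      rcases hterm g hg with e | e <;> rw [e] <;> simp
    · simp
  have hQz : Q = 0 := Finset.sum_eq_zero fun g _ => by
    by_cases hg : g = 1
    · subst hg; rw [hf1]; simp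
    · rcases hterm g hg with e | e <;> rw [e] <;> simp
  refine ⟨1, Or.inl rfl, ⟨htr, ?_, hle1⟩, ?_, ?_⟩
  · obtain ⟨c, hc⟩ : ∃ c : Ω, c ∉ ({a, b} : Finset Ω) := by
      by_contra hc
      push_neg at hc
      have h3 := Finset.card_le_card (fun x _ => hc x : (Finset.univ : Finset Ω) ⊆ {a, b})
      have := Finset.card_le_two (a := a) (b := b)
      rw [Finset.card_univ] at h3
      omega
    simp only [Finset.mem_insert, Finset.mem_singleton, not_or] at hc
    obtain ⟨g, g1, g2⟩ := htwo a b a c hab (Ne.symm hc.1)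
    exact ⟨g, fun e => hc.2 (by rw [← g2, e, one_smul]), a, g1⟩
  · rw [one_mul, Nat.card_eq_fintype_card]
    have h3 : ((Fintype.card G : ℕ) : ℚ) = ((n * (n - 1) : ℕ) : ℚ) := by
      rw [Nat.cast_mul, Nat.cast_sub (by omega : 1 ≤ n), Nat.cast_one]; exact hcardG
    exact_mod_cast h3
  · rw [hDcard, one_mul, Nat.card_eq_fintype_card]
    rw [hr2', hQz] at key
    push_cast at key
    exact_mod_cast (by linarith : (n : ℚ) * D.card = Fintype.card G)

end Cfsg.Agent.S5730
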