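import Cfsg.Statements.S5737
import Cfsg.Agent.Suzuki.Binary.Main
import Cfsg.Agent.Suzuki.LieModel
-- import your own Cfsg.Agent.* helpers here

set_option autoImplicit false
open Cfsg

namespace Cfsg.Agent.S5737

/-- Let G = Sz(q) be a Suzuki group, q = 2^(2a+1) with a ≥ 1 (realised inside Sp₄ over the field with q elements), and let H be a proper subgroup of G. Then the action of G on the cosets of H is binary if and only if H is trivial or H is the centre of a Sylow 2-subgroup of G. Here an action is binary (relational complexity 2) when, for every n ≥ 2 and all n-tuples I, J of points, if for every pair of positions some group element carries the corresponding pair of entries of I to those of J, then a single group element carries I to J. -/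
theorem result {F : Type*} [Field F] [Fintype F] (a : ℕ) (ha : 1 ≤ a) (hF : Fintype.card F = 2 ^ (2 * a + 1))
    (H : Subgroup (Cfsg.Lie.Sz F (2 ^ (a + 1)))) (hH : H ≠ ⊤) :
    (∀ (n : ℕ) (I J : Fin n → (Cfsg.Lie.Sz F (2 ^ (a + 1))) ⧸ H), 2 ≤ n →
        (∀ i j : Fin n, i ≠ j → ∃ g : (Cfsg.Lie.Sz F (2 ^ (a + 1))), g • I i = J i ∧ g • I j = J j) → ∃ g : (Cfsg.Lie.Sz F (2 ^ (a + 1))), ∀ i, g • I i = J i) ↔
      (H = ⊥ ∨ ∃ P : Sylow 2 (Cfsg.Lie.Sz F (2 ^ (a + 1))), H = (Subgroup.center (P : Subgroup (Cfsg.Lie.Sz F (2 ^ (a + 1))))).map (P : Subgroup (Cfsg.Lie.Sz F (2 ^ (a + 1)))).subtype) := by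
  have h := CfsgLib.Suzuki.isSzField_of_card ha hF
  let e := CfsgLib.Suzuki.lieEquiv h
  have hsurj : Function.Surjective e.toMonoidHom := e.surjective
  have hsurj' : Function.Surjective e.symm.toMonoidHom := e.symm.surjective
  have hback : (H.comap e.toMonoidHom).map e.toMonoidHom = H :=
    Subgroup.map_comap_eq_self_of_surjective hsurj H
  have hne : H.comap e.toMonoidHom ≠ ⊤ := fun e' => hH (by
    rw [← hback, e', Subgroup.map_top_of_surjective _ hsurj])
  refine (CfsgLib.Suzuki.isBinaryCosets_comap_iff (H := H) e).symm.trans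
    ((CfsgLib.Suzuki.isBinaryCosets_iff h hne).trans (or_congr ?_ ?_))
  · refine ⟨fun e' => ?_, fun e' => ?_⟩
    · rw [← hback, e', Subgroup.map_bot]
    · rw [e']; exact (MonoidHom.comap_bot _).trans (MonoidHom.ker_eq_bot_iff _ |>.2 e.injective)
  · constructor
    · rintro ⟨c, hc⟩
      refine ⟨(c • CfsgLib.Suzuki.unipSylow h).mapSurjective hsurj, ?_⟩
      rw [← hback, hc]
      show _ = (Subgroup.center (Subgroup.map e.toMonoidHom (CfsgLib.Suzuki.conjBy c
        (CfsgLib.Suzuki.unip h)))).map (Subgroup.map e.toMonoidHom (CfsgLib.Suzuki.conjBy c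
        (CfsgLib.Suzuki.unip h))).subtype
      rw [CfsgLib.Suzuki.map_center_map _ e.injective,
        CfsgLib.Suzuki.map_center_map _ (MulAut.conj c).injective]
    · rintro ⟨P, hP⟩
      obtain ⟨c, hc⟩ := CfsgLib.Suzuki.sylow_eq_conj h (P.mapSurjective hsurj')
      refine ⟨c, ?_⟩
      have e1 : (P : Subgroup _).comap e.toMonoidHom = CfsgLib.Suzuki.conjBy c
          (CfsgLib.Suzuki.unip h) := by
        exact (Subgroup.comap_equiv_eq_map_symm e _).trans hc
      rw [hP]
      show _ = ((Subgroup.center (CfsgLib.Suzuki.unip h)).map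
        (CfsgLib.Suzuki.unip h).subtype).map (MulAut.conj c).toMonoidHom
      rw [← CfsgLib.Suzuki.map_center_map (CfsgLib.Suzuki.unip h)
        (f := (MulAut.conj c).toMonoidHom) (MulAut.conj c).injective]
      have e2 : (P : Subgroup _) = ((P : Subgroup _).comap e.toMonoidHom).map e.toMonoidHom :=
        (Subgroup.map_comap_eq_self_of_surjective hsurj _).symm
      rw [e2, CfsgLib.Suzuki.map_center_map _ e.injective,
        Subgroup.comap_map_eq_self_of_injective e.injective, e1]

end Cfsg.Agent.S5737
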