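import Cfsg.Statements.S5738

set_option autoImplicit false
open Cfsg

namespace Cfsg.Agent.S5738

/-- Let F ⊆ K be finite fields with |F| = q and [K : F] = n ≥ 2, so |K| = q^n. Regard K as an n-dimensional F-vector space; the multiplications by non-zero elements of K form a cyclic subgroup of GL_F(K) of order q^n − 1 acting regularly on the non-zero vectors (a Singer group). Its normaliser in GL_F(K) has order n·(q^n − 1). -/
theorem result {F K : Type*} [Field F] [Fintype F] [Field K] [Fintype K] [Algebra F K] (n : ℕ) (hn : 2 ≤ n) (hdim : Module.finrank F K = n) :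
    Nat.card (Subgroup.normalizer (((Units.map ((Algebra.lmul F K : K →ₐ[F] Module.End F K) : K →* Module.End F K)).range : Subgroup (Module.End F K)ˣ) : Set (Module.End F K)ˣ)) = n * (Fintype.card K - 1) := by
  classical
  let μ : K →ₐ[F] Module.End F K := Algebra.lmul F K
  let R : Subgroup (Module.End F K)ˣ := (Units.map (μ : K →* Module.End F K)).range
  change Nat.card (Subgroup.normalizer (R : Set (Module.End F K)ˣ)) = _
  have hR : ∀ (c : Kˣ) (x : K), ((Units.map (μ : K →* Module.End F K) c : (Module.End F K)ˣ) : Module.End F K) x = (c : K) * x :=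
    fun c x => rfl
  let e : Kˣ × (K ≃ₐ[F] K) → (Module.End F K)ˣ := fun p =>
    Units.map (μ : K →* Module.End F K) p.1 *
      ⟨p.2.toLinearMap, p.2.symm.toLinearMap, by ext x; simp, by ext x; simp⟩
  have he : ∀ p (x : K), ((e p : (Module.End F K)ˣ) : Module.End F K) x = (p.1 : K) * p.2 x := fun p x => rfl
  have hmem : ∀ p, e p ∈ Subgroup.normalizer (R : Set (Module.End F K)ˣ) := by
    intro p
    rw [Subgroup.mem_normalizer_iff]
    have key : ∀ c : Kˣ, e p * Units.map (μ : K →* Module.End F K) c =
        Units.map (μ : K →* Module.End F K) (Units.map (p.2 : K →* K) c) * e p := by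
      intro c
      ext x
      change ((e p : (Module.End F K)ˣ) : Module.End F K) ((c : K) * x) = (p.2 (c : K)) * ((e p : (Module.End F K)ˣ) : Module.End F K) x
      rw [he, he, map_mul]
      ring
    intro h
    constructor
    · rintro ⟨c, rfl⟩
      exact ⟨Units.map (p.2 : K →* K) c, by rw [key, mul_inv_cancel_right]⟩
    · rintro ⟨c, hc⟩
      refine ⟨Units.map (p.2.symm : K →* K) c, ?_⟩
      have h1 := key (Units.map (p.2.symm : K →* K) c)
      have h2 : Units.map (p.2 : K →* K) (Units.map (p.2.symm : K →* K) c) = c := by ext; simp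
      rw [h2, hc, inv_mul_cancel_right] at h1
      exact mul_left_cancel h1
  have hinj : Function.Injective e := by
    intro p p' h
    have h1 : ∀ x : K, (p.1 : K) * p.2 x = (p'.1 : K) * p'.2 x := fun x => by rw [← he, ← he, h]
    have h2 : p.1 = p'.1 := Units.ext (by simpa using h1 1)
    refine Prod.ext h2 (AlgEquiv.ext fun x => mul_left_cancel₀ p.1.ne_zero ?_)
    simpa [h2] using h1 x
  have hsurj : ∀ g ∈ Subgroup.normalizer (R : Set (Module.End F K)ˣ), ∃ p, e p = g := by
    intro g hg
    have hg1 : ((g : Module.End F K) 1) ≠ 0 := by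
      intro h
      have : (1 : K) = ((g⁻¹ * g : (Module.End F K)ˣ) : Module.End F K) 1 := by simp
      rw [Units.val_mul, Module.End.mul_apply, h, map_zero] at this
      exact one_ne_zero this
    have hex : ∀ k : K, ∃ k' : K, ∀ x, (g : Module.End F K) (k * x) = k' * (g : Module.End F K) x := by
      intro k
      rcases eq_or_ne k 0 with rfl | hk
      · exact ⟨0, fun x => by simp⟩
      obtain ⟨c, hc⟩ := (Subgroup.mem_normalizer_iff.1 hg (Units.map (μ : K →* Module.End F K) (Units.mk0 k hk))).1 ⟨_, rfl⟩
      refine ⟨c, fun x => ?_⟩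
      have h1 := congrArg (fun u : (Module.End F K)ˣ => ((u * g : (Module.End F K)ˣ) : Module.End F K) x) hc
      simp only [inv_mul_cancel_right] at h1
      exact h1.symm
    choose σ hσ using hex
    have hu : ∀ k k', (∀ x, (g : Module.End F K) (k * x) = k' * (g : Module.End F K) x) → σ k = k' := by
      intro k k' h
      exact mul_right_cancel₀ hg1 ((hσ k 1).symm.trans (h 1))
    let σ' : K →ₐ[F] K :=
      { toFun := σ
        map_one' := hu _ _ fun x => by simp
        map_mul' := fun a b => hu _ _ fun x => by rw [mul_assoc, hσ, hσ, mul_assoc]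
        map_zero' := hu _ _ fun x => by simp
        map_add' := fun a b => hu _ _ fun x => by rw [add_mul, map_add, hσ, hσ, add_mul]
        commutes' := fun a => hu _ _ fun x => by rw [← Algebra.smul_def, map_smul, Algebra.smul_def] }
    refine ⟨(Units.mk0 _ hg1, AlgEquiv.ofBijective σ' (Finite.injective_iff_bijective.1 σ'.toRingHom.injective)), Units.ext (LinearMap.ext fun x => ?_)⟩
    rw [he]
    change (g : Module.End F K) 1 * σ x = _
    conv_rhs => rw [← mul_one x, hσ]
    ring
  have hcard : Nat.card (Subgroup.normalizer (R : Set (Module.End F K)ˣ)) = Nat.card (Kˣ × (K ≃ₐ[F] K)) :=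
    (Nat.card_eq_of_bijective (fun p => (⟨e p, hmem p⟩ : Subgroup.normalizer (R : Set (Module.End F K)ˣ)))
      ⟨fun p p' h => hinj (congrArg Subtype.val h),
        fun g => (hsurj g.1 g.2).imp fun p hp => Subtype.ext hp⟩).symm
  rw [hcard, Nat.card_prod, IsGalois.card_aut_eq_finrank, hdim, Nat.card_eq_fintype_card, Fintype.card_units, mul_comm]

end Cfsg.Agent.S5738
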