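import Cfsg.Statements.S5739

set_option autoImplicit false
open Cfsg

namespace Cfsg.Agent.S5739

/-- Let F ⊆ K be finite fields with |F| = q and [K : F] = n ≥ 2, and let M ≤ GL_F(K) be the Singer group of multiplications by non-zero elements of K. If g ∈ GL_F(K) does not normalise M, then the order of M ∩ gMg⁻¹ divides q^r − 1 for some proper divisor r of n. In particular, when n is prime, that order divides q − 1. -/
theorem result {F K : Type*} [Field F] [Fintype F] [Field K] [Fintype K] [Algebra F K] (n : ℕ) (hn : 2 ≤ n) (hdim : Module.finrank F K = n)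
    (g : (Module.End F K)ˣ) (hg : ((Units.map ((Algebra.lmul F K : K →ₐ[F] Module.End F K) : K →* Module.End F K)).range).map (MulAut.conj g).toMonoidHom ≠ (Units.map ((Algebra.lmul F K : K →ₐ[F] Module.End F K) : K →* Module.End F K)).range) :
    ∃ r : ℕ, 1 ≤ r ∧ r ∣ n ∧ r < n ∧ Nat.card ↥(((Units.map ((Algebra.lmul F K : K →ₐ[F] Module.End F K) : K →* Module.End F K)).range).map (MulAut.conj g).toMonoidHom ⊓ (Units.map ((Algebra.lmul F K : K →ₐ[F] Module.End F K) : K →* Module.End F K)).range) ∣ Fintype.card F ^ r - 1 := by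
  classical
  let μ : K →ₐ[F] Module.End F K := Algebra.lmul F K
  let R : Subgroup (Module.End F K)ˣ := (Units.map (μ : K →* Module.End F K)).range
  change R.map (MulAut.conj g).toMonoidHom ≠ R at hg
  change ∃ r : ℕ, 1 ≤ r ∧ r ∣ n ∧ r < n ∧ Nat.card ↥(R.map (MulAut.conj g).toMonoidHom ⊓ R) ∣ Fintype.card F ^ r - 1
  have hμinj : Function.Injective μ := μ.toRingHom.injective
  let ν : K →ₐ[F] Module.End F K :=
    { toFun := fun k => (g : Module.End F K) * μ k * ((g⁻¹ : (Module.End F K)ˣ) : Module.End F K)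
      map_one' := by simp
      map_mul' := fun a b => by simp [mul_assoc]
      map_zero' := by simp
      map_add' := fun a b => by simp [mul_add, add_mul]
      commutes' := fun a => by
        rw [AlgHom.commutes, ← Algebra.commutes, mul_assoc, Units.mul_inv, mul_one] }
  have hconj : R.map (MulAut.conj g).toMonoidHom = (Units.map (ν : K →* Module.End F K)).range := by
    rw [← MonoidHom.range_comp]
    congr 1
  let S : Subalgebra F K := ν.range.comap μ
  have hinv : ∀ x ∈ S, x⁻¹ ∈ S := by
    intro x hx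
    obtain ⟨k, hk⟩ := hx
    refine ⟨k⁻¹, ?_⟩
    rcases eq_or_ne k 0 with rfl | hk0
    · have hx' : x = 0 := hμinj ((hk.symm.trans (map_zero ν)).trans (map_zero μ).symm)
      simp [hx']
    · have hx0 : x ≠ 0 := by
        rintro rfl
        exact hk0 (ν.toRingHom.injective ((hk.trans (map_zero μ)).trans (map_zero ν).symm))
      change ν k⁻¹ = μ x⁻¹
      have h1 : ν k⁻¹ * ν k = 1 := by rw [← map_mul, inv_mul_cancel₀ hk0, map_one]
      have h2 : μ x * μ x⁻¹ = 1 := by rw [← map_mul, mul_inv_cancel₀ hx0, map_one]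
      calc ν k⁻¹ = ν k⁻¹ * (μ x * μ x⁻¹) := by rw [h2, mul_one]
        _ = μ x⁻¹ := by rw [← mul_assoc, show μ x = ν k from hk.symm, h1, one_mul]
  let L : IntermediateField F K := { S with inv_mem' := hinv }
  have hL : ∀ k : K, k ∈ L ↔ ∃ k', ν k' = μ k := fun k => Iff.rfl
  refine ⟨Module.finrank F L, Module.finrank_pos, ⟨Module.finrank L K, by rw [← hdim, Module.finrank_mul_finrank]⟩, ?_, ?_⟩
  · rw [← hdim]
    refine lt_of_le_of_ne (Submodule.finrank_le L.toSubalgebra.toSubmodule) fun h => hg ?_
    have hLtop : L = ⊤ := IntermediateField.eq_of_le_of_finrank_eq le_top (by rw [IntermediateField.finrank_top']; exact h)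
    have hle : R ≤ R.map (MulAut.conj g).toMonoidHom := by
      rw [hconj]
      rintro _ ⟨c, rfl⟩
      obtain ⟨k, hk⟩ := (hL c).1 (hLtop ▸ IntermediateField.mem_top)
      have hk0 : k ≠ 0 := fun h0 => c.ne_zero (hμinj (by rw [map_zero, ← hk, h0, map_zero]))
      exact ⟨Units.mk0 k hk0, Units.ext hk⟩
    haveI : Finite R := Finite.of_surjective _ (MonoidHom.rangeRestrict_surjective _)
    haveI : Finite (R.map (MulAut.conj g).toMonoidHom) :=
      Finite.of_equiv _ (R.equivMapOfInjective _ (MulAut.conj g).injective).toEquiv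
    exact (Subgroup.eq_of_le_of_card_ge hle (le_of_eq (Subgroup.card_map_of_injective (MulAut.conj g).injective))).symm
  · apply dvd_of_eq
    let φ : (L : Type _)ˣ →* (Module.End F K)ˣ :=
      Units.map ((μ : K →* Module.End F K).comp (L.toSubalgebra.val : L →* K))
    have hφinj : Function.Injective φ := fun a b h =>
      Units.ext (Subtype.ext (hμinj (congrArg (fun u : (Module.End F K)ˣ => (u : Module.End F K)) h)))
    have hrange : φ.range = R.map (MulAut.conj g).toMonoidHom ⊓ R := by
      rw [hconj]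
      ext u
      constructor
      · rintro ⟨c, rfl⟩
        have hc0 : ((c : L) : K) ≠ 0 := fun h => c.ne_zero (Subtype.ext h)
        obtain ⟨k, hk⟩ := (hL _).1 (c : L).2
        have hk0 : k ≠ 0 := fun h0 => hc0 (hμinj (by rw [map_zero, ← hk, h0, map_zero]))
        exact ⟨⟨Units.mk0 k hk0, Units.ext hk⟩, ⟨Units.mk0 _ hc0, Units.ext rfl⟩⟩
      · rintro ⟨⟨k, hk⟩, ⟨c, rfl⟩⟩
        have hcL : (c : K) ∈ L := (hL _).2 ⟨k, congrArg (fun u : (Module.End F K)ˣ => (u : Module.End F K)) hk⟩
        exact ⟨Units.mk0 ⟨c, hcL⟩ (fun h => c.ne_zero (congrArg Subtype.val h)), Units.ext rfl⟩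
    haveI := Fintype.ofFinite L
    rw [← hrange, ← Nat.card_congr (MonoidHom.ofInjective hφinj).toEquiv, Nat.card_eq_fintype_card,
      Fintype.card_units, Module.card_eq_pow_finrank (K := F)]

end Cfsg.Agent.S5739
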