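import Cfsg.Statements.S5740
import Cfsg.Agent.Coset.E6TwLocal.Main

set_option autoImplicit false
open Cfsg

namespace Cfsg.Agent.S5740

/-- In the simple group ²E₆(2) (the twisted group of type E₆ over the field with 4 elements), for every prime p > 5 no p-local subgroup is maximal: the normaliser of a non-trivial p-subgroup is never a maximal subgroup. -/
theorem result {K : Type*} [Field K] [Fintype K] (hK : Fintype.card K = 4) (p : ℕ) (hp : p.Prime) (h5 : 5 < p)
    (P : Subgroup (Cfsg.Lie.twistedE6 K 2)) (hP : IsPGroup p P) (hP1 : P ≠ ⊥) :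
    ¬ IsCoatom (Subgroup.normalizer (P : Set (Cfsg.Lie.twistedE6 K 2))) := by
  haveI := Fact.mk hp
  have : CharP K 2 := by
    obtain ⟨q, hq⟩ := CharP.exists K
    obtain ⟨n, hn, hn'⟩ := FiniteField.card K q
    have : q ∣ 2 ^ 2 := by
      rw [show 2 ^ 2 = q ^ (n : ℕ) from (hn'.symm.trans hK).symm]; exact dvd_pow_self q n.ne_zero
    have : q = 2 := (Nat.prime_dvd_prime_iff_eq hn Nat.prime_two).mp (hn.dvd_of_dvd_pow this)
    exact this ▸ hq
  obtain ⟨C⟩ := CfsgLib.Chev.E6Tw.exists_ctx (K := K) (q := 2) Nat.prime_two.isPrimePow (by rw [hK]; rfl)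
  revert P
  rw [← C.grp_eq]
  intro P hP hP1
  exact CfsgLib.Coset.E6TwLocal.notMax_all C h5 P hP hP1

end Cfsg.Agent.S5740
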