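import Cfsg.Statements.S5743
import Cfsg.Agent.Chev.E6TwThreeF4

set_option autoImplicit false
open Cfsg

namespace Cfsg.Agent.S5743

/-- The simple group ²E₆(2) (the twisted group of type E₆ over the field with 4 elements) contains at least three pairwise non-conjugate subgroups isomorphic to the Chevalley group F₄(2). -/
theorem result {K : Type*} [Field K] [Fintype K] (hK : Fintype.card K = 4) :
    ∃ H : Fin 3 → Subgroup (Cfsg.Lie.twistedE6 K 2),
      (∀ i, Nonempty ((H i) ≃* Cfsg.Lie.chevF4.group (ZMod 2))) ∧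
      (∀ i j, i ≠ j → ∀ g : (Cfsg.Lie.twistedE6 K 2), (H i).map (MulAut.conj g).toMonoidHom ≠ H j) :=
  CfsgLib.Chev.E6ThreeF4.three_classes hK

end Cfsg.Agent.S5743
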