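import Cfsg.Statements.S5744
import Cfsg.Agent.Coset.Fi22E6.Main

set_option autoImplicit false
open Cfsg

namespace Cfsg.Agent.S5744

/-- The simple group ²E₆(2) (the twisted group of type E₆ over the field with 4 elements) contains at least three pairwise non-conjugate subgroups isomorphic to the orthogonal group Ω₇(3) (the commutator subgroup of the isometry group of x₀² + x₁y₁ + x₂y₂ + x₃y₃ over the field with 3 elements). -/
theorem result {K : Type*} [Field K] [Fintype K] (hK : Fintype.card K = 4) :
    ∃ H : Fin 3 → Subgroup (Cfsg.Lie.twistedE6 K 2),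
      (∀ i, Nonempty ((H i) ≃* Cfsg.Omega (ZMod 3) (Cfsg.quadFormOdd 3 (ZMod 3)))) ∧
      (∀ i j, i ≠ j → ∀ g : (Cfsg.Lie.twistedE6 K 2), (H i).map (MulAut.conj g).toMonoidHom ≠ H j) := by
  exact CfsgLib.Coset.Fi22E6.classes_o73 hK

end Cfsg.Agent.S5744
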