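import Cfsg.Statements.S5746
import Cfsg.Agent.G24J2.Core
import Cfsg.Agent.Coset.G24.Chev
import Cfsg.Agent.J2.Main
import Cfsg.Agent.PrimeGraphG24.FieldIso

set_option autoImplicit false
open Cfsg

namespace Cfsg.Agent.S5746

/-- The Chevalley group G₂(4) (over the field with 4 elements) has a maximal subgroup H isomorphic to the Hall–Janko group J₂ such that for every x outside H the intersection H ∩ xHx⁻¹ is a maximal subgroup of H; that is, the action of G₂(4) on the cosets of H is extremely primitive. -/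
theorem result {F : Type*} [Field F] [Fintype F] (hF : Fintype.card F = 4) :
    ∃ H : Subgroup (Cfsg.Lie.chevG2.group F), IsCoatom H ∧ Cfsg.Spor.IsoJ2 H ∧
      ∀ x : Cfsg.Lie.chevG2.group F, x ∉ H → IsCoatom ((H ⊓ H.map (MulAut.conj x).toMonoidHom).subgroupOf H) := by
  obtain ⟨σ⟩ : Nonempty (CfsgLib.Coset.G24.F4 ≃+* F) :=
    ⟨FiniteField.ringEquivOfCardEq (by rw [hF, CfsgLib.Coset.G24.F4.card_eq])⟩
  obtain ⟨eF⟩ := Cfsg.Agent.PrimeGraphG24.nonempty_group_equiv Cfsg.Lie.chevG2 σ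
  obtain ⟨eP⟩ := CfsgLib.Coset.G24.nonempty_equiv
  obtain ⟨eH⟩ := CfsgLib.G24J2.nonempty_equiv
  let E : CfsgLib.Coset.G24.P ≃* ↥(Cfsg.Lie.chevG2.group F) := eP.trans eF
  refine ⟨CfsgLib.Coset.G24.H.map E.toMonoidHom, ?_, ?_, fun x hx => ?_⟩
  · exact (OrderIso.isCoatom_iff E.mapSubgroup _).mpr CfsgLib.G24J2.H_isCoatom
  · exact ⟨((E.subgroupMap _).symm.trans eH.symm).trans CfsgLib.J2.eJ.symm⟩
  · have hy : E.symm x ∉ CfsgLib.Coset.G24.H := fun h => hx ⟨_, h, E.apply_symm_apply x⟩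
    have hc := CfsgLib.G24J2.inter_coatom (E.symm x) hy
    set H := CfsgLib.Coset.G24.H
    have e : ((H ⊓ H.map (MulAut.conj (E.symm x)).toMonoidHom).subgroupOf H).map
        (E.subgroupMap H).toMonoidHom =
        ((H.map E.toMonoidHom ⊓ (H.map E.toMonoidHom).map (MulAut.conj x).toMonoidHom)).subgroupOf
          (H.map E.toMonoidHom) := by
      ext g
      constructor
      · rintro ⟨k, ⟨-, m, hm, hmk⟩, rfl⟩
        refine ⟨⟨k.1, k.2, rfl⟩, E m, ⟨m, hm, rfl⟩, ?_⟩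
        show x * E m * x⁻¹ = E k.1
        have hmk' : E.symm x * m * (E.symm x)⁻¹ = k.1 := hmk
        rw [← hmk']
        simp
      · rintro ⟨hg, _, ⟨m, hm, rfl⟩, hmg⟩
        obtain ⟨k, hk, hkg⟩ := hg
        refine ⟨⟨k, hk⟩, ⟨hk, m, hm, ?_⟩, Subtype.ext hkg⟩
        show E.symm x * m * (E.symm x)⁻¹ = k
        have h2 : x * E m * x⁻¹ = E k := hmg.trans hkg.symm
        apply E.injective
        simpa using h2
    rw [← e]
    exact (OrderIso.isCoatom_iff (E.subgroupMap H).mapSubgroup _).mpr hc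

end Cfsg.Agent.S5746
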