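import Cfsg.Statements.S5751
import Cfsg.Agent.IterCoreE8.E8
import Cfsg.Agent.BN.Parabolic

set_option autoImplicit false
set_option maxRecDepth 4000
open Cfsg
open CfsgLib.IterCoreE8 CfsgLib.Chev

namespace Cfsg.Agent.S5751

/-- The group `E8(2)`. -/
abbrev Gp : Type := ↥(D.group K)

/-- The maximal parabolic subgroup. -/
noncomputable def M : Subgroup Gp := PJ.subgroupOf (D.group K)

/-- The conjugating involution. -/
noncomputable def w : Gp := ⟨s3, G.ns_mem_group p3⟩

theorem w_sq : w * w = 1 := Subtype.ext (ns_sq_one p3)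

theorem succ_iff (i : ℕ) (z : Gp) :
    z ∈ seqA M w (i + 1) ↔
      z ∈ M ∧ ∀ m ∈ M, m * z * m⁻¹ ∈ seqA M w i ∧ w * (m * z * m⁻¹) * w⁻¹ ∈ seqA M w i :=
  mem_succ (G := Gp) (M := M) (g := w) (i := i) (z := z) w_sq

theorem w_not_mem : w ∉ M := fun h => s3_not_mem h

theorem coatom : IsCoatom M := by
  refine ⟨fun h => w_not_mem (h ▸ Subgroup.mem_top _), fun N hN => ?_⟩
  let P := G.bnPair K
  have hB : P.B ≤ M := fun b hb => (le_sup_left : _ ≤ PJ) hb
  have e := CfsgLib.BN.eq_parabolic P (le_trans hB hN.le)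
  by_cases hw : w ∈ N
  · have hS : P.S ∩ (N : Set Gp) = P.S := Set.inter_eq_left.mpr fun s hs => by
      obtain ⟨i, hi⟩ := G.mem_simpleSet.mp hs
      by_cases h3 : i = p3
      · subst h3
        rw [show s = w from Subtype.ext hi]
        exact hw
      · exact hN.le (show (s : GL D.Idx K) ∈ PJ from hi ▸ ns_mem_PJ h3)
    rw [e, hS, CfsgLib.BN.parabolic_univ]
  · exfalso
    refine hN.not_ge ?_
    rw [e]
    refine sup_le hB ((Subgroup.closure_le _).mpr ?_)
    rintro s ⟨hs, hsN⟩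
    obtain ⟨i, hi⟩ := G.mem_simpleSet.mp hs
    by_cases h3 : i = p3
    · subst h3
      exact absurd ((show s = w from Subtype.ext hi) ▸ hsN) hw
    · exact show (s : GL D.Idx K) ∈ PJ from hi ▸ ns_mem_PJ h3

theorem map_ne : M ≠ M.map (MulAut.conj w).toMonoidHom := by
  intro h
  let x : Gp := ⟨G.full.x (D.simple p3) 1, G.x_mem_group _ _⟩
  have hm : x ∈ M := Subgroup.mem_subgroupOf.mpr (pos_le_PJ (G.x_mem_pos (G.pos_simp p3) 1))
  have hx : x ∈ M.map (MulAut.conj w).toMonoidHom := (SetLike.ext_iff.mp h x).mp hm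
  have h3 := Subgroup.mem_subgroupOf.mp
    ((mem_map_conj (G := Gp) (H := M) (g := w) (x := x) w_sq).mp hx)
  rw [Subgroup.coe_mul, Subgroup.coe_mul, Subgroup.coe_inv] at h3
  have hx' : s3 * G.full.x (D.simple p3) 1 * s3⁻¹ ∈ PJ := h3
  rw [s3_conj_simple] at hx'
  exact x_neg_not_mem (neg_ne_zero.mpr one_ne_zero) hx'

theorem upper : ∀ (i : ℕ) (z : Gp), z ∈ seqA M w (i + 1) →
    (z : GL D.Idx K) ∈ G.US K (V ((i : ℤ) + 2)) := by
  intro i
  induction i with
  | zero =>
    intro z hz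
    let X : Subgroup (GL D.Idx K) := (seqA M w 1).map (D.group K).subtype
    have h := le_V_two (X := X) (fun _ ⟨a, ha, e⟩ => e ▸ seqA_le w 1 ha)
      (fun m hm _ ⟨a, ha, e⟩ => e ▸ ⟨_, conj_mem_succ (G := Gp) (M := M) (g := w) (i := 0) (m := ⟨m, PJ_le_group hm⟩) hm ha, rfl⟩)
      (fun _ ⟨a, ha, e⟩ => by
        have := (((succ_iff 0 _).mp ha).2 1 (one_mem _)).2
        simp only [one_mul, inv_one, mul_one] at this
        exact e ▸ this)
    simpa using h ⟨z, hz, rfl⟩
  | succ i ih =>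
    intro z hz
    obtain ⟨-, h⟩ := (succ_iff (i + 1) z).mp hz
    have h0 := ih z (by simpa using (h 1 (one_mem _)).1)
    have := mem_V_succ (k := (i : ℤ) + 2) (by omega) h0 fun v hv => ?_
    · rw [show ((i + 1 : ℕ) : ℤ) + 2 = (i : ℤ) + 2 + 1 by push_cast; ring]
      exact this
    have h2 := ih _ (h ⟨_, PJ_le_group (nw_mem_PJ v hv)⟩ (nw_mem_PJ v hv)).2
    simpa [w, s3, G.nw_cons, mul_assoc] using h2

theorem lower : ∀ (i : ℕ) (z : Gp), (z : GL D.Idx K) ∈ G.US K (V ((i : ℤ) + 1)) →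
    z ∈ seqA M w i := by
  have hM : ∀ {k : ℤ}, G.US K (V k) ≤ PJ := fun {k} =>
    le_trans (G.US_mono (fun s hs => hs.1)) ((G.posUnipotent_eq (F := K)).symm.le.trans pos_le_PJ)
  intro i
  induction i with
  | zero => intro z hz; exact hM hz
  | succ i ih =>
    intro z hz
    refine (succ_iff i z).mpr ⟨hM hz, fun m hm => ?_⟩
    have h1 := PJ_conj_V (k := (i : ℤ) + 1 + 1) (by omega) _ hm _
      (by simpa using hz : (z : GL D.Idx K) ∈ G.US K (V ((i : ℤ) + 1 + 1)))
    exact ⟨ih _ (G.US_mono (S' := V ((i : ℤ) + 1))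
        (fun s hs => ⟨hs.1, by have := hs.2; omega⟩) h1),
      ih _ (s3_conj_V (by omega) h1)⟩

theorem seq_six : seqA M w 6 = ⊥ := by
  rw [eq_bot_iff]
  intro z hz
  have h := upper 5 z hz
  have hV : ∀ s ∈ V (((5 : ℕ) : ℤ) + 2), False := by
    intro s hs
    have hc : allBelow (fun s => decide (cf s ≤ 6)) D.nroots = true := by decide +kernel
    have := of_decide_eq_true ((allBelow_iff _ _).mp hc s hs.1.1)
    have := hs.2
    omega
  have h' : G.US K (V (((5 : ℕ) : ℤ) + 2)) ≤ ⊥ :=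
    (Subgroup.closure_le _).mpr fun g ⟨s, hs, _⟩ => (hV s hs).elim
  exact Subgroup.mem_bot.mpr (Subtype.ext (Subgroup.mem_bot.mp (h' h)))

theorem seq_five : seqA M w 5 ≠ ⊥ := by
  intro h
  have hs : ∃ s < D.nroots, D.nroots ≤ 2 * s ∧ 6 ≤ cf s := ⟨239, by decide +kernel⟩
  obtain ⟨s, hlt, hp, h6⟩ := hs
  have hmem := lower 5 ⟨G.full.x s 1, G.x_mem_group _ _⟩
    (G.x_mem_US (S := V _) ⟨⟨hlt, hp⟩, by simpa using h6⟩ 1)
  rw [h, Subgroup.mem_bot] at hmem
  exact one_ne_zero (G.x_eq_one hlt (congrArg Subtype.val hmem))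

/-- An extremal example for iterated cores of conjugate maximal subgroups: there exist a finite group G and two distinct conjugate maximal subgroups M₁, M₂ of G, with M₁ having trivial core in G, such that, if we define two descending sequences of subgroups by A₀ = M₁, B₀ = M₂ and, for every i, A_{i+1} = the core in M₁ of A_i ∩ B_i and B_{i+1} = the core in M₂ of A_i ∩ B_i (the core in M of a subgroup Y ≤ M is the largest normal subgroup of M contained in Y), the subgroup A₆ is trivial while A₅ is not (so the index 6 cannot be lowered to 5). (One example is a maximal parabolic subgroup of the Chevalley group of type E₈ over a finite field and a suitable conjugate of it.) -/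
theorem result :
    ∃ (G : Type) (_ : Group G) (_ : Finite G) (M₁ M₂ : Subgroup G) (g : G) (A B : ℕ → Subgroup G),
      IsCoatom M₁ ∧ M₂ = M₁.map (MulAut.conj g).toMonoidHom ∧ M₁ ≠ M₂ ∧ M₁.normalCore = ⊥ ∧ A 0 = M₁ ∧ B 0 = M₂ ∧
      (∀ i, A (i + 1) = ((A i ⊓ B i).subgroupOf M₁).normalCore.map M₁.subtype) ∧
      (∀ i, B (i + 1) = ((A i ⊓ B i).subgroupOf M₂).normalCore.map M₂.subtype) ∧ A 6 = ⊥ ∧ A 5 ≠ ⊥ := by
  refine ⟨Gp, inferInstance, inferInstance, M, M.map (MulAut.conj w).toMonoidHom, w, seqA M w,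
    fun i => (seqA M w i).map (MulAut.conj w).toMonoidHom, coatom, rfl, map_ne, ?_, rfl, rfl,
    fun i => rfl, fun i => seqB_succ (G := Gp) (M := M) (g := w) w_sq i, seq_six, seq_five⟩
  exact le_bot_iff.mp ((normalCore_le_seqA (G := Gp) (M := M) (g := w) w_sq 6).trans seq_six.le)

end Cfsg.Agent.S5751
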