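import Cfsg.Statements.S5753
import Cfsg.Agent.BinAffine.Field
import Cfsg.Agent.BinAffine.Two
import Cfsg.Agent.BinAffine.OddPlane

set_option autoImplicit false
open Cfsg

namespace Cfsg.Agent.S5753

open CfsgLib.BinAffine in
/-- The linear trichotomy. -/
theorem linear {V H : Type} [AddCommGroup V] [Group H] [DistribMulAction H V] [Finite V] [Finite H]
    [FaithfulSMul H V] (hb : IsBinary H V) (hi : IsIrred H V) :
    ((∀ M : AddSubgroup V, M = ⊥ ∨ M = ⊤) ∧ Nat.card H ≤ 2) ∨
    ∃ m, IsPlane V H m := by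
  by_cases hk : ∃ k : H, k ≠ 1
  swap
  · simp only [not_exists, not_not] at hk
    refine .inl ⟨fun M => hi M fun h v hv => by rw [hk h, one_smul]; exact hv, ?_⟩
    haveI : Subsingleton H := ⟨fun a b => (hk a).trans (hk b).symm⟩
    exact Finite.card_le_one_iff_subsingleton.2 inferInstance |>.trans (by norm_num)
  obtain ⟨k, hk⟩ := hk
  obtain ⟨k₀, hk₀, -⟩ := exists_isMax (V := V) hk
  let T2 : AddSubgroup V :=
    { carrier := {v | v + v = 0}
      zero_mem' := add_zero 0
      add_mem' := fun {a b} (ha : a + a = 0) (hb : b + b = 0) => by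
        show a + b + (a + b) = 0
        rw [show a + b + (a + b) = (a + a) + (b + b) by abel, ha, hb, add_zero]
      neg_mem' := fun {a} (ha : a + a = 0) => by
        show -a + -a = 0
        rw [← neg_add, ha, neg_zero] }
  rcases hi T2 (fun h v (hv : v + v = 0) => by
    show h • v + h • v = 0
    rw [← smul_add, hv, smul_zero]) with h2 | h2
  · have ho : ∀ v : V, v + v = 0 → v = 0 := fun v hv =>
      AddSubgroup.mem_bot.1 (h2 ▸ (show v ∈ T2 from hv))
    rcases plane_odd hb hi ho hk₀ with h | h
    · exact .inr h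
    left
    have hneg : ∀ v : V, k₀ • v = -v := by
      obtain ⟨z, hz⟩ := exists_neg hb hi ho hk₀
      intro v
      rcases h z with rfl | rfl
      · exact absurd (ho v (by
          have := hz v
          rw [one_smul] at this
          exact eq_neg_iff_add_eq_zero.1 this)) (fun hv0 => by
            obtain ⟨d, hd, -⟩ := hk₀.move_ne_bot
            exact hd (ho d (eq_neg_iff_add_eq_zero.1 (by simpa using hz d))))
      · exact hz v
    refine ⟨fun M => hi M fun g v hv => ?_, ?_⟩
    · rcases h g with rfl | rfl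
      · rwa [one_smul]
      · rw [hneg]; exact neg_mem hv
    · classical
      haveI := Fintype.ofFinite H
      have hsub : (Finset.univ : Finset H) ⊆ {1, k₀} := fun g _ => by
        rcases h g with rfl | rfl <;> simp
      rw [Nat.card_eq_fintype_card, ← Finset.card_univ]
      exact (Finset.card_le_card hsub).trans ((Finset.card_insert_le _ _).trans (by simp))
  · exact .inr (plane_two hb hi (fun v => (h2 ▸ AddSubgroup.mem_top v : v ∈ T2)) hk₀)

/-- The binary primitive permutation groups of affine type (the known proof uses the classification of the finite simple groups). Let a finite group G act faithfully and primitively on a finite set Ω, with a non-trivial abelian normal subgroup, and suppose the action is binary: for every n ≥ 2 and all n-tuples I, J of points, if for every pair of positions some element of G carries the corresponding pair of entries of I to those of J, then a single element carries I to J. Then either Ω has a prime number of points and every point stabilizer has order at most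 2, or Ω can be identified with a field E that is a quadratic extension of a subfield F in such a way that the permutations induced by G are exactly the maps x ↦ a·φ(x) + b with a ∈ E of norm 1 over F, φ an automorphism of E over F and b ∈ E (the affine group of the anisotropic plane orthogonal group). -/
theorem result {G Ω : Type*} [Group G] [Finite G] [MulAction G Ω] [FaithfulSMul G Ω] [Fintype Ω]
    (hprim : MulAction.IsPreprimitive G Ω)
    (haff : ∃ N : Subgroup G, N.Normal ∧ N ≠ ⊥ ∧ IsMulCommutative ↥N)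
    (hbin : ∀ (n : ℕ) (I J : Fin n → Ω), 2 ≤ n →
      (∀ i j : Fin n, i ≠ j → ∃ g : G, g • I i = J i ∧ g • I j = J j) → ∃ g : G, ∀ i, g • I i = J i) :
    ((Fintype.card Ω).Prime ∧ ∀ ω : Ω, Nat.card ↥(MulAction.stabilizer G ω) ≤ 2) ∨
    (∃ (F E : Type) (_ : Field F) (_ : Fintype F) (_ : Field E) (_ : Fintype E) (_ : Algebra F E) (e : Ω ≃ E),
        Module.finrank F E = 2 ∧
        ∀ σ : Equiv.Perm Ω, σ ∈ (MulAction.toPermHom G Ω).range ↔
          ∃ (a b : E) (φ : E ≃ₐ[F] E), Algebra.norm F a = 1 ∧ ∀ ω : Ω, e (σ ω) = a * φ (e ω) + b) := by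
  classical
  obtain ⟨N, hN, hne, hcomm⟩ := haff
  haveI := hN
  haveI := hprim
  letI : CommGroup N := { (inferInstance : Group N) with mul_comm := hcomm.is_comm.comm }
  obtain ⟨⟨n₀, hn₀⟩, hn₀1⟩ := Subgroup.ne_bot_iff_exists_ne_one.1 hne
  have hfp : MulAction.fixedPoints N Ω ≠ Set.univ := by
    intro h
    apply hn₀1
    refine Subtype.ext (FaithfulSMul.eq_of_smul_eq_smul (α := Ω) fun x => ?_)
    have : x ∈ MulAction.fixedPoints N Ω := h ▸ Set.mem_univ x
    rw [Subgroup.coe_one, one_smul]
    exact this ⟨n₀, hn₀⟩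
  haveI htrans : MulAction.IsPretransitive N Ω :=
    MulAction.IsQuasiPreprimitive.isPretransitive_of_normal hfp
  obtain ⟨ω, -⟩ := (Set.ne_univ_iff_exists_notMem _).1 hfp
  have hreg : ∀ (m : N) (x : Ω), (m : G) • x = x → m = 1 := by
    intro m x hm
    refine Subtype.ext (FaithfulSMul.eq_of_smul_eq_smul (α := Ω) fun y => ?_)
    obtain ⟨a, rfl⟩ := MulAction.exists_smul_eq N x y
    rw [Subgroup.coe_one, one_smul, Subgroup.smul_def, ← mul_smul]
    have : (m : G) * (a : G) = (a : G) * m := congrArg Subtype.val (mul_comm m a)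
    rw [this, mul_smul, hm]
  -- `N` as an additive group in the lowest universe
  let V : Type := Shrink.{0} (Additive N)
  haveI : Finite V := Finite.of_equiv _ (equivShrink.{0} (Additive N))
  let η : V ≃+ Additive N := Shrink.addEquiv
  let tr : V → G := fun v => ((η v).toMul : G)
  have tr_add : ∀ a b, tr (a + b) = tr a * tr b := fun a b => by simp [tr]
  have tr_zero : tr 0 = 1 := by simp [tr]
  have tr_neg : ∀ a, tr (-a) = (tr a)⁻¹ := fun a => by simp [tr]
  have tr_mem : ∀ v, tr v ∈ N := fun v => ((η v).toMul).2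
  have pt_inj : Function.Injective (fun v : V => tr v • ω) := by
    intro a b (e : tr a • ω = tr b • ω)
    have h := hreg ((η (-b + a)).toMul) ω (show tr (-b + a) • ω = ω by
      rw [tr_add, tr_neg, mul_smul, e, inv_smul_smul])
    have : -b + a = 0 := η.injective (by rw [map_zero]; exact h)
    rw [neg_add_eq_zero] at this
    exact this.symm
  have pt_surj : Function.Surjective (fun v : V => tr v • ω) := by
    intro x
    obtain ⟨a, ha⟩ := MulAction.exists_smul_eq N ω x
    refine ⟨η.symm (Additive.ofMul a), ?_⟩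
    show tr _ • ω = x
    simp only [tr, AddEquiv.apply_symm_apply]
    exact ha
  let pt : V ≃ Ω := Equiv.ofBijective _ ⟨pt_inj, pt_surj⟩
  have pt_apply : ∀ v, pt v = tr v • ω := fun _ => rfl
  -- the stabiliser acts linearly
  let φ : MulAction.stabilizer G ω → AddMonoid.End V := fun s =>
    AddMonoidHom.mk'
      (fun v => η.symm (Additive.ofMul ((MulAut.conjNormal (H := N) (s : G)) (η v).toMul)))
      (fun a b => η.injective (by simp))
  have φ_tr : ∀ s v, tr (φ s v) = (s : G) * tr v * (s : G)⁻¹ := fun s v => by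
    show ((η (η.symm (Additive.ofMul ((MulAut.conjNormal (H := N) (s : G)) (η v).toMul)))).toMul : G) = _
    rw [AddEquiv.apply_symm_apply]
    exact MulAut.conjNormal_apply (s : G) (η v).toMul
  have φ_pt : ∀ s v, pt (φ s v) = (s : G) • pt v := fun s v => by
    have hs : (s : G)⁻¹ • ω = ω := inv_smul_eq_iff.2 s.2.symm
    rw [pt_apply, pt_apply, φ_tr, mul_smul, hs, mul_smul]
  let Φ₀ : MulAction.stabilizer G ω →* AddMonoid.End V :=
    { toFun := φ
      map_one' := DFunLike.ext _ _ fun v => pt.injective (by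
        rw [φ_pt, OneMemClass.coe_one, one_smul]; rfl)
      map_mul' := fun a b => DFunLike.ext _ _ fun v => pt.injective (by
        rw [φ_pt, Subgroup.coe_mul, mul_smul]
        show _ = pt (φ a (φ b v))
        rw [φ_pt, φ_pt]) }
  let Φ : MulAction.stabilizer G ω →* (AddMonoid.End V)ˣ := Φ₀.toHomUnits
  have smul_pt : ∀ (s : MulAction.stabilizer G ω) (v : V),
      pt ((⟨Φ s, s, rfl⟩ : Φ.range) • v) = (s : G) • pt v := fun s v => φ_pt s v
  have hshift : ∀ a v, pt (a + v) = tr a • pt v := fun a v => by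
    rw [pt_apply, pt_apply, tr_add, mul_smul]
  haveI : Finite (AddMonoid.End V) := Finite.of_injective (fun f => (f : V → V)) DFunLike.coe_injective
  haveI : Finite (AddMonoid.End V)ˣ := Finite.of_injective _ Units.val_injective
  have hb : CfsgLib.BinAffine.IsBinary Φ.range V := by
    intro U f hU hUU
    let ι := Option U ⊕ Unit
    haveI : Fintype U := Fintype.ofFinite U
    let ev : ι → V := Sum.elim (fun o => o.elim 0 fun u => u.1) (fun _ => 0)
    let ev' : ι → V := Sum.elim (fun o => o.elim 0 fun u => f u.1) (fun _ => 0)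
    have hev : ∀ i, ev' i = 0 ∧ ev i = 0 ∨ ∃ u ∈ U, ev i = u ∧ ev' i = f u := by
      rintro ((_ | u) | _)
      · exact .inl ⟨rfl, rfl⟩
      · exact .inr ⟨u.1, u.2, rfl, rfl⟩
      · exact .inl ⟨rfl, rfl⟩
    have hdiff : ∀ i j, ∃ h : Φ.range, h • (ev i - ev j) = ev' i - ev' j := by
      intro i j
      rcases hev i with ⟨a', a⟩ | ⟨u, hu, a, a'⟩ <;> rcases hev j with ⟨b', b⟩ | ⟨w, hw, b, b'⟩ <;>
        rw [a, a', b, b']
      · exact ⟨1, by simp⟩
      · obtain ⟨h, hh⟩ := hU w hw
        exact ⟨h, by rw [zero_sub, zero_sub, smul_neg, hh]⟩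
      · obtain ⟨h, hh⟩ := hU u hu
        exact ⟨h, by rw [sub_zero, sub_zero, hh]⟩
      · exact hUU u hu w hw
    let e := Fintype.equivFin ι
    have hcard : 2 ≤ Fintype.card ι := by
      simp only [ι, Fintype.card_sum, Fintype.card_option, Fintype.card_unit]; omega
    obtain ⟨g, hg⟩ := hbin _ (fun i => pt (ev (e.symm i))) (fun i => pt (ev' (e.symm i))) hcard
      (fun i j _ => by
        obtain ⟨⟨_, s, rfl⟩, hh⟩ := hdiff (e.symm i) (e.symm j)
        set a := ev (e.symm i)
        set b := ev (e.symm j)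
        set a' := ev' (e.symm i)
        set b' := ev' (e.symm j)
        refine ⟨tr b' * (s : G) * tr (-b), ?_, ?_⟩
        · rw [mul_smul, mul_smul, ← hshift, show -b + a = a - b by abel, ← smul_pt, hh, ← hshift]
          congr 1; abel
        · rw [mul_smul, mul_smul, ← hshift, neg_add_cancel, ← smul_pt, smul_zero, ← hshift, add_zero])
    have hg' : ∀ i, g • pt (ev i) = pt (ev' i) := fun i => by simpa using hg (e i)
    have hgω : g ∈ MulAction.stabilizer G ω := by
      have h0 := hg' (.inl none)
      simpa [ev, ev', pt_apply, tr_zero] using h0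
    refine ⟨⟨Φ ⟨g, hgω⟩, _, rfl⟩, fun u hu => pt.injective ?_⟩
    rw [smul_pt]
    exact hg' (.inl (some ⟨u, hu⟩))
  have hi : CfsgLib.BinAffine.IsIrred Φ.range V := by
    intro M hM
    let K : Subgroup G :=
      { carrier := {g | ∃ a ∈ M, g • ω = pt a}
        one_mem' := ⟨0, M.zero_mem, by rw [one_smul, pt_apply, tr_zero, one_smul]⟩
        mul_mem' := by
          rintro g g' ⟨a, ha, e⟩ ⟨b, hb', e'⟩
          have hs : (tr a)⁻¹ * g ∈ MulAction.stabilizer G ω := by
            rw [MulAction.mem_stabilizer_iff, mul_smul, e, pt_apply, inv_smul_smul]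
          refine ⟨a + (⟨Φ ⟨_, hs⟩, _, rfl⟩ : Φ.range) • b, add_mem ha (hM _ b hb'), ?_⟩
          rw [hshift, smul_pt, mul_smul, e', ← mul_smul (tr a), mul_inv_cancel_left]
        inv_mem' := by
          rintro g ⟨a, ha, e⟩
          have hs : (tr a)⁻¹ * g ∈ MulAction.stabilizer G ω := by
            rw [MulAction.mem_stabilizer_iff, mul_smul, e, pt_apply, inv_smul_smul]
          refine ⟨-((⟨Φ ⟨_, inv_mem hs⟩, _, rfl⟩ : Φ.range) • a), neg_mem (hM _ a ha), ?_⟩
          rw [← smul_neg, smul_pt, pt_apply, tr_neg]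
          simp only [mul_inv_rev, inv_inv, mul_smul, smul_inv_smul] }
    have hle : MulAction.stabilizer G ω ≤ K := fun g hg =>
      ⟨0, M.zero_mem, by rw [pt_apply, tr_zero, one_smul]; exact hg⟩
    have hco : IsCoatom (MulAction.stabilizer G ω) := by
      haveI : Nontrivial Ω := ⟨⟨ω, n₀ • ω, fun h => hn₀1 (hreg ⟨n₀, hn₀⟩ ω h.symm)⟩⟩
      exact MulAction.IsPreprimitive.isCoatom_stabilizer_of_isPreprimitive G ω
    rcases hco.le_iff.1 hle with h | h
    · refine .inr (eq_top_iff.2 fun v _ => ?_)
      obtain ⟨a, ha, e⟩ : tr v ∈ K := h ▸ Subgroup.mem_top _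
      rwa [show v = a from pt.injective e]
    · refine .inl (eq_bot_iff.2 fun v hv => ?_)
      have : tr v ∈ MulAction.stabilizer G ω := h ▸ (show tr v ∈ K from ⟨v, hv, rfl⟩)
      exact AddSubgroup.mem_bot.2 (pt.injective (by rw [pt_apply 0, tr_zero, one_smul]; exact this))
  rcases linear (H := Φ.range) hb hi with ⟨htriv, hH⟩ | ⟨m, P⟩
  · left
    refine ⟨?_, fun x => ?_⟩
    · have hcard : Fintype.card Ω = Nat.card V := by
        rw [Nat.card_congr pt, Nat.card_eq_fintype_card]
      rw [hcard]
      have h2 : 1 < Nat.card V := Finite.one_lt_card_iff_nontrivial.2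
        ⟨⟨η.symm (Additive.ofMul ⟨n₀, hn₀⟩), 0, fun h => hn₀1 (by
          have := congrArg η h
          rw [AddEquiv.apply_symm_apply, map_zero] at this
          exact this)⟩⟩
      obtain ⟨p, hp, hpd⟩ := Nat.exists_prime_and_dvd (ne_of_gt h2)
      haveI := Fact.mk hp
      obtain ⟨v, hv⟩ := exists_prime_addOrderOf_dvd_card' p hpd
      rcases htriv (AddSubgroup.zmultiples v) with h | h
      · rw [AddSubgroup.zmultiples_eq_bot] at h
        rw [h, addOrderOf_zero] at hv
        exact absurd hv.symm hp.ne_one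
      · rw [← AddSubgroup.card_top (G := V), ← h, Nat.card_zmultiples, hv]
        exact hp
    · obtain ⟨a, rfl⟩ := MulAction.exists_smul_eq G ω x
      rw [← Nat.card_congr (MulAction.stabilizerEquivStabilizerOfOrbitRel
        (show MulAction.orbitRel G Ω ω (a • ω) from
          ⟨a⁻¹, inv_smul_smul a ω⟩)).toEquiv]
      refine le_trans (le_of_eq (Nat.card_congr (MonoidHom.ofInjective (f := Φ) ?_).toEquiv)) hH
      intro s t e
      refine Subtype.ext (FaithfulSMul.eq_of_smul_eq_smul (α := Ω) fun y => ?_)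
      obtain ⟨v, rfl⟩ := pt.surjective y
      rw [← φ_pt, ← φ_pt]
      exact congrArg pt (DFunLike.congr_fun (congrArg Units.val e) v)
  · right
    obtain ⟨F, E, iF, iF', iE, iE', iA, eA, hfin, hiff⟩ := CfsgLib.BinAffine.exists_field hb hi P
    refine ⟨F, E, iF, iF', iE, iE', iA, pt.symm.trans eA.toEquiv, hfin, fun σ => ⟨?_, ?_⟩⟩
    · rintro ⟨g, rfl⟩
      set v := pt.symm (g • ω) with hv
      have hs : (tr v)⁻¹ * g ∈ MulAction.stabilizer G ω := by
        rw [MulAction.mem_stabilizer_iff, mul_smul, inv_smul_eq_iff, ← pt_apply, hv,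
          Equiv.apply_symm_apply]
      obtain ⟨a, ψ, ha, hψ⟩ := (hiff (fun w => (⟨Φ ⟨_, hs⟩, _, rfl⟩ : Φ.range) • w)).1
        ⟨⟨Φ ⟨_, hs⟩, _, rfl⟩, fun _ => rfl⟩
      refine ⟨a, eA v, ψ, ha, fun x => ?_⟩
      obtain ⟨w, rfl⟩ := pt.surjective x
      have key : g • pt w = pt (v + (⟨Φ ⟨_, hs⟩, _, rfl⟩ : Φ.range) • w) := by
        rw [hshift, smul_pt, ← mul_smul, mul_inv_cancel_left]
      show eA (pt.symm (g • pt w)) = a * ψ (eA (pt.symm (pt w))) + eA v
      rw [key, Equiv.symm_apply_apply, Equiv.symm_apply_apply, map_add, hψ, add_comm]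
    · rintro ⟨a, b, ψ, ha, hσ⟩
      obtain ⟨⟨_, s, rfl⟩, hs⟩ := (hiff (fun w => eA.symm (a * ψ (eA w)))).2
        ⟨a, ψ, ha, fun w => eA.apply_symm_apply _⟩
      refine ⟨tr (eA.symm b) * (s : G), Equiv.ext fun x => ?_⟩
      obtain ⟨w, rfl⟩ := pt.surjective x
      show (tr (eA.symm b) * (s : G)) • pt w = σ (pt w)
      apply (pt.symm.trans eA.toEquiv).injective
      rw [hσ, mul_smul, ← smul_pt, ← hshift, ← hs]
      show eA (pt.symm (pt _)) = a * ψ (eA (pt.symm (pt w))) + b
      rw [Equiv.symm_apply_apply, Equiv.symm_apply_apply, map_add, AddEquiv.apply_symm_apply,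
        AddEquiv.apply_symm_apply, add_comm]

end Cfsg.Agent.S5753
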