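import Cfsg.Statements.S5754

set_option autoImplicit false
open Cfsg

namespace Cfsg.Agent.S5754

/-- Let V be a finite-dimensional vector space over a finite field F carrying an anisotropic quadratic form Q (Q(v) = 0 only for v = 0). Then the group of all maps v ↦ φ(v) + c, with φ an isometry of Q and c ∈ V, acts on V as a binary permutation group: given n ≥ 2 and two n-tuples u, u' of vectors such that every pair of corresponding entries of u is carried to that of u' by such a map, one such map carries u to u'. -/
theorem result {F V : Type*} [Field F] [Finite F] [AddCommGroup V] [Module F V] [Module.Finite F V]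
    (Q : QuadraticForm F V) (hQ : Q.Anisotropic) (n : ℕ) (hn : 2 ≤ n) (u u' : Fin n → V)
    (h2 : ∀ i j : Fin n, i ≠ j → ∃ (φ : Q.IsometryEquiv Q) (c : V), φ (u i) + c = u' i ∧ φ (u j) + c = u' j) :
    ∃ (φ : Q.IsometryEquiv Q) (c : V), ∀ i, φ (u i) + c = u' i := by
  haveI : NeZero n := ⟨by omega⟩
  have hex : ∀ s : Finset (Fin n), ∃ φ : Q.IsometryEquiv Q, ∀ i ∈ s, φ (u i - u 0) = u' i - u' 0 := by
    have hQ0 : ∀ i, Q (u i - u 0) = Q (u' i - u' 0) := by
      intro i
      rcases eq_or_ne i 0 with rfl | hi
      · simp
      obtain ⟨φ, c, h1, h0⟩ := h2 i 0 hi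
      rw [← h1, ← h0, add_sub_add_right_eq_sub, ← map_sub, φ.map_app]
    have hQ2 : ∀ i j, Q (u i - u j) = Q (u' i - u' j) := by
      intro i j
      rcases eq_or_ne i j with rfl | hi
      · simp
      obtain ⟨φ, c, h1, h0⟩ := h2 i j hi
      rw [← h1, ← h0, add_sub_add_right_eq_sub, ← map_sub, φ.map_app]
    intro s
    induction s using Finset.induction with
    | empty => exact ⟨QuadraticMap.IsometryEquiv.refl Q, by simp⟩
    | insert a s has ih =>
      obtain ⟨φ, hφ⟩ := ih
      set w := φ (u a - u 0) with hw
      set w' := u' a - u' 0 with hw'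
      by_cases hww : w = w'
      · exact ⟨φ, Finset.forall_mem_insert .. |>.2 ⟨hww, hφ⟩⟩
      set d := w - w' with hd
      have hd0 : Q d ≠ 0 := fun h => hww (sub_eq_zero.1 (hQ d h))
      let f : V →ₗ[F] F := (Q d)⁻¹ • (Q.polarBilin.flip d)
      have hf : ∀ x, f x = (Q d)⁻¹ * QuadraticMap.polar Q x d := fun x => rfl
      have hfd : f d = 2 := by
        rw [hf, QuadraticMap.polar_self, two_smul]
        field_simp
        ring
      have hQw : Q w = Q w' := by rw [hw, φ.map_app, hQ0 a]
      have hfw : f w = 1 := by
        rw [hf]
        have e1 : QuadraticMap.polar Q w d = QuadraticMap.polar Q w w - QuadraticMap.polar Q w w' := by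
          rw [hd, sub_eq_add_neg, QuadraticMap.polar_add_right, QuadraticMap.polar_neg_right]
          ring
        have e2 : Q d = Q w + Q w' - QuadraticMap.polar Q w w' := by
          have := QuadraticMap.map_add Q w (-w')
          rw [QuadraticMap.map_neg, QuadraticMap.polar_neg_right, ← sub_eq_add_neg, ← hd] at this
          linear_combination this
        rw [e1, QuadraticMap.polar_self, two_smul]
        field_simp
        rw [e2, ← hQw]
        ring
      let R : Q.IsometryEquiv Q :=
        { (Module.reflection hfd) with
          map_app' := fun x => by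
            change Q (x - f x • d) = Q x
            rw [sub_eq_add_neg, ← neg_smul, QuadraticMap.map_add ⇑Q, QuadraticMap.map_smul,
              QuadraticMap.polar_smul_right, hf x]
            simp only [smul_eq_mul]
            field_simp
            ring }
      have hR : ∀ x, R x = x - f x • d := fun x => rfl
      refine ⟨φ.trans R, fun i hi => ?_⟩
      change R (φ (u i - u 0)) = _
      rcases Finset.mem_insert.1 hi with rfl | hi
      · rw [hR, ← hw, hfw, one_smul, hd, sub_sub_cancel]
      · rw [hφ i hi, hR]
        have hz : f (u' i - u' 0) = 0 := by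
          rw [hf]
          have ea : Q ((u' i - u' 0) - w) = Q ((u' i - u' 0) - w') := by
            rw [hw', sub_sub_sub_cancel_right, ← hQ2 i a, ← hφ i hi, hw, ← map_sub, φ.map_app,
              sub_sub_sub_cancel_right]
          have eb : ∀ z, Q ((u' i - u' 0) - z) = Q (u' i - u' 0) + Q z - QuadraticMap.polar Q (u' i - u' 0) z := by
            intro z
            have := QuadraticMap.map_add Q (u' i - u' 0) (-z)
            rw [QuadraticMap.map_neg, QuadraticMap.polar_neg_right, ← sub_eq_add_neg] at this
            linear_combination this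
          rw [eb, eb, hQw] at ea
          rw [hd, sub_eq_add_neg w w', QuadraticMap.polar_add_right, QuadraticMap.polar_neg_right]
          rw [show QuadraticMap.polar Q (u' i - u' 0) w + -QuadraticMap.polar Q (u' i - u' 0) w' = 0 by linear_combination -ea,
            mul_zero]
        rw [hz, zero_smul, sub_zero]
  obtain ⟨φ, hφ⟩ := hex Finset.univ
  refine ⟨φ, u' 0 - φ (u 0), fun i => ?_⟩
  have := hφ i (Finset.mem_univ i)
  rw [map_sub] at this
  rw [← add_sub_assoc, add_comm, add_sub_assoc, this]
  abel

end Cfsg.Agent.S5754
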