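import Cfsg.Statements.S5775
import Cfsg.Agent.Aschbacher.General.Maximal
import Cfsg.Agent.Aschbacher.General.FieldFour

set_option autoImplicit false
open Cfsg

namespace Cfsg.Agent.S5775

/-- Every maximal subgroup of SL_3(q) is of one of the listed geometric types or lies in the residual class. Let F be a finite field with q elements and H a maximal subgroup of SL_3(F) (viewed inside GL_3(F)). Then H is the intersection with SL_3(F) of one of: the stabiliser of a proper non-zero subspace; for q ≥ 5, the stabiliser of a decomposition of F^3 into three independent lines; for q ≠ 4, the normaliser of a degree-3 subfield of the matrix algebra; a subfield group for a subfield F₀ with |F| = |F₀|^r, r prime; for q = p ≡ 1 mod 3 prime, the normaliser of an absolutely irreducible 3-subgroup R of exponent 3 with centre of order 3, all of whose characteristic abelian subgroups are cyclic, of order 3^(1+2m) for some m ≥ 1, with F the smallest field of characteristic p containing the cube roots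 of unity (so R is extraspecial of order 27); for q odd, the similarity group of a non-degenerate quadratic form; the similarity group of a non-degenerate unitary form — or else H lies in the residual class of the linear case (modulo scalars H is almost simple, with absolutely irreducible perfect socle preimage realisable over no proper subfield and fixing no non-degenerate quadratic, symplectic or unitary form). -/
theorem result {F : Type*} [Field F] [Fintype F] (H : Subgroup (Matrix.GeneralLinearGroup (Fin 3) F)) (hH : Cfsg.Geo.IsMaximalIn (Cfsg.Geo.specialLinear (Fin 3) F) H) :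
    (∃ W : Submodule F (Fin 3 → F), W ≠ ⊥ ∧ W ≠ ⊤ ∧ H = Cfsg.Geo.subspaceStabilizer W ⊓ Cfsg.Geo.specialLinear (Fin 3) F) ∨
    (5 ≤ Fintype.card F ∧ ∃ D : Fin 3 → Submodule F (Fin 3 → F), Cfsg.Geo.IsMDecomposition 1 D ∧ H = Cfsg.Geo.decompositionStabilizer D ⊓ Cfsg.Geo.specialLinear (Fin 3) F) ∨
    (Fintype.card F ≠ 4 ∧ ∃ K : Subalgebra F (Matrix (Fin 3) (Fin 3) F), Cfsg.Geo.IsFieldSubalgebra 3 K ∧ H = Cfsg.Geo.subalgebraNormalizer K ⊓ Cfsg.Geo.specialLinear (Fin 3) F) ∨
    (∃ (F₀ : Subfield F) (r : ℕ) (P : Matrix.GeneralLinearGroup (Fin 3) F), r.Prime ∧ Fintype.card F = Nat.card F₀ ^ r ∧ H = Cfsg.Geo.subfieldSubgroup F₀ P ⊓ Cfsg.Geo.specialLinear (Fin 3) F) ∨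
    (∃ (p : ℕ) (R : Subgroup (Matrix.GeneralLinearGroup (Fin 3) F)), p.Prime ∧ Fintype.card F = p ∧ p % 3 = 1 ∧ Cfsg.Geo.IsLinearSymplecticTypeData 3 R ∧ H = Cfsg.Geo.subgroupNormalizer R ⊓ Cfsg.Geo.specialLinear (Fin 3) F) ∨
    (Odd (Fintype.card F) ∧ ∃ Q : (Fin 3 → F) → F, Cfsg.Geo.IsNondegenerateQuadraticForm Q ∧ H = Cfsg.Geo.quadSimilarityGroup Q ⊓ Cfsg.Geo.specialLinear (Fin 3) F) ∨
    (∃ (σ : F ≃+* F) (f : (Fin 3 → F) → (Fin 3 → F) → F), Cfsg.Geo.IsUnitaryForm σ f ∧ H = Cfsg.Geo.similarityGroup f ⊓ Cfsg.Geo.specialLinear (Fin 3) F) ∨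
    Cfsg.Geo.InLinearResidualClass H := by
  open CfsgLib.Aschbacher in
  rcases maximal_linear (ι := Fin 3) (F := F) (H := H) (by simp) hH with hW | ⟨t, m, D, htm, hD, h1, -, -, h⟩ |
    ⟨r, K, hr, hrn, hK, h⟩ | ⟨n₁, n₂, e, P, hn1, hn12, hcard, -, -⟩ | hsub | ⟨r, m, R, hR, hm1, hm, h⟩ |
    ⟨m, t, e, P, hm, ht, hcard, -⟩ | hquad | ⟨f, hf, -⟩ | huni | hres
  · exact Or.inl (hW)
  · rw [Fintype.card_fin] at htm
    have hm' : m ≤ 3 := Nat.le_of_dvd (by norm_num) ⟨t, by rw [← htm, mul_comm]⟩
    have hm0 := hD.pos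
    have ht2 := hD.two_le
    interval_cases m <;> first | omega | skip
    · obtain rfl : t = 3 := by omega
      exact Or.inr (Or.inl (⟨h1 rfl, D, hD, h⟩))
  · rw [Fintype.card_fin] at hrn
    obtain rfl : r = 3 := (Nat.prime_dvd_prime_iff_eq hr (by norm_num)).mp hrn
    by_cases hq : Fintype.card F = 4
    · obtain ⟨F₀, P, hc, hle⟩ := cubicField_four hq hK
      refine Or.inr (Or.inr (Or.inr (Or.inl (⟨F₀, 2, P, Nat.prime_two, hc, ?_⟩))))
      exact eq_inf_of_le hH (h.le.trans hle)
        (specialLinear_not_le_subfield (by simp) (subfield_ne_top Nat.prime_two hc) P)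
    · exact Or.inr (Or.inr (Or.inl (⟨hq, K, hK, h⟩)))
  · rw [Fintype.card_fin] at hcard
    exfalso
    have := Nat.mul_le_mul hn1 (show 3 ≤ n₂ by omega)
    omega
  · exact Or.inr (Or.inr (Or.inr (Or.inl (hsub))))
  · rw [Fintype.card_fin] at hm
    have hr : r = 3 := by
      have hp := hR.symplecticType.prime
      exact (Nat.prime_dvd_prime_iff_eq hp (by norm_num)).mp (hm ▸ dvd_pow_self r (by omega))
    subst hr
    obtain ⟨p, hp, hc, hp3⟩ := symplecticType_three hR rfl
    exact Or.inr (Or.inr (Or.inr (Or.inr (Or.inl (⟨p, R, hp, hc, hp3, hR, h⟩)))))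
  · rw [Fintype.card_fin] at hcard
    exfalso
    have := Nat.pow_le_pow_left hm t
    have := Nat.pow_le_pow_right (show 3 > 0 by norm_num) ht
    omega
  · exact Or.inr (Or.inr (Or.inr (Or.inr (Or.inr (Or.inl (hquad))))))
  · exact absurd hf (CfsgLib.Aschbacher.not_symplectic_of_odd (by rw [Fintype.card_fin]; decide) f)
  · exact Or.inr (Or.inr (Or.inr (Or.inr (Or.inr (Or.inr (Or.inl (huni)))))))
  · exact Or.inr (Or.inr (Or.inr (Or.inr (Or.inr (Or.inr (Or.inr (hres)))))))

end Cfsg.Agent.S5775
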