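import Cfsg.Agent.Geo.DimThree.ResidualMax

set_option autoImplicit false
open Cfsg

namespace Cfsg.Agent.S5776

/-- The maximal subgroups of SL_3(q) in the residual class. Let F be a finite field with q elements of characteristic p, and let H be a maximal subgroup of SL_3(F) lying in the residual class of the linear case. Then the perfect socle preimage P of H (the subgroup given by the residual-class conditions) satisfies one of: P modulo scalars is isomorphic to the simple group of order 168 (written here as PSL_3(2)) and q = p with p ≠ 2 and p ≡ 1, 2 or 4 mod 7; or P modulo scalars is isomorphic to the alternating group A_6 and either q = p with p ≡ 1 or 4 mod 15, or q = p² with p ≡ 2 or 3 mod 5 and p ≠ 3. -/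
theorem result {F : Type*} [Field F] [Fintype F] (H : Subgroup (Matrix.GeneralLinearGroup (Fin 3) F)) (hH : Cfsg.Geo.IsMaximalIn (Cfsg.Geo.specialLinear (Fin 3) F) H) (hS : Cfsg.Geo.InLinearResidualClass H) :
    ∃ (P : Subgroup (Matrix.GeneralLinearGroup (Fin 3) F)) (p : ℕ), Cfsg.Geo.IsResidualCore H P ∧ p.Prime ∧ CharP F p ∧
    ((Nonempty ((P ⧸ (Cfsg.Geo.scalars (Fin 3) F).subgroupOf P) ≃* Matrix.ProjectiveSpecialLinearGroup (Fin 3) (ZMod 2)) ∧
        Fintype.card F = p ∧ p ≠ 2 ∧ (p % 7 = 1 ∨ p % 7 = 2 ∨ p % 7 = 4)) ∨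
     (Nonempty ((P ⧸ (Cfsg.Geo.scalars (Fin 3) F).subgroupOf P) ≃* alternatingGroup (Fin 6)) ∧
        ((Fintype.card F = p ∧ (p % 15 = 1 ∨ p % 15 = 4)) ∨ (Fintype.card F = p ^ 2 ∧ p ≠ 3 ∧ (p % 5 = 2 ∨ p % 5 = 3))))) := by
  obtain ⟨P, hP, hnq, -, hnu⟩ := hS
  obtain ⟨p, hp⟩ := CharP.exists F
  haveI : Fact p.Prime := ⟨CharP.char_is_prime F p⟩
  refine ⟨P, p, hP, Fact.out, hp, ?_⟩
  by_cases htv : ∃ v φ : Fin 3 → F, v ≠ 0 ∧ φ ≠ 0 ∧ CfsgLib.Geo.HasTv P v φ
  · obtain ⟨h4, hiso⟩ := CfsgLib.Geo.D3.sl3_tv_branch hH hP hnu htv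
    rw [Nat.card_eq_fintype_card] at h4
    have h2 : p = 2 := CharP.ringChar_of_prime_eq_zero (R := F) (p := 2) Nat.prime_two ?_ ▸ (ringChar.eq F p).symm
    · subst h2
      exact Or.inr ⟨hiso, Or.inr ⟨by rw [h4]; norm_num, by norm_num, Or.inl (by norm_num)⟩⟩
    · have h0 : ((4 : ℕ) : F) = 0 := h4 ▸ Nat.cast_card_eq_zero F
      push_cast at h0 ⊢
      rcases mul_eq_zero.1 (show (2 : F) * 2 = 0 by linear_combination h0) with h | h <;> exact h
  · rcases CfsgLib.Geo.D3.Core.dichotomy (CfsgLib.Geo.D3.Core.of_residual hP) with hyp | ⟨h2, hno⟩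
    · exact absurd (CfsgLib.Geo.D3.Core.exists_tv_of_hyp (CfsgLib.Geo.D3.Core.of_residual hP) hyp) htv
    · exact CfsgLib.Geo.D3.sl3_notv_branch hP p h2 hno hnq hnu

end Cfsg.Agent.S5776
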