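import Cfsg.Statements.S5778
import Cfsg.Agent.Aschbacher.Form.UnitaryThreeLines
import Cfsg.Agent.Aschbacher.Form.UnitaryThreeField
import Cfsg.Agent.Aschbacher.Form.UnitaryThreeSix

set_option autoImplicit false
open Cfsg

namespace Cfsg.Agent.S5778

open CfsgLib.Aschbacher

/-- Every maximal subgroup of SU_3(q), q ≥ 3, is of one of the listed geometric types or lies in the residual class. Let F be the field with q² elements, f the standard unitary form Σ u_i v_i^q on F^3, and H a maximal subgroup of SU_3(q) (the determinant-one isometries of f, inside GL_3(F)). Then H is the intersection with SU_3(q) of one of: the stabiliser of a non-zero subspace on which f vanishes; the stabiliser of a non-degenerate 1-space; for q ≠ 5, the stabiliser of a decomposition into three mutually orthogonal non-degenerate 1-spaces; for q ≠ 3, 5, the normaliser of an adjoint-closed degree-3 subfield of the matrix algebra; a subfield group of odd prime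 index whose F₀-structure carries f; for q odd, q ≥ 7, a subfield group of index 2 whose F₀-structure carries f; for q = p ≡ 2 mod 3 prime with p ≥ 11, the normaliser of an absolutely irreducible subgroup of order 27 with centre of order 3, exponent 3 and all characteristic abelian subgroups cyclic, contained in the similarity group of f — or else H lies in the residual class of the unitary case. -/
theorem result {F : Type*} [Field F] [Fintype F] (q : ℕ) (hF : Fintype.card F = q ^ 2) (hq : 3 ≤ q) (H : Subgroup (Matrix.GeneralLinearGroup (Fin 3) F)) (hH : Cfsg.Geo.IsMaximalIn (Cfsg.GU 3 F q ⊓ Cfsg.Geo.specialLinear (Fin 3) F) H) :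
    (∃ W : Submodule F (Fin 3 → F), W ≠ ⊥ ∧ Cfsg.Geo.IsTotallySingularFor (Cfsg.hermForm 3 F q) W ∧ H = Cfsg.Geo.subspaceStabilizer W ⊓ (Cfsg.GU 3 F q ⊓ Cfsg.Geo.specialLinear (Fin 3) F)) ∨
    (∃ W : Submodule F (Fin 3 → F), W ≠ ⊥ ∧ Cfsg.Geo.IsNondegenerateOn (Cfsg.hermForm 3 F q) W ∧ 2 * Module.finrank F W < 3 ∧ H = Cfsg.Geo.subspaceStabilizer W ⊓ (Cfsg.GU 3 F q ⊓ Cfsg.Geo.specialLinear (Fin 3) F)) ∨
    (q ≠ 5 ∧ ∃ D : Fin 3 → Submodule F (Fin 3 → F), Cfsg.Geo.IsNondegenerateMDecomposition (Cfsg.hermForm 3 F q) 1 D ∧ H = Cfsg.Geo.decompositionStabilizer D ⊓ (Cfsg.GU 3 F q ⊓ Cfsg.Geo.specialLinear (Fin 3) F)) ∨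
    (q ≠ 3 ∧ q ≠ 5 ∧ ∃ K : Subalgebra F (Matrix (Fin 3) (Fin 3) F), Cfsg.Geo.IsFieldSubalgebra 3 K ∧ Cfsg.Geo.IsAdjointClosedFor (Cfsg.hermForm 3 F q) K ∧ H = Cfsg.Geo.subalgebraNormalizer K ⊓ (Cfsg.GU 3 F q ⊓ Cfsg.Geo.specialLinear (Fin 3) F)) ∨
    (∃ (F₀ : Subfield F) (r : ℕ) (P : Matrix.GeneralLinearGroup (Fin 3) F), r.Prime ∧ Odd r ∧ Fintype.card F = Nat.card F₀ ^ r ∧ Cfsg.Geo.IsFormRationalStructure (Cfsg.hermForm 3 F q) F₀ 1 P ∧ H = Cfsg.Geo.subfieldSubgroup F₀ P ⊓ (Cfsg.GU 3 F q ⊓ Cfsg.Geo.specialLinear (Fin 3) F)) ∨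
    (Odd q ∧ 7 ≤ q ∧ ∃ (F₀ : Subfield F) (P : Matrix.GeneralLinearGroup (Fin 3) F), Fintype.card F = Nat.card F₀ ^ 2 ∧ Cfsg.Geo.IsFormRationalStructure (Cfsg.hermForm 3 F q) F₀ 1 P ∧ H = Cfsg.Geo.subfieldSubgroup F₀ P ⊓ (Cfsg.GU 3 F q ⊓ Cfsg.Geo.specialLinear (Fin 3) F)) ∨
    (∃ (p : ℕ) (R : Subgroup (Matrix.GeneralLinearGroup (Fin 3) F)), p.Prime ∧ q = p ∧ p % 3 = 2 ∧ 11 ≤ p ∧ Cfsg.Geo.IsSymplecticTypeGroup 3 R ∧ Cfsg.Geo.ActsAbsolutelyIrreducibly (Cfsg.Geo.matrixSet R) ∧ R ≤ Cfsg.Geo.similarityGroup (Cfsg.hermForm 3 F q) ∧ Nat.card R = 27 ∧ Nat.card (Subgroup.center R) = 3 ∧ H = Cfsg.Geo.subgroupNormalizer R ⊓ (Cfsg.GU 3 F q ⊓ Cfsg.Geo.specialLinear (Fin 3) F)) ∨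
    Cfsg.Geo.InUnitaryResidualClass H := by
  classical
  obtain ⟨σ, hf, hσ, p, m, hp, hchar, hqp, hm⟩ := exists_hermForm_unitary (n := 3) hF
  have hn3 : 3 ≤ Fintype.card (Fin 3) := le_of_eq (Fintype.card_fin 3).symm
  have hFp : Fintype.card F = p ^ (2 * m) := by rw [hF, hqp, ← pow_mul, mul_comm]
  have h := structure_unitary_prime hf hp hFp (fun a => hqp ▸ hσ a)
    (by rw [Fintype.card_fin]; exact Nat.prime_three) (by rw [Fintype.card_fin]; decide) hH.1.le
  revert h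
  rw [Fintype.card_fin]
  rintro (⟨W, h0, h1, h⟩ | ⟨W, h0, h1, h2, h⟩ | ⟨D, hD, h⟩ | ⟨K, hK, hKa, h⟩ |
    ⟨F₀, r, P, hr, hrq, hcard, hP, h⟩ | ⟨R, ho, hR, hRi, hRS, hRc, hRz, hcl, h⟩ | h)
  · refine Or.inl ⟨W, h0, h1, eq_inf_of_le hH h (isoSL_not_le_subspace hf hn3 h0 ?_)⟩
    rintro rfl
    obtain ⟨z, x, -, hzx⟩ := exists_isotropic_pair hf hn3
    exact hzx (h1 z Submodule.mem_top x Submodule.mem_top)
  · refine Or.inr (Or.inl ⟨W, h0, h1, h2, eq_inf_of_le hH h (isoSL_not_le_subspace hf hn3 h0 ?_)⟩)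
    rintro rfl
    rw [finrank_top, Module.finrank_fintype_fun_eq_card, Fintype.card_fin] at h2
    omega
  · by_cases h5 : q = 5
    · subst h5
      exact (linesThree_not_maximal hF hH hD h).elim
    exact Or.inr (Or.inr (Or.inl ⟨h5, D, hD, eq_inf_of_le hH h (isoSL_not_le_frame_three hf hσ hF hq hD)⟩))
  · by_cases h5 : q = 5
    · subst h5
      exact (fieldThree_not_maximal_five hF hH hK hKa h).elim
    by_cases h3 : q = 3
    · subst h3
      exact (fieldThree_not_maximal_three hF hH hK hKa h).elim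
    exact Or.inr (Or.inr (Or.inr (Or.inl ⟨h3, h5, K, hK, hKa,
      eq_inf_of_le hH h (isoSL_not_le_field hf hn3 (by norm_num) hK)⟩)))
  · have h' := eq_inf_of_le hH h (isoSL_not_le_subfield hf hn3 hr hrq hcard hP)
    rcases hrq with hro | ⟨rfl, hFo⟩
    · exact Or.inr (Or.inr (Or.inr (Or.inr (Or.inl ⟨F₀, r, P, hr, hro, hcard, hP, h'⟩))))
    rw [hF] at hFo
    have hqo : Odd q := (Nat.odd_pow_iff two_ne_zero).mp hFo
    by_cases h3 : q = 3
    · subst h3
      obtain ⟨D, hD, hD'⟩ := rationalThree_to_lines hF hcard hP hH.1.le h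
      exact Or.inr (Or.inr (Or.inl ⟨by norm_num, D, hD,
        eq_inf_of_le hH hD' (isoSL_not_le_frame_three hf hσ hF hq hD)⟩))
    by_cases h5 : q = 5
    · subst h5
      exact (rationalThree_not_maximal hF hH hcard hP h).elim
    have h7 : 7 ≤ q := by
      obtain ⟨j, rfl⟩ := hqo
      omega
    exact Or.inr (Or.inr (Or.inr (Or.inr (Or.inr (Or.inl ⟨hqo, h7, F₀, P, hcard, hP, h'⟩)))))
  · have : Fact (Nat.Prime 3) := ⟨Nat.prime_three⟩
    have h00 : (p : ZMod 3) ≠ 0 := fun h0 => by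
      rw [h0, orderOf_eq_zero_iff'.mpr (fun k hk => by rw [zero_pow hk.ne']; exact zero_ne_one)] at ho
      omega
    have h01 : (p : ZMod 3) ≠ 1 := fun h1 => by rw [h1, orderOf_one] at ho; omega
    have hd : orderOf (p : ZMod 3) ∣ 2 := orderOf_dvd_of_pow_eq_one (ZMod.pow_card_sub_one_eq_one h00)
    rw [ho] at hd
    obtain rfl : m = 1 := by
      have := Nat.le_of_dvd two_pos hd
      omega
    rw [pow_one] at hqp
    subst hqp
    have hmod : q % 3 = 2 := by
      rw [← ZMod.natCast_mod] at h00 h01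
      have : q % 3 < 3 := Nat.mod_lt _ (by norm_num)
      interval_cases hh : q % 3
      · exact absurd Nat.cast_zero h00
      · exact absurd Nat.cast_one h01
      · rfl
    replace hRc : Nat.card R = 27 := hRc.trans (by norm_num)
    by_cases h5 : q = 5
    · subst h5
      exact (classSixThree_not_maximal hF hH hR hRi hRS hRc hRz hcl h).elim
    have h11 : 11 ≤ q := by
      by_contra hlt
      interval_cases q <;> first | omega | exact absurd hp (by decide)
    refine Or.inr (Or.inr (Or.inr (Or.inr (Or.inr (Or.inr (Or.inl ⟨q, R, hp, rfl, hmod, h11, hR, hRi,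
      fun g hg => ⟨1, fun u v => ?_⟩, hRc, hRz,
      eq_inf_of_le hH h (isoSL_not_le_normalizer_three hf hp (by omega) hRi hRc hRz)⟩))))))
    rw [Units.val_one, one_mul]
    exact (hRS hg).1 u v
  · exact Or.inr (Or.inr (Or.inr (Or.inr (Or.inr (Or.inr (Or.inr h))))))

end Cfsg.Agent.S5778
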