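import Cfsg.Statements.S5781
import Cfsg.Agent.Aschbacher.General.Maximal
import Cfsg.Agent.Aschbacher.General.LinesFive

set_option autoImplicit false
open Cfsg

namespace Cfsg.Agent.S5781

/-- Every maximal subgroup of SL_4(q) is of one of the listed geometric types or lies in the residual class. Let F be a finite field with q elements and H a maximal subgroup of SL_4(F) (inside GL_4(F)). Then H is the intersection with SL_4(F) of one of: the stabiliser of a proper non-zero subspace; for q ≥ 7, the stabiliser of a decomposition into four independent lines; for q ≥ 4, the stabiliser of a decomposition into two independent planes; the normaliser of a degree-2 subfield of the matrix algebra; a subfield group for a subfield F₀ with |F| = |F₀|^r, r prime; for q = p ≡ 1 mod 4 prime, the normaliser of an absolutely irreducible 2-subgroup R of exponent 4 with centre of order 4, all of whose characteristic abelian subgroups are cyclic, of order 2^(2+2m) for some m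 (here |R| = 64), with 4 dividing p − 1; for q odd, the similarity group of a non-degenerate quadratic form; the similarity group of a non-degenerate symplectic form; the similarity group of a non-degenerate unitary form — or else H lies in the residual class of the linear case. -/
theorem result {F : Type*} [Field F] [Fintype F] (H : Subgroup (Matrix.GeneralLinearGroup (Fin 4) F)) (hH : Cfsg.Geo.IsMaximalIn (Cfsg.Geo.specialLinear (Fin 4) F) H) :
    (∃ W : Submodule F (Fin 4 → F), W ≠ ⊥ ∧ W ≠ ⊤ ∧ H = Cfsg.Geo.subspaceStabilizer W ⊓ Cfsg.Geo.specialLinear (Fin 4) F) ∨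
    (7 ≤ Fintype.card F ∧ ∃ D : Fin 4 → Submodule F (Fin 4 → F), Cfsg.Geo.IsMDecomposition 1 D ∧ H = Cfsg.Geo.decompositionStabilizer D ⊓ Cfsg.Geo.specialLinear (Fin 4) F) ∨
    (4 ≤ Fintype.card F ∧ ∃ D : Fin 2 → Submodule F (Fin 4 → F), Cfsg.Geo.IsMDecomposition 2 D ∧ H = Cfsg.Geo.decompositionStabilizer D ⊓ Cfsg.Geo.specialLinear (Fin 4) F) ∨
    (∃ K : Subalgebra F (Matrix (Fin 4) (Fin 4) F), Cfsg.Geo.IsFieldSubalgebra 2 K ∧ H = Cfsg.Geo.subalgebraNormalizer K ⊓ Cfsg.Geo.specialLinear (Fin 4) F) ∨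
    (∃ (F₀ : Subfield F) (r : ℕ) (P : Matrix.GeneralLinearGroup (Fin 4) F), r.Prime ∧ Fintype.card F = Nat.card F₀ ^ r ∧ H = Cfsg.Geo.subfieldSubgroup F₀ P ⊓ Cfsg.Geo.specialLinear (Fin 4) F) ∨
    (∃ (p : ℕ) (R : Subgroup (Matrix.GeneralLinearGroup (Fin 4) F)), p.Prime ∧ Fintype.card F = p ∧ p % 4 = 1 ∧ Cfsg.Geo.IsLinearSymplecticTypeData 2 R ∧ H = Cfsg.Geo.subgroupNormalizer R ⊓ Cfsg.Geo.specialLinear (Fin 4) F) ∨
    (Odd (Fintype.card F) ∧ ∃ Q : (Fin 4 → F) → F, Cfsg.Geo.IsNondegenerateQuadraticForm Q ∧ H = Cfsg.Geo.quadSimilarityGroup Q ⊓ Cfsg.Geo.specialLinear (Fin 4) F) ∨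
    (∃ f : (Fin 4 → F) → (Fin 4 → F) → F, Cfsg.Geo.IsSymplecticForm f ∧ H = Cfsg.Geo.similarityGroup f ⊓ Cfsg.Geo.specialLinear (Fin 4) F) ∨
    (∃ (σ : F ≃+* F) (f : (Fin 4 → F) → (Fin 4 → F) → F), Cfsg.Geo.IsUnitaryForm σ f ∧ H = Cfsg.Geo.similarityGroup f ⊓ Cfsg.Geo.specialLinear (Fin 4) F) ∨
    Cfsg.Geo.InLinearResidualClass H := by
  open CfsgLib.Aschbacher in
  rcases maximal_linear (ι := Fin 4) (F := F) (H := H) (by simp) hH with hW | ⟨t, m, D, htm, hD, h1, -, h2, h⟩ |
    ⟨r, K, hr, hrn, hK, h⟩ | ⟨n₁, n₂, e, P, hn1, hn12, hcard, -, -⟩ | hsub | ⟨r, m, R, hR, hm1, hm, h⟩ |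
    ⟨m, t, e, P, hm, ht, hcard, -⟩ | hquad | ⟨f, hf, h⟩ | huni | hres
  · exact Or.inl (hW)
  · rw [Fintype.card_fin] at htm
    have hm' : m ≤ 4 := Nat.le_of_dvd (by norm_num) ⟨t, by rw [← htm, mul_comm]⟩
    have hm0 := hD.pos
    have ht2 := hD.two_le
    interval_cases m <;> first | omega | skip
    · obtain rfl : t = 4 := by omega
      refine Or.inr (Or.inl (⟨?_, D, hD, h⟩))
      have h5 := h1 rfl
      by_contra hq
      obtain hq | hq : Fintype.card F = 5 ∨ Fintype.card F = 6 := by omega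
      · exact not_maximal_lines_five hq hD h hH
      · obtain ⟨n, hp, hn⟩ := FiniteField.card F (ringChar F)
        rw [hq] at hn
        have d2 := (Nat.prime_dvd_prime_iff_eq (by norm_num) hp).mp ((Nat.prime_two).dvd_of_dvd_pow (hn ▸ (by norm_num : 2 ∣ 6)))
        have d3 := (Nat.prime_dvd_prime_iff_eq (by norm_num) hp).mp ((Nat.prime_three).dvd_of_dvd_pow (hn ▸ (by norm_num : 3 ∣ 6)))
        omega
    · obtain rfl : t = 2 := by omega
      exact Or.inr (Or.inr (Or.inl (⟨h2 rfl rfl, D, hD, h⟩)))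
  · rw [Fintype.card_fin] at hrn
    have hr' : r ≤ 4 := Nat.le_of_dvd (by norm_num) hrn
    interval_cases r <;> first | (exfalso; omega) | (exfalso; norm_num at hr; done) | skip
    · exact Or.inr (Or.inr (Or.inr (Or.inl (⟨K, hK, h⟩))))
  · rw [Fintype.card_fin] at hcard
    exfalso
    have := Nat.mul_le_mul hn1 (show 3 ≤ n₂ by omega)
    omega
  · exact Or.inr (Or.inr (Or.inr (Or.inr (Or.inl (hsub)))))
  · rw [Fintype.card_fin] at hm
    have hr : r = 2 := by
      have hp := hR.symplecticType.prime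
      exact (Nat.prime_dvd_prime_iff_eq hp (by norm_num)).mp (hp.dvd_of_dvd_pow
        (show r ∣ 2 ^ 2 by rw [show (2 : ℕ) ^ 2 = r ^ m by norm_num [← hm]]; exact dvd_pow_self r (by omega)))
    subst hr
    obtain ⟨p, hp, hc, hp4⟩ := symplecticType_two (by simp) hR rfl
    exact Or.inr (Or.inr (Or.inr (Or.inr (Or.inr (Or.inl (⟨p, R, hp, hc, hp4, hR, h⟩))))))
  · rw [Fintype.card_fin] at hcard
    exfalso
    have := Nat.pow_le_pow_left hm t
    have := Nat.pow_le_pow_right (show 3 > 0 by norm_num) ht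
    omega
  · exact Or.inr (Or.inr (Or.inr (Or.inr (Or.inr (Or.inr (Or.inl (hquad)))))))
  · exact Or.inr (Or.inr (Or.inr (Or.inr (Or.inr (Or.inr (Or.inr (Or.inl (⟨f, hf, h⟩))))))))
  · exact Or.inr (Or.inr (Or.inr (Or.inr (Or.inr (Or.inr (Or.inr (Or.inr (Or.inl (huni)))))))))
  · exact Or.inr (Or.inr (Or.inr (Or.inr (Or.inr (Or.inr (Or.inr (Or.inr (Or.inr (hres)))))))))

end Cfsg.Agent.S5781
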