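import Cfsg.Statements.S5783
import Cfsg.Agent.Geo.UnitGeomAll
import Cfsg.Agent.Geo.SUFour.Nondeg
import Cfsg.Agent.Geo.SUFour.FrameMax
import Cfsg.Agent.Geo.SUFour.LagPair
import Cfsg.Agent.Geo.SUFour.SubOdd
import Cfsg.Agent.Geo.SUFour.OrthSub
import Cfsg.Agent.Geo.SUFour.PauliUnit

set_option autoImplicit false
open Cfsg

namespace Cfsg.Agent.S5783

/-- Maximal subgroups of SU_4(q) of geometric type (any prime power q). Let F be the field with q² elements, f the standard unitary form Σ u_i v_i^q on F^4 and SU_4(q) its determinant-one isometry group inside GL_4(F). Each of the following, intersected with SU_4(q), is a maximal subgroup of SU_4(q): (1) the stabiliser of any non-zero subspace on which f vanishes identically (totally isotropic 1-spaces and 2-spaces); (2) the stabiliser of any non-degenerate 1-space; (3) for q ≠ 3, the stabiliser of any decomposition of F^4 into four mutually orthogonal non-degenerate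 1-spaces; (4) for q ≥ 3, the stabiliser of any decomposition into two mutually orthogonal non-degenerate 2-spaces; (5) for q ≥ 4, the stabiliser of any decomposition into two totally isotropic 2-spaces; (6) every subfield group for a subfield F₀ of odd prime index in F whose F₀-structure carries f; (7) every subfield group for the subfield F₀ of index 2 whose F₀-structure carries ζ f for a non-zero ζ with ζ + ζ^q = 0, vanishing on pairs (u, u) (the symplectic type); (8) for q odd with q ≥ 5, every subfield group for the subfield F₀ of index 2 whose F₀-structure carries f (the orthogonal types, either sign); (9) for q = p prime with p ≡ 3 mod 4, the normaliser of any absolutely irreducible 2-group R of symplectic type and exponent 4 with |R| = 64 and centre of order 4, consisting of isometries of f. -/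
theorem result {F : Type*} [Field F] [Fintype F] (q : ℕ) (hF : Fintype.card F = q ^ 2) :
    (∀ W : Submodule F (Fin 4 → F), W ≠ ⊥ → Cfsg.Geo.IsTotallySingularFor (Cfsg.hermForm 4 F q) W → Cfsg.Geo.IsMaximalIn (Cfsg.GU 4 F q ⊓ Cfsg.Geo.specialLinear (Fin 4) F) (Cfsg.Geo.subspaceStabilizer W ⊓ (Cfsg.GU 4 F q ⊓ Cfsg.Geo.specialLinear (Fin 4) F))) ∧
    (∀ W : Submodule F (Fin 4 → F), W ≠ ⊥ → Cfsg.Geo.IsNondegenerateOn (Cfsg.hermForm 4 F q) W → 2 * Module.finrank F W < 4 → Cfsg.Geo.IsMaximalIn (Cfsg.GU 4 F q ⊓ Cfsg.Geo.specialLinear (Fin 4) F) (Cfsg.Geo.subspaceStabilizer W ⊓ (Cfsg.GU 4 F q ⊓ Cfsg.Geo.specialLinear (Fin 4) F))) ∧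
    (q ≠ 3 → ∀ D : Fin 4 → Submodule F (Fin 4 → F), Cfsg.Geo.IsNondegenerateMDecomposition (Cfsg.hermForm 4 F q) 1 D → Cfsg.Geo.IsMaximalIn (Cfsg.GU 4 F q ⊓ Cfsg.Geo.specialLinear (Fin 4) F) (Cfsg.Geo.decompositionStabilizer D ⊓ (Cfsg.GU 4 F q ⊓ Cfsg.Geo.specialLinear (Fin 4) F))) ∧
    (3 ≤ q → ∀ D : Fin 2 → Submodule F (Fin 4 → F), Cfsg.Geo.IsNondegenerateMDecomposition (Cfsg.hermForm 4 F q) 2 D → Cfsg.Geo.IsMaximalIn (Cfsg.GU 4 F q ⊓ Cfsg.Geo.specialLinear (Fin 4) F) (Cfsg.Geo.decompositionStabilizer D ⊓ (Cfsg.GU 4 F q ⊓ Cfsg.Geo.specialLinear (Fin 4) F))) ∧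
    (4 ≤ q → ∀ D : Fin 2 → Submodule F (Fin 4 → F), Cfsg.Geo.IsMDecomposition 2 D → (∀ i, Cfsg.Geo.IsTotallySingularFor (Cfsg.hermForm 4 F q) (D i)) → Cfsg.Geo.IsMaximalIn (Cfsg.GU 4 F q ⊓ Cfsg.Geo.specialLinear (Fin 4) F) (Cfsg.Geo.decompositionStabilizer D ⊓ (Cfsg.GU 4 F q ⊓ Cfsg.Geo.specialLinear (Fin 4) F))) ∧
    (∀ (F₀ : Subfield F) (r : ℕ) (P : Matrix.GeneralLinearGroup (Fin 4) F), r.Prime → Odd r → Fintype.card F = Nat.card F₀ ^ r → Cfsg.Geo.IsFormRationalStructure (Cfsg.hermForm 4 F q) F₀ 1 P → Cfsg.Geo.IsMaximalIn (Cfsg.GU 4 F q ⊓ Cfsg.Geo.specialLinear (Fin 4) F) (Cfsg.Geo.subfieldSubgroup F₀ P ⊓ (Cfsg.GU 4 F q ⊓ Cfsg.Geo.specialLinear (Fin 4) F))) ∧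
    (∀ (F₀ : Subfield F) (P : Matrix.GeneralLinearGroup (Fin 4) F) (ζ : F), Fintype.card F = Nat.card F₀ ^ 2 → ζ ≠ 0 → ζ + ζ ^ q = 0 → Cfsg.Geo.IsFormRationalStructure (Cfsg.hermForm 4 F q) F₀ ζ P → (∀ u : Fin 4 → F, (∀ i, u i ∈ F₀) → (Cfsg.hermForm 4 F q) (Matrix.mulVec (P : Matrix (Fin 4) (Fin 4) F) u) (Matrix.mulVec (P : Matrix (Fin 4) (Fin 4) F) u) = 0) → Cfsg.Geo.IsMaximalIn (Cfsg.GU 4 F q ⊓ Cfsg.Geo.specialLinear (Fin 4) F) (Cfsg.Geo.subfieldSubgroup F₀ P ⊓ (Cfsg.GU 4 F q ⊓ Cfsg.Geo.specialLinear (Fin 4) F))) ∧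
    (Odd q → 5 ≤ q → ∀ (F₀ : Subfield F) (P : Matrix.GeneralLinearGroup (Fin 4) F), Fintype.card F = Nat.card F₀ ^ 2 → Cfsg.Geo.IsFormRationalStructure (Cfsg.hermForm 4 F q) F₀ 1 P → Cfsg.Geo.IsMaximalIn (Cfsg.GU 4 F q ⊓ Cfsg.Geo.specialLinear (Fin 4) F) (Cfsg.Geo.subfieldSubgroup F₀ P ⊓ (Cfsg.GU 4 F q ⊓ Cfsg.Geo.specialLinear (Fin 4) F))) ∧
    (∀ (p : ℕ) (R : Subgroup (Matrix.GeneralLinearGroup (Fin 4) F)), p.Prime → q = p → p % 4 = 3 → Cfsg.Geo.IsSymplecticTypeGroup 2 R → Cfsg.Geo.ActsAbsolutelyIrreducibly (Cfsg.Geo.matrixSet R) → R ≤ Cfsg.GU 4 F q → Nat.card R = 64 → Nat.card (Subgroup.center R) = 4 → Cfsg.Geo.IsMaximalIn (Cfsg.GU 4 F q ⊓ Cfsg.Geo.specialLinear (Fin 4) F) (Cfsg.Geo.subgroupNormalizer R ⊓ (Cfsg.GU 4 F q ⊓ Cfsg.Geo.specialLinear (Fin 4) F))) := by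
  classical
  open CfsgLib.Geo in
  have hF' := UnitAll.natCard hF
  refine ⟨fun W h0 hW => UnitAll.singular hF le_rfl h0 hW, fun W h0 hW hd => ?_, fun hq3 D hD => ?_,
    fun hq D hD => ?_, fun hq D hD hts => ?_, fun F₀ r P hr hro hcard hP => ?_,
    fun F₀ P ζ hcard hζ0 hζ hP halt => UnitAll.subfieldSymp hF le_rfl hcard hζ0 hζ hP halt,
    fun hodd hq5 F₀ P hcard hP => ?_, fun p R hp hqp h4 hRs hRi hRU hR6 hZ4 => ?_⟩
  · refine SUFour.nondeg_maximal hF' hW ?_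
    have h1 : Module.finrank F W ≠ 0 := fun e => h0 (Submodule.finrank_eq_zero.1 e)
    omega
  · exact SUFour.frame_maximal hF' rfl hq3 hD
  · exact isMaximalIn_of_key (UTv.decomp_proper hF' hD le_rfl)
      fun M hM hMI hMX => UTv.decomp_key hF' hD le_rfl (by omega) hM hMI hMX
  · exact SUFour.lag_pair_maximal hF' rfl hq D hD hts
  · have hcard' : Nat.card F = Nat.card F₀ ^ r := by rw [Nat.card_eq_fintype_card, hcard]
    have hS : UTv.UnitSub 4 q F F₀ P := ⟨UTv.moves_of_odd hF' hr hro hcard', hP⟩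
    exact isMaximalIn_of_key (SUFour.unitSub_proper hF' hS le_rfl hr hcard')
      fun M h1 h2 h3 => SUFour.unitSub_key hF' hS rfl hr hro hcard' h1 h2 h3
  · obtain ⟨hq, hfix⟩ := UnitAll.fixed_of_card hF hcard
    have h2 : (2 : F) ≠ 0 := by
      intro h0
      haveI : CharP F 2 := CharTwo.of_one_ne_zero_of_two_eq_zero one_ne_zero h0
      have h3 := FiniteField.even_card_of_char_two (F := F) (ringChar.eq F 2)
      have h5 : Odd (Fintype.card F) := by rw [hF]; exact hodd.pow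
      rw [Nat.odd_iff] at h5
      omega
    have hS : UTv.OrthSub 4 q F F₀ P :=
      { fixed := hfix
        mem_of_fixed := UTv.mem_of_fixed hF' hfix hq h2
        two := h2
        rational := hP }
    exact isMaximalIn_of_key (SUFour.orthSub_proper4 hF' hS rfl)
      fun M h1 h2 h3 => SUFour.orthSub_key4 hF' hS rfl hq5 h1 h2 h3
  · subst hqp
    haveI : Fact q.Prime := ⟨hp⟩
    haveI : CharP F q := charP_of_card_eq_prime_pow hF
    letI : Algebra (ZMod q) F := ZMod.algebra F q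
    exact SUFour.unitary_pauli_maximal hF' h4 hRs hRi hRU hR6 hZ4

end Cfsg.Agent.S5783
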