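import Cfsg.Statements.S5784
import Cfsg.Agent.Aschbacher.Form.UnitaryMaximal
import Cfsg.Agent.Aschbacher.Form.NormalizerFour
import Cfsg.Agent.Aschbacher.Form.UnitaryHalvesFour
import Cfsg.Agent.Aschbacher.Form.UnitaryLinesFour

set_option autoImplicit false
open Cfsg

namespace Cfsg.Agent.S5784

/-- Every maximal subgroup of SU_4(q) is of one of the listed geometric types or lies in the residual class. Let F be the field with q² elements, f the standard unitary form Σ u_i v_i^q on F^4, and H a maximal subgroup of SU_4(q) (inside GL_4(F)). Then H is the intersection with SU_4(q) of one of: the stabiliser of a non-zero subspace on which f vanishes; the stabiliser of a non-degenerate 1-space; for q ≠ 3, the stabiliser of a decomposition into four mutually orthogonal non-degenerate 1-spaces; for q ≥ 3, of a decomposition into two orthogonal non-degenerate 2-spaces; for q ≥ 4, of a decomposition into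 two totally isotropic 2-spaces; a subfield group of odd prime index whose F₀-structure carries f; a subfield group of index 2 whose F₀-structure carries ζ f, vanishing on pairs (u, u), for some non-zero ζ with ζ + ζ^q = 0; for q odd, a subfield group of index 2 whose F₀-structure carries f; for q = p ≡ 3 mod 4 prime, the normaliser of an absolutely irreducible symplectic-type 2-group of exponent 4, order 64 and centre of order 4 inside the similarity group of f — or else H lies in the residual class of the unitary case. -/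
theorem result {F : Type*} [Field F] [Fintype F] (q : ℕ) (hF : Fintype.card F = q ^ 2) (H : Subgroup (Matrix.GeneralLinearGroup (Fin 4) F)) (hH : Cfsg.Geo.IsMaximalIn (Cfsg.GU 4 F q ⊓ Cfsg.Geo.specialLinear (Fin 4) F) H) :
    (∃ W : Submodule F (Fin 4 → F), W ≠ ⊥ ∧ Cfsg.Geo.IsTotallySingularFor (Cfsg.hermForm 4 F q) W ∧ H = Cfsg.Geo.subspaceStabilizer W ⊓ (Cfsg.GU 4 F q ⊓ Cfsg.Geo.specialLinear (Fin 4) F)) ∨
    (∃ W : Submodule F (Fin 4 → F), W ≠ ⊥ ∧ Cfsg.Geo.IsNondegenerateOn (Cfsg.hermForm 4 F q) W ∧ 2 * Module.finrank F W < 4 ∧ H = Cfsg.Geo.subspaceStabilizer W ⊓ (Cfsg.GU 4 F q ⊓ Cfsg.Geo.specialLinear (Fin 4) F)) ∨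
    (q ≠ 3 ∧ ∃ D : Fin 4 → Submodule F (Fin 4 → F), Cfsg.Geo.IsNondegenerateMDecomposition (Cfsg.hermForm 4 F q) 1 D ∧ H = Cfsg.Geo.decompositionStabilizer D ⊓ (Cfsg.GU 4 F q ⊓ Cfsg.Geo.specialLinear (Fin 4) F)) ∨
    (3 ≤ q ∧ ∃ D : Fin 2 → Submodule F (Fin 4 → F), Cfsg.Geo.IsNondegenerateMDecomposition (Cfsg.hermForm 4 F q) 2 D ∧ H = Cfsg.Geo.decompositionStabilizer D ⊓ (Cfsg.GU 4 F q ⊓ Cfsg.Geo.specialLinear (Fin 4) F)) ∨
    (4 ≤ q ∧ ∃ D : Fin 2 → Submodule F (Fin 4 → F), Cfsg.Geo.IsMDecomposition 2 D ∧ (∀ i, Cfsg.Geo.IsTotallySingularFor (Cfsg.hermForm 4 F q) (D i)) ∧ H = Cfsg.Geo.decompositionStabilizer D ⊓ (Cfsg.GU 4 F q ⊓ Cfsg.Geo.specialLinear (Fin 4) F)) ∨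
    (∃ (F₀ : Subfield F) (r : ℕ) (P : Matrix.GeneralLinearGroup (Fin 4) F), r.Prime ∧ Odd r ∧ Fintype.card F = Nat.card F₀ ^ r ∧ Cfsg.Geo.IsFormRationalStructure (Cfsg.hermForm 4 F q) F₀ 1 P ∧ H = Cfsg.Geo.subfieldSubgroup F₀ P ⊓ (Cfsg.GU 4 F q ⊓ Cfsg.Geo.specialLinear (Fin 4) F)) ∨
    (∃ (F₀ : Subfield F) (P : Matrix.GeneralLinearGroup (Fin 4) F) (ζ : F), Fintype.card F = Nat.card F₀ ^ 2 ∧ ζ ≠ 0 ∧ ζ + ζ ^ q = 0 ∧ Cfsg.Geo.IsFormRationalStructure (Cfsg.hermForm 4 F q) F₀ ζ P ∧ (∀ u : Fin 4 → F, (∀ i, u i ∈ F₀) → (Cfsg.hermForm 4 F q) (Matrix.mulVec (P : Matrix (Fin 4) (Fin 4) F) u) (Matrix.mulVec (P : Matrix (Fin 4) (Fin 4) F) u) = 0) ∧ H = Cfsg.Geo.subfieldSubgroup F₀ P ⊓ (Cfsg.GU 4 F q ⊓ Cfsg.Geo.specialLinear (Fin 4) F)) ∨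
    (Odd q ∧ ∃ (F₀ : Subfield F) (P : Matrix.GeneralLinearGroup (Fin 4) F), Fintype.card F = Nat.card F₀ ^ 2 ∧ Cfsg.Geo.IsFormRationalStructure (Cfsg.hermForm 4 F q) F₀ 1 P ∧ H = Cfsg.Geo.subfieldSubgroup F₀ P ⊓ (Cfsg.GU 4 F q ⊓ Cfsg.Geo.specialLinear (Fin 4) F)) ∨
    (∃ (p : ℕ) (R : Subgroup (Matrix.GeneralLinearGroup (Fin 4) F)), p.Prime ∧ q = p ∧ p % 4 = 3 ∧ Cfsg.Geo.IsSymplecticTypeGroup 2 R ∧ Cfsg.Geo.ActsAbsolutelyIrreducibly (Cfsg.Geo.matrixSet R) ∧ R ≤ Cfsg.Geo.similarityGroup (Cfsg.hermForm 4 F q) ∧ Nat.card R = 64 ∧ Nat.card (Subgroup.center R) = 4 ∧ H = Cfsg.Geo.subgroupNormalizer R ⊓ (Cfsg.GU 4 F q ⊓ Cfsg.Geo.specialLinear (Fin 4) F)) ∨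
    Cfsg.Geo.InUnitaryResidualClass H := by
  classical
  obtain ⟨σ, hf, hσ, -⟩ := CfsgLib.Aschbacher.exists_hermForm_unitary (n := 4) hF
  have hnorm : ∀ R : Subgroup (Matrix.GeneralLinearGroup (Fin 4) F),
      Cfsg.Geo.ActsAbsolutelyIrreducibly (Cfsg.Geo.matrixSet R) → ⁅R, R⁆ ≤ Cfsg.Geo.scalars (Fin 4) F →
      ¬ Cfsg.GU 4 F q ⊓ Cfsg.Geo.specialLinear (Fin 4) F ≤ Cfsg.Geo.subgroupNormalizer R := fun R hR hcl =>
    CfsgLib.Aschbacher.isoSL_not_le_normalizer' hf (by simp) hR hcl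
  have hq2 : 2 ≤ q := by
    by_contra h
    have := Fintype.one_lt_card (α := F)
    rw [hF] at this
    interval_cases q <;> simp at this
  open CfsgLib.Aschbacher in
  rcases maximal_unitary hF (by norm_num) hH hnorm with
    hW | hW' | ⟨t, k, D, htk, ht, hk, hq, hD, h⟩ | ⟨k, D, hk, hD, hts, h⟩ | ⟨r, K, hr, hro, hrn, hK, hac, h⟩ |
    ⟨n₁, n₂, e, P, f₁, f₂, h1, h12, hn, hq, hf₁, hf₂, hT, h⟩ | hsub | ⟨F₀, P, ζ, hev, hsymp⟩ | hsub2 |
    ⟨r, R, p, e, k, hn, hR, habs, hsim, hrp, hmin, hqe, hdata, h⟩ |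
    ⟨k, t, e, P, f₁, hk, ht, hkt, hex, hf₁, hT, h⟩ | hres
  · exact Or.inl hW
  · exact Or.inr (Or.inl hW')
  · have hkn : k ≤ 4 := Nat.le_of_dvd (by norm_num) ⟨t, by rw [← htk, mul_comm]⟩
    interval_cases k <;> first | omega | skip
    · obtain rfl : t = 4 := by omega
      by_cases hq3 : q = 3
      · subst hq3
        open CfsgLib.Aschbacher in
        obtain ⟨R, hR, habs, hcl, hsim, hcR, hcZ, hG⟩ := unitary_lines_to_classSix hf (by rw [hF]; norm_num) hσ hD h.le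
        open CfsgLib.Aschbacher in
        exact Or.inr (Or.inr (Or.inr (Or.inr (Or.inr (Or.inr (Or.inr (Or.inr (Or.inl ⟨3, R, Nat.prime_three, rfl,
          by norm_num, hR, habs, hsim, hcR, hcZ, eq_inf_of_le hH hG (hnorm R habs hcl)⟩))))))))
      · exact Or.inr (Or.inr (Or.inl ⟨hq3, D, hD, h⟩))
    · obtain rfl : t = 2 := by omega
      exact Or.inr (Or.inr (Or.inr (Or.inl ⟨hq rfl, D, hD, h⟩)))
  · obtain rfl : k = 2 := by omega
    by_cases h4 : 4 ≤ q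
    · exact Or.inr (Or.inr (Or.inr (Or.inr (Or.inl ⟨h4, D, hD, hts, h⟩))))
    open CfsgLib.Aschbacher in
    obtain ⟨P, ζ, hζ, hsum, hP, hz, hG⟩ := unitary_halves_to_subfield hf (by simp) (by rw [hF]; nlinarith) hD hts h.le
    open CfsgLib.Aschbacher in
    have hcard := card_eq_sq_fixSubfield hf.ne_refl hf.involutive
    rw [hσ] at hsum
    open CfsgLib.Aschbacher in
    exact Or.inr (Or.inr (Or.inr (Or.inr (Or.inr (Or.inr (Or.inl ⟨fixSubfield σ, P, ζ, hcard, hζ, hsum, hP, hz,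
      eq_inf_of_le hH hG (isoSL_not_le_subfield_symplectic hf (by simp) hcard hζ hP hz)⟩))))))
  · exfalso
    have := (Nat.prime_dvd_prime_iff_eq hr Nat.prime_two).mp (hr.dvd_of_dvd_pow (show r ∣ 2 ^ 2 by norm_num; exact hrn))
    subst this
    revert hro; decide
  · exfalso
    nlinarith
  · exact Or.inr (Or.inr (Or.inr (Or.inr (Or.inr (Or.inl hsub)))))
  · exact Or.inr (Or.inr (Or.inr (Or.inr (Or.inr (Or.inr (Or.inl ⟨F₀, P, ζ, hsymp⟩))))))
  · exact Or.inr (Or.inr (Or.inr (Or.inr (Or.inr (Or.inr (Or.inr (Or.inl hsub2)))))))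
  · have hr := hR.prime
    have hr2 : r = 2 := (Nat.prime_dvd_prime_iff_eq hr Nat.prime_two).mp (hr.dvd_of_dvd_pow
      (show r ∣ 2 ^ 2 by
        rw [show (2 : ℕ) ^ 2 = r ^ k by norm_num [← hn]]
        exact dvd_pow_self r (by rintro rfl; norm_num at hn)))
    subst hr2
    obtain rfl : k = 2 := (Nat.pow_right_injective (le_refl 2) (show (2:ℕ) ^ 2 = 2 ^ k by norm_num [← hn])).symm
    rcases hdata with ⟨h2, -⟩ | ⟨-, he, hz, hcard⟩
    · exact absurd h2 (by decide)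
    · obtain ⟨hqp, hp4⟩ := CfsgLib.Aschbacher.classSix_two hmin hz he hqe
      exact Or.inr (Or.inr (Or.inr (Or.inr (Or.inr (Or.inr (Or.inr (Or.inr (Or.inl ⟨p, R, hmin.1, hqp, hp4, hR, habs, hsim,
        by rw [hcard]; norm_num, hz, h⟩))))))))
  · exfalso
    have := Nat.pow_le_pow_left hk t
    have := Nat.pow_le_pow_right (show 3 > 0 by norm_num) ht
    omega
  · exact Or.inr (Or.inr (Or.inr (Or.inr (Or.inr (Or.inr (Or.inr (Or.inr (Or.inr hres))))))))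

end Cfsg.Agent.S5784
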