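import Cfsg.Statements.S5786
import Cfsg.Agent.Geo.SympSubspace
import Cfsg.Agent.Geo.SympOrthDecomp
import Cfsg.Agent.Geo.SpFourOdd.Subfield
import Cfsg.Agent.Geo.SpFourOdd.Field
import Cfsg.Agent.Geo.SpFourOdd.SkewClauses
import Cfsg.Agent.Geo.SpFourOdd.Pauli

set_option autoImplicit false
open Cfsg

namespace Cfsg.Agent.S5786

/-- Maximal subgroups of Sp_4(q) of geometric type, q odd. Let F be a finite field of odd order q, f the standard alternating form on F^4 (coordinates Fin 2 ⊕ Fin 2) and Sp_4(F) its isometry group inside GL_4(F). Each of the following, intersected with Sp_4(F), is a maximal subgroup of Sp_4(F): (1) the stabiliser of any non-zero totally isotropic subspace (totally isotropic 1-spaces and 2-spaces); (2) the stabiliser of any decomposition of F^4 into two mutually orthogonal non-degenerate 2-spaces; (3) for q ≥ 5, the stabiliser of any decomposition of F^4 into two totally isotropic 2-spaces;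 (4) the normaliser of any degree-2 subfield K of the matrix algebra whose elements are self-adjoint for f with f(k v, v) = 0 for all k in K and all v (f is the trace of an alternating form over K); (5) for q ≥ 5, the normaliser of any degree-2 subfield of the matrix algebra that is closed under adjoints but not self-adjoint (f is the trace of a multiple of a unitary form over K); (6) every subfield group for a subfield F₀ with |F| = |F₀|^r, r prime, whose F₀-structure carries a non-zero scalar multiple of f; (7) for q = p prime, the normaliser of any absolutely irreducible 2-group R of symplectic type and exponent 4, of order 32 with centre of order 2 and of minus type, consisting of isometries of f. -/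
theorem result {F : Type*} [Field F] [Fintype F] (hodd : Odd (Fintype.card F)) :
    (∀ W : Submodule F (Fin 2 ⊕ Fin 2 → F), W ≠ ⊥ → Cfsg.Geo.IsTotallySingularFor (Cfsg.sympForm 2 F) W → Cfsg.Geo.IsMaximalIn (Cfsg.spGL 2 F) (Cfsg.Geo.subspaceStabilizer W ⊓ Cfsg.spGL 2 F)) ∧
    (∀ D : Fin 2 → Submodule F (Fin 2 ⊕ Fin 2 → F), Cfsg.Geo.IsNondegenerateMDecomposition (Cfsg.sympForm 2 F) 2 D → Cfsg.Geo.IsMaximalIn (Cfsg.spGL 2 F) (Cfsg.Geo.decompositionStabilizer D ⊓ Cfsg.spGL 2 F)) ∧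
    (5 ≤ Fintype.card F → ∀ D : Fin 2 → Submodule F (Fin 2 ⊕ Fin 2 → F), Cfsg.Geo.IsMDecomposition 2 D → (∀ i, Cfsg.Geo.IsTotallySingularFor (Cfsg.sympForm 2 F) (D i)) → Cfsg.Geo.IsMaximalIn (Cfsg.spGL 2 F) (Cfsg.Geo.decompositionStabilizer D ⊓ Cfsg.spGL 2 F)) ∧
    (∀ K : Subalgebra F (Matrix (Fin 2 ⊕ Fin 2) (Fin 2 ⊕ Fin 2) F), Cfsg.Geo.IsFieldSubalgebra 2 K → Cfsg.Geo.IsSelfAdjointFor (Cfsg.sympForm 2 F) K → (∀ k ∈ K, ∀ v : (Fin 2 ⊕ Fin 2 → F), (Cfsg.sympForm 2 F) (Matrix.mulVec k v) v = 0) → Cfsg.Geo.IsMaximalIn (Cfsg.spGL 2 F) (Cfsg.Geo.subalgebraNormalizer K ⊓ Cfsg.spGL 2 F)) ∧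
    (5 ≤ Fintype.card F → ∀ K : Subalgebra F (Matrix (Fin 2 ⊕ Fin 2) (Fin 2 ⊕ Fin 2) F), Cfsg.Geo.IsFieldSubalgebra 2 K → Cfsg.Geo.IsAdjointClosedFor (Cfsg.sympForm 2 F) K → ¬ Cfsg.Geo.IsSelfAdjointFor (Cfsg.sympForm 2 F) K → Cfsg.Geo.IsMaximalIn (Cfsg.spGL 2 F) (Cfsg.Geo.subalgebraNormalizer K ⊓ Cfsg.spGL 2 F)) ∧
    (∀ (F₀ : Subfield F) (r : ℕ) (P : Matrix.GeneralLinearGroup (Fin 2 ⊕ Fin 2) F) (ζ : F), r.Prime → Fintype.card F = Nat.card F₀ ^ r → ζ ≠ 0 → Cfsg.Geo.IsFormRationalStructure (Cfsg.sympForm 2 F) F₀ ζ P → Cfsg.Geo.IsMaximalIn (Cfsg.spGL 2 F) (Cfsg.Geo.subfieldSubgroup F₀ P ⊓ Cfsg.spGL 2 F)) ∧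
    (∀ (p : ℕ) (R : Subgroup (Matrix.GeneralLinearGroup (Fin 2 ⊕ Fin 2) F)), p.Prime → Fintype.card F = p → Cfsg.Geo.IsSymplecticTypeGroup 2 R → Cfsg.Geo.ActsAbsolutelyIrreducibly (Cfsg.Geo.matrixSet R) → R ≤ Cfsg.spGL 2 F → Nat.card R = 32 → Nat.card (Subgroup.center R) = 2 → Cfsg.Geo.IsOfMinusType 2 R → Cfsg.Geo.IsMaximalIn (Cfsg.spGL 2 F) (Cfsg.Geo.subgroupNormalizer R ⊓ Cfsg.spGL 2 F)) := by
  classical
  have h2 : (2 : F) ≠ 0 := fun h => by
    haveI : CharP F 2 := CharTwo.of_one_ne_zero_of_two_eq_zero one_ne_zero h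
    have := FiniteField.even_card_of_char_two (F := F) (ringChar.eq F 2)
    rw [Nat.odd_iff] at hodd
    omega
  have hq : ∃ τ : F, τ ≠ 0 ∧ τ ≠ 1 :=
    ⟨-1, neg_ne_zero.2 one_ne_zero, fun h => h2 (by linear_combination -h)⟩
  refine ⟨fun W hW hts => CfsgLib.Geo.SpTv.singular_maximal hts hW, fun D hD => ?_,
    fun h5 D hD hts => CfsgLib.Geo.SpFourOdd.lag_pair_maximal h2 (by rwa [Nat.card_eq_fintype_card]) D hD hts,
    fun K hK hsa halt => CfsgLib.Geo.SpFourOdd.field_maximal hq hK hsa halt,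
    fun h5 K hK hac hns => CfsgLib.Geo.SpFourOdd.adjoint_field_maximal h2
      (by rwa [Nat.card_eq_fintype_card]) hK hac hns,
    fun F₀ r P ζ hr hcard hζ hP => CfsgLib.Geo.SpFourOdd.spSub_maximal
      (show CfsgLib.Geo.SpTv.SpSub 2 F F₀ P ζ from ⟨hζ, hP⟩) h2 le_rfl hr
      (by rw [Nat.card_eq_fintype_card, hcard]),
    fun p R hp hcard hRs hRi hRf hR5 hRZ hRm =>
      CfsgLib.Geo.SpFourOdd.pauli_maximal hp hcard hodd hRs hRi hRf hR5 hRZ hRm⟩
  refine CfsgLib.Geo.isMaximalIn_of_key (CfsgLib.Geo.SpTv.orthDecomp_proper hD)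
    fun M h1 h2' h3 => CfsgLib.Geo.SpTv.orthDecomp_key hD (fun l a ha ha0 => ?_) h1 h2' h3
  obtain ⟨c, hc0, hc1⟩ := hq
  refine ⟨c • a, (D l).smul_mem c ha, smul_ne_zero hc0 ha0, fun e => hc1 ?_, ?_⟩
  · have h4 : (c - 1) • a = 0 := by rw [sub_smul, e, one_smul, sub_self]
    exact sub_eq_zero.1 ((smul_eq_zero.1 h4).resolve_right ha0)
  · rw [CfsgLib.Symp.form_smul_right, CfsgLib.Symp.form_self, mul_zero]

end Cfsg.Agent.S5786
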