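import Cfsg.Statements.S5787
import Cfsg.Agent.Aschbacher.Form.SymplecticMaximal
import Cfsg.Agent.Aschbacher.Form.NormalizerFour
import Cfsg.Agent.Aschbacher.Form.SympHalvesThree

set_option autoImplicit false
open Cfsg

namespace Cfsg.Agent.S5787

/-- Every maximal subgroup of Sp_4(q), q odd, is of one of the listed geometric types or lies in the residual class. Let F be a finite field of odd order q, f the standard alternating form on F^4 (coordinates Fin 2 ⊕ Fin 2), and H a maximal subgroup of the isometry group Sp_4(F) (inside GL_4(F)). Then H is the intersection with Sp_4(F) of one of: the stabiliser of a non-zero totally isotropic subspace; the stabiliser of a decomposition into two orthogonal non-degenerate 2-spaces; for q ≥ 5, of a decomposition into two totally isotropic 2-spaces; the normaliser of a degree-2 subfield K of the matrix algebra, self-adjoint with f(k v, v) = 0; for q ≥ 5, the normaliser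 of a degree-2 subfield closed under adjoints but not self-adjoint; a subfield group whose F₀-structure carries a non-zero multiple of f, |F| = |F₀|^r with r prime; for q = p prime, the normaliser of an absolutely irreducible symplectic-type 2-group of exponent 4, order 32, centre of order 2 and minus type inside the similarity group of f — or else H lies in the residual class of the symplectic case. -/
theorem result {F : Type*} [Field F] [Fintype F] (hodd : Odd (Fintype.card F)) (H : Subgroup (Matrix.GeneralLinearGroup (Fin 2 ⊕ Fin 2) F)) (hH : Cfsg.Geo.IsMaximalIn (Cfsg.spGL 2 F) H) :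
    (∃ W : Submodule F (Fin 2 ⊕ Fin 2 → F), W ≠ ⊥ ∧ Cfsg.Geo.IsTotallySingularFor (Cfsg.sympForm 2 F) W ∧ H = Cfsg.Geo.subspaceStabilizer W ⊓ Cfsg.spGL 2 F) ∨
    (∃ D : Fin 2 → Submodule F (Fin 2 ⊕ Fin 2 → F), Cfsg.Geo.IsNondegenerateMDecomposition (Cfsg.sympForm 2 F) 2 D ∧ H = Cfsg.Geo.decompositionStabilizer D ⊓ Cfsg.spGL 2 F) ∨
    (5 ≤ Fintype.card F ∧ ∃ D : Fin 2 → Submodule F (Fin 2 ⊕ Fin 2 → F), Cfsg.Geo.IsMDecomposition 2 D ∧ (∀ i, Cfsg.Geo.IsTotallySingularFor (Cfsg.sympForm 2 F) (D i)) ∧ H = Cfsg.Geo.decompositionStabilizer D ⊓ Cfsg.spGL 2 F) ∨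
    (∃ K : Subalgebra F (Matrix (Fin 2 ⊕ Fin 2) (Fin 2 ⊕ Fin 2) F), Cfsg.Geo.IsFieldSubalgebra 2 K ∧ Cfsg.Geo.IsSelfAdjointFor (Cfsg.sympForm 2 F) K ∧ (∀ k ∈ K, ∀ v : (Fin 2 ⊕ Fin 2 → F), (Cfsg.sympForm 2 F) (Matrix.mulVec k v) v = 0) ∧ H = Cfsg.Geo.subalgebraNormalizer K ⊓ Cfsg.spGL 2 F) ∨
    (5 ≤ Fintype.card F ∧ ∃ K : Subalgebra F (Matrix (Fin 2 ⊕ Fin 2) (Fin 2 ⊕ Fin 2) F), Cfsg.Geo.IsFieldSubalgebra 2 K ∧ Cfsg.Geo.IsAdjointClosedFor (Cfsg.sympForm 2 F) K ∧ ¬ Cfsg.Geo.IsSelfAdjointFor (Cfsg.sympForm 2 F) K ∧ H = Cfsg.Geo.subalgebraNormalizer K ⊓ Cfsg.spGL 2 F) ∨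
    (∃ (F₀ : Subfield F) (r : ℕ) (P : Matrix.GeneralLinearGroup (Fin 2 ⊕ Fin 2) F) (ζ : F), r.Prime ∧ Fintype.card F = Nat.card F₀ ^ r ∧ ζ ≠ 0 ∧ Cfsg.Geo.IsFormRationalStructure (Cfsg.sympForm 2 F) F₀ ζ P ∧ H = Cfsg.Geo.subfieldSubgroup F₀ P ⊓ Cfsg.spGL 2 F) ∨
    (∃ (p : ℕ) (R : Subgroup (Matrix.GeneralLinearGroup (Fin 2 ⊕ Fin 2) F)), p.Prime ∧ Fintype.card F = p ∧ Cfsg.Geo.IsSymplecticTypeGroup 2 R ∧ Cfsg.Geo.ActsAbsolutelyIrreducibly (Cfsg.Geo.matrixSet R) ∧ R ≤ Cfsg.Geo.similarityGroup (Cfsg.sympForm 2 F) ∧ Nat.card R = 32 ∧ Nat.card (Subgroup.center R) = 2 ∧ Cfsg.Geo.IsOfMinusType 2 R ∧ H = Cfsg.Geo.subgroupNormalizer R ⊓ Cfsg.spGL 2 F) ∨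
    Cfsg.Geo.InSymplecticResidualClass H := by
  classical
  open CfsgLib.Aschbacher in
  rcases maximal_symplectic (by norm_num) hH (fun R hR hcl _ => spGL_not_le_normalizer' (by norm_num) hR hcl) with
    hW | hW' | ⟨t, k, D, htk, ht, hkev, hk, hq, hD, h⟩ | ⟨ho, D, hD, hts, h⟩ | ⟨r, K, hr, hrm, hK, hsa, hz, h⟩ |
    ⟨ho, K, hK, hac, hsa, h⟩ | ⟨n₁, n₂, e, P, f₁, f₂, ho, h1, h1e, h3, hn, hf₁, hf₂, hT, h⟩ | hsub |
    ⟨p, k, R, hk, hp, hpo, hF, hR, habs, hsim, hcR, hcZ, hminus, h⟩ |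
    ⟨k, t, e, P, f₁, ho, hto, ht, hk, hke, hkt, hex, hf₁, hT, h⟩ | hquad | hres
  · exact Or.inl hW
  · exfalso
    obtain ⟨W, h0, hW, hd, -⟩ := hW'
    have hev := CfsgLib.Aschbacher.even_finrank_of_alternating (CfsgLib.Aschbacher.isSymplecticForm_sympForm 2).bilinear
      (CfsgLib.Aschbacher.isSymplecticForm_sympForm 2).alternating W hW
    have := Submodule.one_le_finrank_iff.mpr h0
    obtain ⟨j, hj⟩ := hev
    omega
  · have hkn : k ≤ 2 := by nlinarith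
    obtain rfl : k = 2 := by omega
    obtain rfl : t = 2 := by omega
    exact Or.inr (Or.inl ⟨D, hD, h⟩)
  · by_cases h5 : 5 ≤ Fintype.card F
    · exact Or.inr (Or.inr (Or.inl ⟨h5, D, hD, hts, h⟩))
    have hq3 : Fintype.card F = 3 := by
      have := Fintype.one_lt_card (α := F)
      obtain ⟨j, hj⟩ := ho
      omega
    open CfsgLib.Aschbacher in
    obtain ⟨K, hK, hsa, hz, hG⟩ := halves_to_field hq3 hD hts h.le
    open CfsgLib.Aschbacher in
    exact Or.inr (Or.inr (Or.inr (Or.inl ⟨K, hK, hsa, hz,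
      eq_inf_of_le hH hG (spGL_not_le_field (by norm_num) le_rfl hK)⟩)))
  · obtain rfl : r = 2 := (Nat.prime_dvd_prime_iff_eq hr Nat.prime_two).mp hrm
    exact Or.inr (Or.inr (Or.inr (Or.inl ⟨K, hK, hsa, hz, h⟩)))
  · by_cases h5 : 5 ≤ Fintype.card F
    · exact Or.inr (Or.inr (Or.inr (Or.inr (Or.inl ⟨h5, K, hK, hac, hsa, h⟩))))
    have hq3 : Fintype.card F = 3 := by
      have := Fintype.one_lt_card (α := F)
      obtain ⟨j, hj⟩ := ho
      omega
    open CfsgLib.Aschbacher in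
    obtain ⟨R, hR, habs, hcl, hsim, hcR, hcZ, hmin, hG⟩ := field_to_classSix hq3 hK hac hsa h.le
    open CfsgLib.Aschbacher in
    exact Or.inr (Or.inr (Or.inr (Or.inr (Or.inr (Or.inr (Or.inl ⟨3, R, Nat.prime_three, hq3, hR, habs, hsim, hcR,
      hcZ, hmin, eq_inf_of_le hH hG (spGL_not_le_normalizer' (by norm_num) habs hcl)⟩))))))
  · exfalso
    nlinarith
  · exact Or.inr (Or.inr (Or.inr (Or.inr (Or.inr (Or.inl hsub)))))
  · obtain rfl : k = 2 := (Nat.pow_right_injective (le_refl 2) (show 2 ^ 2 = 2 ^ k by omega)).symm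
    exact Or.inr (Or.inr (Or.inr (Or.inr (Or.inr (Or.inr (Or.inl ⟨p, R, hp, hF, hR, habs, hsim, by simpa using hcR,
      hcZ, hminus, h⟩))))))
  · exfalso
    have h8 : 8 ≤ k ^ t := (Nat.pow_le_pow_left hk t).trans' (Nat.pow_le_pow_right (show 2 > 0 by norm_num) ht)
    omega
  · exact absurd hodd hquad.1
  · exact Or.inr (Or.inr (Or.inr (Or.inr (Or.inr (Or.inr (Or.inr hres))))))

end Cfsg.Agent.S5787
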