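import Cfsg.Statements.S5789
import Cfsg.Agent.Geo.SympFour.Field
import Cfsg.Agent.Geo.SympFour.Quad
import Cfsg.Agent.Geo.SympFour.Subfield
import Cfsg.Agent.Geo.SympSubspace
import Cfsg.Agent.Geo.SympOrthDecomp

set_option autoImplicit false
open Cfsg

namespace Cfsg.Agent.S5789

/-- Maximal subgroups of Sp_4(q) of geometric type, q ≥ 4 even. Let F be a finite field of even order q ≥ 4, f the standard alternating form on F^4 (coordinates Fin 2 ⊕ Fin 2) and Sp_4(F) its isometry group inside GL_4(F). Each of the following, intersected with Sp_4(F), is a maximal subgroup of Sp_4(F): (1) the stabiliser of any non-zero totally isotropic subspace (totally isotropic 1-spaces and 2-spaces); (2) the stabiliser of any decomposition of F^4 into two mutually orthogonal non-degenerate 2-spaces; (3) the normaliser of any degree-2 subfield K of the matrix algebra whose elements are self-adjoint for f with f(k v, v) = 0 for all k in K and all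 v; (4) every subfield group for a subfield F₀ with |F| = |F₀|^r, r prime, whose F₀-structure carries a non-zero scalar multiple of f; (5) the similarity group of any non-degenerate quadratic form whose polar form is f (either Witt type); its intersection with Sp_4(F) is the orthogonal group of that form. -/
theorem result {F : Type*} [Field F] [Fintype F] (heven : ¬ Odd (Fintype.card F)) (h4 : 4 ≤ Fintype.card F) :
    (∀ W : Submodule F (Fin 2 ⊕ Fin 2 → F), W ≠ ⊥ → Cfsg.Geo.IsTotallySingularFor (Cfsg.sympForm 2 F) W → Cfsg.Geo.IsMaximalIn (Cfsg.spGL 2 F) (Cfsg.Geo.subspaceStabilizer W ⊓ Cfsg.spGL 2 F)) ∧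
    (∀ D : Fin 2 → Submodule F (Fin 2 ⊕ Fin 2 → F), Cfsg.Geo.IsNondegenerateMDecomposition (Cfsg.sympForm 2 F) 2 D → Cfsg.Geo.IsMaximalIn (Cfsg.spGL 2 F) (Cfsg.Geo.decompositionStabilizer D ⊓ Cfsg.spGL 2 F)) ∧
    (∀ K : Subalgebra F (Matrix (Fin 2 ⊕ Fin 2) (Fin 2 ⊕ Fin 2) F), Cfsg.Geo.IsFieldSubalgebra 2 K → Cfsg.Geo.IsSelfAdjointFor (Cfsg.sympForm 2 F) K → (∀ k ∈ K, ∀ v : (Fin 2 ⊕ Fin 2 → F), (Cfsg.sympForm 2 F) (Matrix.mulVec k v) v = 0) → Cfsg.Geo.IsMaximalIn (Cfsg.spGL 2 F) (Cfsg.Geo.subalgebraNormalizer K ⊓ Cfsg.spGL 2 F)) ∧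
    (∀ (F₀ : Subfield F) (r : ℕ) (P : Matrix.GeneralLinearGroup (Fin 2 ⊕ Fin 2) F) (ζ : F), r.Prime → Fintype.card F = Nat.card F₀ ^ r → ζ ≠ 0 → Cfsg.Geo.IsFormRationalStructure (Cfsg.sympForm 2 F) F₀ ζ P → Cfsg.Geo.IsMaximalIn (Cfsg.spGL 2 F) (Cfsg.Geo.subfieldSubgroup F₀ P ⊓ Cfsg.spGL 2 F)) ∧
    (∀ Q : (Fin 2 ⊕ Fin 2 → F) → F, Cfsg.Geo.IsNondegenerateQuadraticForm Q → (∀ u v : (Fin 2 ⊕ Fin 2 → F), QuadraticMap.polar Q u v = (Cfsg.sympForm 2 F) u v) → Cfsg.Geo.IsMaximalIn (Cfsg.spGL 2 F) (Cfsg.Geo.quadSimilarityGroup Q ⊓ Cfsg.spGL 2 F)) := by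
  classical
  have hF2 : ringChar F = 2 := by
    rw [FiniteField.even_card_iff_char_two]
    exact Nat.even_iff.1 (Nat.not_odd_iff_even.1 heven)
  haveI : CharP F 2 := ringChar.of_eq hF2
  have h2 : (2 : F) = 0 := CharP.cast_eq_zero F 2
  have hsq : ∀ a : F, ∃ t, t ^ 2 = a := fun a =>
    (FiniteField.isSquare_of_char_two hF2 a).imp fun t ht => by rw [pow_two, ht]
  obtain ⟨τ, hτ0, hτ1⟩ : ∃ τ : F, τ ≠ 0 ∧ τ ≠ 1 := by
    by_contra hcon
    push Not at hcon
    have h1 := Finset.card_le_card (show (Finset.univ : Finset F) ⊆ {0, 1} from fun x _ => by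
      simpa using (em (x = 0)).imp_right (hcon x))
    rw [Finset.card_univ] at h1
    have := h1.trans Finset.card_le_two
    omega
  refine ⟨fun W hW0 hW => CfsgLib.Geo.SpTv.singular_maximal hW hW0, fun D hD => ?_,
    fun K hK hsa halt => CfsgLib.Geo.SpFour.field_maximal hsq ⟨τ, hτ0, hτ1⟩ hK hsa halt,
    fun F₀ r P ζ hr hcard hζ hP => ?_, fun Q hQ hpol => ?_⟩
  · refine CfsgLib.Geo.isMaximalIn_of_key (CfsgLib.Geo.SpTv.orthDecomp_proper hD)
      fun M h1 h3 h4 => CfsgLib.Geo.SpTv.orthDecomp_key hD ?_ h1 h3 h4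
    intro l a ha ha0
    refine ⟨τ • a, (D l).smul_mem τ ha, smul_ne_zero hτ0 ha0, fun e => hτ1 ?_, ?_⟩
    · have h5 : (τ - 1) • a = 0 := by rw [sub_smul, e, one_smul, sub_self]
      exact sub_eq_zero.1 ((smul_eq_zero.1 h5).resolve_right ha0)
    · rw [CfsgLib.Symp.form_smul_right, CfsgLib.Symp.form_self, mul_zero]
  · exact CfsgLib.Geo.SpFour.spSub_maximal_charTwo ⟨hζ, hP⟩ h2 le_rfl hr
      (by rw [Nat.card_eq_fintype_card, hcard])
  · exact CfsgLib.Geo.SpFour.quadSim_maximal h2 le_rfl ⟨τ, hτ0, hτ1⟩ hQ.smul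
      (fun u v => by
        rw [← show QuadraticMap.polar Q u v = CfsgLib.Symp.form u v from hpol u v, QuadraticMap.polar]; ring)
      hsq

end Cfsg.Agent.S5789
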