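import Cfsg.Statements.S5790
import Cfsg.Agent.Aschbacher.Form.SymplecticMaximal

set_option autoImplicit false
open Cfsg

namespace Cfsg.Agent.S5790

/-- Every maximal subgroup of Sp_4(q), q ≥ 4 even, is of one of the listed geometric types or lies in the residual class. Let F be a finite field of even order q ≥ 4, f the standard alternating form on F^4 (coordinates Fin 2 ⊕ Fin 2), and H a maximal subgroup of Sp_4(F) (inside GL_4(F)). Then H is the intersection with Sp_4(F) of one of: the stabiliser of a non-zero totally isotropic subspace; the stabiliser of a decomposition into two orthogonal non-degenerate 2-spaces; the normaliser of a degree-2 subfield K of the matrix algebra, self-adjoint with f(k v, v) = 0; a subfield group whose F₀-structure carries a non-zero multiple of f, |F| = |F₀|^r with r prime; the similarity group of a non-degenerate quadratic form whose polar form is f — or else H lies in the residual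 class of the symplectic case. -/
theorem result {F : Type*} [Field F] [Fintype F] (heven : ¬ Odd (Fintype.card F)) (h4 : 4 ≤ Fintype.card F) (H : Subgroup (Matrix.GeneralLinearGroup (Fin 2 ⊕ Fin 2) F)) (hH : Cfsg.Geo.IsMaximalIn (Cfsg.spGL 2 F) H) :
    (∃ W : Submodule F (Fin 2 ⊕ Fin 2 → F), W ≠ ⊥ ∧ Cfsg.Geo.IsTotallySingularFor (Cfsg.sympForm 2 F) W ∧ H = Cfsg.Geo.subspaceStabilizer W ⊓ Cfsg.spGL 2 F) ∨
    (∃ D : Fin 2 → Submodule F (Fin 2 ⊕ Fin 2 → F), Cfsg.Geo.IsNondegenerateMDecomposition (Cfsg.sympForm 2 F) 2 D ∧ H = Cfsg.Geo.decompositionStabilizer D ⊓ Cfsg.spGL 2 F) ∨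
    (∃ K : Subalgebra F (Matrix (Fin 2 ⊕ Fin 2) (Fin 2 ⊕ Fin 2) F), Cfsg.Geo.IsFieldSubalgebra 2 K ∧ Cfsg.Geo.IsSelfAdjointFor (Cfsg.sympForm 2 F) K ∧ (∀ k ∈ K, ∀ v : (Fin 2 ⊕ Fin 2 → F), (Cfsg.sympForm 2 F) (Matrix.mulVec k v) v = 0) ∧ H = Cfsg.Geo.subalgebraNormalizer K ⊓ Cfsg.spGL 2 F) ∨
    (∃ (F₀ : Subfield F) (r : ℕ) (P : Matrix.GeneralLinearGroup (Fin 2 ⊕ Fin 2) F) (ζ : F), r.Prime ∧ Fintype.card F = Nat.card F₀ ^ r ∧ ζ ≠ 0 ∧ Cfsg.Geo.IsFormRationalStructure (Cfsg.sympForm 2 F) F₀ ζ P ∧ H = Cfsg.Geo.subfieldSubgroup F₀ P ⊓ Cfsg.spGL 2 F) ∨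
    (∃ Q : (Fin 2 ⊕ Fin 2 → F) → F, Cfsg.Geo.IsNondegenerateQuadraticForm Q ∧ (∀ u v : (Fin 2 ⊕ Fin 2 → F), QuadraticMap.polar Q u v = (Cfsg.sympForm 2 F) u v) ∧ H = Cfsg.Geo.quadSimilarityGroup Q ⊓ Cfsg.spGL 2 F) ∨
    Cfsg.Geo.InSymplecticResidualClass H := by
  classical
  open CfsgLib.Aschbacher in
  rcases maximal_symplectic (by norm_num) hH (fun R _ _ ho => absurd ho heven) with
    hW | hW' | ⟨t, k, D, htk, ht, hkev, hk, hq, hD, h⟩ | ⟨ho, D, hD, hts, h⟩ | ⟨r, K, hr, hrm, hK, hsa, hz, h⟩ | hherm |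
    ⟨n₁, n₂, e, P, f₁, f₂, ho, h1, h1e, h3, hn, hf₁, hf₂, hT, h⟩ | hsub |
    ⟨p, k, R, hk, hp, hpo, hF, hR, habs, hsim, hcR, hcZ, hminus, h⟩ |
    ⟨k, t, e, P, f₁, ho, hto, ht, hk, hke, hkt, hex, hf₁, hT, h⟩ | hquad | hres
  · exact Or.inl (hW)
  · exfalso
    obtain ⟨W, h0, hW, hd, -⟩ := hW'
    have hev := CfsgLib.Aschbacher.even_finrank_of_alternating (CfsgLib.Aschbacher.isSymplecticForm_sympForm 2).bilinear
      (CfsgLib.Aschbacher.isSymplecticForm_sympForm 2).alternating W hW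
    have := Submodule.one_le_finrank_iff.mpr h0
    obtain ⟨j, hj⟩ := hev
    omega
  · have hkn : k ≤ 2 := by nlinarith
    obtain rfl : k = 2 := by omega
    obtain rfl : t = 2 := by omega
    exact Or.inr (Or.inl (⟨D, hD, h⟩))
  · exact absurd ho heven
  · obtain rfl : r = 2 := (Nat.prime_dvd_prime_iff_eq hr Nat.prime_two).mp hrm
    exact Or.inr (Or.inr (Or.inl (⟨K, hK, hsa, hz, h⟩)))
  · exact absurd hherm.1 heven
  · exact absurd ho heven
  · exact Or.inr (Or.inr (Or.inr (Or.inl (hsub))))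
  · exact absurd (hF ▸ hpo) heven
  · exact absurd ho heven
  · exact Or.inr (Or.inr (Or.inr (Or.inr (Or.inl (hquad.2)))))
  · exact Or.inr (Or.inr (Or.inr (Or.inr (Or.inr (hres)))))

end Cfsg.Agent.S5790
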