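import Cfsg.Statements.S5796
import Cfsg.Agent.Aschbacher.Form.UnitaryFive

set_option autoImplicit false
open Cfsg

namespace Cfsg.Agent.S5796

/-- Every maximal subgroup of SU_5(q) is of one of the listed geometric types or lies in the residual class. Let F be the field with q² elements (characteristic p), f the standard unitary form Σ u_i v_i^q on F^5, and H a maximal subgroup of SU_5(q) (inside GL_5(F)). Then H is the intersection with SU_5(q) of one of: the stabiliser of a non-zero totally isotropic subspace; the stabiliser of a non-degenerate 1-space or 2-space; the stabiliser of a decomposition into five mutually orthogonal non-degenerate 1-spaces; for q ≥ 3, the normaliser of an adjoint-closed degree-5 subfield of the matrix algebra; a subfield group of odd prime index whose F₀-structure carries f; for q odd, a subfield group of index 2 whose F₀-structure carries f; for q = p ≡ 4 mod 5 or q = p² with p ≡ 2,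 3 mod 5, the normaliser of an absolutely irreducible 5-group of exponent 5, order 125 and centre of order 5 with all characteristic abelian subgroups cyclic inside the similarity group of f — or else H lies in the residual class of the unitary case. -/
theorem result {F : Type*} [Field F] [Fintype F] (q : ℕ) (hF : Fintype.card F = q ^ 2) (H : Subgroup (Matrix.GeneralLinearGroup (Fin 5) F)) (hH : Cfsg.Geo.IsMaximalIn (Cfsg.GU 5 F q ⊓ Cfsg.Geo.specialLinear (Fin 5) F) H) :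
    (∃ W : Submodule F (Fin 5 → F), W ≠ ⊥ ∧ Cfsg.Geo.IsTotallySingularFor (Cfsg.hermForm 5 F q) W ∧ H = Cfsg.Geo.subspaceStabilizer W ⊓ (Cfsg.GU 5 F q ⊓ Cfsg.Geo.specialLinear (Fin 5) F)) ∨
    (∃ W : Submodule F (Fin 5 → F), W ≠ ⊥ ∧ Cfsg.Geo.IsNondegenerateOn (Cfsg.hermForm 5 F q) W ∧ 2 * Module.finrank F W < 5 ∧ H = Cfsg.Geo.subspaceStabilizer W ⊓ (Cfsg.GU 5 F q ⊓ Cfsg.Geo.specialLinear (Fin 5) F)) ∨
    (∃ D : Fin 5 → Submodule F (Fin 5 → F), Cfsg.Geo.IsNondegenerateMDecomposition (Cfsg.hermForm 5 F q) 1 D ∧ H = Cfsg.Geo.decompositionStabilizer D ⊓ (Cfsg.GU 5 F q ⊓ Cfsg.Geo.specialLinear (Fin 5) F)) ∨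
    (3 ≤ q ∧ ∃ K : Subalgebra F (Matrix (Fin 5) (Fin 5) F), Cfsg.Geo.IsFieldSubalgebra 5 K ∧ Cfsg.Geo.IsAdjointClosedFor (Cfsg.hermForm 5 F q) K ∧ H = Cfsg.Geo.subalgebraNormalizer K ⊓ (Cfsg.GU 5 F q ⊓ Cfsg.Geo.specialLinear (Fin 5) F)) ∨
    (∃ (F₀ : Subfield F) (r : ℕ) (P : Matrix.GeneralLinearGroup (Fin 5) F), r.Prime ∧ Odd r ∧ Fintype.card F = Nat.card F₀ ^ r ∧ Cfsg.Geo.IsFormRationalStructure (Cfsg.hermForm 5 F q) F₀ 1 P ∧ H = Cfsg.Geo.subfieldSubgroup F₀ P ⊓ (Cfsg.GU 5 F q ⊓ Cfsg.Geo.specialLinear (Fin 5) F)) ∨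
    (Odd q ∧ ∃ (F₀ : Subfield F) (P : Matrix.GeneralLinearGroup (Fin 5) F), Fintype.card F = Nat.card F₀ ^ 2 ∧ Cfsg.Geo.IsFormRationalStructure (Cfsg.hermForm 5 F q) F₀ 1 P ∧ H = Cfsg.Geo.subfieldSubgroup F₀ P ⊓ (Cfsg.GU 5 F q ⊓ Cfsg.Geo.specialLinear (Fin 5) F)) ∨
    (∃ (p : ℕ) (R : Subgroup (Matrix.GeneralLinearGroup (Fin 5) F)), p.Prime ∧ CharP F p ∧ ((q = p ∧ p % 5 = 4) ∨ (q = p ^ 2 ∧ (p % 5 = 2 ∨ p % 5 = 3))) ∧ Cfsg.Geo.IsSymplecticTypeGroup 5 R ∧ Cfsg.Geo.ActsAbsolutelyIrreducibly (Cfsg.Geo.matrixSet R) ∧ R ≤ Cfsg.Geo.similarityGroup (Cfsg.hermForm 5 F q) ∧ Nat.card R = 125 ∧ Nat.card (Subgroup.center R) = 5 ∧ H = Cfsg.Geo.subgroupNormalizer R ⊓ (Cfsg.GU 5 F q ⊓ Cfsg.Geo.specialLinear (Fin 5) F)) ∨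
    Cfsg.Geo.InUnitaryResidualClass H := by
  classical
  open CfsgLib.Aschbacher in
  rcases maximal_unitary hF (by norm_num) hH (unitary_normalizer_proper hF le_rfl) with
    hW | hW' | ⟨t, k, D, htk, ht, hk, hq, hD, h⟩ | ⟨k, D, hk, hD, hts, h⟩ | ⟨r, K, hr, hro, hrn, hK, hac, h⟩ |
    ⟨n₁, n₂, e, P, f₁, f₂, h1, h12, hn, hq, hf₁, hf₂, hT, h⟩ | hsub | ⟨F₀, P, ζ, hev, hsymp⟩ | hsub2 |
    ⟨r, R, p, e, k, hn, hR, habs, hsim, hrp, hmin, hqe, hdata, h⟩ |
    ⟨k, t, e, P, f₁, hk, ht, hkt, hex, hf₁, hT, h⟩ | hres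
  · exact Or.inl hW
  · exact Or.inr (Or.inl hW')
  · have hkn : k ≤ 5 := Nat.le_of_dvd (by norm_num) ⟨t, by rw [← htk, mul_comm]⟩
    interval_cases k <;> first | omega | skip
    obtain rfl : t = 5 := by omega
    exact Or.inr (Or.inr (Or.inl ⟨D, hD, h⟩))
  · omega
  · obtain rfl : r = 5 := (Nat.prime_dvd_prime_iff_eq hr Nat.prime_five).mp hrn
    refine Or.inr (Or.inr (Or.inr (Or.inl ⟨?_, K, hK, hac, h⟩)))
    by_contra hq3
    obtain rfl : q = 2 := by
      have := Fintype.one_lt_card (α := F)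
      rw [hF] at this
      interval_cases q <;> simp_all
    exact CfsgLib.Aschbacher.fieldFive_not_maximal hF hK hac hH h
  · exfalso
    have : n₁ ≤ 5 := Nat.le_of_dvd (by norm_num) ⟨n₂, hn.symm⟩
    interval_cases n₁ <;> omega
  · exact Or.inr (Or.inr (Or.inr (Or.inr (Or.inl hsub))))
  · exact absurd hev (by decide)
  · exact Or.inr (Or.inr (Or.inr (Or.inr (Or.inr (Or.inl hsub2)))))
  · have hr := hR.prime
    have hk0 : k ≠ 0 := by rintro rfl; norm_num at hn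
    have hr5 : r = 5 := (Nat.prime_dvd_prime_iff_eq hr Nat.prime_five).mp (hn ▸ dvd_pow_self r hk0)
    subst hr5
    obtain rfl : k = 1 := (Nat.pow_right_injective (show 2 ≤ 5 by norm_num) (show (5:ℕ) ^ 1 = 5 ^ k by norm_num [← hn])).symm
    rcases hdata with ⟨-, hz, -, hcard⟩ | ⟨h2, -⟩
    · obtain ⟨hchar, hkind⟩ := CfsgLib.Aschbacher.classSix_five hmin hz hqe
      exact Or.inr (Or.inr (Or.inr (Or.inr (Or.inr (Or.inr (Or.inl ⟨p, R, hmin.1, hchar, hkind, hR, habs, hsim,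
        by rw [hcard]; norm_num, hz, h⟩))))))
    · exact absurd h2 (by norm_num)
  · exfalso
    have ht3 : t < 2 := by
      by_contra hc
      have := Nat.pow_le_pow_left hk t
      have := Nat.pow_le_pow_right (show 3 > 0 by norm_num) (show 2 ≤ t by omega)
      omega
    omega
  · exact Or.inr (Or.inr (Or.inr (Or.inr (Or.inr (Or.inr (Or.inr hres))))))

end Cfsg.Agent.S5796
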