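import Cfsg.Statements.S5801
import Cfsg.Agent.Geo.UnitGeomAll
import Cfsg.Agent.Geo.TensorUnitSmall

set_option autoImplicit false
open Cfsg

namespace Cfsg.Agent.S5801

/-- Maximal subgroups of SU_6(q) of geometric type (any prime power q). Let F be the field with q² elements, f the standard unitary form Σ u_i v_i^q on F^6 and SU_6(q) its determinant-one isometry group inside GL_6(F). Each of the following, intersected with SU_6(q), is a maximal subgroup of SU_6(q): (1) the stabiliser of any non-zero subspace on which f vanishes identically (totally isotropic 1-, 2- and 3-spaces); (2) the stabiliser of any non-degenerate 1-space or 2-space; (3) for q ≥ 3, the stabiliser of any decomposition into six mutually orthogonal non-degenerate 1-spaces; (4) for q ≥ 3, the stabiliser of any decomposition into three mutually orthogonal non-degenerate 2-spaces; (5) the stabiliser of any decomposition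 into two mutually orthogonal non-degenerate 3-spaces; (6) the stabiliser of any decomposition into two totally isotropic 3-spaces; (7) for q ≥ 3, the normaliser of any degree-3 subfield of the matrix algebra closed under adjoints for f; (8) for q ≥ 3, the stabiliser of any tensor decomposition of f as (unitary form on F^2) ⊗ (unitary form on F^3) up to a scalar; (9) every subfield group for a subfield F₀ of odd prime index in F whose F₀-structure carries f; (10) every subfield group for the subfield F₀ of index 2 whose F₀-structure carries ζ f, vanishing on pairs (u, u), for a non-zero ζ with ζ + ζ^q = 0 (symplectic type); (11) for q odd, every subfield group for the subfield F₀ of index 2 whose F₀-structure carries f (orthogonal types, either sign). -/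
theorem result {F : Type*} [Field F] [Fintype F] (q : ℕ) (hF : Fintype.card F = q ^ 2) :
    (∀ W : Submodule F (Fin 6 → F), W ≠ ⊥ → Cfsg.Geo.IsTotallySingularFor (Cfsg.hermForm 6 F q) W → Cfsg.Geo.IsMaximalIn (Cfsg.GU 6 F q ⊓ Cfsg.Geo.specialLinear (Fin 6) F) (Cfsg.Geo.subspaceStabilizer W ⊓ (Cfsg.GU 6 F q ⊓ Cfsg.Geo.specialLinear (Fin 6) F))) ∧
    (∀ W : Submodule F (Fin 6 → F), W ≠ ⊥ → Cfsg.Geo.IsNondegenerateOn (Cfsg.hermForm 6 F q) W → 2 * Module.finrank F W < 6 → Cfsg.Geo.IsMaximalIn (Cfsg.GU 6 F q ⊓ Cfsg.Geo.specialLinear (Fin 6) F) (Cfsg.Geo.subspaceStabilizer W ⊓ (Cfsg.GU 6 F q ⊓ Cfsg.Geo.specialLinear (Fin 6) F))) ∧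
    (3 ≤ q → ∀ D : Fin 6 → Submodule F (Fin 6 → F), Cfsg.Geo.IsNondegenerateMDecomposition (Cfsg.hermForm 6 F q) 1 D → Cfsg.Geo.IsMaximalIn (Cfsg.GU 6 F q ⊓ Cfsg.Geo.specialLinear (Fin 6) F) (Cfsg.Geo.decompositionStabilizer D ⊓ (Cfsg.GU 6 F q ⊓ Cfsg.Geo.specialLinear (Fin 6) F))) ∧
    (3 ≤ q → ∀ D : Fin 3 → Submodule F (Fin 6 → F), Cfsg.Geo.IsNondegenerateMDecomposition (Cfsg.hermForm 6 F q) 2 D → Cfsg.Geo.IsMaximalIn (Cfsg.GU 6 F q ⊓ Cfsg.Geo.specialLinear (Fin 6) F) (Cfsg.Geo.decompositionStabilizer D ⊓ (Cfsg.GU 6 F q ⊓ Cfsg.Geo.specialLinear (Fin 6) F))) ∧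
    (∀ D : Fin 2 → Submodule F (Fin 6 → F), Cfsg.Geo.IsNondegenerateMDecomposition (Cfsg.hermForm 6 F q) 3 D → Cfsg.Geo.IsMaximalIn (Cfsg.GU 6 F q ⊓ Cfsg.Geo.specialLinear (Fin 6) F) (Cfsg.Geo.decompositionStabilizer D ⊓ (Cfsg.GU 6 F q ⊓ Cfsg.Geo.specialLinear (Fin 6) F))) ∧
    (∀ D : Fin 2 → Submodule F (Fin 6 → F), Cfsg.Geo.IsMDecomposition 3 D → (∀ i, Cfsg.Geo.IsTotallySingularFor (Cfsg.hermForm 6 F q) (D i)) → Cfsg.Geo.IsMaximalIn (Cfsg.GU 6 F q ⊓ Cfsg.Geo.specialLinear (Fin 6) F) (Cfsg.Geo.decompositionStabilizer D ⊓ (Cfsg.GU 6 F q ⊓ Cfsg.Geo.specialLinear (Fin 6) F))) ∧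
    (3 ≤ q → ∀ K : Subalgebra F (Matrix (Fin 6) (Fin 6) F), Cfsg.Geo.IsFieldSubalgebra 3 K → Cfsg.Geo.IsAdjointClosedFor (Cfsg.hermForm 6 F q) K → Cfsg.Geo.IsMaximalIn (Cfsg.GU 6 F q ⊓ Cfsg.Geo.specialLinear (Fin 6) F) (Cfsg.Geo.subalgebraNormalizer K ⊓ (Cfsg.GU 6 F q ⊓ Cfsg.Geo.specialLinear (Fin 6) F))) ∧
    (3 ≤ q → ∀ (e : Fin 6 ≃ Fin 2 × Fin 3) (P : Matrix.GeneralLinearGroup (Fin 6) F) (f₁ : (Fin 2 → F) → (Fin 2 → F) → F) (f₂ : (Fin 3 → F) → (Fin 3 → F) → F), Cfsg.Geo.IsUnitaryFormPow q f₁ → Cfsg.Geo.IsUnitaryFormPow q f₂ → Cfsg.Geo.IsTensorFormStructure (fun x : F => x ^ q) (Cfsg.hermForm 6 F q) f₁ f₂ e P → Cfsg.Geo.IsMaximalIn (Cfsg.GU 6 F q ⊓ Cfsg.Geo.specialLinear (Fin 6) F) (Cfsg.Geo.tensorProductSubgroup 2 3 e P ⊓ (Cfsg.GU 6 F q ⊓ Cfsg.Geo.specialLinear (Fin 6) F))) ∧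
    (∀ (F₀ : Subfield F) (r : ℕ) (P : Matrix.GeneralLinearGroup (Fin 6) F), r.Prime → Odd r → Fintype.card F = Nat.card F₀ ^ r → Cfsg.Geo.IsFormRationalStructure (Cfsg.hermForm 6 F q) F₀ 1 P → Cfsg.Geo.IsMaximalIn (Cfsg.GU 6 F q ⊓ Cfsg.Geo.specialLinear (Fin 6) F) (Cfsg.Geo.subfieldSubgroup F₀ P ⊓ (Cfsg.GU 6 F q ⊓ Cfsg.Geo.specialLinear (Fin 6) F))) ∧
    (∀ (F₀ : Subfield F) (P : Matrix.GeneralLinearGroup (Fin 6) F) (ζ : F), Fintype.card F = Nat.card F₀ ^ 2 → ζ ≠ 0 → ζ + ζ ^ q = 0 → Cfsg.Geo.IsFormRationalStructure (Cfsg.hermForm 6 F q) F₀ ζ P → (∀ u : Fin 6 → F, (∀ i, u i ∈ F₀) → (Cfsg.hermForm 6 F q) (Matrix.mulVec (P : Matrix (Fin 6) (Fin 6) F) u) (Matrix.mulVec (P : Matrix (Fin 6) (Fin 6) F) u) = 0) → Cfsg.Geo.IsMaximalIn (Cfsg.GU 6 F q ⊓ Cfsg.Geo.specialLinear (Fin 6) F) (Cfsg.Geo.subfieldSubgroup F₀ P ⊓ (Cfsg.GU 6 F q ⊓ Cfsg.Geo.specialLinear (Fin 6) F))) ∧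
    (Odd q → ∀ (F₀ : Subfield F) (P : Matrix.GeneralLinearGroup (Fin 6) F), Fintype.card F = Nat.card F₀ ^ 2 → Cfsg.Geo.IsFormRationalStructure (Cfsg.hermForm 6 F q) F₀ 1 P → Cfsg.Geo.IsMaximalIn (Cfsg.GU 6 F q ⊓ Cfsg.Geo.specialLinear (Fin 6) F) (Cfsg.Geo.subfieldSubgroup F₀ P ⊓ (Cfsg.GU 6 F q ⊓ Cfsg.Geo.specialLinear (Fin 6) F))) := by
  have hF' : Nat.card F = q ^ 2 := by rw [Nat.card_eq_fintype_card, hF]
  have hdec : ∀ {t k : ℕ} {D : Fin t → Submodule F (Fin 6 → F)},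
      Cfsg.Geo.IsNondegenerateMDecomposition (Cfsg.hermForm 6 F q) k D → 2 ≤ k → ¬ (k = 2 ∧ q = 2) →
      Cfsg.Geo.IsMaximalIn (Cfsg.GU 6 F q ⊓ Cfsg.Geo.specialLinear (Fin 6) F)
        (Cfsg.Geo.decompositionStabilizer D ⊓ (Cfsg.GU 6 F q ⊓ Cfsg.Geo.specialLinear (Fin 6) F)) :=
    fun hD hk hex => CfsgLib.Geo.isMaximalIn_of_key (CfsgLib.Geo.UTv.decomp_proper hF' hD hk)
      fun M h1 h2 h3 => CfsgLib.Geo.UTv.decomp_key hF' hD hk hex h1 h2 h3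
  exact ⟨fun W hW0 hW => CfsgLib.Geo.UnitAll.singular hF (by norm_num) hW0 hW,
    fun W hW0 hW hd => CfsgLib.Geo.UnitAll.nondeg hF (by norm_num) hW0 hW hd (by omega),
    fun hq D hD => CfsgLib.Geo.UFrame.frame_maximal_of hF' (Or.inr ⟨rfl, hq⟩) hD,
    fun hq D hD => hdec hD le_rfl (by omega),
    fun D hD => hdec hD (by norm_num) (by omega),
    fun D hD hts => CfsgLib.Geo.UnitAll.lagrangian hF le_rfl hD hts,
    fun hq K hK hac => CfsgLib.Geo.UnitExt.ext_unitary_maximal hF (Or.inl rfl) (Or.inl rfl)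
      (fun _ => Or.inr hq) K hK hac,
    fun hq e P f₁ f₂ h₁ h₂ hT => CfsgLib.Geo.TensorU.tensor_unitary_maximal_of hF' (by norm_num) (by norm_num) e
      (CfsgLib.Geo.TensorU.kron_maximal_two_three hF' hq e) P h₁ h₂ hT,
    fun F₀ r P hr hro hc hP => CfsgLib.Geo.UnitAll.subfieldOdd hF le_rfl hr hro hc hP,
    fun F₀ P ζ hc h0 hz hP ha => CfsgLib.Geo.UnitAll.subfieldSymp hF (by norm_num) hc h0 hz hP ha,
    fun ho F₀ P hc hP => CfsgLib.Geo.UnitAll.subfieldOrth hF le_rfl ho hc hP⟩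

end Cfsg.Agent.S5801
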