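import Cfsg.Statements.S5802
import Cfsg.Agent.Aschbacher.Form.UnitarySixField

set_option autoImplicit false
open Cfsg

namespace Cfsg.Agent.S5802

/-- Every maximal subgroup of SU_6(q) is of one of the listed geometric types or lies in the residual class. Let F be the field with q² elements, f the standard unitary form Σ u_i v_i^q on F^6, and H a maximal subgroup of SU_6(q) (inside GL_6(F)). Then H is the intersection with SU_6(q) of one of: the stabiliser of a non-zero totally isotropic subspace; the stabiliser of a non-degenerate 1- or 2-space; for q ≥ 3, the stabiliser of a decomposition into six mutually orthogonal non-degenerate 1-spaces; for q ≥ 3, of a decomposition into three mutually orthogonal non-degenerate 2-spaces; of a decomposition into two orthogonal non-degenerate 3-spaces; of a decomposition into two totally isotropic 3-spaces; for q ≥ 3, the normaliser of an adjoint-closed degree-3 subfield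 of the matrix algebra; for q ≥ 3, the stabiliser of a tensor decomposition of f into unitary forms on F^2 and F^3; a subfield group of odd prime index whose F₀-structure carries f; a subfield group of index 2 and symplectic type; for q odd, a subfield group of index 2 and orthogonal type — or else H lies in the residual class of the unitary case. -/
theorem result {F : Type*} [Field F] [Fintype F] (q : ℕ) (hF : Fintype.card F = q ^ 2) (H : Subgroup (Matrix.GeneralLinearGroup (Fin 6) F)) (hH : Cfsg.Geo.IsMaximalIn (Cfsg.GU 6 F q ⊓ Cfsg.Geo.specialLinear (Fin 6) F) H) :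
    (∃ W : Submodule F (Fin 6 → F), W ≠ ⊥ ∧ Cfsg.Geo.IsTotallySingularFor (Cfsg.hermForm 6 F q) W ∧ H = Cfsg.Geo.subspaceStabilizer W ⊓ (Cfsg.GU 6 F q ⊓ Cfsg.Geo.specialLinear (Fin 6) F)) ∨
    (∃ W : Submodule F (Fin 6 → F), W ≠ ⊥ ∧ Cfsg.Geo.IsNondegenerateOn (Cfsg.hermForm 6 F q) W ∧ 2 * Module.finrank F W < 6 ∧ H = Cfsg.Geo.subspaceStabilizer W ⊓ (Cfsg.GU 6 F q ⊓ Cfsg.Geo.specialLinear (Fin 6) F)) ∨
    (3 ≤ q ∧ ∃ D : Fin 6 → Submodule F (Fin 6 → F), Cfsg.Geo.IsNondegenerateMDecomposition (Cfsg.hermForm 6 F q) 1 D ∧ H = Cfsg.Geo.decompositionStabilizer D ⊓ (Cfsg.GU 6 F q ⊓ Cfsg.Geo.specialLinear (Fin 6) F)) ∨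
    (3 ≤ q ∧ ∃ D : Fin 3 → Submodule F (Fin 6 → F), Cfsg.Geo.IsNondegenerateMDecomposition (Cfsg.hermForm 6 F q) 2 D ∧ H = Cfsg.Geo.decompositionStabilizer D ⊓ (Cfsg.GU 6 F q ⊓ Cfsg.Geo.specialLinear (Fin 6) F)) ∨
    (∃ D : Fin 2 → Submodule F (Fin 6 → F), Cfsg.Geo.IsNondegenerateMDecomposition (Cfsg.hermForm 6 F q) 3 D ∧ H = Cfsg.Geo.decompositionStabilizer D ⊓ (Cfsg.GU 6 F q ⊓ Cfsg.Geo.specialLinear (Fin 6) F)) ∨
    (∃ D : Fin 2 → Submodule F (Fin 6 → F), Cfsg.Geo.IsMDecomposition 3 D ∧ (∀ i, Cfsg.Geo.IsTotallySingularFor (Cfsg.hermForm 6 F q) (D i)) ∧ H = Cfsg.Geo.decompositionStabilizer D ⊓ (Cfsg.GU 6 F q ⊓ Cfsg.Geo.specialLinear (Fin 6) F)) ∨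
    (3 ≤ q ∧ ∃ K : Subalgebra F (Matrix (Fin 6) (Fin 6) F), Cfsg.Geo.IsFieldSubalgebra 3 K ∧ Cfsg.Geo.IsAdjointClosedFor (Cfsg.hermForm 6 F q) K ∧ H = Cfsg.Geo.subalgebraNormalizer K ⊓ (Cfsg.GU 6 F q ⊓ Cfsg.Geo.specialLinear (Fin 6) F)) ∨
    (3 ≤ q ∧ ∃ (e : Fin 6 ≃ Fin 2 × Fin 3) (P : Matrix.GeneralLinearGroup (Fin 6) F) (f₁ : (Fin 2 → F) → (Fin 2 → F) → F) (f₂ : (Fin 3 → F) → (Fin 3 → F) → F), Cfsg.Geo.IsUnitaryFormPow q f₁ ∧ Cfsg.Geo.IsUnitaryFormPow q f₂ ∧ Cfsg.Geo.IsTensorFormStructure (fun x : F => x ^ q) (Cfsg.hermForm 6 F q) f₁ f₂ e P ∧ H = Cfsg.Geo.tensorProductSubgroup 2 3 e P ⊓ (Cfsg.GU 6 F q ⊓ Cfsg.Geo.specialLinear (Fin 6) F)) ∨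
    (∃ (F₀ : Subfield F) (r : ℕ) (P : Matrix.GeneralLinearGroup (Fin 6) F), r.Prime ∧ Odd r ∧ Fintype.card F = Nat.card F₀ ^ r ∧ Cfsg.Geo.IsFormRationalStructure (Cfsg.hermForm 6 F q) F₀ 1 P ∧ H = Cfsg.Geo.subfieldSubgroup F₀ P ⊓ (Cfsg.GU 6 F q ⊓ Cfsg.Geo.specialLinear (Fin 6) F)) ∨
    (∃ (F₀ : Subfield F) (P : Matrix.GeneralLinearGroup (Fin 6) F) (ζ : F), Fintype.card F = Nat.card F₀ ^ 2 ∧ ζ ≠ 0 ∧ ζ + ζ ^ q = 0 ∧ Cfsg.Geo.IsFormRationalStructure (Cfsg.hermForm 6 F q) F₀ ζ P ∧ (∀ u : Fin 6 → F, (∀ i, u i ∈ F₀) → (Cfsg.hermForm 6 F q) (Matrix.mulVec (P : Matrix (Fin 6) (Fin 6) F) u) (Matrix.mulVec (P : Matrix (Fin 6) (Fin 6) F) u) = 0) ∧ H = Cfsg.Geo.subfieldSubgroup F₀ P ⊓ (Cfsg.GU 6 F q ⊓ Cfsg.Geo.specialLinear (Fin 6) F)) ∨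
    (Odd q ∧ ∃ (F₀ : Subfield F) (P : Matrix.GeneralLinearGroup (Fin 6) F), Fintype.card F = Nat.card F₀ ^ 2 ∧ Cfsg.Geo.IsFormRationalStructure (Cfsg.hermForm 6 F q) F₀ 1 P ∧ H = Cfsg.Geo.subfieldSubgroup F₀ P ⊓ (Cfsg.GU 6 F q ⊓ Cfsg.Geo.specialLinear (Fin 6) F)) ∨
    Cfsg.Geo.InUnitaryResidualClass H := by
  classical
  open CfsgLib.Aschbacher in
  rcases maximal_unitary hF (by norm_num) hH (unitary_normalizer_proper hF (by norm_num)) with
    hW | hW' | ⟨t, k, D, htk, ht, hk, hq, hD, h⟩ | ⟨k, D, hk, hD, hts, h⟩ | ⟨r, K, hr, hro, hrn, hK, hac, h⟩ |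
    ⟨n₁, n₂, e, P, f₁, f₂, h1, h12, hn, hq, hf₁, hf₂, hT, h⟩ | hsub | ⟨F₀, P, ζ, hev, hsymp⟩ | hsub2 |
    ⟨r, R, p, e, k, hn, hR, habs, hsim, hrp, hmin, hqe, hdata, h⟩ |
    ⟨k, t, e, P, f₁, hk, ht, hkt, hex, hf₁, hT, h⟩ | hres
  · exact Or.inl hW
  · exact Or.inr (Or.inl hW')
  · have hkn : k ≤ 6 := Nat.le_of_dvd (by norm_num) ⟨t, by rw [← htk, mul_comm]⟩
    interval_cases k <;> first | omega | skip
    · obtain rfl : t = 6 := by omega
      refine Or.inr (Or.inr (Or.inl ⟨?_, D, hD, h⟩))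
      by_contra hq3
      obtain rfl : q = 2 := by
        have := Fintype.one_lt_card (α := F)
        rw [hF] at this
        interval_cases q <;> simp_all
      exact CfsgLib.Aschbacher.sixLines_not_maximal hF hD hH h
    · obtain rfl : t = 3 := by omega
      exact Or.inr (Or.inr (Or.inr (Or.inl ⟨hq rfl, D, hD, h⟩)))
    · obtain rfl : t = 2 := by omega
      exact Or.inr (Or.inr (Or.inr (Or.inr (Or.inl ⟨D, hD, h⟩))))
  · obtain rfl : k = 3 := by omega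
    exact Or.inr (Or.inr (Or.inr (Or.inr (Or.inr (Or.inl ⟨D, hD, hts, h⟩)))))
  · obtain rfl : r = 3 := by
      have := Nat.le_of_dvd (by norm_num) hrn
      interval_cases r <;> first | rfl | omega | exact absurd hro (by decide) | exact absurd hr (by norm_num)
    by_cases hq3 : 3 ≤ q
    · exact Or.inr (Or.inr (Or.inr (Or.inr (Or.inr (Or.inr (Or.inl ⟨hq3, K, hK, hac, h⟩))))))
    obtain rfl : q = 2 := by
      have := Fintype.one_lt_card (α := F)
      rw [hF] at this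
      interval_cases q <;> simp_all
    open CfsgLib.Aschbacher in
    obtain ⟨σ, hf, hσ, -⟩ := exists_hermForm_unitary (n := 6) hF
    open CfsgLib.Aschbacher in
    obtain ⟨P, hP, hz, hG⟩ := fieldSix_to_subfield hF hf hσ hK hac h.le
    open CfsgLib.Aschbacher in
    have hcard := card_eq_sq_fixSubfield hf.ne_refl hf.involutive
    open CfsgLib.Aschbacher in
    exact Or.inr (Or.inr (Or.inr (Or.inr (Or.inr (Or.inr (Or.inr (Or.inr (Or.inr (Or.inl ⟨fixSubfield σ, P, 1, hcard,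
      one_ne_zero, (by linear_combination (two_eq_zero_of_card_four (by rw [hF]; norm_num) : (2 : F) = 0)), hP, hz,
      eq_inf_of_le hH hG (isoSL_not_le_subfield_symplectic hf (by simp) hcard one_ne_zero hP hz)⟩)))))))))
  · have : n₁ ≤ 6 := Nat.le_of_dvd (by norm_num) ⟨n₂, hn.symm⟩
    interval_cases n₁ <;> first | omega | skip
    · obtain rfl : n₂ = 3 := by omega
      exact Or.inr (Or.inr (Or.inr (Or.inr (Or.inr (Or.inr (Or.inr (Or.inl ⟨hq rfl, e, P, f₁, f₂, hf₁, hf₂, hT, h⟩)))))))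
  · exact Or.inr (Or.inr (Or.inr (Or.inr (Or.inr (Or.inr (Or.inr (Or.inr (Or.inl hsub))))))))
  · exact Or.inr (Or.inr (Or.inr (Or.inr (Or.inr (Or.inr (Or.inr (Or.inr (Or.inr (Or.inl ⟨F₀, P, ζ, hsymp⟩)))))))))
  · exact Or.inr (Or.inr (Or.inr (Or.inr (Or.inr (Or.inr (Or.inr (Or.inr (Or.inr (Or.inr (Or.inl hsub2))))))))))
  · exfalso
    have hr := hR.prime
    have hk0 : k ≠ 0 := by rintro rfl; norm_num at hn
    have h6 : r ∣ 6 := hn ▸ dvd_pow_self r hk0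
    have := Nat.le_of_dvd (by norm_num) h6
    have hk3 : k < 3 := by
      by_contra hc
      have h8 : 2 ^ 3 ≤ r ^ k := le_trans (Nat.pow_le_pow_left hr.two_le 3) (Nat.pow_le_pow_right hr.pos (by omega))
      omega
    interval_cases r <;> interval_cases k <;> first | omega | (revert hr; norm_num)
  · exfalso
    have ht3 : t < 2 := by
      by_contra hc
      have := Nat.pow_le_pow_left hk t
      have := Nat.pow_le_pow_right (show 3 > 0 by norm_num) (show 2 ≤ t by omega)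
      omega
    omega
  · exact Or.inr (Or.inr (Or.inr (Or.inr (Or.inr (Or.inr (Or.inr (Or.inr (Or.inr (Or.inr (Or.inr hres))))))))))

end Cfsg.Agent.S5802
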