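import Cfsg.Statements.S5805
import Cfsg.Agent.Aschbacher.Form.SymplecticMaximal
import Cfsg.Agent.Aschbacher.Form.ThreeBlocks

set_option autoImplicit false
open Cfsg

namespace Cfsg.Agent.S5805

/-- Every maximal subgroup of Sp_6(q) is of one of the listed geometric types or lies in the residual class. Let F be a finite field with q elements, f the standard alternating form on F^6 (coordinates Fin 3 ⊕ Fin 3), and H a maximal subgroup of Sp_6(F) (inside GL_6(F)). Then H is the intersection with Sp_6(F) of one of: the stabiliser of a non-zero totally isotropic subspace; the stabiliser of a non-degenerate 2-space; for q ≥ 3, the stabiliser of a decomposition into three mutually orthogonal non-degenerate 2-spaces; for q odd, of a decomposition into two totally isotropic 3-spaces; the normaliser of a degree-3 subfield K of the matrix algebra, self-adjoint with f(k v, v) = 0; for q odd, the normaliser of a degree-2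 subfield closed under adjoints but not self-adjoint; for q odd, q ≥ 5, the stabiliser of a tensor decomposition of f into an alternating form on F^2 and a symmetric form on F^3; a subfield group (|F| = |F₀|^r, r prime) whose F₀-structure carries a non-zero multiple of f; for q even, the similarity group of a non-degenerate quadratic form polarising to f — or else H lies in the residual class of the symplectic case. -/
theorem result {F : Type*} [Field F] [Fintype F] (H : Subgroup (Matrix.GeneralLinearGroup (Fin 3 ⊕ Fin 3) F)) (hH : Cfsg.Geo.IsMaximalIn (Cfsg.spGL 3 F) H) :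
    (∃ W : Submodule F (Fin 3 ⊕ Fin 3 → F), W ≠ ⊥ ∧ Cfsg.Geo.IsTotallySingularFor (Cfsg.sympForm 3 F) W ∧ H = Cfsg.Geo.subspaceStabilizer W ⊓ Cfsg.spGL 3 F) ∨
    (∃ W : Submodule F (Fin 3 ⊕ Fin 3 → F), W ≠ ⊥ ∧ Cfsg.Geo.IsNondegenerateOn (Cfsg.sympForm 3 F) W ∧ Module.finrank F W < 3 ∧ H = Cfsg.Geo.subspaceStabilizer W ⊓ Cfsg.spGL 3 F) ∨
    (3 ≤ Fintype.card F ∧ ∃ D : Fin 3 → Submodule F (Fin 3 ⊕ Fin 3 → F), Cfsg.Geo.IsNondegenerateMDecomposition (Cfsg.sympForm 3 F) 2 D ∧ H = Cfsg.Geo.decompositionStabilizer D ⊓ Cfsg.spGL 3 F) ∨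
    (Odd (Fintype.card F) ∧ ∃ D : Fin 2 → Submodule F (Fin 3 ⊕ Fin 3 → F), Cfsg.Geo.IsMDecomposition 3 D ∧ (∀ i, Cfsg.Geo.IsTotallySingularFor (Cfsg.sympForm 3 F) (D i)) ∧ H = Cfsg.Geo.decompositionStabilizer D ⊓ Cfsg.spGL 3 F) ∨
    (∃ K : Subalgebra F (Matrix (Fin 3 ⊕ Fin 3) (Fin 3 ⊕ Fin 3) F), Cfsg.Geo.IsFieldSubalgebra 3 K ∧ Cfsg.Geo.IsSelfAdjointFor (Cfsg.sympForm 3 F) K ∧ (∀ k ∈ K, ∀ v : (Fin 3 ⊕ Fin 3 → F), (Cfsg.sympForm 3 F) (Matrix.mulVec k v) v = 0) ∧ H = Cfsg.Geo.subalgebraNormalizer K ⊓ Cfsg.spGL 3 F) ∨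
    (Odd (Fintype.card F) ∧ ∃ K : Subalgebra F (Matrix (Fin 3 ⊕ Fin 3) (Fin 3 ⊕ Fin 3) F), Cfsg.Geo.IsFieldSubalgebra 2 K ∧ Cfsg.Geo.IsAdjointClosedFor (Cfsg.sympForm 3 F) K ∧ ¬ Cfsg.Geo.IsSelfAdjointFor (Cfsg.sympForm 3 F) K ∧ H = Cfsg.Geo.subalgebraNormalizer K ⊓ Cfsg.spGL 3 F) ∨
    (Odd (Fintype.card F) ∧ 5 ≤ Fintype.card F ∧ ∃ (e : (Fin 3 ⊕ Fin 3) ≃ Fin 2 × Fin 3) (P : Matrix.GeneralLinearGroup (Fin 3 ⊕ Fin 3) F) (f₁ : (Fin 2 → F) → (Fin 2 → F) → F) (f₂ : (Fin 3 → F) → (Fin 3 → F) → F), Cfsg.Geo.IsSymplecticForm f₁ ∧ Cfsg.Geo.IsSymmetricForm f₂ ∧ Cfsg.Geo.IsTensorFormStructure id (Cfsg.sympForm 3 F) f₁ f₂ e P ∧ H = Cfsg.Geo.tensorProductSubgroup 2 3 e P ⊓ Cfsg.spGL 3 F) ∨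
    (∃ (F₀ : Subfield F) (r : ℕ) (P : Matrix.GeneralLinearGroup (Fin 3 ⊕ Fin 3) F) (ζ : F), r.Prime ∧ Fintype.card F = Nat.card F₀ ^ r ∧ ζ ≠ 0 ∧ Cfsg.Geo.IsFormRationalStructure (Cfsg.sympForm 3 F) F₀ ζ P ∧ H = Cfsg.Geo.subfieldSubgroup F₀ P ⊓ Cfsg.spGL 3 F) ∨
    (¬ Odd (Fintype.card F) ∧ ∃ Q : (Fin 3 ⊕ Fin 3 → F) → F, Cfsg.Geo.IsNondegenerateQuadraticForm Q ∧ (∀ u v : (Fin 3 ⊕ Fin 3 → F), QuadraticMap.polar Q u v = (Cfsg.sympForm 3 F) u v) ∧ H = Cfsg.Geo.quadSimilarityGroup Q ⊓ Cfsg.spGL 3 F) ∨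
    Cfsg.Geo.InSymplecticResidualClass H := by
  classical
  open CfsgLib.Aschbacher in
  rcases maximal_symplectic (by norm_num) hH (fun R hR hcl _ => spGL_not_le_normalizer (by norm_num) hR hcl) with
    hW | hW' | ⟨t, k, D, htk, ht, hkev, hk, hq, hD, h⟩ | ⟨ho, D, hD, hts, h⟩ | ⟨r, K, hr, hrm, hK, hsa, hz, h⟩ | hherm |
    ⟨n₁, n₂, e, P, f₁, f₂, ho, h1, h1e, h3, hn, hf₁, hf₂, hT, h⟩ | hsub |
    ⟨p, k, R, hk, hp, hpo, hF, hR, habs, hsim, hcR, hcZ, hminus, h⟩ |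
    ⟨k, t, e, P, f₁, ho, hto, ht, hk, hke, hkt, hex, hf₁, hT, h⟩ | hquad | hres
  · exact Or.inl (hW)
  · exact Or.inr (Or.inl (hW'))
  · have hkn : k ≤ 3 := by nlinarith
    interval_cases k <;> first | omega | (exfalso; revert hkev; decide) | skip
    · obtain rfl : t = 3 := by omega
      exact Or.inr (Or.inr (Or.inl (⟨hq rfl, D, hD, h⟩)))
  · exact Or.inr (Or.inr (Or.inr (Or.inl (⟨ho, D, hD, hts, h⟩))))
  · have hrm' : r ≤ 3 := Nat.le_of_dvd (by norm_num) hrm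
    interval_cases r <;> first | omega | (exfalso; norm_num at hr; done) | skip
    · exact Or.inr (Or.inr (Or.inr (Or.inr (Or.inl (⟨K, hK, hsa, hz, h⟩)))))
  · exact Or.inr (Or.inr (Or.inr (Or.inr (Or.inr (Or.inl (hherm))))))
  · have : n₁ ≤ 2 := by nlinarith
    obtain rfl : n₁ = 2 := by omega
    obtain rfl : n₂ = 3 := by omega
    by_cases hq5 : 5 ≤ Fintype.card F
    · exact Or.inr (Or.inr (Or.inr (Or.inr (Or.inr (Or.inr (Or.inl (⟨ho, hq5, e, P, f₁, f₂, hf₁, hf₂, hT, h⟩)))))))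
    have hq3 : Fintype.card F = 3 := by
      have := Fintype.one_lt_card (α := F)
      obtain ⟨j, hj⟩ := ho
      omega
    open CfsgLib.Aschbacher in
    obtain ⟨D, hD, hG⟩ := tensor_three_to_blocks hq3 (isSymplecticForm_sympForm _).bilinear
      (fun s hs u v => by obtain ⟨g, hg, rfl⟩ := hs; exact hH.1.le hg u v) (by norm_num) hf₁ hf₂ hT
      (h.le.trans inf_le_left)
    open CfsgLib.Aschbacher in
    have h := eq_inf_of_le hH hG (spGL_not_le_decomposition hD.decomp (by norm_num))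
    exact Or.inr (Or.inr (Or.inl (⟨by omega, D, hD, h⟩)))
  · exact Or.inr (Or.inr (Or.inr (Or.inr (Or.inr (Or.inr (Or.inr (Or.inl (hsub))))))))
  · exfalso
    have ho' : Nat.Prime 3 := by norm_num
    have := (Nat.prime_dvd_prime_iff_eq ho' Nat.prime_two).mp
      (ho'.dvd_of_dvd_pow (n := k) (hk ▸ (by norm_num : 3 ∣ 2 * 3)))
    omega
  · exfalso
    have h8 : 8 ≤ k ^ t := (Nat.pow_le_pow_left hk t).trans' (Nat.pow_le_pow_right (show 2 > 0 by norm_num) ht)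
    have hk2 : k ≤ 3 := by
      by_contra hc
      have := Nat.pow_le_pow_left (show 4 ≤ k by omega) t
      have := Nat.pow_le_pow_right (show 4 > 0 by norm_num) ht
      omega
    interval_cases k <;> first | (revert hke; decide) | skip
    have ht5 : t < 5 := by
      by_contra hc
      have := Nat.pow_le_pow_right (show 2 > 0 by norm_num) (show 5 ≤ t by omega)
      omega
    interval_cases t <;> norm_num at hkt
  · exact Or.inr (Or.inr (Or.inr (Or.inr (Or.inr (Or.inr (Or.inr (Or.inr (Or.inl (hquad)))))))))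
  · exact Or.inr (Or.inr (Or.inr (Or.inr (Or.inr (Or.inr (Or.inr (Or.inr (Or.inr (hres)))))))))

end Cfsg.Agent.S5805
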