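import Cfsg.Statements.S5819
import Cfsg.Agent.Geo.UnitGeomAll
import Cfsg.Agent.Geo.UnitFrameMax
import Cfsg.Agent.Geo.SUEight.Max

set_option autoImplicit false
open Cfsg

namespace Cfsg.Agent.S5819

/-- Maximal subgroups of SU_8(q) of geometric type (any prime power q). Let F be the field with q² elements, f the standard unitary form Σ u_i v_i^q on F^8 and SU_8(q) its determinant-one isometry group inside GL_8(F). Each of the following, intersected with SU_8(q), is a maximal subgroup of SU_8(q): (1) the stabiliser of any non-zero subspace on which f vanishes identically (totally isotropic 1-, 2-, 3- and 4-spaces); (2) the stabiliser of any non-degenerate 1-, 2- or 3-space; (3) the stabiliser of any decomposition of F^8 into eight mutually orthogonal non-degenerate 1-spaces; (4) for q ≥ 3, the stabiliser of any decomposition into four mutually orthogonal non-degenerate 2-spaces; (5)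 the stabiliser of any decomposition into two mutually orthogonal non-degenerate 4-spaces; (6) the stabiliser of any decomposition into two totally isotropic 4-spaces; (7) for q ≥ 3, the stabiliser of any tensor decomposition of f as (unitary form on F^2) ⊗ (unitary form on F^4) up to a scalar; (8) every subfield group for a subfield F₀ of odd prime index in F whose F₀-structure carries f; (9) every subfield group for the subfield F₀ of index 2 whose F₀-structure carries ζ f, vanishing on pairs (u, u), for a non-zero ζ with ζ + ζ^q = 0 (symplectic type); (10) for q odd, every subfield group for the subfield F₀ of index 2 whose F₀-structure carries f (orthogonal types, either sign); (11) for q = p prime with p ≡ 3 mod 4, the normaliser of any absolutely irreducible 2-group R of symplectic type and exponent 4 with |R| = 2^8 and centre of order 4, consisting of isometries of f. -/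
theorem result {F : Type*} [Field F] [Fintype F] (q : ℕ) (hF : Fintype.card F = q ^ 2) :
    (∀ W : Submodule F (Fin 8 → F), W ≠ ⊥ → Cfsg.Geo.IsTotallySingularFor (Cfsg.hermForm 8 F q) W → Cfsg.Geo.IsMaximalIn (Cfsg.GU 8 F q ⊓ Cfsg.Geo.specialLinear (Fin 8) F) (Cfsg.Geo.subspaceStabilizer W ⊓ (Cfsg.GU 8 F q ⊓ Cfsg.Geo.specialLinear (Fin 8) F))) ∧
    (∀ W : Submodule F (Fin 8 → F), W ≠ ⊥ → Cfsg.Geo.IsNondegenerateOn (Cfsg.hermForm 8 F q) W → 2 * Module.finrank F W < 8 → Cfsg.Geo.IsMaximalIn (Cfsg.GU 8 F q ⊓ Cfsg.Geo.specialLinear (Fin 8) F) (Cfsg.Geo.subspaceStabilizer W ⊓ (Cfsg.GU 8 F q ⊓ Cfsg.Geo.specialLinear (Fin 8) F))) ∧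
    (∀ D : Fin 8 → Submodule F (Fin 8 → F), Cfsg.Geo.IsNondegenerateMDecomposition (Cfsg.hermForm 8 F q) 1 D → Cfsg.Geo.IsMaximalIn (Cfsg.GU 8 F q ⊓ Cfsg.Geo.specialLinear (Fin 8) F) (Cfsg.Geo.decompositionStabilizer D ⊓ (Cfsg.GU 8 F q ⊓ Cfsg.Geo.specialLinear (Fin 8) F))) ∧
    (3 ≤ q → ∀ D : Fin 4 → Submodule F (Fin 8 → F), Cfsg.Geo.IsNondegenerateMDecomposition (Cfsg.hermForm 8 F q) 2 D → Cfsg.Geo.IsMaximalIn (Cfsg.GU 8 F q ⊓ Cfsg.Geo.specialLinear (Fin 8) F) (Cfsg.Geo.decompositionStabilizer D ⊓ (Cfsg.GU 8 F q ⊓ Cfsg.Geo.specialLinear (Fin 8) F))) ∧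
    (∀ D : Fin 2 → Submodule F (Fin 8 → F), Cfsg.Geo.IsNondegenerateMDecomposition (Cfsg.hermForm 8 F q) 4 D → Cfsg.Geo.IsMaximalIn (Cfsg.GU 8 F q ⊓ Cfsg.Geo.specialLinear (Fin 8) F) (Cfsg.Geo.decompositionStabilizer D ⊓ (Cfsg.GU 8 F q ⊓ Cfsg.Geo.specialLinear (Fin 8) F))) ∧
    (∀ D : Fin 2 → Submodule F (Fin 8 → F), Cfsg.Geo.IsMDecomposition 4 D → (∀ i, Cfsg.Geo.IsTotallySingularFor (Cfsg.hermForm 8 F q) (D i)) → Cfsg.Geo.IsMaximalIn (Cfsg.GU 8 F q ⊓ Cfsg.Geo.specialLinear (Fin 8) F) (Cfsg.Geo.decompositionStabilizer D ⊓ (Cfsg.GU 8 F q ⊓ Cfsg.Geo.specialLinear (Fin 8) F))) ∧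
    (3 ≤ q → ∀ (e : Fin 8 ≃ Fin 2 × Fin 4) (P : Matrix.GeneralLinearGroup (Fin 8) F) (f₁ : (Fin 2 → F) → (Fin 2 → F) → F) (f₂ : (Fin 4 → F) → (Fin 4 → F) → F), Cfsg.Geo.IsUnitaryFormPow q f₁ → Cfsg.Geo.IsUnitaryFormPow q f₂ → Cfsg.Geo.IsTensorFormStructure (fun x : F => x ^ q) (Cfsg.hermForm 8 F q) f₁ f₂ e P → Cfsg.Geo.IsMaximalIn (Cfsg.GU 8 F q ⊓ Cfsg.Geo.specialLinear (Fin 8) F) (Cfsg.Geo.tensorProductSubgroup 2 4 e P ⊓ (Cfsg.GU 8 F q ⊓ Cfsg.Geo.specialLinear (Fin 8) F))) ∧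
    (∀ (F₀ : Subfield F) (r : ℕ) (P : Matrix.GeneralLinearGroup (Fin 8) F), r.Prime → Odd r → Fintype.card F = Nat.card F₀ ^ r → Cfsg.Geo.IsFormRationalStructure (Cfsg.hermForm 8 F q) F₀ 1 P → Cfsg.Geo.IsMaximalIn (Cfsg.GU 8 F q ⊓ Cfsg.Geo.specialLinear (Fin 8) F) (Cfsg.Geo.subfieldSubgroup F₀ P ⊓ (Cfsg.GU 8 F q ⊓ Cfsg.Geo.specialLinear (Fin 8) F))) ∧
    (∀ (F₀ : Subfield F) (P : Matrix.GeneralLinearGroup (Fin 8) F) (ζ : F), Fintype.card F = Nat.card F₀ ^ 2 → ζ ≠ 0 → ζ + ζ ^ q = 0 → Cfsg.Geo.IsFormRationalStructure (Cfsg.hermForm 8 F q) F₀ ζ P → (∀ u : Fin 8 → F, (∀ i, u i ∈ F₀) → (Cfsg.hermForm 8 F q) (Matrix.mulVec (P : Matrix (Fin 8) (Fin 8) F) u) (Matrix.mulVec (P : Matrix (Fin 8) (Fin 8) F) u) = 0) → Cfsg.Geo.IsMaximalIn (Cfsg.GU 8 F q ⊓ Cfsg.Geo.specialLinear (Fin 8) F) (Cfsg.Geo.subfieldSubgroup F₀ P ⊓ (Cfsg.GU 8 F q ⊓ Cfsg.Geo.specialLinear (Fin 8) F))) ∧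
    (Odd q → ∀ (F₀ : Subfield F) (P : Matrix.GeneralLinearGroup (Fin 8) F), Fintype.card F = Nat.card F₀ ^ 2 → Cfsg.Geo.IsFormRationalStructure (Cfsg.hermForm 8 F q) F₀ 1 P → Cfsg.Geo.IsMaximalIn (Cfsg.GU 8 F q ⊓ Cfsg.Geo.specialLinear (Fin 8) F) (Cfsg.Geo.subfieldSubgroup F₀ P ⊓ (Cfsg.GU 8 F q ⊓ Cfsg.Geo.specialLinear (Fin 8) F))) ∧
    (∀ (p : ℕ) (R : Subgroup (Matrix.GeneralLinearGroup (Fin 8) F)), p.Prime → q = p → p % 4 = 3 → Cfsg.Geo.IsSymplecticTypeGroup 2 R → Cfsg.Geo.ActsAbsolutelyIrreducibly (Cfsg.Geo.matrixSet R) → R ≤ Cfsg.GU 8 F q → Nat.card R = 256 → Nat.card (Subgroup.center R) = 4 → Cfsg.Geo.IsMaximalIn (Cfsg.GU 8 F q ⊓ Cfsg.Geo.specialLinear (Fin 8) F) (Cfsg.Geo.subgroupNormalizer R ⊓ (Cfsg.GU 8 F q ⊓ Cfsg.Geo.specialLinear (Fin 8) F))) := by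
  have hF' : Nat.card F = q ^ 2 := by rw [Nat.card_eq_fintype_card, hF]
  have hdec : ∀ {t k : ℕ} {D : Fin t → Submodule F (Fin 8 → F)},
      Cfsg.Geo.IsNondegenerateMDecomposition (Cfsg.hermForm 8 F q) k D → 2 ≤ k → ¬ (k = 2 ∧ q = 2) →
      Cfsg.Geo.IsMaximalIn (Cfsg.GU 8 F q ⊓ Cfsg.Geo.specialLinear (Fin 8) F)
        (Cfsg.Geo.decompositionStabilizer D ⊓ (Cfsg.GU 8 F q ⊓ Cfsg.Geo.specialLinear (Fin 8) F)) :=
    fun hD hk hex => CfsgLib.Geo.isMaximalIn_of_key (CfsgLib.Geo.UTv.decomp_proper hF' hD hk)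
      fun M h1 h2 h3 => CfsgLib.Geo.UTv.decomp_key hF' hD hk hex h1 h2 h3
  exact ⟨fun W hW0 hW => CfsgLib.Geo.UnitAll.singular hF (by norm_num) hW0 hW,
    fun W hW0 hW hd => CfsgLib.Geo.UnitAll.nondeg hF (by norm_num) hW0 hW hd (by omega),
    fun D hD => CfsgLib.Geo.UFrame.frame_maximal_of hF' (Or.inl (Or.inr rfl)) hD,
    fun hq D hD => hdec hD le_rfl (by omega),
    fun D hD => hdec hD (by norm_num) (by omega),
    fun D hD hts => CfsgLib.Geo.UnitAll.lagrangian hF (by norm_num) hD hts,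
    fun hq e P f₁ f₂ h₁ h₂ hT => CfsgLib.Geo.UnitAll.tensor hF le_rfl (by norm_num) le_rfl (by omega) e P h₁ h₂ hT,
    fun F₀ r P hr hro hc hP => CfsgLib.Geo.UnitAll.subfieldOdd hF (by norm_num) hr hro hc hP,
    fun F₀ P ζ hc h0 hz hP ha => CfsgLib.Geo.UnitAll.subfieldSymp hF (by norm_num) hc h0 hz hP ha,
    fun ho F₀ P hc hP => CfsgLib.Geo.UnitAll.subfieldOrth hF (by norm_num) ho hc hP,
    fun p R hp hqp hp4 hR hirr hle _ hcen => by
      subst hqp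
      exact CfsgLib.Geo.SUEight.unitary_c6_maximal hF' hp hp4 hR hirr hle hcen⟩

end Cfsg.Agent.S5819
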