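import Cfsg.Statements.S5823
import Cfsg.Agent.Aschbacher.Form.SymplecticMaximal
import Cfsg.Agent.Aschbacher.Form.PlusTensor

set_option autoImplicit false
open Cfsg

namespace Cfsg.Agent.S5823

/-- Every maximal subgroup of Sp_8(q) is of one of the listed geometric types or lies in the residual class. Let F be a finite field with q elements, f the standard alternating form on F^8 (coordinates Fin 4 ⊕ Fin 4), and H a maximal subgroup of Sp_8(F) (inside GL_8(F)). Then H is the intersection with Sp_8(F) of one of: the stabiliser of a non-zero totally isotropic subspace; the stabiliser of a non-degenerate 2-space; for q ≥ 3, the stabiliser of a decomposition into four mutually orthogonal non-degenerate 2-spaces; of a decomposition into two orthogonal non-degenerate 4-spaces; for q odd, of a decomposition into two totally isotropic 4-spaces; the normaliser of a degree-2 subfield K, self-adjoint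 with f(k v, v) = 0; for q odd, the normaliser of a degree-2 subfield closed under adjoints but not self-adjoint; for q odd, the stabiliser of a tensor decomposition of f into an alternating form on F^2 and a minus-type symmetric form on F^4; a subfield group (|F| = |F₀|^r, r prime) whose F₀-structure carries a non-zero multiple of f; for q = p an odd prime, the normaliser of an absolutely irreducible extraspecial group 2_-^(1+6) of exponent 4 inside the similarity group of f; for q odd, q ≥ 5, the stabiliser of a tensor decomposition of f as a third tensor power of an alternating form on F^2; for q even, the similarity group of a non-degenerate quadratic form polarising to f — or else H lies in the residual class of the symplectic case. -/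
theorem result {F : Type*} [Field F] [Fintype F] (H : Subgroup (Matrix.GeneralLinearGroup (Fin 4 ⊕ Fin 4) F)) (hH : Cfsg.Geo.IsMaximalIn (Cfsg.spGL 4 F) H) :
    (∃ W : Submodule F (Fin 4 ⊕ Fin 4 → F), W ≠ ⊥ ∧ Cfsg.Geo.IsTotallySingularFor (Cfsg.sympForm 4 F) W ∧ H = Cfsg.Geo.subspaceStabilizer W ⊓ Cfsg.spGL 4 F) ∨
    (∃ W : Submodule F (Fin 4 ⊕ Fin 4 → F), W ≠ ⊥ ∧ Cfsg.Geo.IsNondegenerateOn (Cfsg.sympForm 4 F) W ∧ Module.finrank F W < 4 ∧ H = Cfsg.Geo.subspaceStabilizer W ⊓ Cfsg.spGL 4 F) ∨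
    (3 ≤ Fintype.card F ∧ ∃ D : Fin 4 → Submodule F (Fin 4 ⊕ Fin 4 → F), Cfsg.Geo.IsNondegenerateMDecomposition (Cfsg.sympForm 4 F) 2 D ∧ H = Cfsg.Geo.decompositionStabilizer D ⊓ Cfsg.spGL 4 F) ∨
    (∃ D : Fin 2 → Submodule F (Fin 4 ⊕ Fin 4 → F), Cfsg.Geo.IsNondegenerateMDecomposition (Cfsg.sympForm 4 F) 4 D ∧ H = Cfsg.Geo.decompositionStabilizer D ⊓ Cfsg.spGL 4 F) ∨
    (Odd (Fintype.card F) ∧ ∃ D : Fin 2 → Submodule F (Fin 4 ⊕ Fin 4 → F), Cfsg.Geo.IsMDecomposition 4 D ∧ (∀ i, Cfsg.Geo.IsTotallySingularFor (Cfsg.sympForm 4 F) (D i)) ∧ H = Cfsg.Geo.decompositionStabilizer D ⊓ Cfsg.spGL 4 F) ∨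
    (∃ K : Subalgebra F (Matrix (Fin 4 ⊕ Fin 4) (Fin 4 ⊕ Fin 4) F), Cfsg.Geo.IsFieldSubalgebra 2 K ∧ Cfsg.Geo.IsSelfAdjointFor (Cfsg.sympForm 4 F) K ∧ (∀ k ∈ K, ∀ v : (Fin 4 ⊕ Fin 4 → F), (Cfsg.sympForm 4 F) (Matrix.mulVec k v) v = 0) ∧ H = Cfsg.Geo.subalgebraNormalizer K ⊓ Cfsg.spGL 4 F) ∨
    (Odd (Fintype.card F) ∧ ∃ K : Subalgebra F (Matrix (Fin 4 ⊕ Fin 4) (Fin 4 ⊕ Fin 4) F), Cfsg.Geo.IsFieldSubalgebra 2 K ∧ Cfsg.Geo.IsAdjointClosedFor (Cfsg.sympForm 4 F) K ∧ ¬ Cfsg.Geo.IsSelfAdjointFor (Cfsg.sympForm 4 F) K ∧ H = Cfsg.Geo.subalgebraNormalizer K ⊓ Cfsg.spGL 4 F) ∨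
    (Odd (Fintype.card F) ∧ ∃ (e : (Fin 4 ⊕ Fin 4) ≃ Fin 2 × Fin 4) (P : Matrix.GeneralLinearGroup (Fin 4 ⊕ Fin 4) F) (f₁ : (Fin 2 → F) → (Fin 2 → F) → F) (f₂ : (Fin 4 → F) → (Fin 4 → F) → F), Cfsg.Geo.IsSymplecticForm f₁ ∧ Cfsg.Geo.IsSymmetricForm f₂ ∧ ¬ Cfsg.Geo.IsPlusTypeOn (fun v : Fin 4 → F => f₂ v v) ⊤ ∧ Cfsg.Geo.IsTensorFormStructure id (Cfsg.sympForm 4 F) f₁ f₂ e P ∧ H = Cfsg.Geo.tensorProductSubgroup 2 4 e P ⊓ Cfsg.spGL 4 F) ∨
    (∃ (F₀ : Subfield F) (r : ℕ) (P : Matrix.GeneralLinearGroup (Fin 4 ⊕ Fin 4) F) (ζ : F), r.Prime ∧ Fintype.card F = Nat.card F₀ ^ r ∧ ζ ≠ 0 ∧ Cfsg.Geo.IsFormRationalStructure (Cfsg.sympForm 4 F) F₀ ζ P ∧ H = Cfsg.Geo.subfieldSubgroup F₀ P ⊓ Cfsg.spGL 4 F) ∨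
    (∃ (p : ℕ) (R : Subgroup (Matrix.GeneralLinearGroup (Fin 4 ⊕ Fin 4) F)), p.Prime ∧ Odd p ∧ Fintype.card F = p ∧ Cfsg.Geo.IsSymplecticTypeGroup 2 R ∧ Cfsg.Geo.ActsAbsolutelyIrreducibly (Cfsg.Geo.matrixSet R) ∧ R ≤ Cfsg.Geo.similarityGroup (Cfsg.sympForm 4 F) ∧ Nat.card R = 128 ∧ Nat.card (Subgroup.center R) = 2 ∧ Cfsg.Geo.IsOfMinusType 3 R ∧ H = Cfsg.Geo.subgroupNormalizer R ⊓ Cfsg.spGL 4 F) ∨
    (Odd (Fintype.card F) ∧ 5 ≤ Fintype.card F ∧ ∃ (e : (Fin 4 ⊕ Fin 4) ≃ (Fin 3 → Fin 2)) (P : Matrix.GeneralLinearGroup (Fin 4 ⊕ Fin 4) F) (f₁ : (Fin 2 → F) → (Fin 2 → F) → F), Cfsg.Geo.IsSymplecticForm f₁ ∧ Cfsg.Geo.IsTensorPowerFormStructure id (Cfsg.sympForm 4 F) f₁ e P ∧ H = Cfsg.Geo.tensorWreathSubgroup 2 3 e P ⊓ Cfsg.spGL 4 F) ∨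
    (¬ Odd (Fintype.card F) ∧ ∃ Q : (Fin 4 ⊕ Fin 4 → F) → F, Cfsg.Geo.IsNondegenerateQuadraticForm Q ∧ (∀ u v : (Fin 4 ⊕ Fin 4 → F), QuadraticMap.polar Q u v = (Cfsg.sympForm 4 F) u v) ∧ H = Cfsg.Geo.quadSimilarityGroup Q ⊓ Cfsg.spGL 4 F) ∨
    Cfsg.Geo.InSymplecticResidualClass H := by
  classical
  open CfsgLib.Aschbacher in
  rcases maximal_symplectic (by norm_num) hH (fun R hR hcl _ => spGL_not_le_normalizer (by norm_num) hR hcl) with
    hW | hW' | ⟨t, k, D, htk, ht, hkev, hk, hq, hD, h⟩ | ⟨ho, D, hD, hts, h⟩ | ⟨r, K, hr, hrm, hK, hsa, hz, h⟩ | hherm |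
    ⟨n₁, n₂, e, P, f₁, f₂, ho, h1, h1e, h3, hn, hf₁, hf₂, hT, h⟩ | hsub |
    ⟨p, k, R, hk, hp, hpo, hF, hR, habs, hsim, hcR, hcZ, hminus, h⟩ |
    ⟨k, t, e, P, f₁, ho, hto, ht, hk, hke, hkt, hex, hf₁, hT, h⟩ | hquad | hres
  · exact Or.inl (hW)
  · exact Or.inr (Or.inl (hW'))
  · have hkn : k ≤ 4 := by nlinarith
    interval_cases k <;> first | omega | (exfalso; revert hkev; decide) | skip
    · obtain rfl : t = 4 := by omega
      exact Or.inr (Or.inr (Or.inl (⟨hq rfl, D, hD, h⟩)))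
    · obtain rfl : t = 2 := by omega
      exact Or.inr (Or.inr (Or.inr (Or.inl (⟨D, hD, h⟩))))
  · exact Or.inr (Or.inr (Or.inr (Or.inr (Or.inl (⟨ho, D, hD, hts, h⟩)))))
  · obtain rfl : r = 2 := (Nat.prime_dvd_prime_iff_eq hr Nat.prime_two).mp
      (hr.dvd_of_dvd_pow (show r ∣ 2 ^ 2 by norm_num; exact hrm))
    exact Or.inr (Or.inr (Or.inr (Or.inr (Or.inr (Or.inl (⟨K, hK, hsa, hz, h⟩))))))
  · exact Or.inr (Or.inr (Or.inr (Or.inr (Or.inr (Or.inr (Or.inl (hherm)))))))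
  · have : n₁ ≤ 2 := by nlinarith
    obtain rfl : n₁ = 2 := by omega
    obtain rfl : n₂ = 4 := by omega
    by_cases hplus : Cfsg.Geo.IsPlusTypeOn (fun v : Fin 4 → F => f₂ v v) ⊤
    swap
    · exact Or.inr (Or.inr (Or.inr (Or.inr (Or.inr (Or.inr (Or.inr (Or.inl (⟨ho, e, P, f₁, f₂, hf₁, hf₂, hplus, hT, h⟩))))))))
    open CfsgLib.Aschbacher in
    obtain ⟨e', P', hT', hG, s, hsW, hsI, hsM⟩ := tensor_plus_to_power (odd_card_iff_two_ne_zero.mp ho)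
      (isSymplecticForm_sympForm 4).bilinear
      (fun s hs u v => by obtain ⟨g, hg, rfl⟩ := hs; exact hH.1.le hg u v) hf₁ hf₂ hplus hT (h.le.trans inf_le_left)
    open CfsgLib.Aschbacher in
    have h' := eq_inf_of_le hH hG (spGL_not_le_wreath (by norm_num) le_rfl le_rfl e' P')
    have hq5 : 5 ≤ Fintype.card F ∨ Fintype.card F = 3 := by
      have := Fintype.one_lt_card (α := F)
      obtain ⟨j, hj⟩ := ho
      omega
    rcases hq5 with hq5 | -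
    · exact Or.inr (Or.inr (Or.inr (Or.inr (Or.inr (Or.inr (Or.inr (Or.inr (Or.inr (Or.inr (Or.inl (⟨ho, hq5, e', P', f₁, hf₁, hT', h'⟩)))))))))))
    · exact absurd ((h' ▸ h.le : _ ≤ _) (Subgroup.mem_inf.mpr ⟨hsW, hsI⟩)).1 hsM
  · exact Or.inr (Or.inr (Or.inr (Or.inr (Or.inr (Or.inr (Or.inr (Or.inr (Or.inl (hsub)))))))))
  · obtain rfl : k = 3 := (Nat.pow_right_injective (le_refl 2) (show (2:ℕ) ^ 3 = 2 ^ k by norm_num [← hk])).symm
    exact Or.inr (Or.inr (Or.inr (Or.inr (Or.inr (Or.inr (Or.inr (Or.inr (Or.inr (Or.inl (⟨p, R, hp, hpo, hF, hR, habs, hsim, by rw [hcR]; norm_num, hcZ, hminus, h⟩))))))))))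
  · have hk3 : k < 3 := by
      by_contra hc
      have := Nat.pow_le_pow_left (show 3 ≤ k by omega) t
      have := Nat.pow_le_pow_right (show 3 > 0 by norm_num) ht
      omega
    obtain rfl : k = 2 := by omega
    obtain rfl : t = 3 := Nat.pow_right_injective (le_refl 2) (show (2:ℕ) ^ t = 2 ^ 3 by norm_num [hkt])
    have hq5 : 5 ≤ Fintype.card F := by
      have := Fintype.one_lt_card (α := F)
      obtain ⟨j, hj⟩ := ho
      by_contra hc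
      exact hex ⟨by omega, rfl⟩
    exact Or.inr (Or.inr (Or.inr (Or.inr (Or.inr (Or.inr (Or.inr (Or.inr (Or.inr (Or.inr (Or.inl (⟨ho, hq5, e, P, f₁, hf₁, hT, h⟩)))))))))))
  · exact Or.inr (Or.inr (Or.inr (Or.inr (Or.inr (Or.inr (Or.inr (Or.inr (Or.inr (Or.inr (Or.inr (Or.inl (hquad))))))))))))
  · exact Or.inr (Or.inr (Or.inr (Or.inr (Or.inr (Or.inr (Or.inr (Or.inr (Or.inr (Or.inr (Or.inr (Or.inr (hres))))))))))))

end Cfsg.Agent.S5823
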