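import Cfsg.Statements.S5825
import Cfsg.Agent.Geo.OrthPlus
import Cfsg.Agent.Geo.OrthSingular
import Cfsg.Agent.Geo.OrthNonMaximal
import Cfsg.Agent.Geo.OrthFourFour.Types
import Cfsg.Agent.Geo.OrthSubLow.Matrix
import Cfsg.Agent.Geo.OrthSubLow.CharTwo
import Cfsg.Agent.OrthField.Bridge

set_option autoImplicit false
open Cfsg

namespace Cfsg.Agent.S5825

open CfsgLib.Quad in
theorem big_side {F : Type*} [Field F] [Fintype F] {Q : QuadraticForm F (Fin 8 → F)}
    (hQ : (QuadraticMap.polarBilin Q).Nondegenerate) {W : Submodule F (Fin 8 → F)}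
    (hW0 : W ≠ ⊥) (hW1 : W ≠ ⊤) (hW : CfsgLib.Geo.OS.ND Q W) (h4 : Module.finrank F W ≠ 4)
    (h2 : Module.finrank F W = 2 → (∀ x ∈ W, Q x = 0 → x = 0) ∨ 4 ≤ Nat.card F)
    (h6 : Module.finrank F W ≠ 6) :
    Cfsg.Geo.IsMaximalIn (Cfsg.Geo.omegaGL ⇑Q)
      (Cfsg.Geo.subspaceStabilizer W ⊓ Cfsg.Geo.omegaGL ⇑Q) := by
  refine CfsgLib.Geo.OS.isMaximalIn_omegaGL Q W ?_
  have hd : Module.finrank F (Fin 8 → F) = 8 := Module.finrank_fin_fun F
  have hsum := finrank_perpS hQ W
  have hpp : perpS Q (perpS Q W) = W := perpS_perpS hQ W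
  have hswap : ∀ X : Submodule F (Fin 8 → F), Module.finrank F (perpS Q X) < Module.finrank F X →
      ∀ g : oGroup Q, ¬ ∀ x ∈ X, g.1 x ∈ perpS Q X := fun X hX g hg => by
    have h1 : X.map g.1.toLinearMap ≤ perpS Q X := by
      rintro _ ⟨x, hx, rfl⟩; exact hg x hx
    have := Submodule.finrank_mono h1
    rw [LinearEquiv.finrank_map_eq] at this
    omega
  rcases le_or_gt 5 (Module.finrank F W) with h5 | h5
  · refine CfsgLib.Geo.OS.nondeg_maximal hQ (by omega) hW h5 (fun h => ?_) (fun h => absurd h (by omega))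
      (by omega) (hswap W (by omega))
    rw [h, finrank_bot] at hsum
    exact hW1 (Submodule.eq_top_of_finrank_eq (by omega))
  · rw [← CfsgLib.Geo.OS.stabO_perp_eq hQ]
    refine CfsgLib.Geo.OS.nondeg_maximal hQ (by omega) (CfsgLib.Geo.OS.ND.perp hQ hW) (by omega)
      (by rwa [hpp]) ?_ (by rw [hpp]; omega) (hswap _ (by rw [hpp]; omega))
    rw [hpp]; exact h2

/-- Maximal subgroups of Ω_8^-(q) of geometric type (any q). Let F be a finite field with q elements, Q a non-degenerate quadratic form on F^8 (non-degenerate polar form) of minus type (Witt index 3: no totally singular 4-space), and Ω = Ω_8^-(q) the commutator subgroup of the isometry group of Q, inside GL_8(F). Each of the following, intersected with Ω, is a maximal subgroup of Ω: (1) the stabiliser of any non-zero subspace on which Q vanishes identically (totally singular 1-, 2- and 3-spaces); (2) for q odd, the stabiliser of any proper subspace of odd dimension (1, 3, 5 or 7) on which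 the polar form of Q is non-degenerate; (3) the stabiliser of any non-degenerate 2-space of minus type (containing no non-zero singular vector); (4) for q ≥ 4, the stabiliser of any non-degenerate 2-space of plus type (containing a non-zero singular vector); (5) the stabiliser of any non-degenerate 4-space (its orthogonal complement is then a non-degenerate 4-space of the opposite type); (6) for q even, the stabiliser of the 1-space spanned by any non-singular vector v (Q(v) ≠ 0); (7) for q odd, the normaliser of any degree-2 subfield K of the matrix algebra whose elements are self-adjoint for the polar form of Q (Q is then the trace of a quadratic form over K); (8) every subfield group for a subfield F₀ of odd prime index r in F whose F₀-structure carries a non-zero scalar multiple of Q. -/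
theorem result {F : Type*} [Field F] [Fintype F] (Q : (Fin 8 → F) → F) (hQ : Cfsg.Geo.IsNondegenerateQuadraticForm Q) (hminus : ¬ Cfsg.Geo.IsPlusTypeOn Q ⊤) :
    (∀ W : Submodule F (Fin 8 → F), W ≠ ⊥ → Cfsg.Geo.IsTotallySingularQuad Q W → Cfsg.Geo.IsMaximalIn (Cfsg.Geo.omegaGL Q) (Cfsg.Geo.subspaceStabilizer W ⊓ Cfsg.Geo.omegaGL Q)) ∧
    (Odd (Fintype.card F) → ∀ W : Submodule F (Fin 8 → F), W ≠ ⊥ → W ≠ ⊤ → Odd (Module.finrank F W) → Cfsg.Geo.IsNondegenerateOn (QuadraticMap.polar Q) W → Cfsg.Geo.IsMaximalIn (Cfsg.Geo.omegaGL Q) (Cfsg.Geo.subspaceStabilizer W ⊓ Cfsg.Geo.omegaGL Q)) ∧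
    (∀ W : Submodule F (Fin 8 → F), Module.finrank F W = 2 → Cfsg.Geo.IsNondegenerateOn (QuadraticMap.polar Q) W → ¬ Cfsg.Geo.IsPlusTypeOn Q W → Cfsg.Geo.IsMaximalIn (Cfsg.Geo.omegaGL Q) (Cfsg.Geo.subspaceStabilizer W ⊓ Cfsg.Geo.omegaGL Q)) ∧
    (4 ≤ Fintype.card F → ∀ W : Submodule F (Fin 8 → F), Module.finrank F W = 2 → Cfsg.Geo.IsNondegenerateOn (QuadraticMap.polar Q) W → Cfsg.Geo.IsPlusTypeOn Q W → Cfsg.Geo.IsMaximalIn (Cfsg.Geo.omegaGL Q) (Cfsg.Geo.subspaceStabilizer W ⊓ Cfsg.Geo.omegaGL Q)) ∧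
    (∀ W : Submodule F (Fin 8 → F), Module.finrank F W = 4 → Cfsg.Geo.IsNondegenerateOn (QuadraticMap.polar Q) W → Cfsg.Geo.IsMaximalIn (Cfsg.Geo.omegaGL Q) (Cfsg.Geo.subspaceStabilizer W ⊓ Cfsg.Geo.omegaGL Q)) ∧
    (¬ Odd (Fintype.card F) → ∀ v : (Fin 8 → F), Q v ≠ 0 → Cfsg.Geo.IsMaximalIn (Cfsg.Geo.omegaGL Q) (Cfsg.Geo.subspaceStabilizer (Submodule.span F {v}) ⊓ Cfsg.Geo.omegaGL Q)) ∧
    (Odd (Fintype.card F) → ∀ K : Subalgebra F (Matrix (Fin 8) (Fin 8) F), Cfsg.Geo.IsFieldSubalgebra 2 K → Cfsg.Geo.IsSelfAdjointFor (QuadraticMap.polar Q) K → Cfsg.Geo.IsMaximalIn (Cfsg.Geo.omegaGL Q) (Cfsg.Geo.subalgebraNormalizer K ⊓ Cfsg.Geo.omegaGL Q)) ∧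
    (∀ (F₀ : Subfield F) (r : ℕ) (P : Matrix.GeneralLinearGroup (Fin 8) F) (ζ : F), r.Prime → Odd r → Fintype.card F = Nat.card F₀ ^ r → ζ ≠ 0 → Cfsg.Geo.IsQuadFormRationalStructure (fun v : Fin 8 → F => ζ * Q v) F₀ P → Cfsg.Geo.IsMaximalIn (Cfsg.Geo.omegaGL Q) (Cfsg.Geo.subfieldSubgroup F₀ P ⊓ Cfsg.Geo.omegaGL Q)) := by
  classical
  obtain ⟨Q, rfl, hq⟩ := CfsgLib.Geo.OS.exists_quadraticForm hQ
  have hd : Module.finrank F (Fin 8 → F) = 8 := Module.finrank_fin_fun F
  have hno : ∀ T : Submodule F (Fin 8 → F), (∀ x ∈ T, Q x = 0) → Module.finrank F T < 4 := by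
    intro T hT
    have h4 : Module.finrank F T ≤ 4 := by
      by_contra hcc
      obtain ⟨x, hx, hx0⟩ := CfsgLib.Quad.exists_aniso_of_finrank hq (K := T) (by omega)
      exact hx0 (hT x hx)
    by_contra hcc
    exact hminus ⟨T, le_top, hT, by rw [finrank_top]; omega⟩
  have heven : ¬ Odd (Fintype.card F) → (2 : F) = 0 := fun h => by
    by_contra h2
    refine h (Nat.odd_iff.2 ?_)
    rw [← Nat.card_eq_fintype_card]
    exact CfsgLib.Forms.odd_card_of_two_ne h2
  have hne : ∀ W : Submodule F (Fin 8 → F), Module.finrank F W = 2 → W ≠ ⊥ ∧ W ≠ ⊤ := fun W h =>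
    ⟨fun e => by rw [e, finrank_bot] at h; omega, fun e => by rw [e, finrank_top] at h; omega⟩
  refine ⟨fun W hW0 hW => ?_, fun hodd W hW0 hW1 ho hW => ?_, fun W h2 hW hm => ?_,
    fun hq4 W h2 hW _ => ?_, fun W h4 hW => ?_, fun hc v hv => ?_, fun hodd K hK hsa => ?_,
    fun F₀ r P ζ hr hrodd hcard hζ hP => ?_⟩
  · refine CfsgLib.Geo.OS.isMaximalIn_omegaGL Q W
      (CfsgLib.Geo.OS.ts_maximal hq (by omega) hW hW0 ?_)
    by_cases hk : 2 * Module.finrank F W + 3 ≤ Module.finrank F (Fin 8 → F)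
    · exact Or.inl hk
    right
    intro U hWU hU
    have := hno U hU
    exact (Submodule.eq_of_le_of_finrank_le hWU (by omega)).symm
  · obtain ⟨k, hk⟩ := ho
    exact big_side hq hW0 hW1 (CfsgLib.Geo.OS.nd_of_isNondegenerateOn hW) (by omega)
      (fun h => by omega) (by omega)
  · refine big_side hq (hne W h2).1 (hne W h2).2 (CfsgLib.Geo.OS.nd_of_isNondegenerateOn hW) (by omega)
      (fun _ => Or.inl fun z hz hz0 => ?_) (by omega)
    by_contra hne'
    exact hm (CfsgLib.Geo.OS.plusType_of_singular h2 hz hne' hz0)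
  · exact big_side hq (hne W h2).1 (hne W h2).2 (CfsgLib.Geo.OS.nd_of_isNondegenerateOn hW) (by omega)
      (fun _ => Or.inr (by rwa [Nat.card_eq_fintype_card])) (by omega)
  · exact CfsgLib.Geo.OS.isMaximalIn_omegaGL Q W
      (CfsgLib.Geo.OS.FourFour.four_maximal hq (CfsgLib.Geo.OS.nd_of_isNondegenerateOn hW) hd h4 hno)
  · exact CfsgLib.Geo.OS.isMaximalIn_omegaGL Q _
      (CfsgLib.Geo.OS.point_maximal hq (by omega) (heven hc) hv)
  · exact CfsgLib.OrthField.normalizer_maximal_of_eight (CfsgLib.OrthField.two_ne_of_odd_card hodd)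
      (by simp) Q hq Nat.prime_two (fun k hk => by rw [Fintype.card_fin] at hk; omega) (fun _ => hno)
      K hK hsa
  · have hQ' : (QuadraticMap.polarBilin (ζ • Q)).Nondegenerate := by
      refine ⟨fun x hx => hq.1 x fun y => ?_, fun x hx => hq.2 x fun y => ?_⟩ <;>
      · have h := hx y
        rw [QuadraticMap.polarBilin_apply_apply] at h ⊢
        change QuadraticMap.polar (ζ • ⇑Q) _ _ = 0 at h
        rw [QuadraticMap.polar_smul, smul_eq_mul] at h
        exact (mul_eq_zero.1 h).resolve_left hζ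
    have hfun : (⇑(ζ • Q) : (Fin 8 → F) → F) = fun v => ζ * Q v := rfl
    have hr2 : r ≠ 2 := fun h => by rw [h] at hrodd; exact absurd hrodd (by decide)
    have hcard' : Nat.card F = Nat.card F₀ ^ r := by rw [Nat.card_eq_fintype_card, hcard]
    have h : Cfsg.Geo.IsMaximalIn (Cfsg.Geo.omegaGL ⇑(ζ • Q))
        (Cfsg.Geo.subfieldSubgroup F₀ P ⊓ Cfsg.Geo.omegaGL ⇑(ζ • Q)) := by
      by_cases h2 : (2 : F) = 0
      · exact CfsgLib.Geo.OS.subfield_maximal_matrix_two_of_eight (ζ • Q) hQ' (by simp) h2 hr hr2 hcard'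
          (by rw [hfun]; exact hP)
      · exact CfsgLib.Geo.OS.subfield_maximal_matrix_of_seven (ζ • Q) hQ' (by simp) h2 hr hcard'
          (by rw [hfun]; exact hP)
    rw [hfun, CfsgLib.Geo.OS.omegaGL_smul ⇑Q hζ] at h
    exact h

end Cfsg.Agent.S5825
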