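import Cfsg.Statements.S5826
import Cfsg.Agent.Aschbacher.Form.OrthEight
import Cfsg.Agent.Aschbacher.Form.OrthEvenProper
import Cfsg.Agent.Aschbacher.LinearMember
import Cfsg.Agent.Aschbacher.General.Maximal
-- import your own Cfsg.Agent.* helpers here

set_option autoImplicit false
open Cfsg

namespace Cfsg.Agent.S5826

open CfsgLib.Aschbacher Matrix

/-- Every maximal subgroup of Ω_8^-(q) is of one of the listed geometric types or lies in the residual class. Let F be a finite field with q elements, Q a non-degenerate quadratic form on F^8 of minus type (no totally singular 4-space), Ω the commutator subgroup of its isometry group, and H a maximal subgroup of Ω (inside GL_8(F)). Then H is the intersection with Ω of one of: the stabiliser of a non-zero totally singular subspace; for q odd, the stabiliser of a non-degenerate subspace of odd dimension; the stabiliser of a non-degenerate 2-space of minus type;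 for q ≥ 4, the stabiliser of a non-degenerate 2-space of plus type; the stabiliser of a non-degenerate 4-space; for q even, the stabiliser of the span of a non-singular vector; the normaliser of a degree-2 subfield of the matrix algebra; a subfield group of odd prime index whose F₀-structure carries a non-zero multiple of Q — or else H lies in the residual class of the orthogonal case (modulo scalars H is almost simple, with absolutely irreducible perfect socle preimage realisable over no proper subfield and fixing no non-degenerate unitary form). -/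
theorem result {F : Type*} [Field F] [Fintype F] (Q : (Fin 8 → F) → F) (hQ : Cfsg.Geo.IsNondegenerateQuadraticForm Q) (hminus : ¬ Cfsg.Geo.IsPlusTypeOn Q ⊤) (H : Subgroup (Matrix.GeneralLinearGroup (Fin 8) F)) (hH : Cfsg.Geo.IsMaximalIn (Cfsg.Geo.omegaGL Q) H) :
    (∃ W : Submodule F (Fin 8 → F), W ≠ ⊥ ∧ Cfsg.Geo.IsTotallySingularQuad Q W ∧ H = Cfsg.Geo.subspaceStabilizer W ⊓ Cfsg.Geo.omegaGL Q) ∨
    (Odd (Fintype.card F) ∧ ∃ W : Submodule F (Fin 8 → F), W ≠ ⊥ ∧ W ≠ ⊤ ∧ Odd (Module.finrank F W) ∧ Cfsg.Geo.IsNondegenerateOn (QuadraticMap.polar Q) W ∧ H = Cfsg.Geo.subspaceStabilizer W ⊓ Cfsg.Geo.omegaGL Q) ∨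
    (∃ W : Submodule F (Fin 8 → F), Module.finrank F W = 2 ∧ Cfsg.Geo.IsNondegenerateOn (QuadraticMap.polar Q) W ∧ ¬ Cfsg.Geo.IsPlusTypeOn Q W ∧ H = Cfsg.Geo.subspaceStabilizer W ⊓ Cfsg.Geo.omegaGL Q) ∨
    (4 ≤ Fintype.card F ∧ ∃ W : Submodule F (Fin 8 → F), Module.finrank F W = 2 ∧ Cfsg.Geo.IsNondegenerateOn (QuadraticMap.polar Q) W ∧ Cfsg.Geo.IsPlusTypeOn Q W ∧ H = Cfsg.Geo.subspaceStabilizer W ⊓ Cfsg.Geo.omegaGL Q) ∨
    (∃ W : Submodule F (Fin 8 → F), Module.finrank F W = 4 ∧ Cfsg.Geo.IsNondegenerateOn (QuadraticMap.polar Q) W ∧ H = Cfsg.Geo.subspaceStabilizer W ⊓ Cfsg.Geo.omegaGL Q) ∨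
    (¬ Odd (Fintype.card F) ∧ ∃ v : (Fin 8 → F), Q v ≠ 0 ∧ H = Cfsg.Geo.subspaceStabilizer (Submodule.span F {v}) ⊓ Cfsg.Geo.omegaGL Q) ∨
    (∃ K : Subalgebra F (Matrix (Fin 8) (Fin 8) F), Cfsg.Geo.IsFieldSubalgebra 2 K ∧ H = Cfsg.Geo.subalgebraNormalizer K ⊓ Cfsg.Geo.omegaGL Q) ∨
    (∃ (F₀ : Subfield F) (r : ℕ) (P : Matrix.GeneralLinearGroup (Fin 8) F) (ζ : F), r.Prime ∧ Odd r ∧ Fintype.card F = Nat.card F₀ ^ r ∧ ζ ≠ 0 ∧ Cfsg.Geo.IsQuadFormRationalStructure (fun v : Fin 8 → F => ζ * Q v) F₀ P ∧ H = Cfsg.Geo.subfieldSubgroup F₀ P ⊓ Cfsg.Geo.omegaGL Q) ∨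
    Cfsg.Geo.InOrthogonalResidualClass H := by
  classical
  have hn : 5 ≤ Fintype.card (Fin 8) := by rw [Fintype.card_fin]; omega
  have hfixQ : ∀ g ∈ H, ∀ v, Q ((g : Matrix (Fin 8) (Fin 8) F) *ᵥ v) = Q v := fun g hg v =>
    (Subgroup.map_subtype_le _ (hH.1.le hg) : g ∈ isometryGroup F Q) v v
  have hne : ∀ {W : Submodule F (Fin 8 → F)} (k : ℕ), Module.finrank F W = k → 0 < k → k < 8 → W ≠ ⊥ ∧ W ≠ ⊤ := by
    intro W k hk h0 h1
    refine ⟨fun h => ?_, fun h => ?_⟩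
    · rw [h, finrank_bot] at hk; omega
    · rw [h, finrank_top, Module.finrank_fintype_fun_eq_card, Fintype.card_fin] at hk; omega
  have sub : ∀ {W : Submodule F (Fin 8 → F)}, W ≠ ⊥ → W ≠ ⊤ → H ≤ Geo.subspaceStabilizer W →
      H = Geo.subspaceStabilizer W ⊓ Geo.omegaGL Q :=
    fun h0 h1 h => eq_inf_of_le hH h (OE.not_le_subspace hQ hn h0 h1)
  rcases OE.eight_minus_structure hQ (Fintype.card_fin 8) hminus hfixQ with
    ⟨W, h0, hW, h⟩ | ⟨hq, W, h0, h1, hod, hW, h⟩ | ⟨W, hd, hW, hp, h⟩ | ⟨hq, W, hd, hW, hp, h⟩ | ⟨W, hd, hW, h⟩ |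
    ⟨hq, v, hv, h⟩ | ⟨K, hK, h⟩ | ⟨F₀, r, P, ζ, hr, hro, hc, hζ, hP, h⟩ | h
  · refine Or.inl ⟨W, h0, hW, sub h0 (fun hT => ?_) h⟩
    subst hT
    obtain ⟨w, hw⟩ : ∃ w : Fin 8 → F, w ≠ 0 := exists_ne 0
    obtain ⟨u, hu⟩ := hQ.nondegenerate w hw
    simp [QuadraticMap.polar, hW _ Submodule.mem_top] at hu
  · exact Or.inr (Or.inl ⟨hq, W, h0, h1, hod, hW, sub h0 h1 h⟩)
  · obtain ⟨h0, h1⟩ := hne 2 hd (by omega) (by omega)
    exact Or.inr (Or.inr (Or.inl ⟨W, hd, hW, hp, sub h0 h1 h⟩))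
  · obtain ⟨h0, h1⟩ := hne 2 hd (by omega) (by omega)
    exact Or.inr (Or.inr (Or.inr (Or.inl ⟨hq, W, hd, hW, hp, sub h0 h1 h⟩)))
  · obtain ⟨h0, h1⟩ := hne 4 hd (by omega) (by omega)
    exact Or.inr (Or.inr (Or.inr (Or.inr (Or.inl ⟨W, hd, hW, sub h0 h1 h⟩))))
  · have hv0 : v ≠ 0 := by
      rintro rfl
      exact hv (by simpa using hQ.smul 0 0)
    obtain ⟨h0, h1⟩ := hne 1 (finrank_span_singleton hv0) (by omega) (by omega)
    exact Or.inr (Or.inr (Or.inr (Or.inr (Or.inr (Or.inl ⟨hq, v, hv, sub h0 h1 h⟩)))))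
  · exact Or.inr (Or.inr (Or.inr (Or.inr (Or.inr (Or.inr (Or.inl
      ⟨K, hK, eq_inf_of_le hH h (OE.not_le_field hQ hn le_rfl hK)⟩))))))
  · exact Or.inr (Or.inr (Or.inr (Or.inr (Or.inr (Or.inr (Or.inr (Or.inl
      ⟨F₀, r, P, ζ, hr, hro, hc, hζ, hP, eq_inf_of_le hH h (OE.not_le_subfield hQ hn (subfield_ne_top hr hc) P)⟩)))))))
  · exact Or.inr (Or.inr (Or.inr (Or.inr (Or.inr (Or.inr (Or.inr (Or.inr h)))))))

end Cfsg.Agent.S5826
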