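import Cfsg.Statements.S5829
import Cfsg.Agent.Aschbacher.General.Maximal

set_option autoImplicit false
open Cfsg

namespace Cfsg.Agent.S5829

/-- Every maximal subgroup of SL_9(q) is of one of the listed geometric types or lies in the residual class. Let F be a finite field with q elements (p its characteristic) and H a maximal subgroup of SL_9(F) (inside GL_9(F)). Then H is the intersection with SL_9(F) of one of: the stabiliser of a proper non-zero subspace; for q ≥ 5, the stabiliser of a decomposition into 9 independent 1-spaces; the stabiliser of a decomposition into 3 independent 3-spaces; the normaliser of a degree-3 subfield of the matrix algebra; a subfield group for a subfield F₀ with |F| = |F₀|^r, r prime; for q = p prime with p ≡ 1 mod 3, the normaliser of an absolutely irreducible 3-subgroup R of exponent 3 and order 3^(1+2m) with centre of order 3, all of whose characteristic abelian subgroups are cyclic, F being the smallest field of characteristic p containing the cube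 roots of unity (here R is extraspecial of order 3^5); the stabiliser of a tensor decomposition into 2 factors of dimension 3; for q odd, the similarity group of a non-degenerate quadratic form; the similarity group of a non-degenerate unitary form — or else H lies in the residual class of the linear case (modulo scalars H is almost simple, with absolutely irreducible perfect socle preimage realisable over no proper subfield and fixing no non-degenerate quadratic, symplectic or unitary form). -/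
theorem result {F : Type*} [Field F] [Fintype F] (H : Subgroup (Matrix.GeneralLinearGroup (Fin 9) F)) (hH : Cfsg.Geo.IsMaximalIn (Cfsg.Geo.specialLinear (Fin 9) F) H) :
    (∃ W : Submodule F (Fin 9 → F), W ≠ ⊥ ∧ W ≠ ⊤ ∧ H = Cfsg.Geo.subspaceStabilizer W ⊓ Cfsg.Geo.specialLinear (Fin 9) F) ∨
    (5 ≤ Fintype.card F ∧ ∃ D : Fin 9 → Submodule F (Fin 9 → F), Cfsg.Geo.IsMDecomposition 1 D ∧ H = Cfsg.Geo.decompositionStabilizer D ⊓ Cfsg.Geo.specialLinear (Fin 9) F) ∨
    (∃ D : Fin 3 → Submodule F (Fin 9 → F), Cfsg.Geo.IsMDecomposition 3 D ∧ H = Cfsg.Geo.decompositionStabilizer D ⊓ Cfsg.Geo.specialLinear (Fin 9) F) ∨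
    (∃ K : Subalgebra F (Matrix (Fin 9) (Fin 9) F), Cfsg.Geo.IsFieldSubalgebra 3 K ∧ H = Cfsg.Geo.subalgebraNormalizer K ⊓ Cfsg.Geo.specialLinear (Fin 9) F) ∨
    (∃ (F₀ : Subfield F) (r : ℕ) (P : Matrix.GeneralLinearGroup (Fin 9) F), r.Prime ∧ Fintype.card F = Nat.card F₀ ^ r ∧ H = Cfsg.Geo.subfieldSubgroup F₀ P ⊓ Cfsg.Geo.specialLinear (Fin 9) F) ∨
    ((∃ p : ℕ, p.Prime ∧ Fintype.card F = p ∧ (p % 3 = 1)) ∧ ∃ R : Subgroup (Matrix.GeneralLinearGroup (Fin 9) F), Cfsg.Geo.IsLinearSymplecticTypeData 3 R ∧ H = Cfsg.Geo.subgroupNormalizer R ⊓ Cfsg.Geo.specialLinear (Fin 9) F) ∨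
    (∃ (e : Fin 9 ≃ (Fin 2 → Fin 3)) (P : Matrix.GeneralLinearGroup (Fin 9) F), H = Cfsg.Geo.tensorWreathSubgroup 3 2 e P ⊓ Cfsg.Geo.specialLinear (Fin 9) F) ∨
    (Odd (Fintype.card F) ∧ ∃ Q : (Fin 9 → F) → F, Cfsg.Geo.IsNondegenerateQuadraticForm Q ∧ H = Cfsg.Geo.quadSimilarityGroup Q ⊓ Cfsg.Geo.specialLinear (Fin 9) F) ∨
    (∃ (σ : F ≃+* F) (f : (Fin 9 → F) → (Fin 9 → F) → F), Cfsg.Geo.IsUnitaryForm σ f ∧ H = Cfsg.Geo.similarityGroup f ⊓ Cfsg.Geo.specialLinear (Fin 9) F) ∨
    Cfsg.Geo.InLinearResidualClass H := by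
  open CfsgLib.Aschbacher in
  rcases maximal_linear (ι := Fin 9) (F := F) (H := H) (by simp) hH with hW | ⟨t, m, D, htm, hD, h1, h2, -, h⟩ |
    ⟨r, K, hr, hrn, hK, h⟩ | ⟨n₁, n₂, e, P, hn1, hn12, hcard, hq, h⟩ | hsub | ⟨r, m, R, hR, hm1, hm, h⟩ |
    ⟨m, t, e, P, hm, ht, hcard, h⟩ | hquad | ⟨f, hf, h⟩ | huni | hres
  · exact Or.inl (hW)
  · rw [Fintype.card_fin] at htm
    have hm' : m ≤ 9 := Nat.le_of_dvd (by norm_num) ⟨t, by rw [← htm, mul_comm]⟩
    have hm0 := hD.pos
    have ht2 := hD.two_le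
    interval_cases m <;> first | omega | skip
    · obtain rfl : t = 9 := by omega
      exact Or.inr (Or.inl (⟨h1 rfl, D, hD, h⟩))
    · obtain rfl : t = 3 := by omega
      exact Or.inr (Or.inr (Or.inl (⟨D, hD, h⟩)))
  · rw [Fintype.card_fin] at hrn
    have hr' : r ≤ 9 := Nat.le_of_dvd (by norm_num) hrn
    interval_cases r <;> first | (exfalso; omega) | (exfalso; norm_num at hr; done) | skip
    · exact Or.inr (Or.inr (Or.inr (Or.inl (⟨K, hK, h⟩))))
  · rw [Fintype.card_fin] at hcard
    have hn1' : n₁ ≤ 9 := Nat.le_of_dvd (by norm_num) ⟨n₂, hcard.symm⟩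
    interval_cases n₁ <;> first | (exfalso; omega) | skip
  · exact Or.inr (Or.inr (Or.inr (Or.inr (Or.inl (hsub)))))
  · rw [Fintype.card_fin] at hm
    have hr : r = 3 := by
      have hp := hR.symplecticType.prime
      exact (Nat.prime_dvd_prime_iff_eq hp (by norm_num)).mp (hp.dvd_of_dvd_pow
        (show r ∣ 3 ^ 2 by rw [show (3 : ℕ) ^ 2 = r ^ m by norm_num [← hm]]; exact dvd_pow_self r (by omega)))
    subst hr
    exact Or.inr (Or.inr (Or.inr (Or.inr (Or.inr (Or.inl (⟨CfsgLib.Aschbacher.symplecticType_three hR rfl, R, hR, h⟩))))))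
  · rw [Fintype.card_fin] at hcard
    have hm' : m ≤ 9 := (Nat.le_self_pow (by omega) m).trans hcard.le
    have ht' : t < 4 := by
      by_contra ht4
      have := Nat.pow_le_pow_left hm t
      have := Nat.pow_le_pow_right (show 3 > 0 by norm_num) (show 4 ≤ t by omega)
      omega
    interval_cases t <;> interval_cases m <;> first | (exfalso; omega) | skip
    · exact Or.inr (Or.inr (Or.inr (Or.inr (Or.inr (Or.inr (Or.inl (⟨e, P, h⟩)))))))
  · exact Or.inr (Or.inr (Or.inr (Or.inr (Or.inr (Or.inr (Or.inr (Or.inl (hquad))))))))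
  · exact absurd hf (CfsgLib.Aschbacher.not_symplectic_of_odd (by rw [Fintype.card_fin]; decide) f)
  · exact Or.inr (Or.inr (Or.inr (Or.inr (Or.inr (Or.inr (Or.inr (Or.inr (Or.inl (huni)))))))))
  · exact Or.inr (Or.inr (Or.inr (Or.inr (Or.inr (Or.inr (Or.inr (Or.inr (Or.inr (hres)))))))))

end Cfsg.Agent.S5829
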