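import Cfsg.Statements.S5831
import Cfsg.Agent.Geo.UnitGeomAll
import Cfsg.Agent.Geo.UnitFrameMax
import Cfsg.Agent.Geo.TensorPow.U.Top
import Cfsg.Agent.Geo.UnitExtBridge
import Cfsg.Agent.Geo.HeisNine.UBuild

set_option autoImplicit false
open Cfsg

namespace Cfsg.Agent.S5831

/-- Maximal subgroups of SU_9(q) of geometric type (any prime power q). Let F be the field with q² elements, f the standard unitary form Σ u_i v_i^q on F^9 and SU_9(q) its determinant-one isometry group inside GL_9(F). Each of the following, intersected with SU_9(q), is a maximal subgroup of SU_9(q): (1) the stabiliser of any non-zero subspace on which f vanishes identically (totally isotropic 1- to 4-spaces); (2) the stabiliser of any non-degenerate 1-, 2-, 3- or 4-space; (3) the stabiliser of any decomposition of F^9 into nine mutually orthogonal non-degenerate 1-spaces; (4) the stabiliser of any decomposition into three mutually orthogonal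 non-degenerate 3-spaces; (5) the normaliser of any degree-3 subfield of the matrix algebra closed under adjoints for f; (6) every subfield group for a subfield F₀ of odd prime index in F whose F₀-structure carries f; (7) for q odd, every subfield group for the subfield F₀ of index 2 whose F₀-structure carries f (orthogonal type); (8) for q = p prime with p ≡ 2 mod 3, the normaliser of any absolutely irreducible 3-group R of exponent 3, order 3^5 and centre of order 3 with all characteristic abelian subgroups cyclic, contained in the similarity group of f; (9) for q ≥ 3, the stabiliser of any decomposition of f as the tensor square of a unitary form on F^3 up to a scalar (tensor-wreath subgroup). -/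
theorem result {F : Type*} [Field F] [Fintype F] (q : ℕ) (hF : Fintype.card F = q ^ 2) :
    (∀ W : Submodule F (Fin 9 → F), W ≠ ⊥ → Cfsg.Geo.IsTotallySingularFor (Cfsg.hermForm 9 F q) W → Cfsg.Geo.IsMaximalIn (Cfsg.GU 9 F q ⊓ Cfsg.Geo.specialLinear (Fin 9) F) (Cfsg.Geo.subspaceStabilizer W ⊓ (Cfsg.GU 9 F q ⊓ Cfsg.Geo.specialLinear (Fin 9) F))) ∧
    (∀ W : Submodule F (Fin 9 → F), W ≠ ⊥ → Cfsg.Geo.IsNondegenerateOn (Cfsg.hermForm 9 F q) W → 2 * Module.finrank F W < 9 → Cfsg.Geo.IsMaximalIn (Cfsg.GU 9 F q ⊓ Cfsg.Geo.specialLinear (Fin 9) F) (Cfsg.Geo.subspaceStabilizer W ⊓ (Cfsg.GU 9 F q ⊓ Cfsg.Geo.specialLinear (Fin 9) F))) ∧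
    (∀ D : Fin 9 → Submodule F (Fin 9 → F), Cfsg.Geo.IsNondegenerateMDecomposition (Cfsg.hermForm 9 F q) 1 D → Cfsg.Geo.IsMaximalIn (Cfsg.GU 9 F q ⊓ Cfsg.Geo.specialLinear (Fin 9) F) (Cfsg.Geo.decompositionStabilizer D ⊓ (Cfsg.GU 9 F q ⊓ Cfsg.Geo.specialLinear (Fin 9) F))) ∧
    (∀ D : Fin 3 → Submodule F (Fin 9 → F), Cfsg.Geo.IsNondegenerateMDecomposition (Cfsg.hermForm 9 F q) 3 D → Cfsg.Geo.IsMaximalIn (Cfsg.GU 9 F q ⊓ Cfsg.Geo.specialLinear (Fin 9) F) (Cfsg.Geo.decompositionStabilizer D ⊓ (Cfsg.GU 9 F q ⊓ Cfsg.Geo.specialLinear (Fin 9) F))) ∧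
    (∀ K : Subalgebra F (Matrix (Fin 9) (Fin 9) F), Cfsg.Geo.IsFieldSubalgebra 3 K → Cfsg.Geo.IsAdjointClosedFor (Cfsg.hermForm 9 F q) K → Cfsg.Geo.IsMaximalIn (Cfsg.GU 9 F q ⊓ Cfsg.Geo.specialLinear (Fin 9) F) (Cfsg.Geo.subalgebraNormalizer K ⊓ (Cfsg.GU 9 F q ⊓ Cfsg.Geo.specialLinear (Fin 9) F))) ∧
    (∀ (F₀ : Subfield F) (r : ℕ) (P : Matrix.GeneralLinearGroup (Fin 9) F), r.Prime → Odd r → Fintype.card F = Nat.card F₀ ^ r → Cfsg.Geo.IsFormRationalStructure (Cfsg.hermForm 9 F q) F₀ 1 P → Cfsg.Geo.IsMaximalIn (Cfsg.GU 9 F q ⊓ Cfsg.Geo.specialLinear (Fin 9) F) (Cfsg.Geo.subfieldSubgroup F₀ P ⊓ (Cfsg.GU 9 F q ⊓ Cfsg.Geo.specialLinear (Fin 9) F))) ∧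
    (Odd q → ∀ (F₀ : Subfield F) (P : Matrix.GeneralLinearGroup (Fin 9) F), Fintype.card F = Nat.card F₀ ^ 2 → Cfsg.Geo.IsFormRationalStructure (Cfsg.hermForm 9 F q) F₀ 1 P → Cfsg.Geo.IsMaximalIn (Cfsg.GU 9 F q ⊓ Cfsg.Geo.specialLinear (Fin 9) F) (Cfsg.Geo.subfieldSubgroup F₀ P ⊓ (Cfsg.GU 9 F q ⊓ Cfsg.Geo.specialLinear (Fin 9) F))) ∧
    (∀ (p : ℕ) (R : Subgroup (Matrix.GeneralLinearGroup (Fin 9) F)), p.Prime → q = p → p % 3 = 2 → Cfsg.Geo.IsSymplecticTypeGroup 3 R → Cfsg.Geo.ActsAbsolutelyIrreducibly (Cfsg.Geo.matrixSet R) → R ≤ Cfsg.Geo.similarityGroup (Cfsg.hermForm 9 F q) → Nat.card R = 243 → Nat.card (Subgroup.center R) = 3 → Cfsg.Geo.IsMaximalIn (Cfsg.GU 9 F q ⊓ Cfsg.Geo.specialLinear (Fin 9) F) (Cfsg.Geo.subgroupNormalizer R ⊓ (Cfsg.GU 9 F q ⊓ Cfsg.Geo.specialLinear (Fin 9) F))) ∧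
    (3 ≤ q → ∀ (e : Fin 9 ≃ (Fin 2 → Fin 3)) (P : Matrix.GeneralLinearGroup (Fin 9) F) (f₁ : (Fin 3 → F) → (Fin 3 → F) → F), Cfsg.Geo.IsUnitaryFormPow q f₁ → Cfsg.Geo.IsTensorPowerFormStructure (fun x : F => x ^ q) (Cfsg.hermForm 9 F q) f₁ e P → Cfsg.Geo.IsMaximalIn (Cfsg.GU 9 F q ⊓ Cfsg.Geo.specialLinear (Fin 9) F) (Cfsg.Geo.tensorWreathSubgroup 3 2 e P ⊓ (Cfsg.GU 9 F q ⊓ Cfsg.Geo.specialLinear (Fin 9) F))) := by
  have hF' : Nat.card F = q ^ 2 := by rw [Nat.card_eq_fintype_card, hF]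
  exact ⟨fun W hW0 hW => CfsgLib.Geo.UnitAll.singular hF (by norm_num) hW0 hW,
    fun W hW0 hW hd => CfsgLib.Geo.UnitAll.nondeg hF (by norm_num) hW0 hW hd (by omega),
    fun D hD => CfsgLib.Geo.UFrame.frame_maximal_of hF' (Or.inl (Or.inl le_rfl)) hD,
    fun D hD => CfsgLib.Geo.isMaximalIn_of_key (CfsgLib.Geo.UTv.decomp_proper hF' hD (by norm_num))
      fun M h1 h2 h3 => CfsgLib.Geo.UTv.decomp_key hF' hD (by norm_num) (by omega) h1 h2 h3,
    fun K hK hac => CfsgLib.Geo.UnitExt.ext_unitary_maximal_of hF (Or.inl rfl) (Or.inr (by norm_num))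
      (fun h => absurd h (by norm_num)) K hK hac,
    fun F₀ r P hr hro hc hP => CfsgLib.Geo.UnitAll.subfieldOdd hF (by norm_num) hr hro hc hP,
    fun ho F₀ P hc hP => CfsgLib.Geo.UnitAll.subfieldOrth hF (by norm_num) ho hc hP,
    fun p R hp hqp hp3 hR hirr hle _ hcen => by
      subst hqp
      exact CfsgLib.Geo.HeisNine.symplectic_unitary_maximal hp hF' hp3 hR hirr hle hcen,
    fun hq e P f₁ h₁ hT => CfsgLib.Geo.TensorPow.U.unitary_tensorWreath_maximal hF' le_rfl le_rfl (by omega) e P h₁ hT⟩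

end Cfsg.Agent.S5831
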