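import Cfsg.Statements.S5832
import Cfsg.Agent.Aschbacher.Form.UnitaryMaximal

set_option autoImplicit false
open Cfsg

namespace Cfsg.Agent.S5832

/-- Every maximal subgroup of SU_9(q) is of one of the listed geometric types or lies in the residual class. Let F be the field with q² elements, f the standard unitary form Σ u_i v_i^q on F^9, and H a maximal subgroup of SU_9(q) (inside GL_9(F)). Then H is the intersection with SU_9(q) of one of: the stabiliser of a non-zero totally isotropic subspace; the stabiliser of a non-degenerate 1-, 2-, 3- or 4-space; the stabiliser of a decomposition into nine mutually orthogonal non-degenerate 1-spaces; of a decomposition into three mutually orthogonal non-degenerate 3-spaces; the normaliser of an adjoint-closed degree-3 subfield of the matrix algebra; a subfield group of odd prime index whose F₀-structure carries f; for q odd, a subfield group of index 2 whose F₀-structure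 carries f; for q = p ≡ 2 mod 3 prime, the normaliser of an absolutely irreducible extraspecial group 3_+^(1+4) of exponent 3 inside the similarity group of f; for q ≥ 3, the stabiliser of a tensor decomposition of f as a tensor square of a unitary form on F^3 — or else H lies in the residual class of the unitary case. -/
theorem result {F : Type*} [Field F] [Fintype F] (q : ℕ) (hF : Fintype.card F = q ^ 2) (H : Subgroup (Matrix.GeneralLinearGroup (Fin 9) F)) (hH : Cfsg.Geo.IsMaximalIn (Cfsg.GU 9 F q ⊓ Cfsg.Geo.specialLinear (Fin 9) F) H) :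
    (∃ W : Submodule F (Fin 9 → F), W ≠ ⊥ ∧ Cfsg.Geo.IsTotallySingularFor (Cfsg.hermForm 9 F q) W ∧ H = Cfsg.Geo.subspaceStabilizer W ⊓ (Cfsg.GU 9 F q ⊓ Cfsg.Geo.specialLinear (Fin 9) F)) ∨
    (∃ W : Submodule F (Fin 9 → F), W ≠ ⊥ ∧ Cfsg.Geo.IsNondegenerateOn (Cfsg.hermForm 9 F q) W ∧ 2 * Module.finrank F W < 9 ∧ H = Cfsg.Geo.subspaceStabilizer W ⊓ (Cfsg.GU 9 F q ⊓ Cfsg.Geo.specialLinear (Fin 9) F)) ∨
    (∃ D : Fin 9 → Submodule F (Fin 9 → F), Cfsg.Geo.IsNondegenerateMDecomposition (Cfsg.hermForm 9 F q) 1 D ∧ H = Cfsg.Geo.decompositionStabilizer D ⊓ (Cfsg.GU 9 F q ⊓ Cfsg.Geo.specialLinear (Fin 9) F)) ∨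
    (∃ D : Fin 3 → Submodule F (Fin 9 → F), Cfsg.Geo.IsNondegenerateMDecomposition (Cfsg.hermForm 9 F q) 3 D ∧ H = Cfsg.Geo.decompositionStabilizer D ⊓ (Cfsg.GU 9 F q ⊓ Cfsg.Geo.specialLinear (Fin 9) F)) ∨
    (∃ K : Subalgebra F (Matrix (Fin 9) (Fin 9) F), Cfsg.Geo.IsFieldSubalgebra 3 K ∧ Cfsg.Geo.IsAdjointClosedFor (Cfsg.hermForm 9 F q) K ∧ H = Cfsg.Geo.subalgebraNormalizer K ⊓ (Cfsg.GU 9 F q ⊓ Cfsg.Geo.specialLinear (Fin 9) F)) ∨
    (∃ (F₀ : Subfield F) (r : ℕ) (P : Matrix.GeneralLinearGroup (Fin 9) F), r.Prime ∧ Odd r ∧ Fintype.card F = Nat.card F₀ ^ r ∧ Cfsg.Geo.IsFormRationalStructure (Cfsg.hermForm 9 F q) F₀ 1 P ∧ H = Cfsg.Geo.subfieldSubgroup F₀ P ⊓ (Cfsg.GU 9 F q ⊓ Cfsg.Geo.specialLinear (Fin 9) F)) ∨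
    (Odd q ∧ ∃ (F₀ : Subfield F) (P : Matrix.GeneralLinearGroup (Fin 9) F), Fintype.card F = Nat.card F₀ ^ 2 ∧ Cfsg.Geo.IsFormRationalStructure (Cfsg.hermForm 9 F q) F₀ 1 P ∧ H = Cfsg.Geo.subfieldSubgroup F₀ P ⊓ (Cfsg.GU 9 F q ⊓ Cfsg.Geo.specialLinear (Fin 9) F)) ∨
    (∃ (p : ℕ) (R : Subgroup (Matrix.GeneralLinearGroup (Fin 9) F)), p.Prime ∧ q = p ∧ p % 3 = 2 ∧ Cfsg.Geo.IsSymplecticTypeGroup 3 R ∧ Cfsg.Geo.ActsAbsolutelyIrreducibly (Cfsg.Geo.matrixSet R) ∧ R ≤ Cfsg.Geo.similarityGroup (Cfsg.hermForm 9 F q) ∧ Nat.card R = 243 ∧ Nat.card (Subgroup.center R) = 3 ∧ H = Cfsg.Geo.subgroupNormalizer R ⊓ (Cfsg.GU 9 F q ⊓ Cfsg.Geo.specialLinear (Fin 9) F)) ∨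
    (3 ≤ q ∧ ∃ (e : Fin 9 ≃ (Fin 2 → Fin 3)) (P : Matrix.GeneralLinearGroup (Fin 9) F) (f₁ : (Fin 3 → F) → (Fin 3 → F) → F), Cfsg.Geo.IsUnitaryFormPow q f₁ ∧ Cfsg.Geo.IsTensorPowerFormStructure (fun x : F => x ^ q) (Cfsg.hermForm 9 F q) f₁ e P ∧ H = Cfsg.Geo.tensorWreathSubgroup 3 2 e P ⊓ (Cfsg.GU 9 F q ⊓ Cfsg.Geo.specialLinear (Fin 9) F)) ∨
    Cfsg.Geo.InUnitaryResidualClass H := by
  classical
  open CfsgLib.Aschbacher in
  rcases maximal_unitary hF (by norm_num) hH (unitary_normalizer_proper hF (by norm_num)) with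
    hW | hW' | ⟨t, k, D, htk, ht, hk, hq, hD, h⟩ | ⟨k, D, hk, hD, hts, h⟩ | ⟨r, K, hr, hro, hrn, hK, hac, h⟩ |
    ⟨n₁, n₂, e, P, f₁, f₂, h1, h12, hn, hq, hf₁, hf₂, hT, h⟩ | hsub | ⟨F₀, P, ζ, hev, hsymp⟩ | hsub2 |
    ⟨r, R, p, e, k, hn, hR, habs, hsim, hrp, hmin, hqe, hdata, h⟩ |
    ⟨k, t, e, P, f₁, hk, ht, hkt, hex, hf₁, hT, h⟩ | hres
  · exact Or.inl (hW)
  · exact Or.inr (Or.inl (hW'))
  · have hkn : k ≤ 9 := Nat.le_of_dvd (by norm_num) ⟨t, by rw [← htk, mul_comm]⟩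
    interval_cases k <;> first | omega | skip
    · obtain rfl : t = 9 := by omega
      exact Or.inr (Or.inr (Or.inl (⟨D, hD, h⟩)))
    · obtain rfl : t = 3 := by omega
      exact Or.inr (Or.inr (Or.inr (Or.inl (⟨D, hD, h⟩))))
  · exfalso; omega
  · have hrn' : r ≤ 9 := Nat.le_of_dvd (by norm_num) hrn
    interval_cases r <;> first | omega | (exfalso; norm_num at hr; done) | (exfalso; exact absurd hro (by decide)) | skip
    exact Or.inr (Or.inr (Or.inr (Or.inr (Or.inl (⟨K, hK, hac, h⟩)))))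
  · exfalso
    have : n₁ ≤ 9 := Nat.le_of_dvd (by norm_num) ⟨n₂, hn.symm⟩
    interval_cases n₁ <;> omega
  · exact Or.inr (Or.inr (Or.inr (Or.inr (Or.inr (Or.inl (hsub))))))
  · exact absurd hev (by decide)
  · exact Or.inr (Or.inr (Or.inr (Or.inr (Or.inr (Or.inr (Or.inl (hsub2)))))))
  · have hr := hR.prime
    have hr3 : r = 3 := (Nat.prime_dvd_prime_iff_eq hr Nat.prime_three).mp (hr.dvd_of_dvd_pow
      (show r ∣ 3 ^ 2 by
        rw [show (3 : ℕ) ^ 2 = r ^ k by norm_num [← hn]]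
        exact dvd_pow_self r (by rintro rfl; norm_num at hn)))
    subst hr3
    obtain rfl : k = 2 := (Nat.pow_right_injective (by norm_num : 2 ≤ 3) (show (3:ℕ) ^ 2 = 3 ^ k by norm_num [← hn])).symm
    rcases hdata with ⟨-, hz, -, hcard⟩ | ⟨h2, -⟩
    · obtain ⟨hqp, hp3⟩ := CfsgLib.Aschbacher.classSix_three hmin hz hqe
      exact Or.inr (Or.inr (Or.inr (Or.inr (Or.inr (Or.inr (Or.inr (Or.inl (⟨p, R, hmin.1, hqp, hp3, hR, habs, hsim, by rw [hcard]; norm_num, hz, h⟩))))))))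
    · norm_num at h2
  · have ht4 : t < 3 := by
      by_contra hc
      have := Nat.pow_le_pow_left hk t
      have := Nat.pow_le_pow_right (show 3 > 0 by norm_num) (show 3 ≤ t by omega)
      omega
    obtain rfl : t = 2 := by omega
    obtain rfl : k = 3 := by nlinarith
    have hq : 3 ≤ q := by
      by_contra hq
      have h1 := Fintype.one_lt_card (α := F)
      rw [hF] at h1
      interval_cases q <;> simp_all
    exact Or.inr (Or.inr (Or.inr (Or.inr (Or.inr (Or.inr (Or.inr (Or.inr (Or.inl (⟨hq, e, P, f₁, hf₁, hT, h⟩)))))))))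
  · exact Or.inr (Or.inr (Or.inr (Or.inr (Or.inr (Or.inr (Or.inr (Or.inr (Or.inr (hres)))))))))

end Cfsg.Agent.S5832
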