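import Cfsg.Statements.S5834
import Cfsg.Agent.Geo.OrthFrame.Main
import Cfsg.Agent.Geo.OrthPlus
import Cfsg.Agent.Geo.OrthNondegLow
import Cfsg.Agent.Geo.OrthSubLow.Matrix
import Cfsg.Agent.Geo.OrthDec2.Main
import Cfsg.Agent.OrthField.Bridge
import Cfsg.Agent.Geo.TensorSq.Bridge

set_option autoImplicit false
open Cfsg

namespace Cfsg.Agent.S5834

/-- Maximal subgroups of Ω_9(q) of geometric type, q odd. Let F be a finite field of odd order q, Q the standard quadratic form x₀² + Σ x_i y_i on F^9 (coordinates Unit ⊕ (Fin 4 ⊕ Fin 4)), and Ω = Ω_9(q) the commutator subgroup of its isometry group, inside GL_9(F). Each of the following, intersected with Ω, is a maximal subgroup of Ω: (1) the stabiliser of any non-zero subspace on which Q vanishes identically (totally singular 1- to 4-spaces); (2) the stabiliser of any non-zero even-dimensional subspace W (dimension 2, 4, 6 or 8) on which the polar form of Q is non-degenerate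 (equivalently of its odd-dimensional orthogonal complement), except when q = 3 and W is a 2-space containing a non-zero singular vector (a plus-type plane); (3) for q = p prime, the stabiliser of any decomposition of F^9 into nine pairwise orthogonal, pairwise Q-isometric non-degenerate 1-spaces; (4) for q ≥ 5, the stabiliser of any decomposition of F^9 into three pairwise orthogonal, pairwise Q-isometric non-degenerate 3-spaces; (5) the normaliser of any degree-3 subfield K of the matrix algebra whose elements are self-adjoint for the polar form of Q (Q is then the trace of a quadratic form over K); (6) every subfield group for a subfield F₀ with |F| = |F₀|^r, r prime, whose F₀-structure carries Q; (7) for q ≥ 5, the stabiliser of any decomposition of the polar form of Q as the tensor square of a non-degenerate symmetric bilinear form on F^3 up to a scalar (tensor-wreath subgroup). -/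
theorem result {F : Type*} [Field F] [Fintype F] (hodd : Odd (Fintype.card F)) :
    (∀ W : Submodule F (Unit ⊕ (Fin 4 ⊕ Fin 4) → F), W ≠ ⊥ → Cfsg.Geo.IsTotallySingularQuad (Cfsg.quadFormOdd 4 F) W → Cfsg.Geo.IsMaximalIn (Cfsg.Geo.omegaGL (Cfsg.quadFormOdd 4 F)) (Cfsg.Geo.subspaceStabilizer W ⊓ Cfsg.Geo.omegaGL (Cfsg.quadFormOdd 4 F))) ∧
    (∀ W : Submodule F (Unit ⊕ (Fin 4 ⊕ Fin 4) → F), W ≠ ⊥ → Even (Module.finrank F W) → Cfsg.Geo.IsNondegenerateOn (QuadraticMap.polar (Cfsg.quadFormOdd 4 F)) W → ¬ (Fintype.card F = 3 ∧ Module.finrank F W = 2 ∧ Cfsg.Geo.IsPlusTypeOn (Cfsg.quadFormOdd 4 F) W) → Cfsg.Geo.IsMaximalIn (Cfsg.Geo.omegaGL (Cfsg.quadFormOdd 4 F)) (Cfsg.Geo.subspaceStabilizer W ⊓ Cfsg.Geo.omegaGL (Cfsg.quadFormOdd 4 F))) ∧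
    ((Fintype.card F).Prime → ∀ D : Fin 9 → Submodule F (Unit ⊕ (Fin 4 ⊕ Fin 4) → F), Cfsg.Geo.IsOrthogonalMDecomposition (Cfsg.quadFormOdd 4 F) 1 D → Cfsg.Geo.IsMaximalIn (Cfsg.Geo.omegaGL (Cfsg.quadFormOdd 4 F)) (Cfsg.Geo.decompositionStabilizer D ⊓ Cfsg.Geo.omegaGL (Cfsg.quadFormOdd 4 F))) ∧
    (5 ≤ Fintype.card F → ∀ D : Fin 3 → Submodule F (Unit ⊕ (Fin 4 ⊕ Fin 4) → F), Cfsg.Geo.IsOrthogonalMDecomposition (Cfsg.quadFormOdd 4 F) 3 D → Cfsg.Geo.IsMaximalIn (Cfsg.Geo.omegaGL (Cfsg.quadFormOdd 4 F)) (Cfsg.Geo.decompositionStabilizer D ⊓ Cfsg.Geo.omegaGL (Cfsg.quadFormOdd 4 F))) ∧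
    (∀ K : Subalgebra F (Matrix (Unit ⊕ (Fin 4 ⊕ Fin 4)) (Unit ⊕ (Fin 4 ⊕ Fin 4)) F), Cfsg.Geo.IsFieldSubalgebra 3 K → Cfsg.Geo.IsSelfAdjointFor (QuadraticMap.polar (Cfsg.quadFormOdd 4 F)) K → Cfsg.Geo.IsMaximalIn (Cfsg.Geo.omegaGL (Cfsg.quadFormOdd 4 F)) (Cfsg.Geo.subalgebraNormalizer K ⊓ Cfsg.Geo.omegaGL (Cfsg.quadFormOdd 4 F))) ∧
    (∀ (F₀ : Subfield F) (r : ℕ) (P : Matrix.GeneralLinearGroup (Unit ⊕ (Fin 4 ⊕ Fin 4)) F), r.Prime → Fintype.card F = Nat.card F₀ ^ r → Cfsg.Geo.IsQuadFormRationalStructure (Cfsg.quadFormOdd 4 F) F₀ P → Cfsg.Geo.IsMaximalIn (Cfsg.Geo.omegaGL (Cfsg.quadFormOdd 4 F)) (Cfsg.Geo.subfieldSubgroup F₀ P ⊓ Cfsg.Geo.omegaGL (Cfsg.quadFormOdd 4 F))) ∧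
    (5 ≤ Fintype.card F → ∀ (e : (Unit ⊕ (Fin 4 ⊕ Fin 4)) ≃ (Fin 2 → Fin 3)) (P : Matrix.GeneralLinearGroup (Unit ⊕ (Fin 4 ⊕ Fin 4)) F) (f₁ : (Fin 3 → F) → (Fin 3 → F) → F), Cfsg.Geo.IsSymmetricForm f₁ → Cfsg.Geo.IsTensorPowerFormStructure id (QuadraticMap.polar (Cfsg.quadFormOdd 4 F)) f₁ e P → Cfsg.Geo.IsMaximalIn (Cfsg.Geo.omegaGL (Cfsg.quadFormOdd 4 F)) (Cfsg.Geo.tensorWreathSubgroup 3 2 e P ⊓ Cfsg.Geo.omegaGL (Cfsg.quadFormOdd 4 F))) := by
  classical
  have h2 : (2 : F) ≠ 0 := fun h => by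
    have : CharP F 2 := CharTwo.of_one_ne_zero_of_two_eq_zero one_ne_zero h
    exact (Nat.not_even_iff_odd.2 hodd) (Nat.even_iff.2 (FiniteField.even_card_of_char_two (ringChar.eq F 2)))
  obtain ⟨Q, hQc, hQ⟩ : ∃ Q : QuadraticForm F (Unit ⊕ (Fin 4 ⊕ Fin 4) → F),
      ⇑Q = Cfsg.quadFormOdd 4 F ∧ (QuadraticMap.polarBilin Q).Nondegenerate :=
    ⟨_, CfsgLib.Quad.oddQ_coe 4, CfsgLib.Quad.oddQ_nondeg h2 4⟩
  rw [← hQc]
  have hd : Fintype.card (Unit ⊕ (Fin 4 ⊕ Fin 4)) = 9 := by simp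
  have hdV := Module.finrank_fintype_fun_eq_card F (η := Unit ⊕ (Fin 4 ⊕ Fin 4))
  refine ⟨fun W hW0 hW => ?_, fun W hW0 hev hW hex => ?_, fun hp D hD => ?_, fun h5 D hD => ?_,
    fun K hK hsa => ?_, fun F₀ r P hr hcard hP => ?_, fun h5 e P f₁ hf₁ hT => ?_⟩
  · refine CfsgLib.Geo.OS.isMaximalIn_omegaGL Q W
      (CfsgLib.Geo.OS.ts_maximal hQ (by omega) hW hW0 ?_)
    by_cases hk : 2 * Module.finrank F W + 3 ≤ Module.finrank F (Unit ⊕ (Fin 4 ⊕ Fin 4) → F)
    · exact Or.inl hk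
    right
    intro U hWU hU
    refine (Submodule.eq_of_le_of_finrank_le hWU ?_).symm
    by_contra hcc
    obtain ⟨x, hx, hx0⟩ := CfsgLib.Quad.exists_aniso_of_finrank hQ (K := U) (by omega)
    exact hx0 (hU x hx)
  · have hsum := CfsgLib.Quad.finrank_perpS hQ W
    obtain ⟨r, hr⟩ := hev
    refine CfsgLib.Geo.OS.nondeg_subspace_maximal_odd hQ h2 (by omega) (hd ▸ by decide) hW0 ?_
      (CfsgLib.Geo.OS.nd_of_isNondegenerateOn hW) ?_
    · intro h
      rw [h, finrank_top] at hr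
      omega
    · rintro S (rfl | rfl) h2S
      swap
      · exfalso; omega
      by_cases han : ∀ x ∈ S, Q x = 0 → x = 0
      · exact Or.inl han
      push Not at han
      obtain ⟨z, hz, hz0, hne⟩ := han
      refine Or.inr ?_
      rw [Nat.card_eq_fintype_card]
      by_contra hlt
      refine hex ⟨?_, h2S, CfsgLib.Geo.OS.plusType_of_singular h2S hz hne hz0⟩
      have := Fintype.one_lt_card (α := F)
      obtain ⟨k, hk⟩ := hodd
      omega
  · exact CfsgLib.Geo.OFrame.frame_maximal' hp hodd (Or.inl (by omega)) Q hD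
  · have hOD : CfsgLib.Geo.OS.OD Q 3 D :=
      { three := le_rfl
        two := hD.decomp.decomp.two_le
        dim := hD.decomp.decomp.finrank_eq
        nd := fun i => CfsgLib.Geo.OS.nd_of_isNondegenerateOn (hD.decomp.nondegenerate i)
        orth := hD.decomp.orthogonal
        top := hD.decomp.decomp.iSup_eq_top
        iso := hD.isometric }
    refine CfsgLib.Geo.OS.isMaximalIn_map_omega (L := CfsgLib.Geo.OS.decompStab Q D) (fun g _ => ?_)
      (CfsgLib.Geo.OS.decomp_maximal hQ h2 hOD (by omega) fun _ => by rw [Nat.card_eq_fintype_card]; omega)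
    have hmap : ∀ X : Submodule F (Unit ⊕ (Fin 4 ⊕ Fin 4) → F),
        X.map (Matrix.toLin' (CfsgLib.Geo.OS.toGL Q g : Matrix _ _ F)) = X.map g.1.toLinearMap :=
      fun X => congrArg (Submodule.map · X)
        (LinearMap.ext fun x => by rw [Matrix.toLin'_apply, CfsgLib.Geo.OS.toGL_mulVec]; rfl)
    exact exists_congr fun σ => forall_congr' fun i => by rw [hmap]
  · exact CfsgLib.OrthField.normalizer_maximal h2 (by omega) Q hQ Nat.prime_three (fun k hk => by omega) K hK hsa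
  · exact CfsgLib.Geo.OS.subfield_maximal_matrix_of_seven Q hQ (by omega) h2 hr
      (by rw [Nat.card_eq_fintype_card, hcard]) hP
  · exact CfsgLib.Geo.TensorSq.tensor_square_maximal hodd h5 Q e P hf₁ hT

end Cfsg.Agent.S5834
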