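import Cfsg.Statements.S5835
import Cfsg.Agent.Aschbacher.Form.SiegelMember

set_option autoImplicit false
open Cfsg

namespace Cfsg.Agent.S5835

/-- Every maximal subgroup of Ω_9(q), q odd, is of one of the listed geometric types or lies in the residual class. Let F be a finite field of odd order q, Q the standard quadratic form x₀² + Σ x_i y_i on F^9 (coordinates Unit ⊕ (Fin 4 ⊕ Fin 4)), Ω the commutator subgroup of its isometry group, and H a maximal subgroup of Ω (inside GL_9(F)). Then H is the intersection with Ω of one of: the stabiliser of a non-zero totally singular subspace; the stabiliser of a non-zero non-degenerate subspace of even dimension (not a plus-type plane when q = 3); for q prime, the stabiliser of a decomposition into nine pairwise orthogonal, pairwise isometric non-degenerate 1-spaces; for q ≥ 5, the stabiliser of a decomposition into three pairwise orthogonal, pairwise isometric non-degenerate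 3-spaces; the normaliser of a degree-3 subfield of the matrix algebra, self-adjoint for the polar form; a subfield group (|F| = |F₀|^r, r prime) whose F₀-structure carries Q; for q ≥ 5, the stabiliser of a tensor decomposition of the polar form as a tensor square of a symmetric form on F^3 — or else H lies in the residual class of the orthogonal case (modulo scalars H is almost simple, with absolutely irreducible perfect socle preimage realisable over no proper subfield and fixing no non-degenerate unitary form). -/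
theorem result {F : Type*} [Field F] [Fintype F] (hodd : Odd (Fintype.card F)) (H : Subgroup (Matrix.GeneralLinearGroup (Unit ⊕ (Fin 4 ⊕ Fin 4)) F)) (hH : Cfsg.Geo.IsMaximalIn (Cfsg.Geo.omegaGL (Cfsg.quadFormOdd 4 F)) H) :
    (∃ W : Submodule F (Unit ⊕ (Fin 4 ⊕ Fin 4) → F), W ≠ ⊥ ∧ Cfsg.Geo.IsTotallySingularQuad (Cfsg.quadFormOdd 4 F) W ∧ H = Cfsg.Geo.subspaceStabilizer W ⊓ Cfsg.Geo.omegaGL (Cfsg.quadFormOdd 4 F)) ∨
    (∃ W : Submodule F (Unit ⊕ (Fin 4 ⊕ Fin 4) → F), W ≠ ⊥ ∧ Even (Module.finrank F W) ∧ Cfsg.Geo.IsNondegenerateOn (QuadraticMap.polar (Cfsg.quadFormOdd 4 F)) W ∧ ¬ (Fintype.card F = 3 ∧ Module.finrank F W = 2 ∧ Cfsg.Geo.IsPlusTypeOn (Cfsg.quadFormOdd 4 F) W) ∧ H = Cfsg.Geo.subspaceStabilizer W ⊓ Cfsg.Geo.omegaGL (Cfsg.quadFormOdd 4 F)) ∨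
    ((Fintype.card F).Prime ∧ ∃ D : Fin 9 → Submodule F (Unit ⊕ (Fin 4 ⊕ Fin 4) → F), Cfsg.Geo.IsOrthogonalMDecomposition (Cfsg.quadFormOdd 4 F) 1 D ∧ H = Cfsg.Geo.decompositionStabilizer D ⊓ Cfsg.Geo.omegaGL (Cfsg.quadFormOdd 4 F)) ∨
    (5 ≤ Fintype.card F ∧ ∃ D : Fin 3 → Submodule F (Unit ⊕ (Fin 4 ⊕ Fin 4) → F), Cfsg.Geo.IsOrthogonalMDecomposition (Cfsg.quadFormOdd 4 F) 3 D ∧ H = Cfsg.Geo.decompositionStabilizer D ⊓ Cfsg.Geo.omegaGL (Cfsg.quadFormOdd 4 F)) ∨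
    (∃ K : Subalgebra F (Matrix (Unit ⊕ (Fin 4 ⊕ Fin 4)) (Unit ⊕ (Fin 4 ⊕ Fin 4)) F), Cfsg.Geo.IsFieldSubalgebra 3 K ∧ Cfsg.Geo.IsSelfAdjointFor (QuadraticMap.polar (Cfsg.quadFormOdd 4 F)) K ∧ H = Cfsg.Geo.subalgebraNormalizer K ⊓ Cfsg.Geo.omegaGL (Cfsg.quadFormOdd 4 F)) ∨
    (∃ (F₀ : Subfield F) (r : ℕ) (P : Matrix.GeneralLinearGroup (Unit ⊕ (Fin 4 ⊕ Fin 4)) F), r.Prime ∧ Fintype.card F = Nat.card F₀ ^ r ∧ Cfsg.Geo.IsQuadFormRationalStructure (Cfsg.quadFormOdd 4 F) F₀ P ∧ H = Cfsg.Geo.subfieldSubgroup F₀ P ⊓ Cfsg.Geo.omegaGL (Cfsg.quadFormOdd 4 F)) ∨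
    (5 ≤ Fintype.card F ∧ ∃ (e : (Unit ⊕ (Fin 4 ⊕ Fin 4)) ≃ (Fin 2 → Fin 3)) (P : Matrix.GeneralLinearGroup (Unit ⊕ (Fin 4 ⊕ Fin 4)) F) (f₁ : (Fin 3 → F) → (Fin 3 → F) → F), Cfsg.Geo.IsSymmetricForm f₁ ∧ Cfsg.Geo.IsTensorPowerFormStructure id (QuadraticMap.polar (Cfsg.quadFormOdd 4 F)) f₁ e P ∧ H = Cfsg.Geo.tensorWreathSubgroup 3 2 e P ⊓ Cfsg.Geo.omegaGL (Cfsg.quadFormOdd 4 F)) ∨
    Cfsg.Geo.InOrthogonalResidualClass H := by
  classical
  open CfsgLib.Aschbacher in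
  have h2 := odd_card_iff_two_ne_zero.mp hodd
  open CfsgLib.Aschbacher in
  have hQ := quadFormOdd_nondegenerate (F := F) 4 h2
  have hcard : Fintype.card (Unit ⊕ (Fin 4 ⊕ Fin 4)) = 9 := by simp
  open CfsgLib.Aschbacher in
  obtain ⟨hfixQ, hfix⟩ := fixes_of_le_omega hH.1.le
  have hfixQ' : ∀ g ∈ H, ∀ v, Cfsg.quadFormOdd 4 F (Matrix.mulVec (g : Matrix _ _ F) v) = Cfsg.quadFormOdd 4 F v :=
    fun g hg v => hfixQ _ (CfsgLib.Aschbacher.coe_mem_matrixSet hg) v
  open CfsgLib.Aschbacher in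
  have hfh := isHerm_polar hQ
  open CfsgLib.Aschbacher in
  rcases orthogonal_odd_structure hQ h2 (by rw [hcard]; decide) (by omega) (det_gram_quadFormOdd_mem 4) hfix with
    ⟨W, h0, hW, hG⟩ | ⟨W, h0, h1, hW, hG⟩ | ⟨t, k, D, hk, hD, hG⟩ | ⟨t, D, hp, hD, hG⟩ |
    ⟨r, K, hr, hne, hK, hsa, hG⟩ | ⟨n₁, n₂, e, P, f₁, f₂, hn1, hn12, hf₁, hf₂, hT, hG⟩ |
    ⟨F₀, r, P, hr, hc, hP, hG⟩ | ⟨k, t, e, P, f₁, hk, ht, hex, hf₁, hT, hG⟩ | hres
  · refine Or.inl ⟨W, h0, hW, ?_⟩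
    open CfsgLib.Aschbacher in
    refine eq_inf_of_le hH hG (omega_not_le_subspace hQ h2 (by omega) h0 ?_)
    rintro rfl
    open CfsgLib.Aschbacher in
    obtain ⟨u, x, -, -, hux⟩ := exists_isotropic_quad hQ h2 (show 3 ≤ Fintype.card (Unit ⊕ (Fin 4 ⊕ Fin 4)) by omega)
    exact hux (by simp [QuadraticMap.polar, hW _ Submodule.mem_top])
  · refine Or.inr (Or.inl ?_)
    have hne : ∀ U : Submodule F (Unit ⊕ (Fin 4 ⊕ Fin 4) → F), Even (Module.finrank F U) → U ≠ ⊤ := by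
      rintro U he rfl
      rw [finrank_top, Module.finrank_fintype_fun_eq_card, hcard] at he
      exact absurd he (by decide)
    have key : ∀ U : Submodule F (Unit ⊕ (Fin 4 ⊕ Fin 4) → F), U ≠ ⊥ → Even (Module.finrank F U) →
        Cfsg.Geo.IsNondegenerateOn (QuadraticMap.polar (Cfsg.quadFormOdd 4 F)) U →
        H ≤ Cfsg.Geo.subspaceStabilizer U →
        ¬ (Fintype.card F = 3 ∧ Module.finrank F U = 2 ∧ Cfsg.Geo.IsPlusTypeOn (Cfsg.quadFormOdd 4 F) U) →
        ∃ W : Submodule F (Unit ⊕ (Fin 4 ⊕ Fin 4) → F), W ≠ ⊥ ∧ Even (Module.finrank F W) ∧ Cfsg.Geo.IsNondegenerateOn (QuadraticMap.polar (Cfsg.quadFormOdd 4 F)) W ∧ ¬ (Fintype.card F = 3 ∧ Module.finrank F W = 2 ∧ Cfsg.Geo.IsPlusTypeOn (Cfsg.quadFormOdd 4 F) W) ∧ H = Cfsg.Geo.subspaceStabilizer W ⊓ Cfsg.Geo.omegaGL (Cfsg.quadFormOdd 4 F) :=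
      fun U hU hev hnd hle hb => ⟨U, hU, hev, hnd, hb, CfsgLib.Aschbacher.eq_inf_of_le hH hle
        (CfsgLib.Aschbacher.omega_not_le_subspace hQ h2 (by omega) hU (hne U hev))⟩
    have lineCase : ∀ v : Unit ⊕ (Fin 4 ⊕ Fin 4) → F, v ≠ 0 →
        Cfsg.Geo.IsNondegenerateOn (QuadraticMap.polar (Cfsg.quadFormOdd 4 F)) (Submodule.span F {v}) →
        H ≤ Cfsg.Geo.subspaceStabilizer (Submodule.span F {v}) →
        ∃ W : Submodule F (Unit ⊕ (Fin 4 ⊕ Fin 4) → F), W ≠ ⊥ ∧ Even (Module.finrank F W) ∧ Cfsg.Geo.IsNondegenerateOn (QuadraticMap.polar (Cfsg.quadFormOdd 4 F)) W ∧ ¬ (Fintype.card F = 3 ∧ Module.finrank F W = 2 ∧ Cfsg.Geo.IsPlusTypeOn (Cfsg.quadFormOdd 4 F) W) ∧ H = Cfsg.Geo.subspaceStabilizer W ⊓ Cfsg.Geo.omegaGL (Cfsg.quadFormOdd 4 F) := fun v hv hnd hle => by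
      obtain ⟨hP, hsum⟩ := hfh.perp_nondegenerate hnd
      rw [finrank_span_singleton hv, hcard] at hsum
      have hd : Module.finrank F (hfh.perp (Submodule.span F {v})) = 8 := by omega
      exact key _ (fun h => by rw [h, finrank_bot] at hd; omega) (by rw [hd]; decide) hP
        (hfh.perp_stable hfix hle) (fun h => by omega)
    have hev' : ∀ U : Submodule F (Unit ⊕ (Fin 4 ⊕ Fin 4) → F), U ≠ ⊥ → Even (Module.finrank F U) →
        Cfsg.Geo.IsNondegenerateOn (QuadraticMap.polar (Cfsg.quadFormOdd 4 F)) U →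
        H ≤ Cfsg.Geo.subspaceStabilizer U →
        ∃ W : Submodule F (Unit ⊕ (Fin 4 ⊕ Fin 4) → F), W ≠ ⊥ ∧ Even (Module.finrank F W) ∧ Cfsg.Geo.IsNondegenerateOn (QuadraticMap.polar (Cfsg.quadFormOdd 4 F)) W ∧ ¬ (Fintype.card F = 3 ∧ Module.finrank F W = 2 ∧ Cfsg.Geo.IsPlusTypeOn (Cfsg.quadFormOdd 4 F) W) ∧ H = Cfsg.Geo.subspaceStabilizer W ⊓ Cfsg.Geo.omegaGL (Cfsg.quadFormOdd 4 F) := fun U hU hev hnd hle => by
      by_cases hb : Fintype.card F = 3 ∧ Module.finrank F U = 2 ∧ Cfsg.Geo.IsPlusTypeOn (Cfsg.quadFormOdd 4 F) U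
      · obtain ⟨v, hv, hvn, hvs⟩ := CfsgLib.Aschbacher.plus_plane_line hQ hfixQ' h2 hnd hle hb
        exact lineCase v hv hvn hvs
      · exact key U hU hev hnd hle hb
    by_cases hev : Even (Module.finrank F W)
    · exact hev' W h0 hev hW hG
    obtain ⟨hP, hsum⟩ := hfh.perp_nondegenerate hW
    have hlt : Module.finrank F W < 9 := by
      rw [← hcard, ← Module.finrank_fintype_fun_eq_card F]
      exact Submodule.finrank_lt h1
    rw [hcard] at hsum
    refine hev' _ (fun h => by rw [h, finrank_bot] at hsum; omega) ?_ hP (hfh.perp_stable hfix hG)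
    rw [Nat.even_iff] at hev ⊢
    omega
  · have htk := (CfsgLib.Aschbacher.decomposition_card hD.decomp.decomp).trans hcard
    have := hD.decomp.decomp.two_le
    have hk4 : k ≤ 4 := by nlinarith
    interval_cases k <;> first | omega | skip
    obtain rfl : t = 3 := by omega
    by_cases h5 : 5 ≤ Fintype.card F
    · exact Or.inr (Or.inr (Or.inr (Or.inl ⟨h5, D, hD, CfsgLib.Aschbacher.eq_inf_of_le hH hG
        (CfsgLib.Aschbacher.omega_not_le_blocks hQ h2 hD.decomp.decomp le_rfl)⟩)))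
    have h3 : Fintype.card F = 3 := by
      have := Fintype.one_lt_card (α := F)
      rw [Nat.odd_iff] at hodd
      omega
    obtain ⟨D', hD', hG'⟩ := CfsgLib.Aschbacher.blocks_three_to_frame hQ h3 hD
      (hH.1.le.trans (CfsgLib.Aschbacher.omegaGL_le_isometry _)) hG
    refine Or.inr (Or.inr (Or.inl ⟨by rw [h3]; norm_num, ?_⟩))
    have hh := CfsgLib.Aschbacher.eq_inf_of_le hH hG'
      (CfsgLib.Aschbacher.omega_not_le_frame hQ h2 (by omega) hD'.decomp)
    revert D'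
    rw [hcard]
    exact fun D' hD' _ hh => ⟨D', hD', hh⟩
  · have ht := (CfsgLib.Aschbacher.decomposition_card hD.decomp.decomp).trans hcard
    obtain rfl : t = 9 := by omega
    refine Or.inr (Or.inr (Or.inl ⟨hp, D, hD, ?_⟩))
    revert D
    rw [← hcard]
    exact fun D hD hG => CfsgLib.Aschbacher.eq_inf_of_le hH hG
      (CfsgLib.Aschbacher.omega_not_le_frame hQ h2 (by omega) hD.decomp)
  · have hdvd := CfsgLib.Aschbacher.fieldSubalgebra_dvd hK
    rw [hcard] at hdvd hne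
    obtain rfl : r = 3 := (Nat.prime_dvd_prime_iff_eq hr Nat.prime_three).mp
      (hr.dvd_of_dvd_pow (show r ∣ 3 ^ 2 by norm_num; exact hdvd))
    exact Or.inr (Or.inr (Or.inr (Or.inr (Or.inl ⟨K, hK, hsa, CfsgLib.Aschbacher.eq_inf_of_le hH hG
      (CfsgLib.Aschbacher.omega_not_le_field hQ h2 (by omega) le_rfl hK)⟩))))
  · exfalso
    have := Fintype.card_congr e
    simp only [Fintype.card_prod, Fintype.card_fin, hcard] at this
    nlinarith
  · refine Or.inr (Or.inr (Or.inr (Or.inr (Or.inr (Or.inl ⟨F₀, r, P, hr, hc, hP, CfsgLib.Aschbacher.eq_inf_of_le hH hG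
      (CfsgLib.Aschbacher.omega_not_le_subfield hQ h2 (by omega) ?_ P)⟩)))))
    rintro rfl
    rw [Nat.card_congr Subfield.topEquiv.toEquiv, Nat.card_eq_fintype_card] at hc
    have := Nat.pow_right_injective (Fintype.one_lt_card (α := F))
      (show Fintype.card F ^ 1 = Fintype.card F ^ r by rwa [pow_one])
    exact hr.ne_one this.symm
  · have hkt : k ^ t = 9 := by
      have := Fintype.card_congr e
      rw [hcard, Fintype.card_fun, Fintype.card_fin, Fintype.card_fin] at this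
      omega
    have ht3 : t < 3 := by
      by_contra hc
      have := Nat.pow_le_pow_left hk t
      have := Nat.pow_le_pow_right (show 3 > 0 by norm_num) (show 3 ≤ t by omega)
      omega
    obtain rfl : t = 2 := by omega
    obtain rfl : k = 3 := by nlinarith
    have h5 : 5 ≤ Fintype.card F := by
      by_contra hc
      refine hex ⟨?_, rfl⟩
      have := Fintype.one_lt_card (α := F)
      rw [Nat.odd_iff] at hodd
      omega
    exact Or.inr (Or.inr (Or.inr (Or.inr (Or.inr (Or.inr (Or.inl ⟨h5, e, P, f₁, hf₁, hT,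
      CfsgLib.Aschbacher.eq_inf_of_le hH hG (CfsgLib.Aschbacher.omega_not_le_square hQ h2 le_rfl e P)⟩))))))
  · exact Or.inr (Or.inr (Or.inr (Or.inr (Or.inr (Or.inr (Or.inr hres))))))

end Cfsg.Agent.S5835
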