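import Cfsg.Statements.S5846
import Cfsg.Agent.Geo.OrthTenLists

set_option autoImplicit false
open Cfsg

namespace Cfsg.Agent.S5846

/-- Maximal subgroups of Ω_10^+(q) of geometric type (any q). Let F be a finite field with q elements (characteristic p), Q a non-degenerate quadratic form on F^10 (non-degenerate polar form) of plus type (Witt index 5: some totally singular 5-space), and Ω = Ω_10^+(q) the commutator subgroup of the isometry group of Q, inside GL_10(F). Each of the following, intersected with Ω, is a maximal subgroup of Ω: (1) the stabiliser of any non-zero subspace on which Q vanishes identically other than those of dimension 4 (totally singular subspaces, dimensions 1, 2, 3 and 5); (2) for q odd, the stabiliser of any proper subspace of odd dimension other than 5 on which the polar form of Q is non-degenerate; (3) the stabiliser of any non-degenerate 2-space of minus type (containing no non-zero singular vector); (4) for q ≥ 4, the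 stabiliser of any non-degenerate 2-space of plus type (containing a non-zero singular vector); (5) the stabiliser of any non-degenerate 4-space (either type); (6) for q even, the stabiliser of the 1-space spanned by any non-singular vector v (Q(v) ≠ 0); (7) for q = p prime with p ≡ 1 mod 4, the stabiliser of any decomposition of F^10 into 10 pairwise orthogonal, pairwise Q-isometric non-degenerate 1-spaces; (8) for q ≥ 7, the stabiliser of any decomposition of F^10 into 5 pairwise orthogonal, pairwise Q-isometric non-degenerate 2-spaces; (9) for q ≡ 1 mod 4, the stabiliser of any decomposition of F^10 into 2 pairwise orthogonal, pairwise Q-isometric non-degenerate 5-spaces; (10) for q ≡ 3 mod 4, the stabiliser of any decomposition of F^10 into two orthogonal non-degenerate 5-spaces that are not Q-isometric; (11) for q odd, the normaliser of any degree-2 subfield K of the matrix algebra whose elements are self-adjoint for the polar form of Q (Q is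 then the trace of a quadratic form over K); (12) every subfield group for a subfield F₀ with |F| = |F₀|^r, r prime, whose F₀-structure carries a non-zero scalar multiple of Q. -/
theorem result {F : Type*} [Field F] [Fintype F] (Q : (Fin 10 → F) → F) (hQ : Cfsg.Geo.IsNondegenerateQuadraticForm Q) (hplus : Cfsg.Geo.IsPlusTypeOn Q ⊤) :
    (∀ W : Submodule F (Fin 10 → F), W ≠ ⊥ → Cfsg.Geo.IsTotallySingularQuad Q W → Module.finrank F W ≠ 4 → Cfsg.Geo.IsMaximalIn (Cfsg.Geo.omegaGL Q) (Cfsg.Geo.subspaceStabilizer W ⊓ Cfsg.Geo.omegaGL Q)) ∧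
    (Odd (Fintype.card F) → ∀ W : Submodule F (Fin 10 → F), W ≠ ⊥ → W ≠ ⊤ → Odd (Module.finrank F W) → 2 * Module.finrank F W ≠ 10 → Cfsg.Geo.IsNondegenerateOn (QuadraticMap.polar Q) W → Cfsg.Geo.IsMaximalIn (Cfsg.Geo.omegaGL Q) (Cfsg.Geo.subspaceStabilizer W ⊓ Cfsg.Geo.omegaGL Q)) ∧
    (∀ W : Submodule F (Fin 10 → F), Module.finrank F W = 2 → Cfsg.Geo.IsNondegenerateOn (QuadraticMap.polar Q) W → ¬ Cfsg.Geo.IsPlusTypeOn Q W → Cfsg.Geo.IsMaximalIn (Cfsg.Geo.omegaGL Q) (Cfsg.Geo.subspaceStabilizer W ⊓ Cfsg.Geo.omegaGL Q)) ∧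
    (4 ≤ Fintype.card F → ∀ W : Submodule F (Fin 10 → F), Module.finrank F W = 2 → Cfsg.Geo.IsNondegenerateOn (QuadraticMap.polar Q) W → Cfsg.Geo.IsPlusTypeOn Q W → Cfsg.Geo.IsMaximalIn (Cfsg.Geo.omegaGL Q) (Cfsg.Geo.subspaceStabilizer W ⊓ Cfsg.Geo.omegaGL Q)) ∧
    (∀ W : Submodule F (Fin 10 → F), Module.finrank F W = 4 → Cfsg.Geo.IsNondegenerateOn (QuadraticMap.polar Q) W → Cfsg.Geo.IsMaximalIn (Cfsg.Geo.omegaGL Q) (Cfsg.Geo.subspaceStabilizer W ⊓ Cfsg.Geo.omegaGL Q)) ∧
    (¬ Odd (Fintype.card F) → ∀ v : (Fin 10 → F), Q v ≠ 0 → Cfsg.Geo.IsMaximalIn (Cfsg.Geo.omegaGL Q) (Cfsg.Geo.subspaceStabilizer (Submodule.span F {v}) ⊓ Cfsg.Geo.omegaGL Q)) ∧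
    ((∃ p : ℕ, p.Prime ∧ Fintype.card F = p ∧ (p % 4 = 1)) → ∀ D : Fin 10 → Submodule F (Fin 10 → F), Cfsg.Geo.IsOrthogonalMDecomposition Q 1 D → Cfsg.Geo.IsMaximalIn (Cfsg.Geo.omegaGL Q) (Cfsg.Geo.decompositionStabilizer D ⊓ Cfsg.Geo.omegaGL Q)) ∧
    (7 ≤ Fintype.card F → ∀ D : Fin 5 → Submodule F (Fin 10 → F), Cfsg.Geo.IsOrthogonalMDecomposition Q 2 D → Cfsg.Geo.IsMaximalIn (Cfsg.Geo.omegaGL Q) (Cfsg.Geo.decompositionStabilizer D ⊓ Cfsg.Geo.omegaGL Q)) ∧
    (Fintype.card F % 4 = 1 → ∀ D : Fin 2 → Submodule F (Fin 10 → F), Cfsg.Geo.IsOrthogonalMDecomposition Q 5 D → Cfsg.Geo.IsMaximalIn (Cfsg.Geo.omegaGL Q) (Cfsg.Geo.decompositionStabilizer D ⊓ Cfsg.Geo.omegaGL Q)) ∧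
    (Fintype.card F % 4 = 3 → ∀ D : Fin 2 → Submodule F (Fin 10 → F), Cfsg.Geo.IsNondegenerateMDecomposition (QuadraticMap.polar Q) 5 D → ¬ Cfsg.Geo.AreIsometricFor Q (D 0) (D 1) → Cfsg.Geo.IsMaximalIn (Cfsg.Geo.omegaGL Q) (Cfsg.Geo.decompositionStabilizer D ⊓ Cfsg.Geo.omegaGL Q)) ∧
    (Odd (Fintype.card F) → ∀ K : Subalgebra F (Matrix (Fin 10) (Fin 10) F), Cfsg.Geo.IsFieldSubalgebra 2 K → Cfsg.Geo.IsSelfAdjointFor (QuadraticMap.polar Q) K → Cfsg.Geo.IsMaximalIn (Cfsg.Geo.omegaGL Q) (Cfsg.Geo.subalgebraNormalizer K ⊓ Cfsg.Geo.omegaGL Q)) ∧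
    (∀ (F₀ : Subfield F) (r : ℕ) (P : Matrix.GeneralLinearGroup (Fin 10) F) (ζ : F), r.Prime → Fintype.card F = Nat.card F₀ ^ r → ζ ≠ 0 → Cfsg.Geo.IsQuadFormRationalStructure (fun v : Fin 10 → F => ζ * Q v) F₀ P → Cfsg.Geo.IsMaximalIn (Cfsg.Geo.omegaGL Q) (Cfsg.Geo.subfieldSubgroup F₀ P ⊓ Cfsg.Geo.omegaGL Q)) := by
  refine ⟨?ts, fun hodd W h0 h1 hk h10 hW => ?odd, fun W h hW hp => CfsgLib.Geo.O10.two hQ h hW (Or.inl hp),
    fun h4 W h hW _ => CfsgLib.Geo.O10.two hQ h hW (Or.inr h4), fun W h hW => CfsgLib.Geo.O10.four hQ h hW,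
    fun hc v hv => CfsgLib.Geo.O10.point hQ hc hv,
    fun ⟨p, hp, hc, hm⟩ D hD => CfsgLib.Geo.O10.frame hQ hp hc (Nat.odd_iff.2 (by omega)) hD,
    ?planes, fun hq D hD => ?iso, fun _ D hD hni => CfsgLib.Geo.O10.halves_noniso hQ hD hni,
    fun hodd K hK hsa => CfsgLib.Geo.O10.field_normalizer hQ hodd hK hsa,
    fun F₀ r P ζ hr hc hζ hP => CfsgLib.Geo.O10.subfield hQ F₀ P hr hc hζ hP⟩
  case ts =>
    exact fun W h0 hW h4 => CfsgLib.Geo.O10.singular hQ h0 hW fun e => (h4 e).elim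
  case odd =>
    obtain ⟨k, hk'⟩ := hk
    exact CfsgLib.Geo.O10.nondeg hQ h0 h1 h10 hW (by omega) fun e => by omega
  case iso =>
    exact CfsgLib.Geo.OD2.decomposition_maximal_of_seven (by norm_num) (by omega) hQ (by norm_num) hD
      (fun _ => Nat.odd_iff.2 (by omega)) (by omega) (fun h => by omega) (fun h => by omega)
  case planes =>
    exact fun hq D hD => CfsgLib.Geo.OD2.decomposition_maximal_of_seven (by norm_num) (by omega) hQ le_rfl hD
      (fun h => absurd h (by decide)) (fun _ => by omega) (fun _ _ => by omega) (fun h => by omega)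

end Cfsg.Agent.S5846
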