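import Cfsg.Statements.S5847
import Cfsg.Agent.Aschbacher.Form.OrthTenCases
import Cfsg.Agent.Aschbacher.Form.OrthEvenProper
import Cfsg.Agent.Aschbacher.General.Maximal
-- import your own Cfsg.Agent.* helpers here

set_option autoImplicit false
open Cfsg

namespace Cfsg.Agent.S5847

open CfsgLib.Aschbacher Matrix

/-- Every maximal subgroup of Ω_10^+(q) is of one of the listed geometric types or lies in the residual class. Let F be a finite field with q elements (characteristic p), Q a non-degenerate quadratic form on F^10 of plus type (Witt index 5: some totally singular 5-space), Ω the commutator subgroup of its isometry group, and H a maximal subgroup of Ω (inside GL_10(F)). Then H is the intersection with Ω of one of: the stabiliser of a non-zero totally singular subspace of dimension ≠ 4; for q odd, the stabiliser of a non-degenerate subspace of odd dimension ≠ 5; the stabiliser of a non-degenerate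 2-space of minus type; for q ≥ 4, the stabiliser of a non-degenerate 2-space of plus type; the stabiliser of a non-degenerate 4-space; for q even, the stabiliser of the span of a non-singular vector; for q = p prime with p ≡ 1 mod 4, the stabiliser of a decomposition into 10 pairwise orthogonal, pairwise isometric non-degenerate 1-spaces; for q ≥ 7, the stabiliser of a decomposition into 5 pairwise orthogonal, pairwise isometric non-degenerate 2-spaces; for q ≡ 1 mod 4, the stabiliser of a decomposition into 2 pairwise orthogonal, pairwise isometric non-degenerate 5-spaces; for q ≡ 3 mod 4, the stabiliser of a decomposition into two orthogonal, non-isometric non-degenerate 5-spaces; for q odd, the normaliser of a degree-2 subfield of the matrix algebra, self-adjoint for the polar form; a subfield group (|F| = |F₀|^r, r prime) whose F₀-structure carries a non-zero multiple of Q — or else H lies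 in the residual class of the orthogonal case (modulo scalars H is almost simple, with absolutely irreducible perfect socle preimage realisable over no proper subfield and fixing no non-degenerate unitary form). -/
theorem result {F : Type*} [Field F] [Fintype F] (Q : (Fin 10 → F) → F) (hQ : Cfsg.Geo.IsNondegenerateQuadraticForm Q) (hplus : Cfsg.Geo.IsPlusTypeOn Q ⊤) (H : Subgroup (Matrix.GeneralLinearGroup (Fin 10) F)) (hH : Cfsg.Geo.IsMaximalIn (Cfsg.Geo.omegaGL Q) H) :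
    (∃ W : Submodule F (Fin 10 → F), W ≠ ⊥ ∧ Cfsg.Geo.IsTotallySingularQuad Q W ∧ Module.finrank F W ≠ 4 ∧ H = Cfsg.Geo.subspaceStabilizer W ⊓ Cfsg.Geo.omegaGL Q) ∨
    (Odd (Fintype.card F) ∧ ∃ W : Submodule F (Fin 10 → F), W ≠ ⊥ ∧ W ≠ ⊤ ∧ Odd (Module.finrank F W) ∧ 2 * Module.finrank F W ≠ 10 ∧ Cfsg.Geo.IsNondegenerateOn (QuadraticMap.polar Q) W ∧ H = Cfsg.Geo.subspaceStabilizer W ⊓ Cfsg.Geo.omegaGL Q) ∨
    (∃ W : Submodule F (Fin 10 → F), Module.finrank F W = 2 ∧ Cfsg.Geo.IsNondegenerateOn (QuadraticMap.polar Q) W ∧ ¬ Cfsg.Geo.IsPlusTypeOn Q W ∧ H = Cfsg.Geo.subspaceStabilizer W ⊓ Cfsg.Geo.omegaGL Q) ∨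
    (4 ≤ Fintype.card F ∧ ∃ W : Submodule F (Fin 10 → F), Module.finrank F W = 2 ∧ Cfsg.Geo.IsNondegenerateOn (QuadraticMap.polar Q) W ∧ Cfsg.Geo.IsPlusTypeOn Q W ∧ H = Cfsg.Geo.subspaceStabilizer W ⊓ Cfsg.Geo.omegaGL Q) ∨
    (∃ W : Submodule F (Fin 10 → F), Module.finrank F W = 4 ∧ Cfsg.Geo.IsNondegenerateOn (QuadraticMap.polar Q) W ∧ H = Cfsg.Geo.subspaceStabilizer W ⊓ Cfsg.Geo.omegaGL Q) ∨
    (¬ Odd (Fintype.card F) ∧ ∃ v : (Fin 10 → F), Q v ≠ 0 ∧ H = Cfsg.Geo.subspaceStabilizer (Submodule.span F {v}) ⊓ Cfsg.Geo.omegaGL Q) ∨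
    ((∃ p : ℕ, p.Prime ∧ Fintype.card F = p ∧ (p % 4 = 1)) ∧ ∃ D : Fin 10 → Submodule F (Fin 10 → F), Cfsg.Geo.IsOrthogonalMDecomposition Q 1 D ∧ H = Cfsg.Geo.decompositionStabilizer D ⊓ Cfsg.Geo.omegaGL Q) ∨
    (7 ≤ Fintype.card F ∧ ∃ D : Fin 5 → Submodule F (Fin 10 → F), Cfsg.Geo.IsOrthogonalMDecomposition Q 2 D ∧ H = Cfsg.Geo.decompositionStabilizer D ⊓ Cfsg.Geo.omegaGL Q) ∨
    (Fintype.card F % 4 = 1 ∧ ∃ D : Fin 2 → Submodule F (Fin 10 → F), Cfsg.Geo.IsOrthogonalMDecomposition Q 5 D ∧ H = Cfsg.Geo.decompositionStabilizer D ⊓ Cfsg.Geo.omegaGL Q) ∨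
    (Fintype.card F % 4 = 3 ∧ ∃ D : Fin 2 → Submodule F (Fin 10 → F), Cfsg.Geo.IsNondegenerateMDecomposition (QuadraticMap.polar Q) 5 D ∧ ¬ Cfsg.Geo.AreIsometricFor Q (D 0) (D 1) ∧ H = Cfsg.Geo.decompositionStabilizer D ⊓ Cfsg.Geo.omegaGL Q) ∨
    (Odd (Fintype.card F) ∧ ∃ K : Subalgebra F (Matrix (Fin 10) (Fin 10) F), Cfsg.Geo.IsFieldSubalgebra 2 K ∧ Cfsg.Geo.IsSelfAdjointFor (QuadraticMap.polar Q) K ∧ H = Cfsg.Geo.subalgebraNormalizer K ⊓ Cfsg.Geo.omegaGL Q) ∨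
    (∃ (F₀ : Subfield F) (r : ℕ) (P : Matrix.GeneralLinearGroup (Fin 10) F) (ζ : F), r.Prime ∧ Fintype.card F = Nat.card F₀ ^ r ∧ ζ ≠ 0 ∧ Cfsg.Geo.IsQuadFormRationalStructure (fun v : Fin 10 → F => ζ * Q v) F₀ P ∧ H = Cfsg.Geo.subfieldSubgroup F₀ P ⊓ Cfsg.Geo.omegaGL Q) ∨
    Cfsg.Geo.InOrthogonalResidualClass H := by
  classical
  have h10 : Fintype.card (Fin 10) = 10 := Fintype.card_fin 10
  have hn : 5 ≤ Fintype.card (Fin 10) := by omega
  have hfixQ : ∀ g ∈ H, ∀ v, Q ((g : Matrix (Fin 10) (Fin 10) F) *ᵥ v) = Q v := fun g hg v =>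
    (Subgroup.map_subtype_le _ (hH.1.le hg) : g ∈ isometryGroup F Q) v v
  obtain ⟨Q', hQc, hQ'⟩ := CfsgLib.Geo.OS.exists_quadraticForm hQ
  have hd : Module.finrank F (Fin 10 → F) = 10 := Module.finrank_fin_fun F
  have nonmax : ∀ {M : Subgroup (GL (Fin 10) F)}, H = M ⊓ Geo.omegaGL Q →
      (∃ K : Subgroup (GL (Fin 10) F), M ⊓ Geo.omegaGL ⇑Q' < K ∧ K < Geo.omegaGL ⇑Q') → False := by
    rintro M he ⟨K, h1, h2⟩
    rw [hQc, ← he] at h1
    rw [hQc] at h2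
    rcases hH.2 K h1.le h2.le with h | h
    · exact h1.ne h.symm
    · exact h2.ne h
  have hne : ∀ {W : Submodule F (Fin 10 → F)} (k : ℕ), Module.finrank F W = k → 0 < k → k < 10 → W ≠ ⊥ ∧ W ≠ ⊤ := by
    intro W k hk h0 h1
    refine ⟨fun h => ?_, fun h => ?_⟩
    · rw [h, finrank_bot] at hk; omega
    · rw [h, finrank_top, hd] at hk; omega
  have sub : ∀ {W : Submodule F (Fin 10 → F)}, W ≠ ⊥ → W ≠ ⊤ → H ≤ Geo.subspaceStabilizer W →
      H = Geo.subspaceStabilizer W ⊓ Geo.omegaGL Q :=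
    fun h0 h1 h => eq_inf_of_le hH h (OE.not_le_subspace hQ hn h0 h1)
  have dec : ∀ {t m : ℕ} {D : Fin t → Submodule F (Fin 10 → F)},
      Geo.IsNondegenerateMDecomposition (QuadraticMap.polar Q) m D → H ≤ Geo.decompositionStabilizer D →
      H = Geo.decompositionStabilizer D ⊓ Geo.omegaGL Q :=
    fun hD h => eq_inf_of_le hH h (OE.not_le_decomposition hQ hn hD)
  rcases OE.ten_structure hQ h10 hfixQ with
    ⟨W, h0, hW, h⟩ | ⟨hq, W, h0, h1, hod, h5, hW, h⟩ | ⟨W, hd', hW, hp, h⟩ | ⟨hq, W, hd', hW, hp, h⟩ | ⟨W, hd', hW, h⟩ |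
    ⟨hq, v, hv, h⟩ | ⟨hq, hpr, D, hD, h⟩ | ⟨D, hD, h⟩ | ⟨hq, D, hD, h⟩ | ⟨D, hD, hts, h⟩ | ⟨hq, K, hK, hsa, h⟩ |
    ⟨hnp, K, hK, hac, hnsa, hsim, h⟩ | ⟨F₀, r, P, ζ, hr, hc, hζ, hP, h⟩ | h
  · have h1 : W ≠ ⊤ := by
      rintro rfl
      obtain ⟨w, hw⟩ : ∃ w : Fin 10 → F, w ≠ 0 := exists_ne 0
      obtain ⟨u, hu⟩ := hQ.nondegenerate w hw
      simp [QuadraticMap.polar, hW _ Submodule.mem_top] at hu
    obtain ⟨T₀, -, hT₀, hT₀d⟩ := hplus
    rw [finrank_top, hd] at hT₀d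
    refine Or.inl ⟨W, h0, hW, fun h4 => ?_, sub h0 h1 h⟩
    have hlag : CfsgLib.Geo.OS.IsLag Q' T₀ := ⟨hQc.symm ▸ hT₀, by omega⟩
    obtain ⟨T, hWT, hT⟩ := CfsgLib.Geo.OS.exists_lag_above hQ' (hQc.symm ▸ hW) hlag (by omega)
    have := hT.2
    exact nonmax (sub h0 h1 h) (CfsgLib.Geo.OS.almost_lag_nonmax hQ' (by omega) hWT hT (by omega))
  · exact Or.inr (Or.inl ⟨hq, W, h0, h1, hod, h5, hW, sub h0 h1 h⟩)
  · obtain ⟨h0, h1⟩ := hne 2 hd' (by omega) (by omega)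
    exact Or.inr (Or.inr (Or.inl ⟨W, hd', hW, hp, sub h0 h1 h⟩))
  · obtain ⟨h0, h1⟩ := hne 2 hd' (by omega) (by omega)
    exact Or.inr (Or.inr (Or.inr (Or.inl ⟨hq, W, hd', hW, hp, sub h0 h1 h⟩)))
  · obtain ⟨h0, h1⟩ := hne 4 hd' (by omega) (by omega)
    exact Or.inr (Or.inr (Or.inr (Or.inr (Or.inl ⟨W, hd', hW, sub h0 h1 h⟩))))
  · have hv0 : v ≠ 0 := by
      rintro rfl
      exact hv (by simpa using hQ.smul 0 0)
    obtain ⟨h0, h1⟩ := hne 1 (finrank_span_singleton hv0) (by omega) (by omega)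
    exact Or.inr (Or.inr (Or.inr (Or.inr (Or.inr (Or.inl ⟨hq, v, hv, sub h0 h1 h⟩)))))
  · exact Or.inr (Or.inr (Or.inr (Or.inr (Or.inr (Or.inr (Or.inl ⟨⟨_, hpr, rfl, OE.frame_mod_plus hQ h10 hplus hq hD⟩, D, hD, dec hD.decomp h⟩))))))
  · refine Or.inr (Or.inr (Or.inr (Or.inr (Or.inr (Or.inr (Or.inr (Or.inl ⟨?_, D, hD, dec hD.decomp h⟩)))))))
    by_contra h7
    have hpl : ∀ i, Geo.IsPlusTypeOn ⇑Q' (D i) := fun i => hQc.symm ▸ OE.planes_plus hQ h10 hplus hD i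
    have hD' : Geo.IsOrthogonalMDecomposition ⇑Q' 2 D := hQc.symm ▸ hD
    have hq1 := Fintype.one_lt_card (α := F)
    have hq6 : Fintype.card F ≠ 6 := fun h6 => by
      obtain ⟨p, hchar⟩ := CharP.exists F
      obtain ⟨k, hp, hk⟩ := FiniteField.card F p
      rw [h6] at hk
      have h2 := (Nat.prime_dvd_prime_iff_eq Nat.prime_two hp).mp (Nat.prime_two.dvd_of_dvd_pow (hk ▸ (by norm_num : 2 ∣ 6)))
      have h3 := (Nat.prime_dvd_prime_iff_eq Nat.prime_three hp).mp (Nat.prime_three.dvd_of_dvd_pow (hk ▸ (by norm_num : 3 ∣ 6)))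
      omega
    have hc : Fintype.card F = 2 ∨ Fintype.card F = 3 ∨ Fintype.card F = 4 ∨ Fintype.card F = 5 := by omega
    rw [← Nat.card_eq_fintype_card] at hc
    refine nonmax (dec hD.decomp h) ?_
    rcases hc with h' | h' | h' | h'
    · exact CfsgLib.Geo.OS.even_decomp_nonmax hQ' (by omega) hD' hpl (Or.inl ⟨by omega, rfl, Or.inl h'⟩)
    · exact CfsgLib.Geo.OS.odd_decomp_nonmax hQ' (by omega) (by omega) hD' (Or.inl ⟨h', Or.inl rfl⟩)
    · exact CfsgLib.Geo.OS.even_decomp_nonmax hQ' (by omega) hD' hpl (Or.inl ⟨by omega, rfl, Or.inr h'⟩)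
    · exact CfsgLib.Geo.OS.odd_decomp_nonmax hQ' (by omega) (by omega) hD' (Or.inr ⟨h', rfl, hpl⟩)
  · have he := dec hD h
    rcases OE.halves_cases hQ h10 hq hD with ⟨hD', hcl⟩ | ⟨hni, hcl⟩
    · rcases hcl with ⟨hp, hm⟩ | ⟨hp, hm⟩
      · exact Or.inr (Or.inr (Or.inr (Or.inr (Or.inr (Or.inr (Or.inr (Or.inr (Or.inl ⟨hm, D, hD', he⟩))))))))
      · exact absurd hplus hp
    · rcases hcl with ⟨hp, hm⟩ | ⟨hp, hm⟩
      · exact Or.inr (Or.inr (Or.inr (Or.inr (Or.inr (Or.inr (Or.inr (Or.inr (Or.inr (Or.inl ⟨hm, D, hD, hni, he⟩)))))))))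
      · exact absurd hplus hp
  · exfalso
    have h01 : D 0 ⊓ D 1 = ⊥ := disjoint_iff.1 (hD.indep.pairwiseDisjoint (by decide : (0 : Fin 2) ≠ 1))
    have hlag : ∀ i, CfsgLib.Geo.OS.IsLag Q' (D i) := fun i =>
      ⟨hQc.symm ▸ hts i, by rw [hD.finrank_eq, hd]⟩
    obtain ⟨K, h1, h2⟩ := CfsgLib.Geo.OS.lag_pair_nonmax hQ' (by omega) hlag h01 (by rw [hD.finrank_eq]; decide)
    have hS : ¬ Geo.omegaGL Q ≤ Geo.decompositionStabilizer D := fun hle =>
      h2.not_ge (le_trans (le_inf (hQc.symm ▸ hle) le_rfl) h1.le)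
    exact nonmax (eq_inf_of_le hH h hS) ⟨K, h1, h2⟩
  · exact Or.inr (Or.inr (Or.inr (Or.inr (Or.inr (Or.inr (Or.inr (Or.inr (Or.inr (Or.inr (Or.inl ⟨hq, K, hK, hsa, eq_inf_of_le hH h (OE.not_le_field hQ hn le_rfl hK)⟩))))))))))
  · exact absurd hplus hnp
  · exact Or.inr (Or.inr (Or.inr (Or.inr (Or.inr (Or.inr (Or.inr (Or.inr (Or.inr (Or.inr (Or.inr (Or.inl ⟨F₀, r, P, ζ, hr, hc, hζ, hP, eq_inf_of_le hH h (OE.not_le_subfield hQ hn (subfield_ne_top hr hc) P)⟩)))))))))))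
  · exact Or.inr (Or.inr (Or.inr (Or.inr (Or.inr (Or.inr (Or.inr (Or.inr (Or.inr (Or.inr (Or.inr (Or.inr (h))))))))))))

end Cfsg.Agent.S5847
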