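import Cfsg.Statements.S5850
import Cfsg.Agent.Aschbacher.Form.OrthTenCases
import Cfsg.Agent.Aschbacher.Form.OrthEvenProper
import Cfsg.Agent.Aschbacher.General.Maximal
-- import your own Cfsg.Agent.* helpers here

set_option autoImplicit false
open Cfsg

namespace Cfsg.Agent.S5850

open CfsgLib.Aschbacher Matrix

/-- Every maximal subgroup of Ω_10^-(q) is of one of the listed geometric types or lies in the residual class. Let F be a finite field with q elements (characteristic p), Q a non-degenerate quadratic form on F^10 of minus type (Witt index 4: no totally singular 5-space), Ω the commutator subgroup of its isometry group, and H a maximal subgroup of Ω (inside GL_10(F)). Then H is the intersection with Ω of one of: the stabiliser of a non-zero totally singular subspace; for q odd, the stabiliser of a non-degenerate subspace of odd dimension ≠ 5; the stabiliser of a non-degenerate 2-space of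 minus type; for q ≥ 4, the stabiliser of a non-degenerate 2-space of plus type; the stabiliser of a non-degenerate 4-space; for q even, the stabiliser of the span of a non-singular vector; for q = p prime with p ≡ 3 mod 4, the stabiliser of a decomposition into 10 pairwise orthogonal, pairwise isometric non-degenerate 1-spaces; for q ≠ 3, the stabiliser of a decomposition into 5 pairwise orthogonal, pairwise isometric non-degenerate 2-spaces; for q ≡ 3 mod 4, the stabiliser of a decomposition into 2 pairwise orthogonal, pairwise isometric non-degenerate 5-spaces; for q ≡ 1 mod 4, the stabiliser of a decomposition into two orthogonal, non-isometric non-degenerate 5-spaces; for q odd, the normaliser of a degree-2 subfield of the matrix algebra, self-adjoint for the polar form; the normaliser of a degree-2 subfield K, adjoint-closed but not self-adjoint, acting by similarities of Q; a subfield group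 (|F| = |F₀|^r, r odd prime) whose F₀-structure carries a non-zero multiple of Q — or else H lies in the residual class of the orthogonal case (modulo scalars H is almost simple, with absolutely irreducible perfect socle preimage realisable over no proper subfield and fixing no non-degenerate unitary form). -/
theorem result {F : Type*} [Field F] [Fintype F] (Q : (Fin 10 → F) → F) (hQ : Cfsg.Geo.IsNondegenerateQuadraticForm Q) (hminus : ¬ Cfsg.Geo.IsPlusTypeOn Q ⊤) (H : Subgroup (Matrix.GeneralLinearGroup (Fin 10) F)) (hH : Cfsg.Geo.IsMaximalIn (Cfsg.Geo.omegaGL Q) H) :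
    (∃ W : Submodule F (Fin 10 → F), W ≠ ⊥ ∧ Cfsg.Geo.IsTotallySingularQuad Q W ∧ H = Cfsg.Geo.subspaceStabilizer W ⊓ Cfsg.Geo.omegaGL Q) ∨
    (Odd (Fintype.card F) ∧ ∃ W : Submodule F (Fin 10 → F), W ≠ ⊥ ∧ W ≠ ⊤ ∧ Odd (Module.finrank F W) ∧ 2 * Module.finrank F W ≠ 10 ∧ Cfsg.Geo.IsNondegenerateOn (QuadraticMap.polar Q) W ∧ H = Cfsg.Geo.subspaceStabilizer W ⊓ Cfsg.Geo.omegaGL Q) ∨
    (∃ W : Submodule F (Fin 10 → F), Module.finrank F W = 2 ∧ Cfsg.Geo.IsNondegenerateOn (QuadraticMap.polar Q) W ∧ ¬ Cfsg.Geo.IsPlusTypeOn Q W ∧ H = Cfsg.Geo.subspaceStabilizer W ⊓ Cfsg.Geo.omegaGL Q) ∨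
    (4 ≤ Fintype.card F ∧ ∃ W : Submodule F (Fin 10 → F), Module.finrank F W = 2 ∧ Cfsg.Geo.IsNondegenerateOn (QuadraticMap.polar Q) W ∧ Cfsg.Geo.IsPlusTypeOn Q W ∧ H = Cfsg.Geo.subspaceStabilizer W ⊓ Cfsg.Geo.omegaGL Q) ∨
    (∃ W : Submodule F (Fin 10 → F), Module.finrank F W = 4 ∧ Cfsg.Geo.IsNondegenerateOn (QuadraticMap.polar Q) W ∧ H = Cfsg.Geo.subspaceStabilizer W ⊓ Cfsg.Geo.omegaGL Q) ∨
    (¬ Odd (Fintype.card F) ∧ ∃ v : (Fin 10 → F), Q v ≠ 0 ∧ H = Cfsg.Geo.subspaceStabilizer (Submodule.span F {v}) ⊓ Cfsg.Geo.omegaGL Q) ∨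
    ((∃ p : ℕ, p.Prime ∧ Fintype.card F = p ∧ (p % 4 = 3)) ∧ ∃ D : Fin 10 → Submodule F (Fin 10 → F), Cfsg.Geo.IsOrthogonalMDecomposition Q 1 D ∧ H = Cfsg.Geo.decompositionStabilizer D ⊓ Cfsg.Geo.omegaGL Q) ∨
    (Fintype.card F ≠ 3 ∧ ∃ D : Fin 5 → Submodule F (Fin 10 → F), Cfsg.Geo.IsOrthogonalMDecomposition Q 2 D ∧ H = Cfsg.Geo.decompositionStabilizer D ⊓ Cfsg.Geo.omegaGL Q) ∨
    (Fintype.card F % 4 = 3 ∧ ∃ D : Fin 2 → Submodule F (Fin 10 → F), Cfsg.Geo.IsOrthogonalMDecomposition Q 5 D ∧ H = Cfsg.Geo.decompositionStabilizer D ⊓ Cfsg.Geo.omegaGL Q) ∨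
    (Fintype.card F % 4 = 1 ∧ ∃ D : Fin 2 → Submodule F (Fin 10 → F), Cfsg.Geo.IsNondegenerateMDecomposition (QuadraticMap.polar Q) 5 D ∧ ¬ Cfsg.Geo.AreIsometricFor Q (D 0) (D 1) ∧ H = Cfsg.Geo.decompositionStabilizer D ⊓ Cfsg.Geo.omegaGL Q) ∨
    (Odd (Fintype.card F) ∧ ∃ K : Subalgebra F (Matrix (Fin 10) (Fin 10) F), Cfsg.Geo.IsFieldSubalgebra 2 K ∧ Cfsg.Geo.IsSelfAdjointFor (QuadraticMap.polar Q) K ∧ H = Cfsg.Geo.subalgebraNormalizer K ⊓ Cfsg.Geo.omegaGL Q) ∨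
    (∃ K : Subalgebra F (Matrix (Fin 10) (Fin 10) F), Cfsg.Geo.IsFieldSubalgebra 2 K ∧ Cfsg.Geo.IsAdjointClosedFor (QuadraticMap.polar Q) K ∧ ¬ Cfsg.Geo.IsSelfAdjointFor (QuadraticMap.polar Q) K ∧ (∀ k ∈ K, ∃ c : F, ∀ v : (Fin 10 → F), Q (Matrix.mulVec k v) = c * Q v) ∧ H = Cfsg.Geo.subalgebraNormalizer K ⊓ Cfsg.Geo.omegaGL Q) ∨
    (∃ (F₀ : Subfield F) (r : ℕ) (P : Matrix.GeneralLinearGroup (Fin 10) F) (ζ : F), r.Prime ∧ Odd r ∧ Fintype.card F = Nat.card F₀ ^ r ∧ ζ ≠ 0 ∧ Cfsg.Geo.IsQuadFormRationalStructure (fun v : Fin 10 → F => ζ * Q v) F₀ P ∧ H = Cfsg.Geo.subfieldSubgroup F₀ P ⊓ Cfsg.Geo.omegaGL Q) ∨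
    Cfsg.Geo.InOrthogonalResidualClass H := by
  classical
  have h10 : Fintype.card (Fin 10) = 10 := Fintype.card_fin 10
  have hn : 5 ≤ Fintype.card (Fin 10) := by omega
  have hfixQ : ∀ g ∈ H, ∀ v, Q ((g : Matrix (Fin 10) (Fin 10) F) *ᵥ v) = Q v := fun g hg v =>
    (Subgroup.map_subtype_le _ (hH.1.le hg) : g ∈ isometryGroup F Q) v v
  obtain ⟨Q', hQc, hQ'⟩ := CfsgLib.Geo.OS.exists_quadraticForm hQ
  have hd : Module.finrank F (Fin 10 → F) = 10 := Module.finrank_fin_fun F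
  have nonmax : ∀ {M : Subgroup (GL (Fin 10) F)}, H = M ⊓ Geo.omegaGL Q →
      (∃ K : Subgroup (GL (Fin 10) F), M ⊓ Geo.omegaGL ⇑Q' < K ∧ K < Geo.omegaGL ⇑Q') → False := by
    rintro M he ⟨K, h1, h2⟩
    rw [hQc, ← he] at h1
    rw [hQc] at h2
    rcases hH.2 K h1.le h2.le with h | h
    · exact h1.ne h.symm
    · exact h2.ne h
  have hne : ∀ {W : Submodule F (Fin 10 → F)} (k : ℕ), Module.finrank F W = k → 0 < k → k < 10 → W ≠ ⊥ ∧ W ≠ ⊤ := by
    intro W k hk h0 h1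
    refine ⟨fun h => ?_, fun h => ?_⟩
    · rw [h, finrank_bot] at hk; omega
    · rw [h, finrank_top, hd] at hk; omega
  have sub : ∀ {W : Submodule F (Fin 10 → F)}, W ≠ ⊥ → W ≠ ⊤ → H ≤ Geo.subspaceStabilizer W →
      H = Geo.subspaceStabilizer W ⊓ Geo.omegaGL Q :=
    fun h0 h1 h => eq_inf_of_le hH h (OE.not_le_subspace hQ hn h0 h1)
  have dec : ∀ {t m : ℕ} {D : Fin t → Submodule F (Fin 10 → F)},
      Geo.IsNondegenerateMDecomposition (QuadraticMap.polar Q) m D → H ≤ Geo.decompositionStabilizer D →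
      H = Geo.decompositionStabilizer D ⊓ Geo.omegaGL Q :=
    fun hD h => eq_inf_of_le hH h (OE.not_le_decomposition hQ hn hD)
  rcases OE.ten_structure hQ h10 hfixQ with
    ⟨W, h0, hW, h⟩ | ⟨hq, W, h0, h1, hod, h5, hW, h⟩ | ⟨W, hd', hW, hp, h⟩ | ⟨hq, W, hd', hW, hp, h⟩ | ⟨W, hd', hW, h⟩ |
    ⟨hq, v, hv, h⟩ | ⟨hq, hpr, D, hD, h⟩ | ⟨D, hD, h⟩ | ⟨hq, D, hD, h⟩ | ⟨D, hD, hts, h⟩ | ⟨hq, K, hK, hsa, h⟩ |
    ⟨hnp, K, hK, hac, hnsa, hsim, h⟩ | ⟨F₀, r, P, ζ, hr, hc, hζ, hP, h⟩ | h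
  · have h1 : W ≠ ⊤ := by
      rintro rfl
      obtain ⟨w, hw⟩ : ∃ w : Fin 10 → F, w ≠ 0 := exists_ne 0
      obtain ⟨u, hu⟩ := hQ.nondegenerate w hw
      simp [QuadraticMap.polar, hW _ Submodule.mem_top] at hu
    exact Or.inl ⟨W, h0, hW, sub h0 h1 h⟩
  · exact Or.inr (Or.inl ⟨hq, W, h0, h1, hod, h5, hW, sub h0 h1 h⟩)
  · obtain ⟨h0, h1⟩ := hne 2 hd' (by omega) (by omega)
    exact Or.inr (Or.inr (Or.inl ⟨W, hd', hW, hp, sub h0 h1 h⟩))
  · obtain ⟨h0, h1⟩ := hne 2 hd' (by omega) (by omega)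
    exact Or.inr (Or.inr (Or.inr (Or.inl ⟨hq, W, hd', hW, hp, sub h0 h1 h⟩)))
  · obtain ⟨h0, h1⟩ := hne 4 hd' (by omega) (by omega)
    exact Or.inr (Or.inr (Or.inr (Or.inr (Or.inl ⟨W, hd', hW, sub h0 h1 h⟩))))
  · have hv0 : v ≠ 0 := by
      rintro rfl
      exact hv (by simpa using hQ.smul 0 0)
    obtain ⟨h0, h1⟩ := hne 1 (finrank_span_singleton hv0) (by omega) (by omega)
    exact Or.inr (Or.inr (Or.inr (Or.inr (Or.inr (Or.inl ⟨hq, v, hv, sub h0 h1 h⟩)))))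
  · exact Or.inr (Or.inr (Or.inr (Or.inr (Or.inr (Or.inr (Or.inl ⟨⟨_, hpr, rfl, OE.frame_mod_minus hQ h10 hminus hq hD⟩, D, hD, dec hD.decomp h⟩))))))
  · refine Or.inr (Or.inr (Or.inr (Or.inr (Or.inr (Or.inr (Or.inr (Or.inl ⟨?_, D, hD, dec hD.decomp h⟩)))))))
    intro h3
    have hD' : Geo.IsOrthogonalMDecomposition ⇑Q' 2 D := hQc.symm ▸ hD
    exact nonmax (dec hD.decomp h)
      (CfsgLib.Geo.OS.odd_decomp_nonmax hQ' (by omega) (by omega) hD'
        (Or.inl ⟨by rw [Nat.card_eq_fintype_card, h3], Or.inl rfl⟩))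
  · have he := dec hD h
    rcases OE.halves_cases hQ h10 hq hD with ⟨hD', hcl⟩ | ⟨hni, hcl⟩
    · rcases hcl with ⟨hp, hm⟩ | ⟨hp, hm⟩
      · exact absurd hp hminus
      · exact Or.inr (Or.inr (Or.inr (Or.inr (Or.inr (Or.inr (Or.inr (Or.inr (Or.inl ⟨hm, D, hD', he⟩))))))))
    · rcases hcl with ⟨hp, hm⟩ | ⟨hp, hm⟩
      · exact absurd hp hminus
      · exact Or.inr (Or.inr (Or.inr (Or.inr (Or.inr (Or.inr (Or.inr (Or.inr (Or.inr (Or.inl ⟨hm, D, hD, hni, he⟩)))))))))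
  · exact absurd (OE.plus_of_ts (hts 0) (by rw [hD.finrank_eq, Fintype.card_fin])) hminus
  · exact Or.inr (Or.inr (Or.inr (Or.inr (Or.inr (Or.inr (Or.inr (Or.inr (Or.inr (Or.inr (Or.inl ⟨hq, K, hK, hsa, eq_inf_of_le hH h (OE.not_le_field hQ hn le_rfl hK)⟩))))))))))
  · exact Or.inr (Or.inr (Or.inr (Or.inr (Or.inr (Or.inr (Or.inr (Or.inr (Or.inr (Or.inr (Or.inr (Or.inl ⟨K, hK, hac, hnsa, hsim, eq_inf_of_le hH h (OE.not_le_field hQ hn le_rfl hK)⟩)))))))))))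
  · rcases hr.eq_two_or_odd' with rfl | hro
    · exact absurd (OE.plus_of_index_two hQ (m := 5) (by omega) h10 hc hζ hP) hminus
    exact Or.inr (Or.inr (Or.inr (Or.inr (Or.inr (Or.inr (Or.inr (Or.inr (Or.inr (Or.inr (Or.inr (Or.inr (Or.inl ⟨F₀, r, P, ζ, hr, hro, hc, hζ, hP, eq_inf_of_le hH h (OE.not_le_subfield hQ hn (subfield_ne_top hr hc) P)⟩))))))))))))
  · exact Or.inr (Or.inr (Or.inr (Or.inr (Or.inr (Or.inr (Or.inr (Or.inr (Or.inr (Or.inr (Or.inr (Or.inr (Or.inr (h)))))))))))))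

end Cfsg.Agent.S5850
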