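import Cfsg.Statements.S5858
import Cfsg.Agent.Geo.OrthFrame.Main
import Cfsg.Agent.Geo.OrthPlus
import Cfsg.Agent.Geo.OrthSubfieldMatrix

set_option autoImplicit false
open Cfsg

namespace Cfsg.Agent.S5858

/-- Maximal subgroups of Ω_11(q) of geometric type, q odd. Let F be a finite field of odd order q, Q the standard quadratic form x₀² + Σ x_i y_i on F^11 (coordinates Unit ⊕ (Fin 5 ⊕ Fin 5)), and Ω = Ω_11(q) the commutator subgroup of its isometry group, inside GL_11(F). Each of the following, intersected with Ω, is a maximal subgroup of Ω: (1) the stabiliser of any non-zero subspace on which Q vanishes identically (totally singular 1- to 5-spaces); (2) the stabiliser of any non-zero even-dimensional subspace W (dimension 2 to 10) on which the polar form of Q is non-degenerate (equivalently of its odd-dimensional orthogonal complement), except when q = 3 and W is a 2-space containing a non-zero singular vector (a plus-type plane);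 (3) for q = p prime, the stabiliser of any decomposition of F^11 into eleven pairwise orthogonal, pairwise Q-isometric non-degenerate 1-spaces; (4) every subfield group for a subfield F₀ with |F| = |F₀|^r, r prime, whose F₀-structure carries Q. -/
theorem result {F : Type*} [Field F] [Fintype F] (hodd : Odd (Fintype.card F)) :
    (∀ W : Submodule F (Unit ⊕ (Fin 5 ⊕ Fin 5) → F), W ≠ ⊥ → Cfsg.Geo.IsTotallySingularQuad (Cfsg.quadFormOdd 5 F) W → Cfsg.Geo.IsMaximalIn (Cfsg.Geo.omegaGL (Cfsg.quadFormOdd 5 F)) (Cfsg.Geo.subspaceStabilizer W ⊓ Cfsg.Geo.omegaGL (Cfsg.quadFormOdd 5 F))) ∧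
    (∀ W : Submodule F (Unit ⊕ (Fin 5 ⊕ Fin 5) → F), W ≠ ⊥ → Even (Module.finrank F W) → Cfsg.Geo.IsNondegenerateOn (QuadraticMap.polar (Cfsg.quadFormOdd 5 F)) W → ¬ (Fintype.card F = 3 ∧ Module.finrank F W = 2 ∧ Cfsg.Geo.IsPlusTypeOn (Cfsg.quadFormOdd 5 F) W) → Cfsg.Geo.IsMaximalIn (Cfsg.Geo.omegaGL (Cfsg.quadFormOdd 5 F)) (Cfsg.Geo.subspaceStabilizer W ⊓ Cfsg.Geo.omegaGL (Cfsg.quadFormOdd 5 F))) ∧
    ((Fintype.card F).Prime → ∀ D : Fin 11 → Submodule F (Unit ⊕ (Fin 5 ⊕ Fin 5) → F), Cfsg.Geo.IsOrthogonalMDecomposition (Cfsg.quadFormOdd 5 F) 1 D → Cfsg.Geo.IsMaximalIn (Cfsg.Geo.omegaGL (Cfsg.quadFormOdd 5 F)) (Cfsg.Geo.decompositionStabilizer D ⊓ Cfsg.Geo.omegaGL (Cfsg.quadFormOdd 5 F))) ∧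
    (∀ (F₀ : Subfield F) (r : ℕ) (P : Matrix.GeneralLinearGroup (Unit ⊕ (Fin 5 ⊕ Fin 5)) F), r.Prime → Fintype.card F = Nat.card F₀ ^ r → Cfsg.Geo.IsQuadFormRationalStructure (Cfsg.quadFormOdd 5 F) F₀ P → Cfsg.Geo.IsMaximalIn (Cfsg.Geo.omegaGL (Cfsg.quadFormOdd 5 F)) (Cfsg.Geo.subfieldSubgroup F₀ P ⊓ Cfsg.Geo.omegaGL (Cfsg.quadFormOdd 5 F))) := by
  classical
  have h2 : (2 : F) ≠ 0 := fun h => by
    have : CharP F 2 := CharTwo.of_one_ne_zero_of_two_eq_zero one_ne_zero h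
    exact (Nat.not_even_iff_odd.2 hodd) (Nat.even_iff.2 (FiniteField.even_card_of_char_two (ringChar.eq F 2)))
  obtain ⟨Q, hQc, hQ⟩ : ∃ Q : QuadraticForm F (Unit ⊕ (Fin 5 ⊕ Fin 5) → F),
      ⇑Q = Cfsg.quadFormOdd 5 F ∧ (QuadraticMap.polarBilin Q).Nondegenerate :=
    ⟨_, CfsgLib.Quad.oddQ_coe 5, CfsgLib.Quad.oddQ_nondeg h2 5⟩
  rw [← hQc]
  have hd : Fintype.card (Unit ⊕ (Fin 5 ⊕ Fin 5)) = 11 := by simp
  have hdV := Module.finrank_fintype_fun_eq_card F (η := Unit ⊕ (Fin 5 ⊕ Fin 5))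
  refine ⟨fun W hW0 hW => ?_, fun W hW0 hev hW hex => ?_, fun hp D hD => ?_,
    fun F₀ r P hr hcard hP => ?_⟩
  · refine CfsgLib.Geo.OS.isMaximalIn_omegaGL Q W
      (CfsgLib.Geo.OS.ts_maximal hQ (by omega) hW hW0 ?_)
    by_cases hk : 2 * Module.finrank F W + 3 ≤ Module.finrank F (Unit ⊕ (Fin 5 ⊕ Fin 5) → F)
    · exact Or.inl hk
    right
    intro U hWU hU
    refine (Submodule.eq_of_le_of_finrank_le hWU ?_).symm
    by_contra hcc
    obtain ⟨x, hx, hx0⟩ := CfsgLib.Quad.exists_aniso_of_finrank hQ (K := U) (by omega)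
    exact hx0 (hU x hx)
  · have hsum := CfsgLib.Quad.finrank_perpS hQ W
    obtain ⟨r, hr⟩ := hev
    refine CfsgLib.Geo.OS.nondeg_subspace_maximal_of_eleven hQ (by omega) hW0 ?_
      (CfsgLib.Geo.OS.nd_of_isNondegenerateOn hW) ?_ (fun h => by omega)
    · intro h
      rw [h, finrank_top] at hr
      omega
    · rintro S (rfl | rfl) h2S
      swap
      · exfalso; omega
      by_cases han : ∀ x ∈ S, Q x = 0 → x = 0
      · exact Or.inl han
      push Not at han
      obtain ⟨z, hz, hz0, hne⟩ := han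
      refine Or.inr ?_
      rw [Nat.card_eq_fintype_card]
      by_contra hlt
      refine hex ⟨?_, h2S, CfsgLib.Geo.OS.plusType_of_singular h2S hz hne hz0⟩
      have := Fintype.one_lt_card (α := F)
      obtain ⟨k, hk⟩ := hodd
      omega
  · exact CfsgLib.Geo.OFrame.frame_maximal hp hodd (by omega) Q hD
  · exact CfsgLib.Geo.OS.subfield_maximal_matrix_of_eleven Q hQ (by omega) (fun _ => by omega) hr
      (by rw [Nat.card_eq_fintype_card, hcard]) hP

end Cfsg.Agent.S5858
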