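import Cfsg.Statements.S5861
import Cfsg.Agent.Geo.SLGeometric

set_option autoImplicit false
open Cfsg

namespace Cfsg.Agent.S5861

/-- Maximal subgroups of SL_12(q) of geometric type, for a finite field F with q elements (any q); p denotes the characteristic. Each of the following subgroups of GL_12(F), intersected with SL_12(F), is a maximal subgroup of SL_12(F): (1) the stabiliser of any proper non-zero subspace of F^12; (2) for q ≥ 5, the stabiliser of any decomposition of F^12 into 12 independent 1-spaces; (3) for q ≥ 3, the stabiliser of any decomposition of F^12 into 6 independent 2-spaces; (4) the stabiliser of any decomposition of F^12 into 4 independent 3-spaces; (5) the stabiliser of any decomposition of F^12 into 3 independent 4-spaces; (6) the stabiliser of any decomposition of F^12 into 2 independent 6-spaces; (7) the normaliser of any degree-2 subfield of the 12 × 12 matrix algebra over F (a commutative subalgebra of dimension 2 in which every non-zero element is invertible);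 (8) the normaliser of any degree-3 subfield of the 12 × 12 matrix algebra over F (a commutative subalgebra of dimension 3 in which every non-zero element is invertible); (9) for q ≥ 3, the stabiliser of any tensor decomposition F^12 = F^2 ⊗ F^6 (a conjugate of the Kronecker-product subgroup); (10) the stabiliser of any tensor decomposition F^12 = F^3 ⊗ F^4 (a conjugate of the Kronecker-product subgroup); (11) every subfield group (a conjugate of GL_12(F₀) times the scalars of F) for a subfield F₀ with |F| = |F₀|^r, r prime; (12) for q odd, the group of similarities of any non-degenerate quadratic form on F^12 (either sign); (13) the group of similarities of any non-degenerate symplectic form on F^12; (14) the group of similarities of any non-degenerate unitary form on F^12 (these exist exactly when q is a square). -/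
theorem result {F : Type*} [Field F] [Fintype F] :
    (∀ W : Submodule F (Fin 12 → F), W ≠ ⊥ → W ≠ ⊤ → Cfsg.Geo.IsMaximalIn (Cfsg.Geo.specialLinear (Fin 12) F) (Cfsg.Geo.subspaceStabilizer W ⊓ Cfsg.Geo.specialLinear (Fin 12) F)) ∧
    (5 ≤ Fintype.card F → ∀ D : Fin 12 → Submodule F (Fin 12 → F), Cfsg.Geo.IsMDecomposition 1 D → Cfsg.Geo.IsMaximalIn (Cfsg.Geo.specialLinear (Fin 12) F) (Cfsg.Geo.decompositionStabilizer D ⊓ Cfsg.Geo.specialLinear (Fin 12) F)) ∧
    (3 ≤ Fintype.card F → ∀ D : Fin 6 → Submodule F (Fin 12 → F), Cfsg.Geo.IsMDecomposition 2 D → Cfsg.Geo.IsMaximalIn (Cfsg.Geo.specialLinear (Fin 12) F) (Cfsg.Geo.decompositionStabilizer D ⊓ Cfsg.Geo.specialLinear (Fin 12) F)) ∧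
    (∀ D : Fin 4 → Submodule F (Fin 12 → F), Cfsg.Geo.IsMDecomposition 3 D → Cfsg.Geo.IsMaximalIn (Cfsg.Geo.specialLinear (Fin 12) F) (Cfsg.Geo.decompositionStabilizer D ⊓ Cfsg.Geo.specialLinear (Fin 12) F)) ∧
    (∀ D : Fin 3 → Submodule F (Fin 12 → F), Cfsg.Geo.IsMDecomposition 4 D → Cfsg.Geo.IsMaximalIn (Cfsg.Geo.specialLinear (Fin 12) F) (Cfsg.Geo.decompositionStabilizer D ⊓ Cfsg.Geo.specialLinear (Fin 12) F)) ∧
    (∀ D : Fin 2 → Submodule F (Fin 12 → F), Cfsg.Geo.IsMDecomposition 6 D → Cfsg.Geo.IsMaximalIn (Cfsg.Geo.specialLinear (Fin 12) F) (Cfsg.Geo.decompositionStabilizer D ⊓ Cfsg.Geo.specialLinear (Fin 12) F)) ∧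
    (∀ K : Subalgebra F (Matrix (Fin 12) (Fin 12) F), Cfsg.Geo.IsFieldSubalgebra 2 K → Cfsg.Geo.IsMaximalIn (Cfsg.Geo.specialLinear (Fin 12) F) (Cfsg.Geo.subalgebraNormalizer K ⊓ Cfsg.Geo.specialLinear (Fin 12) F)) ∧
    (∀ K : Subalgebra F (Matrix (Fin 12) (Fin 12) F), Cfsg.Geo.IsFieldSubalgebra 3 K → Cfsg.Geo.IsMaximalIn (Cfsg.Geo.specialLinear (Fin 12) F) (Cfsg.Geo.subalgebraNormalizer K ⊓ Cfsg.Geo.specialLinear (Fin 12) F)) ∧
    (3 ≤ Fintype.card F → ∀ (e : Fin 12 ≃ Fin 2 × Fin 6) (P : Matrix.GeneralLinearGroup (Fin 12) F), Cfsg.Geo.IsMaximalIn (Cfsg.Geo.specialLinear (Fin 12) F) (Cfsg.Geo.tensorProductSubgroup 2 6 e P ⊓ Cfsg.Geo.specialLinear (Fin 12) F)) ∧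
    (∀ (e : Fin 12 ≃ Fin 3 × Fin 4) (P : Matrix.GeneralLinearGroup (Fin 12) F), Cfsg.Geo.IsMaximalIn (Cfsg.Geo.specialLinear (Fin 12) F) (Cfsg.Geo.tensorProductSubgroup 3 4 e P ⊓ Cfsg.Geo.specialLinear (Fin 12) F)) ∧
    (∀ (F₀ : Subfield F) (r : ℕ) (P : Matrix.GeneralLinearGroup (Fin 12) F), r.Prime → Fintype.card F = Nat.card F₀ ^ r → Cfsg.Geo.IsMaximalIn (Cfsg.Geo.specialLinear (Fin 12) F) (Cfsg.Geo.subfieldSubgroup F₀ P ⊓ Cfsg.Geo.specialLinear (Fin 12) F)) ∧
    (Odd (Fintype.card F) → ∀ Q : (Fin 12 → F) → F, Cfsg.Geo.IsNondegenerateQuadraticForm Q → Cfsg.Geo.IsMaximalIn (Cfsg.Geo.specialLinear (Fin 12) F) (Cfsg.Geo.quadSimilarityGroup Q ⊓ Cfsg.Geo.specialLinear (Fin 12) F)) ∧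
    (∀ f : (Fin 12 → F) → (Fin 12 → F) → F, Cfsg.Geo.IsSymplecticForm f → Cfsg.Geo.IsMaximalIn (Cfsg.Geo.specialLinear (Fin 12) F) (Cfsg.Geo.similarityGroup f ⊓ Cfsg.Geo.specialLinear (Fin 12) F)) ∧
    (∀ (σ : F ≃+* F) (f : (Fin 12 → F) → (Fin 12 → F) → F), Cfsg.Geo.IsUnitaryForm σ f → Cfsg.Geo.IsMaximalIn (Cfsg.Geo.specialLinear (Fin 12) F) (Cfsg.Geo.similarityGroup f ⊓ Cfsg.Geo.specialLinear (Fin 12) F)) := by
  open CfsgLib.Geo in
  exact ⟨fun W h0 h1 => subspace_maximal h0 h1,
    fun hq D hD => SLSmall.decomposition_maximal (by norm_num) hD (fun _ => hq) (by norm_num),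
    fun hq D hD => SLSmall.decomposition_maximal (by norm_num) hD (by norm_num) (fun _ => hq),
    fun D hD => SLSmall.decomposition_maximal (by norm_num) hD (by norm_num) (by norm_num),
    fun D hD => SLSmall.decomposition_maximal (by norm_num) hD (by norm_num) (by norm_num),
    fun D hD => SLSmall.decomposition_maximal (by norm_num) hD (by norm_num) (by norm_num),
    fun K hK => SLSmall.fieldExtension_maximal Nat.prime_two (by norm_num) (by norm_num) K hK,
    fun K hK => SLSmall.fieldExtension_maximal Nat.prime_three (by norm_num) (by norm_num) K hK,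
    fun hq e P => Tensor.tensorProductSubgroup_maximal (by norm_num) (by norm_num)
      (fun h => by rw [Nat.card_eq_fintype_card] at h; omega) e P,
    fun e P => Tensor.tensorProductSubgroup_maximal (by norm_num) (by norm_num)
      (fun h => by omega) e P,
    fun F₀ r P hr hc => SLSmall.subfield_maximal (by norm_num) F₀ P hr hc,
    fun ho Q hQ => SLSmall.quadratic_maximal (by norm_num) ho hQ,
    fun f hf => SLSmall.symplectic_maximal (by norm_num) hf,
    fun σ f hf => SLSmall.unitary_maximal (by norm_num) hf⟩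

end Cfsg.Agent.S5861
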