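import Cfsg.Statements.S5871
import Cfsg.Agent.Aschbacher.Form.OrthTwelveCases
import Cfsg.Agent.Aschbacher.General.Maximal
import Cfsg.Agent.Geo.OrthTensorNonMax
import Cfsg.Agent.Geo.OrthDecompNonMax
-- import your own Cfsg.Agent.* helpers here

set_option autoImplicit false
open Cfsg

namespace Cfsg.Agent.S5871

open CfsgLib.Aschbacher Matrix

/-- Every maximal subgroup of Ω_12^+(q) is of one of the listed geometric types or lies in the residual class. Let F be a finite field with q elements (characteristic p), Q a non-degenerate quadratic form on F^12 of plus type (Witt index 6: some totally singular 6-space), Ω the commutator subgroup of its isometry group, and H a maximal subgroup of Ω (inside GL_12(F)). Then H is the intersection with Ω of one of: the stabiliser of a non-zero totally singular subspace of dimension ≠ 5; for q odd, the stabiliser of a non-degenerate subspace of odd dimension;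 the stabiliser of a non-degenerate 2-space of minus type; for q ≥ 4, the stabiliser of a non-degenerate 2-space of plus type; the stabiliser of a non-degenerate 4-space; for q even, the stabiliser of the span of a non-singular vector; for q = p an odd prime, the stabiliser of a decomposition into 12 pairwise orthogonal, pairwise isometric non-degenerate 1-spaces; for q ≥ 7, the stabiliser of a decomposition into 6 pairwise orthogonal, pairwise isometric non-degenerate 2-spaces of plus type; for q ≠ 3, the stabiliser of a decomposition into 6 pairwise orthogonal, pairwise isometric non-degenerate 2-spaces of minus type; for q odd with q ≥ 5, the stabiliser of a decomposition into 4 pairwise orthogonal, pairwise isometric non-degenerate 3-spaces; for q ≥ 3, the stabiliser of a decomposition into 3 pairwise orthogonal, pairwise isometric non-degenerate 4-spaces; the stabiliser of a decomposition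 into 2 pairwise orthogonal, pairwise isometric non-degenerate 6-spaces; of a decomposition into two totally singular 6-spaces; the normaliser of a degree-2 subfield of the matrix algebra; the normaliser of a degree-3 subfield of the matrix algebra; the normaliser of a degree-2 subfield K, adjoint-closed but not self-adjoint, acting by similarities of Q; for q ≥ 3, the stabiliser of a tensor decomposition of Q into alternating forms on F^2 and F^6 (Q vanishing on pure tensors); a subfield group (|F| = |F₀|^r, r prime) whose F₀-structure carries a non-zero multiple of Q — or else H lies in the residual class of the orthogonal case (modulo scalars H is almost simple, with absolutely irreducible perfect socle preimage realisable over no proper subfield and fixing no non-degenerate unitary form). -/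
theorem result {F : Type*} [Field F] [Fintype F] (Q : (Fin 12 → F) → F) (hQ : Cfsg.Geo.IsNondegenerateQuadraticForm Q) (hplus : Cfsg.Geo.IsPlusTypeOn Q ⊤) (H : Subgroup (Matrix.GeneralLinearGroup (Fin 12) F)) (hH : Cfsg.Geo.IsMaximalIn (Cfsg.Geo.omegaGL Q) H) :
    (∃ W : Submodule F (Fin 12 → F), W ≠ ⊥ ∧ Cfsg.Geo.IsTotallySingularQuad Q W ∧ Module.finrank F W ≠ 5 ∧ H = Cfsg.Geo.subspaceStabilizer W ⊓ Cfsg.Geo.omegaGL Q) ∨
    (Odd (Fintype.card F) ∧ ∃ W : Submodule F (Fin 12 → F), W ≠ ⊥ ∧ W ≠ ⊤ ∧ Odd (Module.finrank F W) ∧ 2 * Module.finrank F W ≠ 12 ∧ Cfsg.Geo.IsNondegenerateOn (QuadraticMap.polar Q) W ∧ H = Cfsg.Geo.subspaceStabilizer W ⊓ Cfsg.Geo.omegaGL Q) ∨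
    (∃ W : Submodule F (Fin 12 → F), Module.finrank F W = 2 ∧ Cfsg.Geo.IsNondegenerateOn (QuadraticMap.polar Q) W ∧ ¬ Cfsg.Geo.IsPlusTypeOn Q W ∧ H = Cfsg.Geo.subspaceStabilizer W ⊓ Cfsg.Geo.omegaGL Q) ∨
    (4 ≤ Fintype.card F ∧ ∃ W : Submodule F (Fin 12 → F), Module.finrank F W = 2 ∧ Cfsg.Geo.IsNondegenerateOn (QuadraticMap.polar Q) W ∧ Cfsg.Geo.IsPlusTypeOn Q W ∧ H = Cfsg.Geo.subspaceStabilizer W ⊓ Cfsg.Geo.omegaGL Q) ∨
    (∃ W : Submodule F (Fin 12 → F), Module.finrank F W = 4 ∧ Cfsg.Geo.IsNondegenerateOn (QuadraticMap.polar Q) W ∧ H = Cfsg.Geo.subspaceStabilizer W ⊓ Cfsg.Geo.omegaGL Q) ∨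
    (¬ Odd (Fintype.card F) ∧ ∃ v : (Fin 12 → F), Q v ≠ 0 ∧ H = Cfsg.Geo.subspaceStabilizer (Submodule.span F {v}) ⊓ Cfsg.Geo.omegaGL Q) ∨
    ((∃ p : ℕ, p.Prime ∧ Odd p ∧ Fintype.card F = p) ∧ ∃ D : Fin 12 → Submodule F (Fin 12 → F), Cfsg.Geo.IsOrthogonalMDecomposition Q 1 D ∧ H = Cfsg.Geo.decompositionStabilizer D ⊓ Cfsg.Geo.omegaGL Q) ∨
    (7 ≤ Fintype.card F ∧ ∃ D : Fin 6 → Submodule F (Fin 12 → F), Cfsg.Geo.IsOrthogonalMDecomposition Q 2 D ∧ (∀ i, Cfsg.Geo.IsPlusTypeOn Q (D i)) ∧ H = Cfsg.Geo.decompositionStabilizer D ⊓ Cfsg.Geo.omegaGL Q) ∨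
    (Fintype.card F ≠ 3 ∧ ∃ D : Fin 6 → Submodule F (Fin 12 → F), Cfsg.Geo.IsOrthogonalMDecomposition Q 2 D ∧ (∀ i, ¬ Cfsg.Geo.IsPlusTypeOn Q (D i)) ∧ H = Cfsg.Geo.decompositionStabilizer D ⊓ Cfsg.Geo.omegaGL Q) ∨
    (Odd (Fintype.card F) ∧ 5 ≤ Fintype.card F ∧ ∃ D : Fin 4 → Submodule F (Fin 12 → F), Cfsg.Geo.IsOrthogonalMDecomposition Q 3 D ∧ H = Cfsg.Geo.decompositionStabilizer D ⊓ Cfsg.Geo.omegaGL Q) ∨
    (3 ≤ Fintype.card F ∧ ∃ D : Fin 3 → Submodule F (Fin 12 → F), Cfsg.Geo.IsOrthogonalMDecomposition Q 4 D ∧ H = Cfsg.Geo.decompositionStabilizer D ⊓ Cfsg.Geo.omegaGL Q) ∨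
    (∃ D : Fin 2 → Submodule F (Fin 12 → F), Cfsg.Geo.IsOrthogonalMDecomposition Q 6 D ∧ H = Cfsg.Geo.decompositionStabilizer D ⊓ Cfsg.Geo.omegaGL Q) ∨
    (∃ D : Fin 2 → Submodule F (Fin 12 → F), Cfsg.Geo.IsMDecomposition 6 D ∧ (∀ i, Cfsg.Geo.IsTotallySingularQuad Q (D i)) ∧ H = Cfsg.Geo.decompositionStabilizer D ⊓ Cfsg.Geo.omegaGL Q) ∨
    (∃ K : Subalgebra F (Matrix (Fin 12) (Fin 12) F), Cfsg.Geo.IsFieldSubalgebra 2 K ∧ H = Cfsg.Geo.subalgebraNormalizer K ⊓ Cfsg.Geo.omegaGL Q) ∨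
    (∃ K : Subalgebra F (Matrix (Fin 12) (Fin 12) F), Cfsg.Geo.IsFieldSubalgebra 3 K ∧ H = Cfsg.Geo.subalgebraNormalizer K ⊓ Cfsg.Geo.omegaGL Q) ∨
    (∃ K : Subalgebra F (Matrix (Fin 12) (Fin 12) F), Cfsg.Geo.IsFieldSubalgebra 2 K ∧ Cfsg.Geo.IsAdjointClosedFor (QuadraticMap.polar Q) K ∧ ¬ Cfsg.Geo.IsSelfAdjointFor (QuadraticMap.polar Q) K ∧ (∀ k ∈ K, ∃ c : F, ∀ v : (Fin 12 → F), Q (Matrix.mulVec k v) = c * Q v) ∧ H = Cfsg.Geo.subalgebraNormalizer K ⊓ Cfsg.Geo.omegaGL Q) ∨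
    (3 ≤ Fintype.card F ∧ ∃ (e : Fin 12 ≃ Fin 2 × Fin 6) (P : Matrix.GeneralLinearGroup (Fin 12) F) (f₁ : (Fin 2 → F) → (Fin 2 → F) → F) (f₂ : (Fin 6 → F) → (Fin 6 → F) → F), Cfsg.Geo.IsSymplecticForm f₁ ∧ Cfsg.Geo.IsSymplecticForm f₂ ∧ Cfsg.Geo.IsTensorFormStructure id (QuadraticMap.polar Q) f₁ f₂ e P ∧ (∀ (x₁ : Fin 2 → F) (x₂ : Fin 6 → F), Q (Matrix.mulVec (P : Matrix (Fin 12) (Fin 12) F) ((fun a : Fin 2 × Fin 6 => x₁ a.1 * x₂ a.2) ∘ e)) = 0) ∧ H = Cfsg.Geo.tensorProductSubgroup 2 6 e P ⊓ Cfsg.Geo.omegaGL Q) ∨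
    (∃ (F₀ : Subfield F) (r : ℕ) (P : Matrix.GeneralLinearGroup (Fin 12) F) (ζ : F), r.Prime ∧ Fintype.card F = Nat.card F₀ ^ r ∧ ζ ≠ 0 ∧ Cfsg.Geo.IsQuadFormRationalStructure (fun v : Fin 12 → F => ζ * Q v) F₀ P ∧ H = Cfsg.Geo.subfieldSubgroup F₀ P ⊓ Cfsg.Geo.omegaGL Q) ∨
    Cfsg.Geo.InOrthogonalResidualClass H := by
  classical
  have h12 : Fintype.card (Fin 12) = 12 := Fintype.card_fin 12
  have hn : 5 ≤ Fintype.card (Fin 12) := by omega
  have hfixQ : ∀ g ∈ H, ∀ v, Q ((g : Matrix (Fin 12) (Fin 12) F) *ᵥ v) = Q v := fun g hg v =>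
    (Subgroup.map_subtype_le _ (hH.1.le hg) : g ∈ isometryGroup F Q) v v
  have hdet : ∀ g ∈ H, (g : Matrix (Fin 12) (Fin 12) F).det = 1 := fun g hg =>
    OE.det_one_of_commutator hQ hn (hH.1.le hg)
  obtain ⟨Q', hQc, hQ'⟩ := CfsgLib.Geo.OS.exists_quadraticForm hQ
  have hd : Module.finrank F (Fin 12 → F) = 12 := Module.finrank_fin_fun F
  have nonmax : ∀ {M : Subgroup (GL (Fin 12) F)}, H = M ⊓ Geo.omegaGL Q →
      (∃ K : Subgroup (GL (Fin 12) F), M ⊓ Geo.omegaGL ⇑Q' < K ∧ K < Geo.omegaGL ⇑Q') → False := by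
    rintro M he ⟨K, h1, h2⟩
    rw [hQc, ← he] at h1
    rw [hQc] at h2
    rcases hH.2 K h1.le h2.le with h | h
    · exact h1.ne h.symm
    · exact h2.ne h
  have hne : ∀ {W : Submodule F (Fin 12 → F)} (k : ℕ), Module.finrank F W = k → 0 < k → k < 12 → W ≠ ⊥ ∧ W ≠ ⊤ := by
    intro W k hk h0 h1
    refine ⟨fun h => ?_, fun h => ?_⟩
    · rw [h, finrank_bot] at hk; omega
    · rw [h, finrank_top, hd] at hk; omega
  have hodd12 : ∀ {k : ℕ}, Odd k → 2 * k ≠ 12 := fun ⟨j, hj⟩ => by omega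
  have hodd3 : Odd (Fintype.card F) → ¬ 5 ≤ Fintype.card F → Fintype.card F = 3 := fun ⟨j, hj⟩ h => by
    have := Fintype.one_lt_card (α := F)
    omega
  have sub : ∀ {W : Submodule F (Fin 12 → F)}, W ≠ ⊥ → W ≠ ⊤ → H ≤ Geo.subspaceStabilizer W →
      H = Geo.subspaceStabilizer W ⊓ Geo.omegaGL Q :=
    fun h0 h1 h => eq_inf_of_le hH h (OE.not_le_subspace hQ hn h0 h1)
  have dec : ∀ {t m : ℕ} {D : Fin t → Submodule F (Fin 12 → F)},
      Geo.IsNondegenerateMDecomposition (QuadraticMap.polar Q) m D → H ≤ Geo.decompositionStabilizer D →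
      H = Geo.decompositionStabilizer D ⊓ Geo.omegaGL Q :=
    fun hD h => eq_inf_of_le hH h (OE.not_le_decomposition hQ hn hD)
  rcases OE.twelve_structure hQ h12 hfixQ with
    ⟨W, h0, hW, h⟩ | ⟨hq, W, h0, h1, hod, hW, h⟩ | ⟨W, hd', hW, hp, h⟩ | ⟨hq, W, hd', hW, hp, h⟩ | ⟨W, hd', hW, h⟩ |
    ⟨W, hd', hW, h⟩ | ⟨hq, v, hv, h⟩ | ⟨hq, hpr, D, hD, h⟩ | ⟨D, hD, h⟩ | ⟨hq, D, hD, h⟩ | ⟨D, hD, h⟩ | ⟨D, hD, h⟩ |
    ⟨D, hD, hts, h⟩ | ⟨K, hK, h⟩ | ⟨K, hK, h⟩ | hpair | ⟨hq, e, P, B, C, hB, hC, hT⟩ |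
    ⟨F₀, r, P, ζ, hr, hc, hζ, hP, h⟩ | h
  · have h1 : W ≠ ⊤ := by
      rintro rfl
      obtain ⟨w, hw⟩ : ∃ w : Fin 12 → F, w ≠ 0 := exists_ne 0
      obtain ⟨u, hu⟩ := hQ.nondegenerate w hw
      simp [QuadraticMap.polar, hW _ Submodule.mem_top] at hu
    obtain ⟨T₀, -, hT₀, hT₀d⟩ := hplus
    rw [finrank_top, hd] at hT₀d
    refine Or.inl ⟨W, h0, hW, fun h5 => ?_, sub h0 h1 h⟩
    have hlag : CfsgLib.Geo.OS.IsLag Q' T₀ := ⟨hQc.symm ▸ hT₀, by omega⟩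
    obtain ⟨T, hWT, hT⟩ := CfsgLib.Geo.OS.exists_lag_above hQ' (hQc.symm ▸ hW) hlag (by omega)
    have := hT.2
    exact nonmax (sub h0 h1 h) (CfsgLib.Geo.OS.almost_lag_nonmax hQ' (by omega) hWT hT (by omega))
  · exact Or.inr (Or.inl (⟨hq, W, h0, h1, hod, hodd12 hod, hW, sub h0 h1 h⟩))
  · obtain ⟨h0, h1⟩ := hne 2 hd' (by omega) (by omega)
    exact Or.inr (Or.inr (Or.inl (⟨W, hd', hW, hp, sub h0 h1 h⟩)))
  · obtain ⟨h0, h1⟩ := hne 2 hd' (by omega) (by omega)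
    exact Or.inr (Or.inr (Or.inr (Or.inl (⟨hq, W, hd', hW, hp, sub h0 h1 h⟩))))
  · obtain ⟨h0, h1⟩ := hne 4 hd' (by omega) (by omega)
    exact Or.inr (Or.inr (Or.inr (Or.inr (Or.inl (⟨W, hd', hW, sub h0 h1 h⟩)))))
  · obtain ⟨D, hD, hG⟩ := OE.six_to_decomposition hQ h12 hplus hfixQ hd' hW h
    exact Or.inr (Or.inr (Or.inr (Or.inr (Or.inr (Or.inr (Or.inr (Or.inr (Or.inr (Or.inr (Or.inr (Or.inl (⟨D, hD, dec hD.decomp hG⟩))))))))))))
  · have hv0 : v ≠ 0 := by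
      rintro rfl
      exact hv (by simpa using hQ.smul 0 0)
    obtain ⟨h0, h1⟩ := hne 1 (finrank_span_singleton hv0) (by omega) (by omega)
    exact Or.inr (Or.inr (Or.inr (Or.inr (Or.inr (Or.inl (⟨hq, v, hv, sub h0 h1 h⟩))))))
  · exact Or.inr (Or.inr (Or.inr (Or.inr (Or.inr (Or.inr (Or.inl (⟨⟨_, hpr, hq, rfl⟩, D, hD, dec hD.decomp h⟩)))))))
  · have hD' : Geo.IsOrthogonalMDecomposition ⇑Q' 2 D := hQc.symm ▸ hD
    by_cases hp : Geo.IsPlusTypeOn Q (D 0)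
    · have hall : ∀ i, Geo.IsPlusTypeOn Q (D i) := fun i => OE.plus_of_isometric (hD.isometric 0 i) hp
      refine Or.inr (Or.inr (Or.inr (Or.inr (Or.inr (Or.inr (Or.inr (Or.inl (⟨?_, D, hD, hall, dec hD.decomp h⟩))))))))
      by_contra h7
      have hq1 := Fintype.one_lt_card (α := F)
      have hq6 : Fintype.card F ≠ 6 := fun h6 => by
        obtain ⟨p, hchar⟩ := CharP.exists F
        obtain ⟨k, hp, hk⟩ := FiniteField.card F p
        rw [h6] at hk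
        have h2 := (Nat.prime_dvd_prime_iff_eq Nat.prime_two hp).mp (Nat.prime_two.dvd_of_dvd_pow (hk ▸ (by norm_num : 2 ∣ 6)))
        have h3 := (Nat.prime_dvd_prime_iff_eq Nat.prime_three hp).mp (Nat.prime_three.dvd_of_dvd_pow (hk ▸ (by norm_num : 3 ∣ 6)))
        omega
      have hc : Fintype.card F = 2 ∨ Fintype.card F = 3 ∨ Fintype.card F = 4 ∨ Fintype.card F = 5 := by omega
      rw [← Nat.card_eq_fintype_card] at hc
      have hpl : ∀ i, Geo.IsPlusTypeOn ⇑Q' (D i) := hQc.symm ▸ hall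
      refine nonmax (dec hD.decomp h) ?_
      rcases hc with h' | h' | h' | h'
      · exact CfsgLib.Geo.OS.even_decomp_nonmax hQ' (by omega) hD' hpl (Or.inl ⟨by omega, rfl, Or.inl h'⟩)
      · exact CfsgLib.Geo.OS.odd_decomp_nonmax hQ' (by omega) (by omega) hD' (Or.inl ⟨h', Or.inl rfl⟩)
      · exact CfsgLib.Geo.OS.even_decomp_nonmax hQ' (by omega) hD' hpl (Or.inl ⟨by omega, rfl, Or.inr h'⟩)
      · exact CfsgLib.Geo.OS.odd_decomp_nonmax hQ' (by omega) (by omega) hD' (Or.inr ⟨h', rfl, hpl⟩)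
    · refine Or.inr (Or.inr (Or.inr (Or.inr (Or.inr (Or.inr (Or.inr (Or.inr (Or.inl (⟨?_, D, hD, fun i hi => hp (OE.plus_of_isometric (hD.isometric i 0) hi), dec hD.decomp h⟩)))))))))
      intro h3
      exact nonmax (dec hD.decomp h) (CfsgLib.Geo.OS.odd_decomp_nonmax hQ' (by omega) (by omega) hD'
        (Or.inl ⟨by rw [Nat.card_eq_fintype_card, h3], Or.inl rfl⟩))
  · refine Or.inr (Or.inr (Or.inr (Or.inr (Or.inr (Or.inr (Or.inr (Or.inr (Or.inr (Or.inl (⟨hq, ?_, D, hD, dec hD.decomp h⟩))))))))))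
    by_contra h5
    have hD' : Geo.IsOrthogonalMDecomposition ⇑Q' 3 D := hQc.symm ▸ hD
    exact nonmax (dec hD.decomp h) (CfsgLib.Geo.OS.odd_decomp_nonmax hQ' (by omega) (by omega) hD'
      (Or.inl ⟨by rw [Nat.card_eq_fintype_card, hodd3 hq h5], Or.inr rfl⟩))
  · refine Or.inr (Or.inr (Or.inr (Or.inr (Or.inr (Or.inr (Or.inr (Or.inr (Or.inr (Or.inr (Or.inl (⟨?_, D, hD, dec hD.decomp h⟩)))))))))))
    by_contra h3
    have hq1 := Fintype.one_lt_card (α := F)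
    have hD' : Geo.IsOrthogonalMDecomposition ⇑Q' 4 D := hQc.symm ▸ hD
    exact nonmax (dec hD.decomp h) (CfsgLib.Geo.OS.even_decomp_nonmax hQ' (by omega) hD'
      (hQc.symm ▸ OE.fours_plus hQ h12 hplus hD) (Or.inr ⟨rfl, by rw [Nat.card_eq_fintype_card]; omega⟩))
  · exact Or.inr (Or.inr (Or.inr (Or.inr (Or.inr (Or.inr (Or.inr (Or.inr (Or.inr (Or.inr (Or.inr (Or.inl (⟨D, hD, dec hD.decomp h⟩))))))))))))
  · exact Or.inr (Or.inr (Or.inr (Or.inr (Or.inr (Or.inr (Or.inr (Or.inr (Or.inr (Or.inr (Or.inr (Or.inr (Or.inl (⟨D, hD, hts, eq_inf_of_le hH h (OE.not_le_pair hQ hn hD)⟩)))))))))))))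
  · exact Or.inr (Or.inr (Or.inr (Or.inr (Or.inr (Or.inr (Or.inr (Or.inr (Or.inr (Or.inr (Or.inr (Or.inr (Or.inr (Or.inl (⟨K, hK, eq_inf_of_le hH h (OE.not_le_field hQ hn le_rfl hK)⟩))))))))))))))
  · exact Or.inr (Or.inr (Or.inr (Or.inr (Or.inr (Or.inr (Or.inr (Or.inr (Or.inr (Or.inr (Or.inr (Or.inr (Or.inr (Or.inr (Or.inl (⟨K, hK, eq_inf_of_le hH h (OE.not_le_field hQ hn (by omega) hK)⟩)))))))))))))))
  · obtain ⟨e, P, f₁, f₂, hf₁, hf₂, hst, hpure, h⟩ := hpair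
    by_cases h3 : 3 ≤ Fintype.card F
    · exact Or.inr (Or.inr (Or.inr (Or.inr (Or.inr (Or.inr (Or.inr (Or.inr (Or.inr (Or.inr (Or.inr (Or.inr (Or.inr (Or.inr (Or.inr (Or.inr (Or.inl (⟨h3, e, P, f₁, f₂, hf₁, hf₂, hst, hpure, eq_inf_of_le hH h (OE.not_le_tensor hQ hn (by omega) (by omega) (by omega) e P)⟩)))))))))))))))))
    have hq1 := Fintype.one_lt_card (α := F)
    obtain ⟨K, hK, hKG⟩ := OE.field_of_tensor_two (by omega) (by omega) e P h
    exact Or.inr (Or.inr (Or.inr (Or.inr (Or.inr (Or.inr (Or.inr (Or.inr (Or.inr (Or.inr (Or.inr (Or.inr (Or.inr (Or.inl (⟨K, hK, eq_inf_of_le hH hKG (OE.not_le_field hQ hn le_rfl hK)⟩))))))))))))))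
  · have h2 : (2 : F) ≠ 0 := odd_card_iff_two_ne_zero.mp hq
    obtain ⟨e', P', B', C', hB', hC', hT'⟩ := OE.plus_tensor_refine hQ h2 hfixQ hdet hT hB hC
      (OE.factor_plus hQ h2 h12 hplus hT hC)
    obtain ⟨e'', P'', f₁, f₂, hf₁, hf₂, hst, hpure, h⟩ := OE.pair_of_skew hQ h2 hT' hB' hC'
    have h3 : 3 ≤ Fintype.card F := by
      have := Fintype.one_lt_card (α := F)
      obtain ⟨j, hj⟩ := hq
      omega
    exact Or.inr (Or.inr (Or.inr (Or.inr (Or.inr (Or.inr (Or.inr (Or.inr (Or.inr (Or.inr (Or.inr (Or.inr (Or.inr (Or.inr (Or.inr (Or.inr (Or.inl (⟨h3, e'', P'', f₁, f₂, hf₁, hf₂, hst, hpure, eq_inf_of_le hH h (OE.not_le_tensor hQ hn (by omega) (by omega) (by omega) e'' P'')⟩)))))))))))))))))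
  · exact Or.inr (Or.inr (Or.inr (Or.inr (Or.inr (Or.inr (Or.inr (Or.inr (Or.inr (Or.inr (Or.inr (Or.inr (Or.inr (Or.inr (Or.inr (Or.inr (Or.inr (Or.inl (⟨F₀, r, P, ζ, hr, hc, hζ, hP, eq_inf_of_le hH h (OE.not_le_subfield hQ hn (subfield_ne_top hr hc) P)⟩))))))))))))))))))
  · exact Or.inr (Or.inr (Or.inr (Or.inr (Or.inr (Or.inr (Or.inr (Or.inr (Or.inr (Or.inr (Or.inr (Or.inr (Or.inr (Or.inr (Or.inr (Or.inr (Or.inr (Or.inr (h))))))))))))))))))

end Cfsg.Agent.S5871
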