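import Cfsg.Statements.S5873
import Cfsg.Agent.Geo.OrthTwelve
import Cfsg.Agent.Geo.OrthDec2.Main
import Cfsg.Agent.Geo.TensorOO.Bridge

set_option autoImplicit false
open Cfsg

namespace Cfsg.Agent.S5873

/-- Maximal subgroups of Ω_12^-(q) of geometric type (any q). Let F be a finite field with q elements (characteristic p), Q a non-degenerate quadratic form on F^12 (non-degenerate polar form) of minus type (Witt index 5: no totally singular 6-space), and Ω = Ω_12^-(q) the commutator subgroup of the isometry group of Q, inside GL_12(F). Each of the following, intersected with Ω, is a maximal subgroup of Ω: (1) the stabiliser of any non-zero subspace on which Q vanishes identically (totally singular subspaces, dimensions 1 to 5); (2) for q odd, the stabiliser of any subspace of odd dimension on which the polar form of Q is non-degenerate; (3) the stabiliser of any non-degenerate 2-space of minus type (containing no non-zero singular vector);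 (4) for q ≥ 4, the stabiliser of any non-degenerate 2-space of plus type (containing a non-zero singular vector); (5) the stabiliser of any non-degenerate 4-space (either type); (6) the stabiliser of any non-degenerate 6-space (either type); (7) for q even, the stabiliser of the 1-space spanned by any non-singular vector v (Q(v) ≠ 0); (8) the stabiliser of any decomposition of F^12 into 3 pairwise orthogonal, pairwise Q-isometric non-degenerate 4-spaces of minus type; (9) for q odd, the normaliser of any degree-2 subfield K of the matrix algebra whose elements are self-adjoint for the polar form of Q (Q is then the trace of a quadratic form over K); (10) for q odd, the normaliser of any degree-3 subfield K of the matrix algebra whose elements are self-adjoint for the polar form of Q (Q is then the trace of a quadratic form over K); (11) for q odd with q ≥ 5, the stabiliser of any tensor decomposition F^12 = F^3 ⊗ F^4 in which the polar form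 of Q is the product of non-degenerate symmetric bilinear forms, the second of minus type, up to a scalar; (12) every subfield group for a subfield F₀ with |F| = |F₀|^r, r an odd prime, whose F₀-structure carries a non-zero scalar multiple of Q. -/
theorem result {F : Type*} [Field F] [Fintype F] (Q : (Fin 12 → F) → F) (hQ : Cfsg.Geo.IsNondegenerateQuadraticForm Q) (hminus : ¬ Cfsg.Geo.IsPlusTypeOn Q ⊤) :
    (∀ W : Submodule F (Fin 12 → F), W ≠ ⊥ → Cfsg.Geo.IsTotallySingularQuad Q W → Cfsg.Geo.IsMaximalIn (Cfsg.Geo.omegaGL Q) (Cfsg.Geo.subspaceStabilizer W ⊓ Cfsg.Geo.omegaGL Q)) ∧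
    (Odd (Fintype.card F) → ∀ W : Submodule F (Fin 12 → F), W ≠ ⊥ → W ≠ ⊤ → Odd (Module.finrank F W) → 2 * Module.finrank F W ≠ 12 → Cfsg.Geo.IsNondegenerateOn (QuadraticMap.polar Q) W → Cfsg.Geo.IsMaximalIn (Cfsg.Geo.omegaGL Q) (Cfsg.Geo.subspaceStabilizer W ⊓ Cfsg.Geo.omegaGL Q)) ∧
    (∀ W : Submodule F (Fin 12 → F), Module.finrank F W = 2 → Cfsg.Geo.IsNondegenerateOn (QuadraticMap.polar Q) W → ¬ Cfsg.Geo.IsPlusTypeOn Q W → Cfsg.Geo.IsMaximalIn (Cfsg.Geo.omegaGL Q) (Cfsg.Geo.subspaceStabilizer W ⊓ Cfsg.Geo.omegaGL Q)) ∧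
    (4 ≤ Fintype.card F → ∀ W : Submodule F (Fin 12 → F), Module.finrank F W = 2 → Cfsg.Geo.IsNondegenerateOn (QuadraticMap.polar Q) W → Cfsg.Geo.IsPlusTypeOn Q W → Cfsg.Geo.IsMaximalIn (Cfsg.Geo.omegaGL Q) (Cfsg.Geo.subspaceStabilizer W ⊓ Cfsg.Geo.omegaGL Q)) ∧
    (∀ W : Submodule F (Fin 12 → F), Module.finrank F W = 4 → Cfsg.Geo.IsNondegenerateOn (QuadraticMap.polar Q) W → Cfsg.Geo.IsMaximalIn (Cfsg.Geo.omegaGL Q) (Cfsg.Geo.subspaceStabilizer W ⊓ Cfsg.Geo.omegaGL Q)) ∧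
    (∀ W : Submodule F (Fin 12 → F), Module.finrank F W = 6 → Cfsg.Geo.IsNondegenerateOn (QuadraticMap.polar Q) W → Cfsg.Geo.IsMaximalIn (Cfsg.Geo.omegaGL Q) (Cfsg.Geo.subspaceStabilizer W ⊓ Cfsg.Geo.omegaGL Q)) ∧
    (¬ Odd (Fintype.card F) → ∀ v : (Fin 12 → F), Q v ≠ 0 → Cfsg.Geo.IsMaximalIn (Cfsg.Geo.omegaGL Q) (Cfsg.Geo.subspaceStabilizer (Submodule.span F {v}) ⊓ Cfsg.Geo.omegaGL Q)) ∧
    (∀ D : Fin 3 → Submodule F (Fin 12 → F), Cfsg.Geo.IsOrthogonalMDecomposition Q 4 D → (∀ i, ¬ Cfsg.Geo.IsPlusTypeOn Q (D i)) → Cfsg.Geo.IsMaximalIn (Cfsg.Geo.omegaGL Q) (Cfsg.Geo.decompositionStabilizer D ⊓ Cfsg.Geo.omegaGL Q)) ∧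
    (Odd (Fintype.card F) → ∀ K : Subalgebra F (Matrix (Fin 12) (Fin 12) F), Cfsg.Geo.IsFieldSubalgebra 2 K → Cfsg.Geo.IsSelfAdjointFor (QuadraticMap.polar Q) K → Cfsg.Geo.IsMaximalIn (Cfsg.Geo.omegaGL Q) (Cfsg.Geo.subalgebraNormalizer K ⊓ Cfsg.Geo.omegaGL Q)) ∧
    (Odd (Fintype.card F) → ∀ K : Subalgebra F (Matrix (Fin 12) (Fin 12) F), Cfsg.Geo.IsFieldSubalgebra 3 K → Cfsg.Geo.IsSelfAdjointFor (QuadraticMap.polar Q) K → Cfsg.Geo.IsMaximalIn (Cfsg.Geo.omegaGL Q) (Cfsg.Geo.subalgebraNormalizer K ⊓ Cfsg.Geo.omegaGL Q)) ∧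
    (Odd (Fintype.card F) ∧ 5 ≤ Fintype.card F → ∀ (e : Fin 12 ≃ Fin 3 × Fin 4) (P : Matrix.GeneralLinearGroup (Fin 12) F) (f₁ : (Fin 3 → F) → (Fin 3 → F) → F) (f₂ : (Fin 4 → F) → (Fin 4 → F) → F), Cfsg.Geo.IsSymmetricForm f₁ → Cfsg.Geo.IsSymmetricForm f₂ → ¬ Cfsg.Geo.IsPlusTypeOn (fun v : Fin 4 → F => f₂ v v) ⊤ → Cfsg.Geo.IsTensorFormStructure id (QuadraticMap.polar Q) f₁ f₂ e P → Cfsg.Geo.IsMaximalIn (Cfsg.Geo.omegaGL Q) (Cfsg.Geo.tensorProductSubgroup 3 4 e P ⊓ Cfsg.Geo.omegaGL Q)) ∧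
    (∀ (F₀ : Subfield F) (r : ℕ) (P : Matrix.GeneralLinearGroup (Fin 12) F) (ζ : F), r.Prime → Odd r → Fintype.card F = Nat.card F₀ ^ r → ζ ≠ 0 → Cfsg.Geo.IsQuadFormRationalStructure (fun v : Fin 12 → F => ζ * Q v) F₀ P → Cfsg.Geo.IsMaximalIn (Cfsg.Geo.omegaGL Q) (Cfsg.Geo.subfieldSubgroup F₀ P ⊓ Cfsg.Geo.omegaGL Q)) := by
  classical
  obtain ⟨Q, rfl, hq⟩ := CfsgLib.Geo.OS.exists_quadraticForm hQ
  have hd : Module.finrank F (Fin 12 → F) = 12 := Module.finrank_fin_fun F
  refine ⟨fun W hW0 hW => ?_, fun hodd W hW0 hW1 ho _ hW => CfsgLib.Geo.OTwelve.odd_clause hq hW0 hW1 ho hW,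
    fun W h2 hW hm => CfsgLib.Geo.OTwelve.plane_clause hq h2 hW (Or.inl hm),
    fun h4 W h2 hW _ => CfsgLib.Geo.OTwelve.plane_clause hq h2 hW (Or.inr h4),
    fun W h4 hW => CfsgLib.Geo.OTwelve.four_clause hq h4 hW,
    fun W h6 hW => ?_,
    fun hc v hv => CfsgLib.Geo.OTwelve.point_clause hq hc hv,
    fun D hD hm => ?_,
    fun hodd K hK hsa => CfsgLib.Geo.OTwelve.field_clause hq hodd (Or.inl rfl) K hK hsa,
    fun hodd K hK hsa => CfsgLib.Geo.OTwelve.field_clause hq hodd (Or.inr rfl) K hK hsa,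
    fun ho e P f₁ f₂ hf₁ hf₂ hf₂m hT => ?_,
    fun F₀ r P ζ hr _ hcard hζ hP => CfsgLib.Geo.OTwelve.subfield_clause hq hr hcard hζ hP⟩
  · refine CfsgLib.Geo.OS.isMaximalIn_omegaGL Q W
      (CfsgLib.Geo.OS.ts_maximal hq (by omega) hW hW0 ?_)
    by_cases hk : 2 * Module.finrank F W + 3 ≤ Module.finrank F (Fin 12 → F)
    · exact Or.inl hk
    right
    intro U hWU hU
    refine (Submodule.eq_of_le_of_finrank_le hWU ?_).symm
    by_contra hcc
    have := CfsgLib.Geo.OTwelve.finrank_ts_le hq hU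
    refine hminus ⟨U, le_top, hU, ?_⟩
    rw [finrank_top]
    omega
  · obtain ⟨h0, h1⟩ := CfsgLib.Geo.OTwelve.ne_bot_top hq (W := W) (by omega) (by omega)
    refine CfsgLib.Geo.OTwelve.nd_clause hq h0 h1 hW (fun h => by omega) (by omega) fun _ g hg => ?_
    obtain ⟨T, hT, hTd⟩ := CfsgLib.Geo.OS.exists_ts_of_swap (CfsgLib.Geo.OS.nd_of_isNondegenerateOn hW)
      (j := 3) (by omega) g hg
    exact hminus ⟨T, le_top, hT, by rw [finrank_top, hTd]; omega⟩
  · exact CfsgLib.Geo.OD2.decomposition_maximal_of_seven (by norm_num) (fun h => absurd h (by decide)) hQ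
      (by norm_num) hD (fun h => absurd h (by decide)) (fun h => absurd h (by decide))
      (fun h => absurd h (by decide)) (fun _ _ hp => hm 0 (hp 0))
  · exact CfsgLib.Geo.TensorOO.tensor_even_maximal ho.1 Q le_rfl (by decide) le_rfl (by decide)
      (fun h => by have := ho.2; omega) e P hf₁ hf₂ (fun _ => hf₂m) hT

end Cfsg.Agent.S5873
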