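import Cfsg.Statements.S5874
import Cfsg.Agent.Aschbacher.Form.OrthTwelveCases
import Cfsg.Agent.Aschbacher.General.Maximal
import Cfsg.Agent.Geo.OrthTensorNonMax
import Cfsg.Agent.Geo.OrthDecompNonMax
-- import your own Cfsg.Agent.* helpers here

set_option autoImplicit false
open Cfsg

namespace Cfsg.Agent.S5874

open CfsgLib.Aschbacher Matrix

/-- Every maximal subgroup of Ω_12^-(q) is of one of the listed geometric types or lies in the residual class. Let F be a finite field with q elements (characteristic p), Q a non-degenerate quadratic form on F^12 of minus type (Witt index 5: no totally singular 6-space), Ω the commutator subgroup of its isometry group, and H a maximal subgroup of Ω (inside GL_12(F)). Then H is the intersection with Ω of one of: the stabiliser of a non-zero totally singular subspace; for q odd, the stabiliser of a non-degenerate subspace of odd dimension; the stabiliser of a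 non-degenerate 2-space of minus type; for q ≥ 4, the stabiliser of a non-degenerate 2-space of plus type; the stabiliser of a non-degenerate 4-space; the stabiliser of a non-degenerate 6-space; for q even, the stabiliser of the span of a non-singular vector; the stabiliser of a decomposition into 3 pairwise orthogonal, pairwise isometric non-degenerate 4-spaces of minus type; the normaliser of a degree-2 subfield of the matrix algebra; the normaliser of a degree-3 subfield of the matrix algebra; for q odd with q ≥ 5, the stabiliser of a tensor decomposition of the polar form into symmetric forms on F^3 and F^4 (minus type); a subfield group (|F| = |F₀|^r, r odd prime) whose F₀-structure carries a non-zero multiple of Q — or else H lies in the residual class of the orthogonal case (modulo scalars H is almost simple, with absolutely irreducible perfect socle preimage realisable over no proper subfield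 and fixing no non-degenerate unitary form). -/
theorem result {F : Type*} [Field F] [Fintype F] (Q : (Fin 12 → F) → F) (hQ : Cfsg.Geo.IsNondegenerateQuadraticForm Q) (hminus : ¬ Cfsg.Geo.IsPlusTypeOn Q ⊤) (H : Subgroup (Matrix.GeneralLinearGroup (Fin 12) F)) (hH : Cfsg.Geo.IsMaximalIn (Cfsg.Geo.omegaGL Q) H) :
    (∃ W : Submodule F (Fin 12 → F), W ≠ ⊥ ∧ Cfsg.Geo.IsTotallySingularQuad Q W ∧ H = Cfsg.Geo.subspaceStabilizer W ⊓ Cfsg.Geo.omegaGL Q) ∨
    (Odd (Fintype.card F) ∧ ∃ W : Submodule F (Fin 12 → F), W ≠ ⊥ ∧ W ≠ ⊤ ∧ Odd (Module.finrank F W) ∧ 2 * Module.finrank F W ≠ 12 ∧ Cfsg.Geo.IsNondegenerateOn (QuadraticMap.polar Q) W ∧ H = Cfsg.Geo.subspaceStabilizer W ⊓ Cfsg.Geo.omegaGL Q) ∨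
    (∃ W : Submodule F (Fin 12 → F), Module.finrank F W = 2 ∧ Cfsg.Geo.IsNondegenerateOn (QuadraticMap.polar Q) W ∧ ¬ Cfsg.Geo.IsPlusTypeOn Q W ∧ H = Cfsg.Geo.subspaceStabilizer W ⊓ Cfsg.Geo.omegaGL Q) ∨
    (4 ≤ Fintype.card F ∧ ∃ W : Submodule F (Fin 12 → F), Module.finrank F W = 2 ∧ Cfsg.Geo.IsNondegenerateOn (QuadraticMap.polar Q) W ∧ Cfsg.Geo.IsPlusTypeOn Q W ∧ H = Cfsg.Geo.subspaceStabilizer W ⊓ Cfsg.Geo.omegaGL Q) ∨
    (∃ W : Submodule F (Fin 12 → F), Module.finrank F W = 4 ∧ Cfsg.Geo.IsNondegenerateOn (QuadraticMap.polar Q) W ∧ H = Cfsg.Geo.subspaceStabilizer W ⊓ Cfsg.Geo.omegaGL Q) ∨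
    (∃ W : Submodule F (Fin 12 → F), Module.finrank F W = 6 ∧ Cfsg.Geo.IsNondegenerateOn (QuadraticMap.polar Q) W ∧ H = Cfsg.Geo.subspaceStabilizer W ⊓ Cfsg.Geo.omegaGL Q) ∨
    (¬ Odd (Fintype.card F) ∧ ∃ v : (Fin 12 → F), Q v ≠ 0 ∧ H = Cfsg.Geo.subspaceStabilizer (Submodule.span F {v}) ⊓ Cfsg.Geo.omegaGL Q) ∨
    (∃ D : Fin 3 → Submodule F (Fin 12 → F), Cfsg.Geo.IsOrthogonalMDecomposition Q 4 D ∧ (∀ i, ¬ Cfsg.Geo.IsPlusTypeOn Q (D i)) ∧ H = Cfsg.Geo.decompositionStabilizer D ⊓ Cfsg.Geo.omegaGL Q) ∨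
    (∃ K : Subalgebra F (Matrix (Fin 12) (Fin 12) F), Cfsg.Geo.IsFieldSubalgebra 2 K ∧ H = Cfsg.Geo.subalgebraNormalizer K ⊓ Cfsg.Geo.omegaGL Q) ∨
    (∃ K : Subalgebra F (Matrix (Fin 12) (Fin 12) F), Cfsg.Geo.IsFieldSubalgebra 3 K ∧ H = Cfsg.Geo.subalgebraNormalizer K ⊓ Cfsg.Geo.omegaGL Q) ∨
    (Odd (Fintype.card F) ∧ 5 ≤ Fintype.card F ∧ ∃ (e : Fin 12 ≃ Fin 3 × Fin 4) (P : Matrix.GeneralLinearGroup (Fin 12) F) (f₁ : (Fin 3 → F) → (Fin 3 → F) → F) (f₂ : (Fin 4 → F) → (Fin 4 → F) → F), Cfsg.Geo.IsSymmetricForm f₁ ∧ Cfsg.Geo.IsSymmetricForm f₂ ∧ ¬ Cfsg.Geo.IsPlusTypeOn (fun v : Fin 4 → F => f₂ v v) ⊤ ∧ Cfsg.Geo.IsTensorFormStructure id (QuadraticMap.polar Q) f₁ f₂ e P ∧ H = Cfsg.Geo.tensorProductSubgroup 3 4 e P ⊓ Cfsg.Geo.omegaGL Q) ∨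
    (∃ (F₀ : Subfield F) (r : ℕ) (P : Matrix.GeneralLinearGroup (Fin 12) F) (ζ : F), r.Prime ∧ Odd r ∧ Fintype.card F = Nat.card F₀ ^ r ∧ ζ ≠ 0 ∧ Cfsg.Geo.IsQuadFormRationalStructure (fun v : Fin 12 → F => ζ * Q v) F₀ P ∧ H = Cfsg.Geo.subfieldSubgroup F₀ P ⊓ Cfsg.Geo.omegaGL Q) ∨
    Cfsg.Geo.InOrthogonalResidualClass H := by
  classical
  have h12 : Fintype.card (Fin 12) = 12 := Fintype.card_fin 12
  have hn : 5 ≤ Fintype.card (Fin 12) := by omega
  have hfixQ : ∀ g ∈ H, ∀ v, Q ((g : Matrix (Fin 12) (Fin 12) F) *ᵥ v) = Q v := fun g hg v =>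
    (Subgroup.map_subtype_le _ (hH.1.le hg) : g ∈ isometryGroup F Q) v v
  have hdet : ∀ g ∈ H, (g : Matrix (Fin 12) (Fin 12) F).det = 1 := fun g hg =>
    OE.det_one_of_commutator hQ hn (hH.1.le hg)
  obtain ⟨Q', hQc, hQ'⟩ := CfsgLib.Geo.OS.exists_quadraticForm hQ
  have hd : Module.finrank F (Fin 12 → F) = 12 := Module.finrank_fin_fun F
  have nonmax : ∀ {M : Subgroup (GL (Fin 12) F)}, H = M ⊓ Geo.omegaGL Q →
      (∃ K : Subgroup (GL (Fin 12) F), M ⊓ Geo.omegaGL ⇑Q' < K ∧ K < Geo.omegaGL ⇑Q') → False := by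
    rintro M he ⟨K, h1, h2⟩
    rw [hQc, ← he] at h1
    rw [hQc] at h2
    rcases hH.2 K h1.le h2.le with h | h
    · exact h1.ne h.symm
    · exact h2.ne h
  have hne : ∀ {W : Submodule F (Fin 12 → F)} (k : ℕ), Module.finrank F W = k → 0 < k → k < 12 → W ≠ ⊥ ∧ W ≠ ⊤ := by
    intro W k hk h0 h1
    refine ⟨fun h => ?_, fun h => ?_⟩
    · rw [h, finrank_bot] at hk; omega
    · rw [h, finrank_top, hd] at hk; omega
  have hodd12 : ∀ {k : ℕ}, Odd k → 2 * k ≠ 12 := fun ⟨j, hj⟩ => by omega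
  have hodd3 : Odd (Fintype.card F) → ¬ 5 ≤ Fintype.card F → Fintype.card F = 3 := fun ⟨j, hj⟩ h => by
    have := Fintype.one_lt_card (α := F)
    omega
  have sub : ∀ {W : Submodule F (Fin 12 → F)}, W ≠ ⊥ → W ≠ ⊤ → H ≤ Geo.subspaceStabilizer W →
      H = Geo.subspaceStabilizer W ⊓ Geo.omegaGL Q :=
    fun h0 h1 h => eq_inf_of_le hH h (OE.not_le_subspace hQ hn h0 h1)
  have dec : ∀ {t m : ℕ} {D : Fin t → Submodule F (Fin 12 → F)},
      Geo.IsNondegenerateMDecomposition (QuadraticMap.polar Q) m D → H ≤ Geo.decompositionStabilizer D →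
      H = Geo.decompositionStabilizer D ⊓ Geo.omegaGL Q :=
    fun hD h => eq_inf_of_le hH h (OE.not_le_decomposition hQ hn hD)
  rcases OE.twelve_structure hQ h12 hfixQ with
    ⟨W, h0, hW, h⟩ | ⟨hq, W, h0, h1, hod, hW, h⟩ | ⟨W, hd', hW, hp, h⟩ | ⟨hq, W, hd', hW, hp, h⟩ | ⟨W, hd', hW, h⟩ |
    ⟨W, hd', hW, h⟩ | ⟨hq, v, hv, h⟩ | ⟨hq, hpr, D, hD, h⟩ | ⟨D, hD, h⟩ | ⟨hq, D, hD, h⟩ | ⟨D, hD, h⟩ | ⟨D, hD, h⟩ |
    ⟨D, hD, hts, h⟩ | ⟨K, hK, h⟩ | ⟨K, hK, h⟩ | hpair | ⟨hq, e, P, B, C, hB, hC, hT⟩ |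
    ⟨F₀, r, P, ζ, hr, hc, hζ, hP, h⟩ | h
  · have h1 : W ≠ ⊤ := by
      rintro rfl
      obtain ⟨w, hw⟩ : ∃ w : Fin 12 → F, w ≠ 0 := exists_ne 0
      obtain ⟨u, hu⟩ := hQ.nondegenerate w hw
      simp [QuadraticMap.polar, hW _ Submodule.mem_top] at hu
    exact Or.inl ⟨W, h0, hW, sub h0 h1 h⟩
  · exact Or.inr (Or.inl (⟨hq, W, h0, h1, hod, hodd12 hod, hW, sub h0 h1 h⟩))
  · obtain ⟨h0, h1⟩ := hne 2 hd' (by omega) (by omega)
    exact Or.inr (Or.inr (Or.inl (⟨W, hd', hW, hp, sub h0 h1 h⟩)))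
  · obtain ⟨h0, h1⟩ := hne 2 hd' (by omega) (by omega)
    exact Or.inr (Or.inr (Or.inr (Or.inl (⟨hq, W, hd', hW, hp, sub h0 h1 h⟩))))
  · obtain ⟨h0, h1⟩ := hne 4 hd' (by omega) (by omega)
    exact Or.inr (Or.inr (Or.inr (Or.inr (Or.inl (⟨W, hd', hW, sub h0 h1 h⟩)))))
  · obtain ⟨h0, h1⟩ := hne 6 hd' (by omega) (by omega)
    exact Or.inr (Or.inr (Or.inr (Or.inr (Or.inr (Or.inl (⟨W, hd', hW, sub h0 h1 h⟩))))))
  · have hv0 : v ≠ 0 := by
      rintro rfl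
      exact hv (by simpa using hQ.smul 0 0)
    obtain ⟨h0, h1⟩ := hne 1 (finrank_span_singleton hv0) (by omega) (by omega)
    exact Or.inr (Or.inr (Or.inr (Or.inr (Or.inr (Or.inr (Or.inl (⟨hq, v, hv, sub h0 h1 h⟩)))))))
  · exact absurd (OE.plus_of_frame_twelve hQ h12 (odd_card_iff_two_ne_zero.mp hq) hD) hminus
  · exact absurd (OE.plus_of_planes_six hQ h12 hD) hminus
  · exact absurd (OE.plus_of_triples hQ h12 (odd_card_iff_two_ne_zero.mp hq) hD) hminus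
  · exact Or.inr (Or.inr (Or.inr (Or.inr (Or.inr (Or.inr (Or.inr (Or.inl (⟨D, hD, OE.fours_minus hQ h12 hminus hD, dec hD.decomp h⟩))))))))
  · exact absurd (OE.plus_of_sixes hQ h12 hD) hminus
  · exact absurd (OE.plus_of_ts (hts 0) (by rw [hD.finrank_eq, h12])) hminus
  · exact Or.inr (Or.inr (Or.inr (Or.inr (Or.inr (Or.inr (Or.inr (Or.inr (Or.inl (⟨K, hK, eq_inf_of_le hH h (OE.not_le_field hQ hn le_rfl hK)⟩)))))))))
  · exact Or.inr (Or.inr (Or.inr (Or.inr (Or.inr (Or.inr (Or.inr (Or.inr (Or.inr (Or.inl (⟨K, hK, eq_inf_of_le hH h (OE.not_le_field hQ hn (by omega) hK)⟩))))))))))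
  · exact absurd (OE.plus_of_pair_twelve hQ h12 hpair) hminus
  · have h2 : (2 : F) ≠ 0 := odd_card_iff_two_ne_zero.mp hq
    have hf₂ : ¬ Geo.IsPlusTypeOn (fun v : Fin 4 → F => formOf (RingEquiv.refl F) C v v) ⊤ := fun hp => by
      obtain ⟨e', P', B', C', hB', hC', hT'⟩ := OE.plus_tensor_refine hQ h2 hfixQ hdet hT hB hC hp
      exact hminus (OE.plus_of_pair_twelve hQ h12 (OE.pair_of_skew hQ h2 hT' hB' hC'))
    have hst := hT.structure_eq (isSesq_of_bilinear hQ.polar_bilinear)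
    have he : H = Geo.tensorProductSubgroup 3 4 e P ⊓ Geo.omegaGL Q := eq_inf_of_le hH hT.le_tensorProductSubgroup
      (OE.not_le_tensor hQ hn (by omega) (by omega) (by omega) e P)
    have hs₁ := isSymmetricForm_formOf hT.unit_left hB
    have hs₂ := isSymmetricForm_formOf hT.unit_right hC
    have h5 : 5 ≤ Fintype.card F := by_contra fun h5 => nonmax he
      (CfsgLib.Geo.OS.tensor_three_nonmax hQ' (by rw [Nat.card_eq_fintype_card, hodd3 hq h5]) le_rfl hs₁ hs₂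
        (hQc.symm ▸ hst))
    exact Or.inr (Or.inr (Or.inr (Or.inr (Or.inr (Or.inr (Or.inr (Or.inr (Or.inr (Or.inr (Or.inl (⟨hq, h5, e, P, _, _, hs₁, hs₂, hf₂, hst, he⟩)))))))))))
  · rcases hr.eq_two_or_odd' with rfl | hro
    · exact absurd (OE.plus_of_index_two hQ (m := 6) (by omega) h12 hc hζ hP) hminus
    exact Or.inr (Or.inr (Or.inr (Or.inr (Or.inr (Or.inr (Or.inr (Or.inr (Or.inr (Or.inr (Or.inr (Or.inl (⟨F₀, r, P, ζ, hr, hro, hc, hζ, hP, eq_inf_of_le hH h (OE.not_le_subfield hQ hn (subfield_ne_top hr hc) P)⟩))))))))))))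
  · exact Or.inr (Or.inr (Or.inr (Or.inr (Or.inr (Or.inr (Or.inr (Or.inr (Or.inr (Or.inr (Or.inr (Or.inr (h))))))))))))

end Cfsg.Agent.S5874
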