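import Cfsg.Statements.S5877
import Cfsg.Agent.Elusive.ExtraEigen

set_option autoImplicit false
open Cfsg

namespace Cfsg.Agent.S5877
open scoped Matrix commutatorElement

set_option maxHeartbeats 2000000

/-- Eigenspaces of elements normalising an absolutely irreducible extraspecial group. Let F be a finite field, r a prime, and R ≤ GL_n(F) an absolutely irreducible extraspecial r-group (an r-group whose centre equals its derived subgroup and has order r) of exponent r or 4. Let g ∈ GL_n(F) normalise the product of R with the scalar matrices, have prime order ϖ and not be scalar, and let W be the eigenspace of g for any c ∈ F (W may be the zero subspace). Then dim W ≤ 3n/4 if ϖ = 2, dim W ≤ 2n/3 if ϖ = 3, and dim W ≤ n/2 if ϖ > 3; moreover if ϖ = 3 and 3 does not divide n then dim W ≤ n/2. -/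
theorem result {F : Type*} [Field F] [Fintype F] {n r ϖ : ℕ} (R : Subgroup (Matrix.GeneralLinearGroup (Fin n) F)) (hr : r.Prime) (hR : IsPGroup r R) (hZ : Nat.card (Subgroup.center R) = r) (hext : commutator R = Subgroup.center R) (hexp : Monoid.exponent R = r ∨ Monoid.exponent R = 4) (hirr : Cfsg.Geo.ActsAbsolutelyIrreducibly (Cfsg.Geo.matrixSet R)) (g : Matrix.GeneralLinearGroup (Fin n) F) (hg : g ∈ Cfsg.Geo.subgroupNormalizer (R ⊔ Cfsg.Geo.scalars (Fin n) F)) (hϖ : ϖ.Prime) (hord : orderOf g = ϖ) (hns : g ∉ Cfsg.Geo.scalars (Fin n) F) (c : F) :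
    (ϖ = 2 → 4 * Module.finrank F (Module.End.eigenspace (Matrix.toLin' (g : Matrix (Fin n) (Fin n) F)) c) ≤ 3 * n) ∧
    (ϖ = 3 → 3 * Module.finrank F (Module.End.eigenspace (Matrix.toLin' (g : Matrix (Fin n) (Fin n) F)) c) ≤ 2 * n) ∧
    (3 < ϖ → 2 * Module.finrank F (Module.End.eigenspace (Matrix.toLin' (g : Matrix (Fin n) (Fin n) F)) c) ≤ n) ∧
    (ϖ = 3 → ¬ 3 ∣ n → 2 * Module.finrank F (Module.End.eigenspace (Matrix.toLin' (g : Matrix (Fin n) (Fin n) F)) c) ≤ n) := by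
  classical
  haveI : Fact r.Prime := ⟨hr⟩
  haveI : Fact ϖ.Prime := ⟨hϖ⟩
  set Z := Cfsg.Geo.scalars (Fin n) F with hZdef
  set V := fun c => Module.finrank F (CfsgLib.Elusive.ExtraEigen.es g c) with hV
  have hZc : ∀ c ∈ Z, ∀ w : GL (Fin n) F, Commute w c := fun c hc w => by
    obtain ⟨k, hk⟩ := (Cfsg.Geo.mem_scalars_iff c).1 hc
    refine Units.ext ?_
    rw [Units.val_mul, Units.val_mul, hk, Matrix.mul_smul, Matrix.smul_mul, Matrix.one_mul, Matrix.mul_one]
  haveI hZn : Z.Normal := ⟨fun c hc w => by rw [(hZc c hc w).eq, mul_inv_cancel_right]; exact hc⟩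
  have hscal : ∀ u : GL (Fin n) F, (∀ v ∈ R, v * u = u * v) → u ∈ Z := fun u hu => by
    obtain ⟨k, hk⟩ := hirr.2 (u : Matrix (Fin n) (Fin n) F) (by
      rintro _ ⟨v, hv, rfl⟩
      show (u : Matrix (Fin n) (Fin n) F) * v = v * u
      rw [← Units.val_mul, ← Units.val_mul, hu v hv])
    refine (Cfsg.Geo.mem_scalars_iff u).2 ?_
    rcases eq_or_ne k 0 with rfl | hk0
    · rw [zero_smul] at hk
      exact ⟨1, by
        ext i j
        exfalso
        haveI : Nonempty (Fin n) := ⟨i⟩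
        exact u.det_ne_zero (by rw [hk, Matrix.det_zero])⟩
    · exact ⟨Units.mk0 k hk0, hk⟩
  have hR2 : ∀ u ∈ R, ∀ v ∈ R, ⁅u, v⁆ ∈ Z ∧ ⁅u, v⁆ ^ r = 1 := fun u hu v hv => by
    have h : ⁅(⟨u, hu⟩ : R), (⟨v, hv⟩ : R)⁆ ∈ Subgroup.center R :=
      hext ▸ Subgroup.commutator_mem_commutator (Subgroup.mem_top _) (Subgroup.mem_top _)
    refine ⟨hscal _ fun w hw => ?_, ?_⟩
    · exact congrArg Subtype.val (Subgroup.mem_center_iff.1 h ⟨w, hw⟩)
    · have h2 : (⟨_, h⟩ : Subgroup.center R) ^ r = 1 := by rw [← hZ]; exact pow_card_eq_one'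
      have h3 := congrArg (fun w : Subgroup.center R => ((w : R) : GL (Fin n) F)) h2
      simp only [SubmonoidClass.coe_pow, OneMemClass.coe_one] at h3
      exact h3
  have hRc : CfsgLib.Elusive.ExtraEigen.CentralComm R := fun u hu v hv w => hZc _ (hR2 u hu v hv).1 w
  set S := R ⊔ Z with hSdef
  have hmemS : ∀ u ∈ S, ∃ a ∈ R, ∃ b ∈ Z, u = b * a := fun u hu => by
    rw [hSdef, ← SetLike.mem_coe, Subgroup.mul_normal, Set.mem_mul] at hu
    obtain ⟨a, ha, b, hb, rfl⟩ := hu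
    exact ⟨a, ha, b, hb, (hZc b hb a).eq⟩
  have hRS : R ≤ S := le_sup_left
  have hZS : Z ≤ S := le_sup_right
  have hS2 : ∀ u ∈ S, ∀ v ∈ S, ⁅u, v⁆ ∈ Z ∧ ⁅u, v⁆ ^ r = 1 := fun u hu v hv => by
    obtain ⟨a, ha, b, hb, rfl⟩ := hmemS u hu
    obtain ⟨a', ha', b', hb', rfl⟩ := hmemS v hv
    rw [CfsgLib.Elusive.ExtraEigen.comm_congr_left hRc (hZc b hb), CfsgLib.Elusive.ExtraEigen.comm_congr_right hRc (hZc b' hb')]
    exact hR2 a ha a' ha'
  have hSc : CfsgLib.Elusive.ExtraEigen.CentralComm S := fun u hu v hv w => hZc _ (hS2 u hu v hv).1 w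
  have hnd : ∀ u ∈ S, (∀ v ∈ S, ⁅u, v⁆ = 1) → u ∈ Z := fun u _ h =>
    hscal u fun v hv => (commutatorElement_eq_one_iff_mul_comm.1 (h v (hRS hv))).symm
  have hcl : ∀ u ∈ S, u ^ r ∈ Z := fun u hu => by
    refine hnd _ (pow_mem hu r) fun v hv => ?_
    have : ∀ k : ℕ, ⁅u ^ k, v⁆ = ⁅u, v⁆ ^ k := by
      intro k
      induction k with
      | zero => rw [pow_zero, pow_zero, commutatorElement_one_left]
      | succ k ih => rw [pow_succ, pow_succ, CfsgLib.Elusive.ExtraEigen.comm_mul_left hSc hu hv, ih]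
    rw [this, (hS2 u hu v hv).2]
  have hgS : ∀ u, u ∈ S ↔ g * u * g⁻¹ ∈ S := fun u => Subgroup.mem_normalizer_iff.1 hg u
  have hgϖ : g ^ ϖ = 1 := hord ▸ pow_orderOf_eq_one g
  have hcomm : ∀ u v : GL (Fin n) F, ⁅u, v⁆ ∈ Z → ∃ k : F, k ≠ 0 ∧ ((⁅u, v⁆ : GL (Fin n) F) : Matrix (Fin n) (Fin n) F) = k • 1 ∧
      (u : Matrix (Fin n) (Fin n) F) * v = k • ((v : Matrix (Fin n) (Fin n) F) * u) := fun u v h => by
    obtain ⟨k, hk⟩ := (Cfsg.Geo.mem_scalars_iff _).1 h
    refine ⟨k, k.ne_zero, hk, ?_⟩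
    rw [← Units.val_mul, show u * v = ⁅u, v⁆ * (v * u) by simp only [commutatorElement_def]; group, Units.val_mul, hk,
      Matrix.smul_mul, Matrix.one_mul, Units.val_mul]
  have hn0 : 0 < n := by
    rcases Nat.eq_zero_or_pos n with h | h
    · subst h
      refine absurd ((Cfsg.Geo.mem_scalars_iff g).2 ⟨1, ?_⟩) hns
      ext i; exact i.elim0
    · exact h
  haveI : Nonempty (Fin n) := ⟨⟨0, hn0⟩⟩
  -- a non-central element moves
  have hmove : ∀ a ∈ S, a ∉ Z → ∃ v ∈ R, ∃ ω : F, IsPrimitiveRoot ω r ∧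
      (v : Matrix (Fin n) (Fin n) F) * a = ω • ((a : Matrix (Fin n) (Fin n) F) * v) := fun a ha haZ => by
    by_contra hcon
    push Not at hcon
    refine haZ (hscal a fun v hv => ?_)
    obtain ⟨k, -, hk, hk'⟩ := hcomm v a (hS2 v (hRS hv) a ha).1
    have hkr : k ^ r = 1 := by
      have h := congrArg Units.val (hS2 v (hRS hv) a ha).2
      rw [Units.val_pow_eq_pow_val, hk, smul_pow, one_pow, Units.val_one] at h
      simpa using congrFun (congrFun h ⟨0, hn0⟩) ⟨0, hn0⟩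
    by_cases hk1 : k = 1
    · rw [hk1, one_smul] at hk'
      exact Units.ext hk'
    · exact absurd hk' (hcon v hv k (orderOf_eq_prime hkr hk1 ▸ IsPrimitiveRoot.orderOf k))
  have hfix : ∀ a ∈ S, a ∉ Z → ∀ μ : F, μ ≠ 0 → r * Module.finrank F (CfsgLib.Elusive.ExtraEigen.es a μ) ≤ n :=
    fun a ha haZ μ hμ => by
      obtain ⟨v, -, ω, hω, h⟩ := hmove a ha haZ
      exact CfsgLib.Elusive.ExtraEigen.mul_finrank_es_le hω hr.pos h μ hμ
  show (ϖ = 2 → 4 * V c ≤ 3 * n) ∧ (ϖ = 3 → 3 * V c ≤ 2 * n) ∧ (3 < ϖ → 2 * V c ≤ n) ∧ (ϖ = 3 → ¬ 3 ∣ n → 2 * V c ≤ n)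
  suffices h : (2 * V c ≤ n) ∨ (∃ f, 2 * V c ≤ n + f ∧ r * f ≤ n ∧ ϖ ≤ 3 ∧ (ϖ = 3 → r = 3 ∧ 3 ∣ n)) by
    rcases h with h | ⟨f, h1, h2, h3, h4⟩
    · exact ⟨fun _ => by omega, fun _ => by omega, fun _ => h, fun _ _ => h⟩
    · have h5 : 2 * f ≤ r * f := Nat.mul_le_mul_right f hr.two_le
      refine ⟨fun _ => by omega, fun h => ?_, fun h => by omega, fun h hn => absurd (h4 h).2 hn⟩
      rw [(h4 h).1] at h2
      omega
  rcases eq_or_ne c 0 with rfl | hc
  · left
    simp only [hV]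
    rw [CfsgLib.Elusive.ExtraEigen.es_zero, finrank_bot, mul_zero]
    exact Nat.zero_le n
  -- the scalar case
  by_cases hall : ∀ x ∈ S, ⁅g, x⁆ ∈ Z
  · left
    obtain ⟨x, hxR, hx⟩ : ∃ x ∈ R, ⁅g, x⁆ ≠ 1 := by
      by_contra h
      push Not at h
      exact hns (hscal g fun v hv => (commutatorElement_eq_one_iff_mul_comm.1 (h v hv)).symm)
    obtain ⟨k, -, hk, -⟩ := hcomm g x (hall x (hRS hxR))
    have hk1 : k ≠ 1 := fun h => hx (Units.ext (by rw [hk, h, one_smul, Units.val_one]))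
    have h := CfsgLib.Elusive.ExtraEigen.two_mul_finrank_le (g := g) (x := x) hc (U := ⊥) fun v hv _ =>
      (Submodule.mem_bot F).2 (CfsgLib.Elusive.ExtraEigen.eq_zero_of_scalar_fix hk hk1 hv)
    rwa [finrank_bot, add_zero] at h
  push Not at hall
  obtain ⟨y, hyS, hy⟩ := hall
  have hPS : ∀ x ∈ S, ⁅g, x⁆ ∈ S := fun x hx => mul_mem ((hgS x).1 hx) (inv_mem hx)
  have hbound : 2 * V c ≤ n + Module.finrank F (CfsgLib.Elusive.ExtraEigen.es ⁅g, y⁆ (1 : F)) :=
    CfsgLib.Elusive.ExtraEigen.two_mul_finrank_le hc fun v hv _ =>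
      CfsgLib.Elusive.ExtraEigen.mem_es.2 (hv.trans (one_smul F v).symm)
  have hbound' := hfix _ (hPS y hyS) hy 1 one_ne_zero
  obtain ⟨v₁, hv₁, ω, hω, hωv⟩ := hmove _ (hPS y hyS) hy
  have hrn : r ∣ n := by
    have h := congrArg Matrix.det hωv
    rw [Matrix.det_smul, Matrix.det_mul, Matrix.det_mul, Fintype.card_fin, mul_comm (v₁ : Matrix (Fin n) (Fin n) F).det] at h
    exact (hω.pow_eq_one_iff_dvd n).1 (mul_right_cancel₀ (mul_ne_zero (⁅g, y⁆ : GL (Fin n) F).det_ne_zero v₁.det_ne_zero)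
      (by rw [one_mul]; exact h.symm))
  rcases hϖ.eq_two_or_odd' with h2 | hodd
  · exact Or.inr ⟨_, hbound, hbound', by omega, fun h => by omega⟩
  by_cases hrϖ : r = ϖ
  · by_cases h3 : ϖ = 3
    · exact Or.inr ⟨_, hbound, hbound', by omega, fun h => ⟨by omega, by rw [← h, ← hrϖ]; exact hrn⟩⟩
    left
    subst hrϖ
    have hr5 : 5 ≤ r := by
      obtain ⟨k, hk⟩ := hodd
      have := hr.two_le
      omega
    obtain ⟨a, ha, haz, hfixed⟩ := CfsgLib.Elusive.ExtraEigen.exists_fixed_shift hSc (g := g) (p := r)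
      (by rw [hgϖ]; exact one_mem Z) hgS (fun u hu v hv => (hS2 u hu v hv).1) hcl hyS hy
    obtain ⟨μ, -, hμ, -⟩ := hcomm _ _ hfixed
    set z₀ := ⁅g, a⁆ with hz₀
    have hgz₀ : g * z₀ * g⁻¹ = ⁅g, z₀⁆ * z₀ := by simp only [commutatorElement_def]; group
    by_cases hμ1 : μ = 1
    swap
    · have h := CfsgLib.Elusive.ExtraEigen.two_mul_finrank_le (g := g) (x := a) hc (U := ⊥) fun v hv hv' => by
        rw [← hz₀] at hv hv'
        rw [hgz₀, Units.val_mul, ← Matrix.mulVec_mulVec, hv] at hv'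
        exact (Submodule.mem_bot F).2 (CfsgLib.Elusive.ExtraEigen.eq_zero_of_scalar_fix hμ hμ1 hv')
      rwa [finrank_bot, add_zero] at h
    have hgz : g * z₀ = z₀ * g :=
      commutatorElement_eq_one_iff_mul_comm.1 (Units.ext (by rw [hμ, hμ1, one_smul, Units.val_one]))
    obtain ⟨z, hzR, b, hb, hzb⟩ := hmemS z₀ (hPS a ha)
    have hzr : z ^ r = 1 := by
      have hexp' : Monoid.exponent R = r := by
        rcases hexp with h | h
        · exact h
        · exfalso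
          obtain ⟨k, hk⟩ := IsPGroup.iff_card.1 hR
          have hcop : Nat.Coprime 4 (r ^ k) := Nat.Coprime.pow_right k
            ((Nat.coprime_primes Nat.prime_two hr).2 (by omega) |>.pow_left 2)
          have h1 : ∀ u : R, u = 1 := fun u => by
            have h4 : u ^ 4 = 1 := h ▸ Monoid.pow_exponent_eq_one u
            have h5 : u ^ (r ^ k) = 1 := hk ▸ pow_card_eq_one'
            have h6 := pow_gcd_eq_one.2 ⟨h4, h5⟩
            rwa [hcop.gcd_eq_one, pow_one] at h6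
          haveI : Subsingleton R := ⟨fun u v => (h1 u).trans (h1 v).symm⟩
          have : Nat.card (Subgroup.center R) = 1 := Nat.card_eq_one_iff_unique.2 ⟨inferInstance, inferInstance⟩
          have := hr.two_le
          omega
      have h := Monoid.pow_exponent_eq_one (⟨z, hzR⟩ : R)
      rw [hexp'] at h
      simpa using congrArg Subtype.val h
    obtain ⟨s, hs⟩ := (Cfsg.Geo.mem_scalars_iff b).1 hb
    have hgz' : g * z = z * g := by
      rw [hzb, ← mul_assoc, (hZc b hb g).eq, mul_assoc b g z, mul_assoc b z g] at hgz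
      exact mul_left_cancel hgz
    have hga : g * a * g⁻¹ = z₀ * a := by rw [hz₀]; simp only [commutatorElement_def]; group
    have hbr : b ^ r = 1 := by
      have h := CfsgLib.Elusive.ExtraEigen.conj_pow_eq hga hgz r
      rw [hgϖ, one_mul, inv_one, mul_one, hzb, (hZc b hb z).symm.mul_pow, hzr, mul_one] at h
      exact mul_eq_right.1 h.symm
    obtain ⟨ε, -, hε, hza⟩ := hcomm z a (hS2 z (hRS hzR) a ha).1
    have hzZ : z ∉ Z := fun h => haz (by rw [hzb]; exact mul_mem hb h)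
    obtain ⟨-, -, ω₀, hω₀, -⟩ := hmove z (hRS hzR) hzZ
    have hsr : (s : F) ^ r = 1 := by
      have h := congrArg Units.val hbr
      rw [Units.val_pow_eq_pow_val, hs, smul_pow, one_pow, Units.val_one] at h
      simpa using congrFun (congrFun h ⟨0, hn0⟩) ⟨0, hn0⟩
    have hεr : ε ^ r = 1 := by
      have h := congrArg Units.val (hS2 z (hRS hzR) a ha).2
      rw [Units.val_pow_eq_pow_val, hε, smul_pow, one_pow, Units.val_one] at h
      simpa using congrFun (congrFun h ⟨0, hn0⟩) ⟨0, hn0⟩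
    refine CfsgLib.Elusive.ExtraEigen.two_mul_finrank_shift_le (p := r) hc hr5 hω₀.neZero'.out hω₀ hgz' hzr hsr hεr ?_ hza
      (hfix z (hRS hzR) hzZ)
    rw [← Units.val_mul, show g * a = b * (z * a * g) by
      rw [mul_inv_eq_iff_eq_mul, hzb] at hga; rw [hga]; simp only [mul_assoc], Units.val_mul, hs, Units.val_mul, Units.val_mul,
      Matrix.smul_mul, Matrix.one_mul]
  · left
    by_cases hiso : ∀ x ∈ S, ⁅⁅g, x⁆, g * ⁅g, x⁆ * g⁻¹⁆ = 1
    · exact absurd (CfsgLib.Elusive.ExtraEigen.trivial_of_isotropic hSc hodd ((Nat.coprime_primes hϖ hr).2 (Ne.symm hrϖ))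
        (by rw [hgϖ]; exact one_mem Z) hgS hZc hcl hnd hiso y hyS) hy
    push Not at hiso
    obtain ⟨x, hxS, hx⟩ := hiso
    obtain ⟨k, -, hk, -⟩ := hcomm _ _ (hS2 _ (hPS x hxS) _ ((hgS _).1 (hPS x hxS))).1
    have hk1 : k ≠ 1 := fun h => hx (Units.ext (by rw [hk, h, one_smul, Units.val_one]))
    have hfixinv : ∀ {u : GL (Fin n) F} {v : Fin n → F}, (u : Matrix (Fin n) (Fin n) F) *ᵥ v = v →
        ((u⁻¹ : GL (Fin n) F) : Matrix (Fin n) (Fin n) F) *ᵥ v = v := by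
      intro u v h
      conv_lhs => rw [← h]
      rw [Matrix.mulVec_mulVec, Units.inv_mul, Matrix.one_mulVec]
    have h := CfsgLib.Elusive.ExtraEigen.two_mul_finrank_le (g := g) (x := x) hc (U := ⊥) fun v hv hv' => by
      refine (Submodule.mem_bot F).2 (CfsgLib.Elusive.ExtraEigen.eq_zero_of_scalar_fix hk hk1 ?_)
      rw [commutatorElement_def, Units.val_mul, Units.val_mul, Units.val_mul, ← Matrix.mulVec_mulVec, hfixinv hv',
        ← Matrix.mulVec_mulVec, hfixinv hv, ← Matrix.mulVec_mulVec, hv', hv]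
    rwa [finrank_bot, add_zero] at h

end Cfsg.Agent.S5877
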