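import Cfsg.Statements.S5883
import Cfsg.Agent.Coset.Fi23Max.Derived

set_option autoImplicit false
open Cfsg

namespace Cfsg.Agent.S5883

/-- The constant 10 in the statement that H⁽¹⁰⁾ is perfect for every maximal subgroup H of a finite almost simple group cannot be lowered to 9: there exist a finite almost simple group G (with a non-abelian simple normal subgroup of trivial centralizer) and a maximal subgroup H of G whose ninth derived subgroup H⁽⁹⁾ is not perfect, i.e. H⁽¹⁰⁾ ≠ H⁽⁹⁾. (A solvable maximal subgroup of derived length 10 in the Fischer group Fi₂₃ is such an example.) -/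
theorem result :
    ∃ (G : Type) (_ : Group G) (_ : Finite G) (S H : Subgroup G), S.Normal ∧ IsSimpleGroup S ∧ ¬ IsMulCommutative S ∧
      Subgroup.centralizer (S : Set G) = ⊥ ∧ IsCoatom H ∧ derivedSeries H 10 ≠ derivedSeries H 9 := by
  haveI := CfsgLib.Coset.Fi23.isSimple
  have hne : ∃ a c : Cfsg.Spor.Fi23, a * c ≠ c * a := by
    open CfsgLib.Coset.Fi23.Loc.Zc in
    refine ⟨b 0, b 3, fun e => ?_⟩
    have h := b_b 0 3
    rw [e, mul_inv_cancel_right] at h
    have h2 : xp (sM 0 3) = xp 0 := by rw [xp_zero]; exact right_eq_mul.mp h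
    have h4 : sM 0 3 ≠ 0 := by decide +kernel
    exact h4 (xp_inj h2)
  haveI : Finite Cfsg.Spor.Fi23 := Nat.finite_of_card_ne_zero (by
    rw [CfsgLib.Coset.Fi23.card_and_injective.1]; norm_num)
  refine ⟨Cfsg.Spor.Fi23, inferInstance, inferInstance, ⊤, CfsgLib.Coset.Fi23.Loc.Zc.N0, inferInstance,
    (Subgroup.topEquiv (G := Cfsg.Spor.Fi23)).isSimpleGroup, fun h => ?_, ?_,
    CfsgLib.Coset.Fi23.Max.N0_isCoatom, CfsgLib.Coset.Fi23.Max.derived_ten_ne⟩
  · obtain ⟨a, c, hac⟩ := hne
    exact hac (congrArg Subtype.val (h.is_comm.comm ⟨a, Subgroup.mem_top a⟩ ⟨c, Subgroup.mem_top c⟩))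
  · rw [Subgroup.coe_top, Subgroup.centralizer_univ]
    refine (inferInstance : (Subgroup.center Cfsg.Spor.Fi23).Normal).eq_bot_or_eq_top.resolve_right fun h => ?_
    obtain ⟨a, c, hac⟩ := hne
    exact hac (Subgroup.mem_center_iff.mp (h ▸ Subgroup.mem_top c : c ∈ Subgroup.center Cfsg.Spor.Fi23) a)

end Cfsg.Agent.S5883
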