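import Cfsg.Statements.S5886
import Cfsg.Agent.Aschbacher.FieldMax.Bridge
-- import your own Cfsg.Agent.* helpers here

set_option autoImplicit false
open Cfsg

namespace Cfsg.Agent.S5886

/-- Let F be a finite field, n a positive integer and r a prime that divides n with r < n. Let K be a subalgebra of the algebra of n × n matrices over F which is a field of degree r over F (commutative, every non-zero element invertible, of dimension r over F; it contains the scalars). Then the normaliser N of K in GL_n(F) — the invertible F-linear maps that are semilinear over the field K, a group of type ΓL_{n/r}(F_{q^r}) for |F| = q — is a maximal subgroup of GL_n(F), and N ∩ SL_n(F) is a maximal subgroup of SL_n(F). No lower bound on n is assumed. -/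
theorem result {F : Type*} [Field F]
    [Fintype F] (n r : ℕ) (hr : r.Prime) (hrn : r ∣ n) (hlt : r < n) (K : Subalgebra F (Matrix (Fin n) (Fin n) F))
    (hK : Cfsg.Geo.IsFieldSubalgebra r K) :
    IsCoatom (Cfsg.Geo.subalgebraNormalizer K) ∧
      Cfsg.Geo.IsMaximalIn (Cfsg.Geo.specialLinear (Fin n) F)
        (Cfsg.Geo.subalgebraNormalizer K ⊓ Cfsg.Geo.specialLinear (Fin n) F) := by
  classical
  obtain ⟨⟨g₀, hg₀, hg₀N⟩, hmax, hdet⟩ := CfsgLib.FieldMax.normalizer_data hr hrn hlt K hK
  refine ⟨⟨fun h => hg₀N (h ▸ Subgroup.mem_top g₀), fun M hM => ?_⟩, ?_, fun M hNM hMS => ?_⟩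
  · obtain ⟨hNM, g, hgM, hgN⟩ := SetLike.lt_iff_le_and_exists.1 hM
    have hmem : ∃ h ∈ M ⊓ Cfsg.Geo.specialLinear (Fin n) F, h ∉ Cfsg.Geo.subalgebraNormalizer K := by
      obtain ⟨x, hx, hxd⟩ := hdet g
      refine ⟨g * x⁻¹, ⟨M.mul_mem hgM (M.inv_mem (hNM hx)), ?_⟩, fun h => hgN ?_⟩
      · show Matrix.GeneralLinearGroup.det (g * x⁻¹) = 1
        rw [map_mul, map_inv, hxd, mul_inv_cancel]
      · have h1 := Subgroup.mul_mem _ h hx
        rwa [inv_mul_cancel_right] at h1
    have hS := (hmax _ (inf_le_inf_right _ hNM) inf_le_right hmem).trans inf_le_left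
    refine eq_top_iff.2 fun y _ => ?_
    obtain ⟨x, hx, hxd⟩ := hdet y
    have h1 : y * x⁻¹ ∈ M := hS (by
      show Matrix.GeneralLinearGroup.det (y * x⁻¹) = 1
      rw [map_mul, map_inv, hxd, mul_inv_cancel])
    have h2 := M.mul_mem h1 (hNM hx)
    rwa [inv_mul_cancel_right] at h2
  · exact lt_of_le_of_ne inf_le_right fun h => hg₀N ((SetLike.ext_iff.1 h g₀).2 hg₀).1
  · by_cases h : M ≤ Cfsg.Geo.subalgebraNormalizer K
    · exact Or.inl (le_antisymm (le_inf h hMS) hNM)
    · obtain ⟨g, hg, hgN⟩ := SetLike.not_le_iff_exists.1 h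
      exact Or.inr (le_antisymm hMS (hmax M hNM hMS ⟨g, hg, hgN⟩))

end Cfsg.Agent.S5886
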