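import Cfsg.Statements.S5887
import Cfsg.Agent.Elusive.FieldTower

set_option autoImplicit false
open Cfsg

namespace Cfsg.Agent.S5887
open scoped Matrix

/-- Let F be a finite field, n a positive integer and r a composite number (r > 1, not prime) that divides n with r < n. Let K be a subalgebra of the algebra of n × n matrices over F which is a field of degree r over F (commutative, every non-zero element invertible, of dimension r over F). Then the normaliser N of K in GL_n(F) (a group of type ΓL_{n/r}(F_{q^r})) is not a maximal subgroup of GL_n(F), and N ∩ SL_n(F) is not a maximal subgroup of SL_n(F): both lie properly inside the normaliser of an intermediate subfield of prime degree over F. -/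
theorem result {F : Type*} [Field F]
    [Fintype F] (n r : ℕ) (hr1 : 1 < r) (hrp : ¬ r.Prime) (hrn : r ∣ n) (hlt : r < n)
    (K : Subalgebra F (Matrix (Fin n) (Fin n) F)) (hK : Cfsg.Geo.IsFieldSubalgebra r K) :
    ¬ IsCoatom (Cfsg.Geo.subalgebraNormalizer K) ∧
      ¬ Cfsg.Geo.IsMaximalIn (Cfsg.Geo.specialLinear (Fin n) F)
        (Cfsg.Geo.subalgebraNormalizer K ⊓ Cfsg.Geo.specialLinear (Fin n) F) := by
  classical
  obtain ⟨p, hp⟩ := CharP.exists F
  have : Fact p.Prime := ⟨CharP.char_is_prime F p⟩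
  have hn4 : 4 ≤ n := by
    have h1 := Nat.minFac_prime (show r ≠ 1 by omega)
    obtain ⟨c, hc⟩ := hrn
    have : 2 ≤ c := by
      rcases c with _ | _ | c
      · simp at hc; omega
      · simp at hc; omega
      · omega
    have : 2 * 2 ≤ r * c := Nat.mul_le_mul (by omega) this
    omega
  obtain ⟨L, hLK, hLinv, ⟨j, hj, hjs⟩, hle, N, hN0, hNN, hrk, hrk', hNL⟩ :=
    CfsgLib.Elusive.exists_intermediate hr1 hrp hrn hlt hK
  have hunit : ∀ M : Matrix (Fin n) (Fin n) F, M * M = 0 → ∃ T : GL (Fin n) F,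
      (T : Matrix (Fin n) (Fin n) F) = 1 + M ∧ T ∈ Cfsg.Geo.specialLinear (Fin n) F := by
    intro M hM
    refine ⟨⟨1 + M, 1 - M, by rw [add_mul, one_mul, mul_sub, mul_one, hM, sub_zero, sub_add_cancel],
      by rw [sub_mul, one_mul, mul_add, mul_one, hM, add_zero, add_sub_cancel_right]⟩, rfl, ?_⟩
    exact Units.ext (CfsgLib.Elusive.det_one_add (p := p) hM)
  obtain ⟨T, hT, hTS⟩ := hunit N hNN
  have hTL : T ∈ Cfsg.Geo.subalgebraNormalizer L := by
    refine CfsgLib.Elusive.mem_normalizer_of_conj fun k hk => ?_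
    have hc : (T : Matrix (Fin n) (Fin n) F) * k = k * (T : Matrix (Fin n) (Fin n) F) := by
      rw [hT, add_mul, mul_add, hNL k hk, one_mul, mul_one]
    rw [hc, mul_assoc, Units.mul_inv, mul_one]
    exact hk
  have hTK : T ∉ Cfsg.Geo.subalgebraNormalizer K := fun h => by
    have hc := CfsgLib.Elusive.commutes_of_small hK.inv hNN hrk hT h
    obtain ⟨w, hw⟩ : ∃ w, N *ᵥ w ≠ 0 := by
      by_contra hno
      push Not at hno
      exact hN0 (Matrix.toLin'.injective (LinearMap.ext fun v => by simpa using hno v))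
    let μ : K →ₗ[F] LinearMap.range N.mulVecLin :=
      LinearMap.codRestrict _ (((LinearMap.applyₗ (N *ᵥ w)).comp Matrix.toLin'.toLinearMap).comp K.val.toLinearMap)
        fun k => ⟨(k : Matrix (Fin n) (Fin n) F) *ᵥ w, by
          show N *ᵥ _ = (k : Matrix (Fin n) (Fin n) F) *ᵥ (N *ᵥ w)
          rw [Matrix.mulVec_mulVec, Matrix.mulVec_mulVec, hc k k.2]⟩
    have hμ : Function.Injective μ := (injective_iff_map_eq_zero μ).2 fun k hk => by
      by_contra hk0
      obtain ⟨y, hy, hy1⟩ := hK.inv k k.2 fun e => hk0 (Subtype.ext e)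
      have h1 : (k : Matrix (Fin n) (Fin n) F) *ᵥ (N *ᵥ w) = 0 := congrArg Subtype.val hk
      apply hw
      rw [← Matrix.one_mulVec (N *ᵥ w), ← hy1, hK.comm k k.2 y hy, ← Matrix.mulVec_mulVec, h1, Matrix.mulVec_zero]
    have := LinearMap.finrank_le_finrank_of_injective hμ
    rw [show Module.finrank F K = r from hK.finrank_eq] at this
    omega
  obtain ⟨g, hgS, hgL⟩ : ∃ g ∈ Cfsg.Geo.specialLinear (Fin n) F, g ∉ Cfsg.Geo.subalgebraNormalizer L := by
    by_contra hno
    push Not at hno
    have hcomm : ∀ a b : Fin n, a ≠ b → Matrix.single a b (1 : F) * j = j * Matrix.single a b (1 : F) := by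
      intro a b hab
      obtain ⟨U, hU, hUS⟩ := hunit (Matrix.single a b (1 : F)) (by simp [hab.symm])
      refine CfsgLib.Elusive.commutes_of_small hLinv (by simp [hab.symm]) ?_ hU (hno U hUS) j hj
      have h1 : Module.finrank F (LinearMap.range (Matrix.single a b (1 : F)).mulVecLin) ≤ 1 := by
        refine (Submodule.finrank_mono ?_).trans ((finrank_span_le_card ({Pi.single a (1 : F)} : Set (Fin n → F))).trans (by simp))
        rintro _ ⟨v, rfl⟩
        refine Submodule.mem_span_singleton.2 ⟨v b, funext fun i => ?_⟩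
        rcases eq_or_ne i a with rfl | h <;> simp [Matrix.single, Matrix.mulVec, dotProduct, Pi.single_apply, *, ite_and, eq_comm]
      omega
    have hoff : ∀ a b : Fin n, a ≠ b → j b a = 0 ∧ j a a = j b b := fun a b hab => by
      have h := hcomm a b hab
      have h1 := congrFun (congrFun h a) a
      have h2 := congrFun (congrFun h a) b
      simp [Matrix.mul_apply, Matrix.single, ite_and, hab, hab.symm] at h1 h2
      exact ⟨h1, h2.symm⟩
    refine hjs (j ⟨0, by omega⟩ ⟨0, by omega⟩) (Matrix.ext fun a b => ?_)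
    rcases eq_or_ne a b with rfl | hab
    · rcases eq_or_ne a (⟨0, by omega⟩ : Fin n) with e | e
      · subst e; simp
      · rw [(hoff a _ e).2]; simp
    · rw [(hoff b a hab.symm).1]; simp [hab]
  refine ⟨fun hco => ?_, fun hmax => ?_⟩
  · rcases hco.le_iff.1 hle with h | h
    · exact hgL (h ▸ Subgroup.mem_top g)
    · exact hTK (h ▸ hTL)
  · rcases hmax.2 (Cfsg.Geo.subalgebraNormalizer L ⊓ Cfsg.Geo.specialLinear (Fin n) F)
      (inf_le_inf_right _ hle) inf_le_right with h | h
    · exact hTK ((h ▸ (⟨hTL, hTS⟩ : T ∈ Cfsg.Geo.subalgebraNormalizer L ⊓ Cfsg.Geo.specialLinear (Fin n) F)) :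
        T ∈ Cfsg.Geo.subalgebraNormalizer K ⊓ Cfsg.Geo.specialLinear (Fin n) F).1
    · have h1 := hgS
      rw [← h] at h1
      exact hgL h1.1

end Cfsg.Agent.S5887
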