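import Cfsg.Statements.S5893
import Cfsg.Agent.Dickson.MaxPSLOdd

set_option autoImplicit false
open Cfsg

namespace Cfsg.Agent.S5893

/-- Let F be a finite field of even order q ≥ 4 and let M be a maximal subgroup of PSL₂(F) (= SL₂(F) = PGL₂(F)). Then one of the following holds: |M| = q(q − 1) (the stabiliser of a point of the projective line, elementary abelian of order q extended by a cyclic group of order q − 1); M is dihedral of order 2(q − 1); M is dihedral of order 2(q + 1); or q = q₀^r for a prime r with q₀ ≠ 2 and M ≅ PSL₂(F₀) with |F₀| = q₀. -/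
theorem result {F : Type*} [Field F] [Fintype F]
    (heven : Even (Fintype.card F)) (h4 : 4 ≤ Fintype.card F) (M : Subgroup (Matrix.ProjectiveSpecialLinearGroup (Fin 2) F)) (hM : IsCoatom M) :
    Nat.card M = Fintype.card F * (Fintype.card F - 1) ∨
    Nonempty (M ≃* DihedralGroup (Fintype.card F - 1)) ∨
    Nonempty (M ≃* DihedralGroup (Fintype.card F + 1)) ∨
    (∃ (F₀ : Type) (_ : Field F₀) (_ : Fintype F₀) (r : ℕ), r.Prime ∧ Fintype.card F₀ ≠ 2 ∧
        Fintype.card F = Fintype.card F₀ ^ r ∧ Nonempty (M ≃* Matrix.ProjectiveSpecialLinearGroup (Fin 2) F₀)) := by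
  rw [← Nat.card_eq_fintype_card] at heven h4 ⊢
  obtain ⟨p, hp⟩ := CharP.exists F
  obtain ⟨n, hpp, hn⟩ := FiniteField.card F p
  have : Fact p.Prime := ⟨hpp⟩
  have hp2 : p = 2 := by
    have h2 : 2 ∣ p ^ (n : ℕ) := by rw [← hn, ← Nat.card_eq_fintype_card]; exact heven.two_dvd
    exact ((Nat.prime_dvd_prime_iff_eq Nat.prime_two hpp).1 (Nat.prime_two.dvd_of_dvd_pow h2)).symm
  have hd := CfsgLib.Linear.PSLTwo.gcd_eq_one heven
  rcases CfsgLib.Dickson.MaxSub.psl_max p h4 hM with ⟨P, hP⟩ | ⟨c, hc, ⟨e⟩⟩ |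
    ⟨h, -⟩ | ⟨h, -⟩ | ⟨h, -⟩ | ⟨f, m, hf, hq, hm, h⟩
  · left
    classical
    rw [hP, CfsgLib.Linear.PSLTwo.card_normalizer p P, hd, Nat.div_one]
  · rw [hd, Nat.div_one] at e
    rcases hc with hc | hc
    · exact Or.inr (Or.inl (by rw [← hc, Nat.add_sub_cancel]; exact ⟨e⟩))
    · exact Or.inr (Or.inr (Or.inl (by rw [← hc]; exact ⟨e⟩)))
  · omega
  · omega
  · exact absurd hp2 h
  · rcases h with ⟨-, hq2, ⟨e⟩⟩ | ⟨h, -⟩
    · let _ := Fintype.ofFinite (GaloisField p f)
      have hcard : Fintype.card (GaloisField p f) = p ^ f := by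
        rw [← Nat.card_eq_fintype_card, CfsgLib.Linear.PSLTwo.card_gf p f hf]
      obtain ⟨e'⟩ := CfsgLib.Dickson.MaxSub.pgl_equiv_psl (GaloisField p f) (by
        rw [CfsgLib.Linear.PSLTwo.card_gf p f hf, hp2]
        exact (Nat.even_pow' (by omega)).2 even_two)
      exact Or.inr (Or.inr (Or.inr ⟨GaloisField p f, inferInstance, inferInstance, m, hm,
        by rw [hcard]; exact hq2, by rw [hcard, hq], ⟨e.trans e'⟩⟩))
    · exact absurd hp2 h

end Cfsg.Agent.S5893
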