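import Cfsg.Statements.S5902
import Cfsg.Agent.SimplePower.Lattice

set_option autoImplicit false
open Cfsg

namespace Cfsg.Agent.S5902

/-- Let G be a finite group, X a subgroup whose own subgroup lattice is complemented, and suppose X lies in exactly one maximal subgroup M of G. Then every subgroup H of G not contained in the normal core of M has a complement in the subgroup lattice of G (some C with H ⊔ C = G and H ⊓ C = 1); in particular the subgroup lattice of G modulo the normal core of M is complemented. -/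
theorem result {G : Type*} [Group G] [Finite G] (X M : Subgroup G)
    (hK : ComplementedLattice (Subgroup X))
    (hM : IsCoatom M) (hXM : X ≤ M) (huniq : ∀ M' : Subgroup G, IsCoatom M' → X ≤ M' → M' = M) :
    (∀ H : Subgroup G, ¬ H ≤ M.normalCore → ∃ C : Subgroup G, H ⊔ C = ⊤ ∧ H ⊓ C = ⊥) ∧
    ComplementedLattice (Subgroup (G ⧸ M.normalCore)) := by
  have h1 : ∀ H : Subgroup G, ¬ H ≤ M.normalCore → ∃ C : Subgroup G, H ⊔ C = ⊤ ∧ H ⊓ C = ⊥ := by
    intro H hH
    obtain ⟨g, hg⟩ := CfsgLib.Lattice.exists_conj_not_le M H hH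
    refine CfsgLib.Lattice.complement_of_map (MulAut.conj g) H
      (CfsgLib.Lattice.key ⊥ X M bot_le (fun Y _ hY => ?_) huniq _ hg (inf_bot_eq _))
    obtain ⟨C, hC⟩ := exists_isCompl (Y.subgroupOf X)
    refine ⟨C.map X.subtype, bot_le, Subgroup.map_subtype_le _, ?_, ?_⟩
    · have := congrArg (Subgroup.map X.subtype) hC.sup_eq_top
      rwa [Subgroup.map_sup, Subgroup.map_subgroupOf_eq_of_le hY, ← MonoidHom.range_eq_map,
        Subgroup.range_subtype] at this
    · have := congrArg (Subgroup.map X.subtype) hC.inf_eq_bot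
      rwa [Subgroup.map_inf _ _ _ X.subtype_injective, Subgroup.map_subgroupOf_eq_of_le hY,
        Subgroup.map_bot] at this
  refine ⟨h1, ⟨fun Hb => ?_⟩⟩
  set π := QuotientGroup.mk' M.normalCore with hπ
  have hπs : Function.Surjective π := QuotientGroup.mk'_surjective _
  set H := Hb.comap π with hH
  have hKH : M.normalCore ≤ H := fun k hk => by
    show π k ∈ Hb
    rw [show π k = 1 from (QuotientGroup.eq_one_iff k).2 hk]; exact Hb.one_mem
  by_cases hle : H ≤ M.normalCore
  · refine ⟨⊤, ⟨disjoint_iff.2 ?_, codisjoint_iff.2 (sup_top_eq _)⟩⟩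
    rw [inf_top_eq, ← Subgroup.map_comap_eq_self_of_surjective hπs Hb, ← hH,
      Subgroup.map_eq_bot_iff, QuotientGroup.ker_mk']
    exact hle
  obtain ⟨C, hsup, hinf⟩ := h1 H hle
  refine ⟨C.map π, ⟨disjoint_iff.2 ?_, codisjoint_iff.2 ?_⟩⟩
  · rw [Subgroup.eq_bot_iff_forall]
    rintro _ ⟨hx, ⟨c, hc, rfl⟩⟩
    have : c ∈ H ⊓ C := ⟨hx, hc⟩
    rw [hinf, Subgroup.mem_bot] at this
    rw [this, map_one]
  · have := congrArg (Subgroup.map π) hsup
    rwa [Subgroup.map_sup, Subgroup.map_top_of_surjective _ hπs, hH,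
      Subgroup.map_comap_eq_self_of_surjective hπs] at this

end Cfsg.Agent.S5902
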