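import Cfsg.Statements.S5903
import Cfsg.Agent.SimplePower.Lattice

set_option autoImplicit false
open Cfsg

namespace Cfsg.Agent.S5903

/-- Let G be a finite simple group, X a subgroup lying in exactly one maximal subgroup M of G, and N a subgroup of prime order with N ≤ X that is central in M. If the subgroup lattice of X/N is complemented, then the subgroup lattice of G is complemented. -/
theorem result {G : Type*} [Group G] [Finite G] [IsSimpleGroup G] (X M N : Subgroup G)
    (hM : IsCoatom M) (hXM : X ≤ M) (huniq : ∀ M' : Subgroup G, IsCoatom M' → X ≤ M' → M' = M)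
    (hNX : N ≤ X) (hN : (Nat.card N).Prime) (hcen : ∀ n ∈ N, ∀ m ∈ M, m * n = n * m)
    [(N.subgroupOf X).Normal] (hK : ComplementedLattice (Subgroup (X ⧸ N.subgroupOf X))) :
    ComplementedLattice (Subgroup G) := by
  constructor
  intro H
  suffices ∃ C : Subgroup G, H ⊔ C = ⊤ ∧ H ⊓ C = ⊥ by
    obtain ⟨C, h1, h2⟩ := this
    exact ⟨C, disjoint_iff.2 h2, codisjoint_iff.2 h1⟩
  by_cases hHb : H = ⊥
  · exact ⟨⊤, by simp, by rw [hHb, bot_inf_eq]⟩
  by_cases hHt : H = ⊤
  · exact ⟨⊥, by rw [hHt, top_sup_eq], inf_bot_eq _⟩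
  have : Fact (Nat.card N).Prime := ⟨hN⟩
  have hint : ∀ Y : Subgroup G, N ≤ Y → Y ≤ X → ∃ C : Subgroup G, N ≤ C ∧ C ≤ X ∧ Y ⊔ C = X ∧ Y ⊓ C = N := by
    intro Y hNY hYX
    set π := QuotientGroup.mk' (N.subgroupOf X) with hπ
    have hπs : Function.Surjective π := QuotientGroup.mk'_surjective _
    have hker : π.ker = N.subgroupOf X := QuotientGroup.ker_mk' _
    obtain ⟨Cb, hCb⟩ := exists_isCompl ((Y.subgroupOf X).map π)
    have hY : ((Y.subgroupOf X).map π).comap π = Y.subgroupOf X :=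
      Subgroup.comap_map_eq_self (hker.trans_le (Subgroup.comap_mono hNY))
    refine ⟨(Cb.comap π).map X.subtype, ?_, Subgroup.map_subtype_le _, ?_, ?_⟩
    · refine (Subgroup.map_subgroupOf_eq_of_le hNX).ge.trans ?_
      exact Subgroup.map_mono (hker.symm.trans_le (Subgroup.ker_le_comap _ _))
    · have h := congrArg (Subgroup.comap π) hCb.sup_eq_top
      rw [Subgroup.comap_top, ← Subgroup.comap_sup_eq π _ _ hπs, hY] at h
      have := congrArg (Subgroup.map X.subtype) h
      rwa [Subgroup.map_sup, Subgroup.map_subgroupOf_eq_of_le hYX, ← MonoidHom.range_eq_map,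
        Subgroup.range_subtype] at this
    · have h := congrArg (Subgroup.comap π) hCb.inf_eq_bot
      rw [Subgroup.comap_inf, hY, MonoidHom.comap_bot, hker] at h
      have := congrArg (Subgroup.map X.subtype) h
      rwa [Subgroup.map_inf _ _ _ X.subtype_injective, Subgroup.map_subgroupOf_eq_of_le hYX,
        Subgroup.map_subgroupOf_eq_of_le hNX] at this
  have hcore : M.normalCore = ⊥ :=
    (inferInstance : M.normalCore.Normal).eq_bot_or_eq_top.resolve_right
      fun h => hM.1 (top_le_iff.1 (h ▸ M.normalCore_le))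
  obtain ⟨g₀, hg₀⟩ := CfsgLib.Lattice.exists_conj_not_le M H (hcore ▸ fun h => hHb (le_bot_iff.1 h))
  have hdis : ∀ g : G, ¬ N ≤ H.map (MulAut.conj g).toMonoidHom →
      H.map (MulAut.conj g).toMonoidHom ⊓ N = ⊥ := by
    intro g hg
    have h := Subgroup.eq_bot_or_eq_top_of_prime_card ((H.map (MulAut.conj g).toMonoidHom).subgroupOf N)
    rcases h with h | h
    · exact disjoint_iff.1 (Subgroup.subgroupOf_eq_bot.1 h)
    · exact absurd (Subgroup.subgroupOf_eq_top.1 h) hg
  by_cases hgood : ∃ g : G, ¬ H.map (MulAut.conj g).toMonoidHom ≤ M ∧ ¬ N ≤ H.map (MulAut.conj g).toMonoidHom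
  · obtain ⟨g, hg1, hg2⟩ := hgood
    exact CfsgLib.Lattice.complement_of_map (MulAut.conj g) H
      (CfsgLib.Lattice.key N X M hNX hint huniq _ hg1 (hdis g hg2))
  push Not at hgood
  exfalso
  -- every element of N normalises every conjugate of H
  have hnorm : ∀ n ∈ N, ∀ g : G, ∀ h ∈ H, n * (g * h * g⁻¹) * n⁻¹ ∈ H.map (MulAut.conj g).toMonoidHom := by
    intro n hn g h hh
    have hmem : g * h * g⁻¹ ∈ H.map (MulAut.conj g).toMonoidHom := ⟨h, hh, rfl⟩
    by_cases hle : H.map (MulAut.conj g).toMonoidHom ≤ M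
    · rw [← hcen n hn _ (hle hmem), mul_inv_cancel_right]
      exact hmem
    · exact mul_mem (mul_mem (hgood g hle hn) hmem) (inv_mem (hgood g hle hn))
  have hNle : N ≤ (Subgroup.normalizer (H : Set G)).normalCore := by
    intro n hn g
    have key : ∀ m ∈ N, ∀ x ∈ H, (g * m * g⁻¹) * x * (g * m * g⁻¹)⁻¹ ∈ H := by
      intro m hm x hx
      obtain ⟨y, hy, hyx⟩ := hnorm m hm g⁻¹ x hx
      have e : g⁻¹ * y * g⁻¹⁻¹ = m * (g⁻¹ * x * g⁻¹⁻¹) * m⁻¹ := hyx
      have : (g * m * g⁻¹) * x * (g * m * g⁻¹)⁻¹ = g * (m * (g⁻¹ * x * g⁻¹⁻¹) * m⁻¹) * g⁻¹ := by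
        simp [mul_assoc]
      rw [this, ← e]
      simpa [mul_assoc] using hy
    show g * n * g⁻¹ ∈ Subgroup.normalizer (H : Set G)
    rw [Subgroup.mem_normalizer_iff]
    refine fun x => ⟨key n hn x, fun hx => ?_⟩
    have := key n⁻¹ (inv_mem hn) _ hx
    simpa [mul_assoc] using this
  rcases (inferInstance : (Subgroup.normalizer (H : Set G)).normalCore.Normal).eq_bot_or_eq_top with h | h
  · rw [h, le_bot_iff] at hNle
    exact hN.ne_one (by rw [hNle, Subgroup.card_bot])
  · have hn : H.Normal := Subgroup.normalizer_eq_top_iff.1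
      (top_le_iff.1 (h ▸ Subgroup.normalCore_le _))
    exact hn.eq_bot_or_eq_top.elim hHb hHt

end Cfsg.Agent.S5903
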