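import Cfsg.Statements.S5904
-- no helper imports

set_option autoImplicit false
open scoped Pointwise
open Cfsg

namespace Cfsg.Agent.S5904

/-- Let Ω be a finite set with more than two elements and O ⊆ Ω a subset with exactly as many elements as its complement. Then the setwise stabilizer of O in the symmetric group on Ω is not a maximal subgroup (it is properly contained in the stabilizer of the partition {O, Ω ∖ O}, which is proper). -/
theorem result {Ω : Type*} [Fintype Ω] [DecidableEq Ω] (hΩ : 2 < Fintype.card Ω)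
    (O : Set Ω) (hO : Nat.card O = Nat.card ↥Oᶜ) :
    ¬ IsCoatom (MulAction.stabilizer (Equiv.Perm Ω) O) := by
  classical
  intro hc
  have h2 : 2 ≤ Nat.card O := by
    have h : Nat.card O + Nat.card ↥Oᶜ = Fintype.card Ω := by
      rw [← Nat.card_sum, Nat.card_congr (Equiv.Set.sumCompl O), Nat.card_eq_fintype_card]
    omega
  obtain ⟨a, ha⟩ : O.Nonempty := Set.nonempty_coe_sort.1 (Nat.card_pos_iff.1 (by omega)).1
  obtain ⟨b, hb⟩ : (Oᶜ : Set Ω).Nonempty := Set.nonempty_coe_sort.1 (Nat.card_pos_iff.1 (by omega)).1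
  -- a permutation exchanging the two halves
  let e : O ≃ ↥Oᶜ := (Finite.card_eq.1 hO).some
  let σ : Equiv.Perm Ω := (Equiv.Set.sumCompl O).symm.trans
    ((Equiv.sumCongr e e.symm).trans ((Equiv.sumComm _ _).trans (Equiv.Set.sumCompl O)))
  have hσ : σ • O = Oᶜ := by
    ext y
    rw [Set.mem_smul_set]
    constructor
    · rintro ⟨x, hx, rfl⟩
      show σ x ∈ Oᶜ
      simp only [σ, Equiv.trans_apply, Equiv.Set.sumCompl_symm_apply_of_mem hx]
      simp
    · intro hy
      refine ⟨(e.symm ⟨y, hy⟩ : Ω), (e.symm ⟨y, hy⟩).2, ?_⟩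
      show σ _ = y
      simp only [σ, Equiv.trans_apply, Equiv.Set.sumCompl_symm_apply_of_mem (e.symm ⟨y, hy⟩).2]
      simp
  let K : Subgroup (Equiv.Perm Ω) := Subgroup.closure {g | g • O = O ∨ g • O = Oᶜ}
  have hK : ∀ g ∈ K, g • O = O ∨ g • O = Oᶜ := by
    intro g hg
    induction hg using Subgroup.closure_induction with
    | mem x hx => exact hx
    | one => exact Or.inl (one_smul _ _)
    | mul x y _ _ hx hy =>
      rcases hx with hx | hx <;> rcases hy with hy | hy
      · left; rw [mul_smul, hy, hx]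
      · right; rw [mul_smul, hy, Set.smul_set_compl, hx]
      · right; rw [mul_smul, hy, hx]
      · left; rw [mul_smul, hy, Set.smul_set_compl, hx, compl_compl]
    | inv x _ hx =>
      rcases hx with hx | hx
      · left; rw [inv_smul_eq_iff, hx]
      · right; rw [inv_smul_eq_iff, Set.smul_set_compl, hx, compl_compl]
  have hlt : MulAction.stabilizer (Equiv.Perm Ω) O < K := by
    refine lt_of_le_of_ne (fun g hg => Subgroup.subset_closure (Or.inl hg)) fun h => ?_
    have hmem : σ ∈ K := Subgroup.subset_closure (Or.inr hσ)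
    rw [← h, MulAction.mem_stabilizer_iff, hσ] at hmem
    have : a ∈ Oᶜ := hmem.symm ▸ ha
    exact this ha
  have htop := hc.2 K hlt
  obtain ⟨c, hc', hca⟩ : ∃ c ∈ O, c ≠ a := by
    have : Nontrivial O := Finite.one_lt_card_iff_nontrivial.1 (by omega)
    obtain ⟨⟨c, hc'⟩, hne⟩ := exists_ne (⟨a, ha⟩ : O)
    exact ⟨c, hc', fun h => hne (Subtype.ext h)⟩
  have hcb : c ≠ b := fun h => hb (h ▸ hc')
  rcases hK (Equiv.swap a b) (htop ▸ Subgroup.mem_top _) with h | h
  · have h' : Equiv.swap a b a ∈ Equiv.swap a b • O := Set.smul_mem_smul_set ha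
    rw [h, Equiv.swap_apply_left] at h'
    exact hb h'
  · have h' : Equiv.swap a b c ∈ Equiv.swap a b • O := Set.smul_mem_smul_set hc'
    rw [h, Equiv.swap_apply_of_ne_of_ne hca hcb] at h'
    exact h' hc'

end Cfsg.Agent.S5904
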