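import Cfsg.Statements.S5908
import Cfsg.Agent.Unitary.ThreeTwo

set_option autoImplicit false
open Cfsg

namespace Cfsg.Agent.S5908

/-- The subgroup lattice of PSU₃(2) (the solvable group of order 72, realised over the field with 4 elements) is not complemented: some subgroup H has no subgroup X with H ⊔ X = ⊤ and H ⊓ X = ⊥. -/
theorem result {F : Type*} [Field F] [Fintype F] (hF : Fintype.card F = 4) :
    ¬ ComplementedLattice (Subgroup (Cfsg.PSU 3 F 2)) := by
  intro hc
  have hF' : Nat.card F = 2 ^ 2 := by rw [Nat.card_eq_fintype_card, hF]; rfl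
  obtain ⟨N, hN, -, -, ⟨e⟩, -, -⟩ := CfsgLib.Unitary.psu32_structure hF'
  let π : Cfsg.PSU 3 F 2 →* QuaternionGroup 2 := e.toMonoidHom.comp (QuotientGroup.mk' N)
  have hπ : Function.Surjective π := e.surjective.comp (QuotientGroup.mk'_surjective N)
  have hq1 : ∀ q r : QuaternionGroup 2, q * q = 1 → q * r = r * q := by decide +kernel
  have hq2 : ∀ q : QuaternionGroup 2, q * q * (q * q) = 1 := by decide +kernel
  have hq3 : ∃ q r : QuaternionGroup 2, q * r ≠ r * q := by decide +kernel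
  let H := (Subgroup.center (QuaternionGroup 2)).comap π
  have hsq : ∀ x : Cfsg.PSU 3 F 2, π x * π x = 1 → x ∈ H := fun x hx =>
    Subgroup.mem_center_iff.2 fun r => (hq1 _ r hx).symm
  obtain ⟨X, hX⟩ := hc.exists_isCompl H
  have hbot : X = ⊥ := by
    refine (Subgroup.eq_bot_iff_forall _).2 fun x hx => ?_
    have h2 : x * x = 1 := by
      have : x * x ∈ H ⊓ X := ⟨hsq _ (by rw [map_mul]; exact hq2 _), X.mul_mem hx hx⟩
      rwa [hX.inf_eq_bot, Subgroup.mem_bot] at this
    have : x ∈ H ⊓ X := ⟨hsq _ (by rw [← map_mul, h2, map_one]), hx⟩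
    rwa [hX.inf_eq_bot, Subgroup.mem_bot] at this
  have htop : H = ⊤ := by simpa [hbot] using hX.sup_eq_top
  obtain ⟨q, r, hqr⟩ := hq3
  obtain ⟨x, rfl⟩ := hπ q
  exact hqr (Subgroup.mem_center_iff.1 (htop ▸ Subgroup.mem_top x : x ∈ H) r).symm

end Cfsg.Agent.S5908
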