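import Cfsg.Statements.S5911
import Cfsg.Agent.SimplePower.SymSix

set_option autoImplicit false
open Cfsg

namespace Cfsg.Agent.S5911

/-- Let Ω be a finite set whose size n is not 6. Then every subgroup of the symmetric group on Ω of index n is the stabilizer of a point. -/
theorem result {Ω : Type*} [Fintype Ω] [DecidableEq Ω] (h6 : Fintype.card Ω ≠ 6)
    (H : Subgroup (Equiv.Perm Ω)) (hH : H.index = Fintype.card Ω) :
    ∃ x : Ω, H = MulAction.stabilizer (Equiv.Perm Ω) x := by
  classical
  set n := Fintype.card Ω with hn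
  have hpos : 0 < n := hH ▸ Nat.pos_of_ne_zero Subgroup.index_ne_zero_of_finite
  by_cases h5 : 5 ≤ n
  · refine CfsgLib.SymIndex.eq_stabilizer_of_not_exotic H h5 hH ?_
    rintro ⟨s, hs, hne⟩
    exact hne (CfsgLib.SymIndex.isSwap_map _ h5 h6 (CfsgLib.SymIndex.card_quot H hH) hs)
  have hcardH : Nat.card H * n = n.factorial := by
    have := Subgroup.card_mul_index H
    rwa [hH, Nat.card_perm, Nat.card_eq_fintype_card (α := Ω)] at this
  rcases (show n = 1 ∨ n = 2 ∨ n = 3 ∨ n = 4 by omega) with hv | hv | hv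
  · obtain ⟨x, hx⟩ := Fintype.card_eq_one_iff.1 hv
    have : Subsingleton Ω := ⟨fun a b => (hx a).trans (hx b).symm⟩
    exact ⟨x, Subsingleton.elim _ _⟩
  · have : Nonempty Ω := Fintype.card_pos_iff.1 hpos
    obtain ⟨x⟩ := this
    rw [hv] at hcardH
    have hb : H = ⊥ := Subgroup.card_eq_one.1 (by simpa [Nat.factorial] using hcardH)
    refine ⟨x, hb.trans (Subgroup.card_eq_one.1 ?_).symm⟩
    have h := Subgroup.card_mul_index (MulAction.stabilizer (Equiv.Perm Ω) x)
    rw [CfsgLib.SymIndex.stabilizer_index_eq, Nat.card_perm, Nat.card_eq_fintype_card (α := Ω), ← hn, hv] at h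
    simpa [Nat.factorial] using h
  · -- degrees 3 and 4
    obtain ⟨r, hr, hrn⟩ : ∃ r, r.Prime ∧ r + 1 = n := by
      rcases hv with hv | hv
      · exact ⟨2, Nat.prime_two, hv.symm⟩
      · exact ⟨3, Nat.prime_three, hv.symm⟩
    have : Fact r.Prime := ⟨hr⟩
    have hc : Nat.card H = r.factorial := by
      rw [← hrn, Nat.factorial_succ, mul_comm] at hcardH
      exact Nat.eq_of_mul_eq_mul_left (Nat.succ_pos r) hcardH
    obtain ⟨c, hc'⟩ := exists_prime_orderOf_dvd_card' (G := H) r (hc ▸ Nat.dvd_factorial hr.pos le_rfl)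
    have hcn : (Subgroup.zpowers c).Normal := by
      have hidx : (Subgroup.zpowers c).index * r = r.factorial := by
        rw [← hc, ← Subgroup.index_mul_card (Subgroup.zpowers c), Nat.card_zpowers, hc']
      rcases (show r = 2 ∨ r = 3 by omega) with rfl | rfl
      · have htop : Subgroup.zpowers c = ⊤ := Subgroup.index_eq_one.1 (by simpa [Nat.factorial] using hidx)
        rw [htop]
        infer_instance
      · exact Subgroup.normal_of_index_eq_two (by simp [Nat.factorial] at hidx; omega)
    set g : Equiv.Perm Ω := (c : Equiv.Perm Ω) with hg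
    have hgo : orderOf g = r := by rw [hg, orderOf_submonoid]; exact hc'
    obtain ⟨k, hk⟩ : ∃ k, g.cycleType = Multiset.replicate (k + 1) r := by
      obtain ⟨k, hk⟩ := Equiv.Perm.cycleType_prime_order (hgo ▸ hr)
      exact ⟨k, hgo ▸ hk⟩
    have hsupp : g.support.card = (k + 1) * r := by
      rw [← g.sum_cycleType, hk, Multiset.sum_replicate, smul_eq_mul]
    have hle : g.support.card ≤ n := g.support.card_le_univ
    have hk0 : k = 0 := by
      by_contra hk0
      have : 2 * r ≤ (k + 1) * r := Nat.mul_le_mul_right r (by omega)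
      rcases (show r = 2 ∨ r = 3 by omega) with rfl | rfl <;> omega
    subst hk0
    rw [zero_add, one_mul] at hsupp
    obtain ⟨x, hx⟩ := Finset.card_eq_one.1 (show g.supportᶜ.card = 1 by
      rw [Finset.card_compl, hsupp]; omega)
    have hfix : ∀ y, g y = y ↔ y = x := fun y => by
      rw [← Finset.mem_singleton (a := x), ← hx, Finset.mem_compl, Equiv.Perm.mem_support, not_not]
    refine ⟨x, Subgroup.eq_of_le_of_card_ge (fun h hh => ?_) ?_⟩
    · have h1 := hcn.conj_mem c (Subgroup.mem_zpowers c) ⟨h⁻¹, inv_mem hh⟩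
      obtain ⟨j, hj⟩ := Subgroup.mem_zpowers_iff.1 h1
      have h2 : g ^ j = h⁻¹ * g * h := by
        have := congrArg Subtype.val hj
        simpa [hg] using this
      have h3 : (h⁻¹ * g * h) x = x := by
        rw [← h2]
        exact Equiv.Perm.zpow_apply_eq_self_of_apply_eq_self ((hfix x).2 rfl) j
      rw [Equiv.Perm.mul_apply, Equiv.Perm.mul_apply, Equiv.Perm.inv_eq_iff_eq] at h3
      exact (hfix _).1 h3
    · have h := Subgroup.card_mul_index (MulAction.stabilizer (Equiv.Perm Ω) x)
      rw [CfsgLib.SymIndex.stabilizer_index_eq, Nat.card_perm, Nat.card_eq_fintype_card (α := Ω), ← hn,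
        ← hrn, Nat.factorial_succ, mul_comm] at h
      rw [hc, Nat.eq_of_mul_eq_mul_left (Nat.succ_pos r) h]

end Cfsg.Agent.S5911
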