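import Cfsg.Statements.S5912
import Cfsg.Agent.SimplePower.SymSix

set_option autoImplicit false
open Cfsg

namespace Cfsg.Agent.S5912

/-- The symmetric group on a 6-element set Ω has exactly two conjugacy classes of subgroups of index 6: there are two non-conjugate subgroups of index 6 (a point stabilizer and a transitive subgroup isomorphic to S₅), and every subgroup of index 6 is conjugate to one of them. -/
theorem result {Ω : Type*} [Fintype Ω] [DecidableEq Ω] (h6 : Fintype.card Ω = 6) :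
    ∃ H₁ H₂ : Subgroup (Equiv.Perm Ω), H₁.index = 6 ∧ H₂.index = 6 ∧
      (¬ ∃ g : Equiv.Perm Ω, Subgroup.map (MulAut.conj g).toMonoidHom H₁ = H₂) ∧
      ∀ H : Subgroup (Equiv.Perm Ω), H.index = 6 →
        ∃ g : Equiv.Perm Ω, Subgroup.map (MulAut.conj g).toMonoidHom H₁ = H ∨ Subgroup.map (MulAut.conj g).toMonoidHom H₂ = H := by
  classical
  obtain ⟨x⟩ : Nonempty Ω := Fintype.card_pos_iff.1 (by omega)
  have h5 : 5 ≤ Fintype.card Ω := by omega
  obtain ⟨E, hE, hEne⟩ := CfsgLib.SymIndex.exists_exotic h6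
  have hEi : E.index = Fintype.card Ω := hE.trans h6.symm
  refine ⟨MulAction.stabilizer (Equiv.Perm Ω) x, E, (CfsgLib.SymIndex.stabilizer_index_eq x).trans h6,
    hE, ?_, fun H hH => ?_⟩
  · rintro ⟨g, hg⟩
    rw [← MulAction.stabilizer_smul_eq_stabilizer_map_conj] at hg
    exact hEne _ hg.symm
  · by_cases hs : ∃ y : Ω, H = MulAction.stabilizer (Equiv.Perm Ω) y
    · obtain ⟨y, rfl⟩ := hs
      obtain ⟨g, hg⟩ := CfsgLib.SymIndex.stabilizer_conj x y
      exact ⟨g, Or.inl hg⟩
    · have hHi : H.index = Fintype.card Ω := hH.trans h6.symm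
      obtain ⟨g, hg⟩ := CfsgLib.SymIndex.exotic_conj h6 E H
        (CfsgLib.SymIndex.not_stab_imp_exotic h5 hEi hEne)
        (CfsgLib.SymIndex.not_stab_imp_exotic h5 hHi fun y hy => hs ⟨y, hy⟩) (hH := hEi) (hK := hHi)
      exact ⟨g, Or.inr hg⟩

end Cfsg.Agent.S5912
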