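import Cfsg.Statements.S5938
import Cfsg.Agent.Dickson.Overgroup

set_option autoImplicit false
open Cfsg

namespace Cfsg.Agent.S5938

/-- Let p be a prime with p ≡ ±1 (mod 8) and F a field with p elements. Then PSL_2(F) has a maximal subgroup isomorphic to the symmetric group S_4. -/
theorem result {F : Type*} [Field F] [Fintype F] (p : ℕ) [Fact p.Prime] (hF : Fintype.card F = p) (hp : p % 8 = 1 ∨ p % 8 = 7) : ∃ H : Subgroup (Matrix.ProjectiveSpecialLinearGroup (Fin 2) F), IsCoatom H ∧ Nonempty (H ≃* Equiv.Perm (Fin 4)) := by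
  have h := (Fact.out : p.Prime).two_le
  have hq : Nat.card F = p := by rw [Nat.card_eq_fintype_card, hF]
  have : CharP F p := charP_of_card_eq_prime hF
  have h2 : (2 : F) ≠ 0 := fun h0 => by
    have : p ∣ 2 := (CharP.cast_eq_zero_iff F p 2).1 (by exact_mod_cast h0)
    have := Nat.le_of_dvd two_pos this
    omega
  have h8 : Fintype.card F % 8 ≠ 3 ∧ Fintype.card F % 8 ≠ 5 := by rw [hF]; omega
  obtain ⟨s, hs⟩ := FiniteField.isSquare_two_iff.2 h8
  obtain ⟨H, ⟨e⟩⟩ := CfsgLib.Linear.SmallSub.exists_symFour h2 (s := s) (by rw [pow_two]; exact hs.symm)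
  exact ⟨H, CfsgLib.Dickson.Over.symFour_coatom p hq (by omega) H e, ⟨e⟩⟩

end Cfsg.Agent.S5938
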