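import Cfsg.Statements.S5939
import Cfsg.Agent.Dickson.Overgroup

set_option autoImplicit false
open Cfsg

namespace Cfsg.Agent.S5939

/-- Let p be a prime and F a finite field of characteristic p such that either F has p elements and p ≡ ±1 (mod 10), or F has p² elements and p ≡ ±3 (mod 10). Then PSL_2(F) has a maximal subgroup isomorphic to the alternating group A_5. -/
theorem result {F : Type*} [Field F] [Fintype F] (p : ℕ) [Fact p.Prime] [CharP F p] (h : (Fintype.card F = p ∧ (p % 10 = 1 ∨ p % 10 = 9)) ∨ (Fintype.card F = p ^ 2 ∧ (p % 10 = 3 ∨ p % 10 = 7))) : ∃ H : Subgroup (Matrix.ProjectiveSpecialLinearGroup (Fin 2) F), IsCoatom H ∧ Nonempty (H ≃* alternatingGroup (Fin 5)) := by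
  classical
  have hp : p.Prime := Fact.out
  have hq : Fintype.card F % 2 = 1 ∧ (Fintype.card F % 5 = 1 ∨ Fintype.card F % 5 = 4) ∧
      9 ≤ Fintype.card F := by
    rcases h with ⟨h, h'⟩ | ⟨h, h'⟩ <;> rw [h]
    · have := hp.two_le
      have : p ≠ 9 := fun e => (by norm_num : ¬ Nat.Prime 9) (e ▸ hp)
      refine ⟨?_, ?_, ?_⟩ <;> omega
    · refine ⟨?_, ?_, Nat.pow_le_pow_left (show 3 ≤ p by omega) 2⟩
      · rw [Nat.pow_mod, show p % 2 = 1 by omega]
      · rw [Nat.pow_mod]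
        rcases h' with h' | h'
        · rw [show p % 5 = 3 by omega]; norm_num
        · rw [show p % 5 = 2 by omega]; norm_num
  obtain ⟨hq2, hq5, hq9⟩ := hq
  have h5 : 5 ∣ Nat.card (Matrix.SpecialLinearGroup (Fin 2) F) := by
    rw [CfsgLib.SL2C.card_SL2_mul]
    refine Dvd.dvd.mul_left ?_ _
    rw [CfsgLib.Linear.PSLTwo.sq_sub_one]
    rcases hq5 with h' | h'
    · exact Dvd.dvd.mul_right (by omega) _
    · exact Dvd.dvd.mul_left (by omega) _
  obtain ⟨t, ht⟩ := CfsgLib.Linear.SmallSub.exists_tau h5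
  obtain ⟨H, ⟨e⟩⟩ := CfsgLib.Linear.SmallSub.exists_altFive ht
  have hlt : 60 < Nat.card (CfsgLib.Dickson.PSL2 F) := by
    have h1 := CfsgLib.Linear.PSLTwo.two_mul_card_psl F
      (Nat.odd_iff.2 (by rw [Nat.card_eq_fintype_card]; exact hq2))
    rw [Nat.card_eq_fintype_card (α := F)] at h1
    have h2 := Nat.mul_le_mul hq9 (Nat.sub_le_sub_right (Nat.pow_le_pow_left hq9 2) 1)
    omega
  refine ⟨H, CfsgLib.Dickson.Over.altFive_coatom p ?_ hlt H e, ⟨e⟩⟩
  rw [Nat.card_eq_fintype_card]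
  exact h.imp And.left id

end Cfsg.Agent.S5939
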