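import Cfsg.Statements.S5941
import Cfsg.Agent.Dickson.Overgroup

set_option autoImplicit false
open Cfsg

namespace Cfsg.Agent.S5941

/-- Let K and F be finite fields of odd characteristic with #F = (#K)². Then PSL_2(F) has a maximal subgroup isomorphic to PGL_2(K). -/
theorem result {F K : Type*} [Field F] [Fintype F] [Field K] [Fintype K] (q : ℕ) (hK : Fintype.card K = q) (hF : Fintype.card F = q ^ 2) (hq : Odd q) : ∃ H : Subgroup (Matrix.ProjectiveSpecialLinearGroup (Fin 2) F), IsCoatom H ∧ Nonempty (H ≃* Matrix.ProjGenLinGroup (Fin 2) K) := by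
  classical
  have hKc : Nat.card K = q := by rw [Nat.card_eq_fintype_card, hK]
  obtain ⟨p, a, hp, hFp, ha, rfl, ⟨φ⟩⟩ := CfsgLib.Dickson.Over.exists_setup (F := F) hKc two_ne_zero
    (by rw [Nat.card_eq_fintype_card, hF])
  have : Fact p.Prime := ⟨hp⟩
  have hp2 : p ≠ 2 := fun h => by
    subst h
    exact Nat.not_even_iff_odd.2 hq ((Nat.even_pow' (by omega)).2 even_two)
  have hF2 : ringChar F ≠ 2 := by rwa [ringChar.eq F p]
  have hsq : ∀ x : K, IsSquare (φ x) := fun x => by
    rcases eq_or_ne x 0 with rfl | hx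
    · simp
    rw [FiniteField.isSquare_iff hF2 ((map_ne_zero φ).2 hx)]
    obtain ⟨k, hk⟩ := hq
    have he : Fintype.card F / 2 = (Fintype.card K - 1) * (k + 1) := by
      rw [hF, hK, hk, show (2 * k + 1) ^ 2 = 2 * (2 * k * (k + 1)) + 1 by ring,
        show 2 * k + 1 - 1 = 2 * k by omega]
      omega
    rw [he, pow_mul, ← map_pow, FiniteField.pow_card_sub_one_eq_one x hx, map_one, one_pow]
  obtain ⟨H, ⟨e⟩⟩ := CfsgLib.Linear.PSLTwo.exists_subfield_pgl φ hsq
  have hcard : Nat.card H = p ^ a * ((p ^ a) ^ 2 - 1) := by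
    rw [Nat.card_congr e.toEquiv, CfsgLib.Linear.PSLTwo.card_pgl, hKc]
  refine ⟨H, CfsgLib.Dickson.Over.subfield_coatom p a 2 ha Nat.prime_two
    (by rw [Nat.card_eq_fintype_card, hF]) H (fun h4 hsol => ?_) (fun h => ?_) (Or.inl ⟨hcard, Or.inr rfl⟩), ⟨e⟩⟩
  · have := Group.isSolvable_of_isSolvable_injective (f := e.symm.toMonoidHom) e.symm.injective
    exact CfsgLib.Linear.PSLTwo.not_solvable (F := K) (hKc ▸ h4)
      (Group.isSolvable_of_isSolvable_injective
        (f := Matrix.ProjectiveSpecialLinearGroup.toPGL (n := Fin 2) (R := K))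
        Matrix.ProjectiveSpecialLinearGroup.toPGL_injective)
  · rw [h] at hq
    exact absurd hq (by decide)

end Cfsg.Agent.S5941
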