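import Cfsg.Statements.S5942
import Cfsg.Agent.Dickson.Overgroup

set_option autoImplicit false
open Cfsg

namespace Cfsg.Agent.S5942

/-- Let K and F be finite fields of odd characteristic with #F = (#K)^r for an odd prime r. Then PSL_2(F) has a maximal subgroup isomorphic to PSL_2(K). -/
theorem result {F K : Type*} [Field F] [Fintype F] [Field K] [Fintype K] (q r : ℕ) (hK : Fintype.card K = q) (hF : Fintype.card F = q ^ r) (hq : Odd q) (hr : r.Prime) (hr2 : r ≠ 2) : ∃ H : Subgroup (Matrix.ProjectiveSpecialLinearGroup (Fin 2) F), IsCoatom H ∧ Nonempty (H ≃* Matrix.ProjectiveSpecialLinearGroup (Fin 2) K) := by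
  classical
  have hKc : Nat.card K = q := by rw [Nat.card_eq_fintype_card, hK]
  obtain ⟨p, a, hp, hFp, ha, rfl, ⟨φ⟩⟩ := CfsgLib.Dickson.Over.exists_setup (F := F) hKc hr.ne_zero
    (by rw [Nat.card_eq_fintype_card, hF])
  have : Fact p.Prime := ⟨hp⟩
  obtain ⟨H, ⟨e⟩⟩ := CfsgLib.Linear.PSLTwo.exists_subfield_psl φ
  have hsol : 4 ≤ p ^ a → ¬ Group.IsSolvable H := fun h4 hsol =>
    CfsgLib.Linear.PSLTwo.not_solvable (F := K) (hKc ▸ h4)
      (Group.isSolvable_of_isSolvable_injective (f := e.symm.toMonoidHom) e.symm.injective)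
  have hp2 : p ≠ 2 := fun h => by
    subst h
    exact Nat.not_even_iff_odd.2 hq ((Nat.even_pow' (by omega)).2 even_two)
  refine ⟨H, CfsgLib.Dickson.Over.subfield_coatom p a r ha hr
    (by rw [Nat.card_eq_fintype_card, hF]) H hsol (fun h => ?_)
    (Or.inr ⟨?_, hp2, hr.odd_of_ne_two hr2⟩), ⟨e⟩⟩
  · rw [h] at hq
    exact absurd hq (by decide)
  · rw [Nat.card_congr e.toEquiv,
      CfsgLib.Linear.PSLTwo.two_mul_card_psl K (by rw [hKc]; exact hq), hKc]

end Cfsg.Agent.S5942
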