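import Cfsg.Statements.S5943
import Cfsg.Agent.Dickson.Overgroup

set_option autoImplicit false
open Cfsg

namespace Cfsg.Agent.S5943

/-- Let K and F be finite fields of characteristic 2 with #K = q > 2 and #F = q^r for a prime r. Then PSL_2(F) has a maximal subgroup isomorphic to PSL_2(K) (which equals PGL_2(K) in characteristic 2). -/
theorem result {F K : Type*} [Field F] [Fintype F] [Field K] [Fintype K] (q r : ℕ) (hK : Fintype.card K = q) (hF : Fintype.card F = q ^ r) (hq : Even q) (hq2 : q ≠ 2) (hr : r.Prime) : ∃ H : Subgroup (Matrix.ProjectiveSpecialLinearGroup (Fin 2) F), IsCoatom H ∧ Nonempty (H ≃* Matrix.ProjectiveSpecialLinearGroup (Fin 2) K) := by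
  classical
  have hKc : Nat.card K = q := by rw [Nat.card_eq_fintype_card, hK]
  obtain ⟨p, a, hp, hFp, ha, rfl, ⟨φ⟩⟩ := CfsgLib.Dickson.Over.exists_setup (F := F) hKc hr.ne_zero
    (by rw [Nat.card_eq_fintype_card, hF])
  have : Fact p.Prime := ⟨hp⟩
  obtain ⟨H, ⟨e⟩⟩ := CfsgLib.Linear.PSLTwo.exists_subfield_psl φ
  have hsol : 4 ≤ p ^ a → ¬ Group.IsSolvable H := fun h4 hsol =>
    CfsgLib.Linear.PSLTwo.not_solvable (F := K) (hKc ▸ h4)
      (Group.isSolvable_of_isSolvable_injective (f := e.symm.toMonoidHom) e.symm.injective)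
  have hp2 : p = 2 :=
    ((Nat.prime_dvd_prime_iff_eq Nat.prime_two hp).1
      (Nat.prime_two.dvd_of_dvd_pow hq.two_dvd)).symm
  refine ⟨H, CfsgLib.Dickson.Over.subfield_coatom p a r ha hr
    (by rw [Nat.card_eq_fintype_card, hF]) H hsol hq2 (Or.inl ⟨?_, Or.inl hp2⟩), ⟨e⟩⟩
  have h1 := CfsgLib.Linear.PSLTwo.mul_card (F := K)
  rwa [CfsgLib.Linear.PSLTwo.gcd_eq_one (by rw [hKc]; exact hq), one_mul, hKc,
    ← Nat.card_congr e.toEquiv] at h1

end Cfsg.Agent.S5943
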