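import Cfsg.Statements.S5947
import Cfsg.Agent.S2904
import Cfsg.Agent.GLElem.Singer
import Mathlib.FieldTheory.Finite.GaloisField
import Mathlib.GroupTheory.Perm.Cycle.Type

set_option autoImplicit false
open Cfsg

namespace Cfsg.Agent.S5947

open CfsgLib.GLElem

/-- A prime power one below a power of two is a prime. -/
theorem prime_of_succ_two_pow {p k a : ℕ} (hp : p.Prime) (hk : 0 < k) (h : p ^ k + 1 = 2 ^ a) : (p ^ k).Prime := by
  by_contra hnp
  have hk2 : 2 ≤ k := by
    by_contra hlt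
    exact hnp (by rw [show k = 1 by omega, pow_one]; exact hp)
  have hp2 := hp.two_le
  have hpk : p ^ 2 ≤ p ^ k := Nat.pow_le_pow_right (by omega) hk2
  have ha : 2 ≤ a := by
    by_contra hlt
    have : 2 ^ a ≤ 2 ^ 1 := Nat.pow_le_pow_right (by omega) (by omega)
    nlinarith
  have hodd : Odd p := by
    rcases hp.eq_two_or_odd' with rfl | ho
    · exfalso
      have : 2 ∣ 2 ^ k + 1 := h ▸ dvd_pow_self 2 (by omega)
      have h' : 2 ∣ 2 ^ k := dvd_pow_self 2 (by omega)
      omega
    · exact ho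
  rcases Nat.even_or_odd k with ⟨j, hj⟩ | hko
  · obtain ⟨i, hi⟩ := hodd.pow (n := j)
    have h4 : 4 ∣ 2 ^ a := by
      calc 4 = 2 ^ 2 := rfl
        _ ∣ _ := pow_dvd_pow 2 ha
    rw [← h, hj, pow_add, hi] at h4
    obtain ⟨c, hc⟩ := h4
    ring_nf at hc
    omega
  obtain ⟨j, hj⟩ := hko
  have hd : p + 1 ∣ 2 ^ a := by
    rw [← h, hj]
    exact Odd.nat_add_dvd_pow_add_pow p 1 ⟨j, rfl⟩ |>.trans (by simp)
  obtain ⟨b, hb, hpb⟩ := (Nat.dvd_prime_pow Nat.prime_two).mp hd
  have hba : b < a := by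
    refine lt_of_le_of_ne hb fun e => ?_
    subst e
    nlinarith
  have hb1 : 1 ≤ b := Nat.pos_of_ne_zero fun e => by rw [e, pow_zero] at hpb; omega
  have hp1 : (p : ZMod (2 ^ (b + 1))) = 2 ^ b - 1 := by
    rw [eq_sub_iff_add_eq]
    exact_mod_cast congrArg (Nat.cast : ℕ → ZMod (2 ^ (b + 1))) hpb
  have hzero : (2 : ZMod (2 ^ (b + 1))) ^ (b + 1) = 0 := by
    have := ZMod.natCast_self (2 ^ (b + 1))
    exact_mod_cast this
  have hsq : (p : ZMod (2 ^ (b + 1))) ^ 2 = 1 := by
    have hbb : (2 : ZMod (2 ^ (b + 1))) ^ (b * 2) = 0 := by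
      rw [show b * 2 = (b + 1) + (b - 1) by omega, pow_add (2 : ZMod (2 ^ (b + 1))) (b + 1) (b - 1), hzero, zero_mul]
    rw [hp1]
    ring_nf at hbb hzero ⊢
    linear_combination hbb - hzero
  have hzero' : (2 : ZMod (2 ^ (b + 1))) ^ b = 0 := by
    have h' := congrArg (Nat.cast : ℕ → ZMod (2 ^ (b + 1))) h
    push_cast at h'
    have e : (2 : ZMod (2 ^ (b + 1))) ^ a = 0 := by
      rw [show a = (b + 1) + (a - (b + 1)) by omega, pow_add (2 : ZMod (2 ^ (b + 1))) (b + 1) (a - (b + 1)), hzero, zero_mul]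
    rw [e, hj, pow_add (p : ZMod (2 ^ (b + 1))) (2 * j) 1, pow_mul (p : ZMod (2 ^ (b + 1))) 2 j, hsq, one_pow,
      one_mul, pow_one (p : ZMod (2 ^ (b + 1))), hp1] at h'
    linear_combination h'
  have h' : ((2 ^ b : ℕ) : ZMod (2 ^ (b + 1))) = 0 := by exact_mod_cast hzero'
  rw [ZMod.natCast_eq_zero_iff] at h'
  have := Nat.le_of_dvd (by positivity) h'
  rw [pow_succ] at this
  have : 0 < 2 ^ b := by positivity
  omega

/-- Let F ⊆ K be finite fields with |F| = q and [K : F] = n ≥ 2, regard K as an n-dimensional F-vector space, and let M ≤ GL_F(K) be the Singer group of multiplications by non-zero elements of K (cyclic of order q^n − 1). Assume (n, q) ≠ (6, 2), and that it is not the case that n = 2 with q a prime such that q + 1 is a power of 2. Then every abelian subgroup of GL_F(K) of order q^n − 1 is conjugate to M. -/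
theorem result {F K : Type*} [Field F] [Fintype F] [Field K] [Fintype K] [Algebra F K] (n : ℕ) (hn : 2 ≤ n) (hdim : Module.finrank F K = n)
    (hex1 : ¬ (n = 6 ∧ Fintype.card F = 2))
    (hex2 : ¬ (n = 2 ∧ (Fintype.card F).Prime ∧ ∃ a : ℕ, Fintype.card F + 1 = 2 ^ a))
    (U : Subgroup (Module.End F K)ˣ) (hU : IsMulCommutative U) (hcard : Nat.card U = Fintype.card K - 1) :
    ∃ g : (Module.End F K)ˣ, U.map (MulAut.conj g).toMonoidHom = (Units.map ((Algebra.lmul F K : K →ₐ[F] Module.End F K) : K →* Module.End F K)).range := by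
  classical
  obtain ⟨q, hq⟩ : ∃ q, Fintype.card F = q := ⟨_, rfl⟩
  rw [hq] at hex1 hex2
  have hqF : Nat.card F = q := by rw [Nat.card_eq_fintype_card, hq]
  have hq1 : 1 < q := hq ▸ Fintype.one_lt_card
  have hK : Fintype.card K = q ^ n := by rw [Module.card_eq_pow_finrank (K := F), hq, hdim]
  obtain ⟨p, hchar⟩ := CharP.exists F
  obtain ⟨k, hp, hk⟩ := FiniteField.card F p
  obtain ⟨r, hr, hrd, hrk⟩ := Cfsg.Agent.S2904.result q n hq1 hn (fun h => hex1 ⟨h.2, h.1⟩) (by
    rintro ⟨rfl, a, ha⟩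
    refine hex2 ⟨rfl, ?_, a, ha⟩
    rw [← hq, hk] at ha ⊢
    exact prime_of_succ_two_pow hp k.2 ha)
  have : Fact r.Prime := ⟨hr⟩
  have hpos : 1 ≤ q ^ n := Nat.one_le_pow _ _ (by omega)
  have hrq : ¬ r ∣ q := fun h => by
    have h1 : r ∣ q ^ n := dvd_pow h (by omega)
    have := Nat.dvd_sub h1 hrd
    rw [Nat.sub_sub_self hpos] at this
    exact hr.not_dvd_one this
  have hzq : ∀ j, ((q : ZMod r) ^ j = 1 ↔ r ∣ q ^ j - 1) := fun j => by
    rw [← ZMod.natCast_eq_zero_iff, Nat.cast_sub (Nat.one_le_pow _ _ (by omega)), Nat.cast_pow, Nat.cast_one,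
      sub_eq_zero]
  have hi : orderOf (q : ZMod r) = n := (orderOf_eq_iff (by omega)).mpr
    ⟨(hzq n).mpr hrd, fun j hj hj0 h => hrk j hj0 hj ((hzq j).mp h)⟩
  have hrF : (r : F) ≠ 0 := fun h => by
    have h1 : r = p := ((Nat.prime_dvd_prime_iff_eq hp hr).mp ((CharP.cast_eq_zero_iff F p r).mp h)).symm
    exact hrq (by rw [← hq, hk, h1]; exact dvd_pow_self p k.2.ne')
  have : Finite (Module.End F K) := Module.finite_of_finite F
  obtain ⟨x, hx⟩ := exists_prime_orderOf_dvd_card' (G := U) r (by rw [hcard, hK]; exact hrd)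
  set T : Module.End F K := ((x : (Module.End F K)ˣ) : Module.End F K)
  have hirr : Irred T := irred_of_primitive hqF hr hrF hrq hi hdim (by
    have h1 : x ^ r = 1 := hx ▸ pow_orderOf_eq_one x
    have := congrArg (fun y : U => ((y : (Module.End F K)ˣ) : Module.End F K)) h1
    simpa [T] using this) fun h => by
      have : x = 1 := Subtype.ext (Units.ext h)
      rw [this, orderOf_one] at hx
      exact hr.one_lt.ne hx
  let A := Algebra.adjoin F ({T} : Set (Module.End F K))
  letI : Field A := (isField_adjoin hirr).toField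
  have hev := evalAt_bijective hirr (one_ne_zero : (1 : K) ≠ 0)
  let ev : A ≃ₗ[F] K := LinearEquiv.ofBijective
    ({ toFun := fun a => (a : Module.End F K) 1
       map_add' := fun a b => rfl
       map_smul' := fun c a => rfl } : A →ₗ[F] K) hev
  have : Finite A := Finite.of_equiv K ev.toEquiv.symm
  have : FiniteDimensional F A := Module.Finite.equiv ev.symm
  obtain ⟨φ⟩ := FiniteField.nonempty_algHom_of_finrank_dvd (F := F) (K := A) (L := K) (by rw [ev.finrank_eq])
  have hφ : Function.Bijective φ := ⟨φ.injective, by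
    have := (LinearMap.injective_iff_surjective_of_finrank_eq_finrank ev.finrank_eq (f := φ.toLinearMap)).mp φ.injective
    exact this⟩
  let G : K ≃ₗ[F] K := ev.symm.trans (LinearEquiv.ofBijective φ.toLinearMap hφ)
  have hG : ∀ a : A, G ((a : Module.End F K) 1) = φ a := fun a => by
    show φ (ev.symm (ev a)) = φ a
    rw [ev.symm_apply_apply]
  refine ⟨⟨G.toLinearMap, G.symm.toLinearMap, LinearMap.ext fun w => G.apply_symm_apply w,
    LinearMap.ext fun w => G.symm_apply_apply w⟩, ?_⟩
  refine Subgroup.eq_of_le_of_card_ge ?_ ?_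
  · rintro _ ⟨u, hu, rfl⟩
    have hcomm : (u : Module.End F K) * T = T * (u : Module.End F K) := by
      have h := hU.is_comm.comm (⟨u, hu⟩ : U) x
      exact congrArg (fun y : U => ((y : (Module.End F K)ˣ) : Module.End F K)) h
    obtain ⟨a, ha⟩ := hev.2 ((u : Module.End F K) 1)
    change (a : Module.End F K) 1 = (u : Module.End F K) 1 at ha
    have hmul : ∀ b : A, (u : Module.End F K) ((b : Module.End F K) 1) = ((a * b : A) : Module.End F K) 1 := by
      intro b
      have hb : Commute (u : Module.End F K) (b : Module.End F K) :=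
        Algebra.commute_of_mem_adjoin_singleton_of_commute b.2 hcomm
      rw [← Module.End.mul_apply, hb.eq, Module.End.mul_apply, ← ha, mul_comm a b]
      rfl
    have ha0 : φ a ≠ 0 := by
      intro h
      have e : a = 0 := φ.injective (h.trans (map_zero φ).symm)
      rw [e, ZeroMemClass.coe_zero, LinearMap.zero_apply] at ha
      have h2 : ((u⁻¹ : (Module.End F K)ˣ) : Module.End F K) ((u : Module.End F K) 1) = 1 :=
        congrArg (fun e : Module.End F K => e 1) u.inv_mul
      rw [← ha, map_zero] at h2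
      exact zero_ne_one h2
    refine ⟨Units.mk0 _ ha0, Units.ext (LinearMap.ext fun w => ?_)⟩
    obtain ⟨b, rfl⟩ : ∃ b : A, φ b = w := hφ.2 w
    show φ a * φ b = G ((u : Module.End F K) (G.symm (φ b)))
    rw [← hG b, G.symm_apply_apply, hmul, hG, hG, map_mul]
  · rw [Subgroup.card_map_of_injective (MulAut.conj _).injective, hcard, ← Fintype.card_units,
      ← Nat.card_eq_fintype_card]
    exact Nat.card_le_card_of_surjective _ (MonoidHom.rangeRestrict_surjective _)

end Cfsg.Agent.S5947
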