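import Cfsg.Statements.S5949
import Cfsg.Agent.Elusive.Construct

set_option autoImplicit false
open scoped MatrixGroups
open Cfsg

namespace Cfsg.Agent.S5949

/-- Elements of prime order of PSL_n(q) with no fixed `m`-space. Here `T = PSL_n(F)` for a field `F` with `q = p^f` elements (`n ≥ 2`, `(n, q) ≠ (2, 2), (2, 3)`); an element of `T` of prime order `r` is represented by a matrix `x` of determinant 1 with `x^r` scalar and `x` not scalar; `i` denotes the multiplicative order of `q` modulo `r` (when `r ≠ p`), and `(a)_r` the `r`-part of `a`. Let `1 ≤ m ≤ n/2` and let `r` be a prime dividing the number of `m`-dimensional subspaces of `F^n`. Then every element of `T` of order `r` fixes some `m`-dimensional subspace (the action on `m`-spaces is `r`-elusive) if and only if `r ≠ p` and either (i) `i = 1` and (`r ∣ m`, or `(q−1)_r ≥ (n)_r` where in addition `q ≡ 1 (mod 4)` is required when `r = 2` and `n` is even), or (ii) `2 ≤ i ≤ m` and `n mod i ≥ m mod i`. -/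
theorem result {F : Type*} [Field F] [Fintype F] {p : ℕ} [Fact p.Prime] [CharP F p] {q : ℕ} (hq : Fintype.card F = q)
    (n m : ℕ) (hn : 2 ≤ n) (hT : (n, q) ≠ (2, 2) ∧ (n, q) ≠ (2, 3)) (hm : 1 ≤ m) (hmn : 2 * m ≤ n)
    (r : ℕ) [Fact r.Prime] (hrΩ : r ∣ Nat.card {W : Submodule F (Fin n → F) // Module.finrank F ↥W = m}) :
    (∀ x : Matrix.SpecialLinearGroup (Fin n) F,
      (∃ c : F, ((x ^ r : Matrix.SpecialLinearGroup (Fin n) F) : Matrix (Fin n) (Fin n) F) = c • (1 : Matrix (Fin n) (Fin n) F)) →
      (∀ c : F, (x : Matrix (Fin n) (Fin n) F) ≠ c • (1 : Matrix (Fin n) (Fin n) F)) →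
      ∃ W : Submodule F (Fin n → F), Module.finrank F ↥W = m ∧ W.map (Matrix.toLin' (x : Matrix (Fin n) (Fin n) F)) ≤ W) ↔
    (r ≠ p ∧
      ((orderOf (q : ZMod r) = 1 ∧ (r ∣ m ∨ (padicValNat r n ≤ padicValNat r (q - 1) ∧ (r = 2 → Even n → q % 4 = 1)))) ∨
       (2 ≤ orderOf (q : ZMod r) ∧ orderOf (q : ZMod r) ≤ m ∧ m % orderOf (q : ZMod r) ≤ n % orderOf (q : ZMod r)))) := by
  subst hq
  obtain ⟨hT1, hT2⟩ := hT
  have hmn' : m ≤ n := by omega
  have hfin : Module.finrank F (Fin n → F) = n := Module.finrank_fin_fun F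
  by_cases hrp : r = p
  · exact absurd (hrp ▸ hrΩ) (CfsgLib.Elusive.nSub_mod_char (F := F) (p := p) hfin hmn')
  have hq0 := CfsgLib.Elusive.card_ne_zero_mod (F := F) hrp
  have hrF := CfsgLib.Elusive.cast_ne_zero_of_ne (F := F) hrp
  have hi0 := CfsgLib.Elusive.orderOf_q_pos (F := F) hq0
  generalize hi : orderOf ((Fintype.card F : ℕ) : ZMod r) = i at hi0 ⊢
  simp only [ne_eq, hrp, not_false_eq_true, true_and]
  -- an element with a prescribed power and no invariant `m`-space
  have mk : ∀ (f : (Fin n → F) →ₗ[F] (Fin n → F)) (c : F), f ^ r = c • 1 → LinearMap.det f = 1 →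
      (∀ z : F, f ≠ z • 1) → (¬ ∃ W, CfsgLib.Elusive.Inv f W ∧ Module.finrank F W = m) →
      ¬ ∀ x : Matrix.SpecialLinearGroup (Fin n) F,
        (∃ c : F, ((x ^ r : Matrix.SpecialLinearGroup (Fin n) F) : Matrix (Fin n) (Fin n) F) = c • (1 : Matrix (Fin n) (Fin n) F)) →
        (∀ c : F, (x : Matrix (Fin n) (Fin n) F) ≠ c • (1 : Matrix (Fin n) (Fin n) F)) →
        ∃ W : Submodule F (Fin n → F), Module.finrank F ↥W = m ∧ W.map (Matrix.toLin' (x : Matrix (Fin n) (Fin n) F)) ≤ W := by
    intro f c hf hd hns hno hall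
    obtain ⟨x, hx⟩ := CfsgLib.Elusive.exists_sl hd
    obtain ⟨W, hW, hWm⟩ := hall x ⟨c, CfsgLib.Elusive.sl_pow_scalar hf hx⟩
      (fun z hz => hns z (hx ▸ CfsgLib.Elusive.scalar_toLin hz))
    exact hno ⟨W, CfsgLib.Elusive.inv_iff.2 (hx ▸ hWm), hW⟩
  have hnonscalar : ∀ (f : (Fin n → F) →ₗ[F] (Fin n → F)) (c : F), f ^ r = c • 1 →
      (∀ y : F, y ^ r ≠ c) → ∀ z : F, f ≠ z • 1 := by
    intro f c hf hc z hz
    refine hc z ?_
    rw [hz, smul_pow, one_pow] at hf
    have := congrFun (LinearMap.congr_fun hf (fun _ => 1)) ⟨0, by omega⟩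
    simpa using this
  by_cases hi1 : i = 1
  · subst hi1
    have hrq : r ∣ Fintype.card F - 1 :=
      CfsgLib.Elusive.dvd_card_sub_one_iff.2 (orderOf_eq_one_iff.1 hi)
    rw [show (2 ≤ 1) = False by simp, false_and, or_false, eq_self_iff_true, true_and]
    constructor
    · intro hall
      by_contra hcon
      push Not at hcon
      obtain ⟨hrm, hcon⟩ := hcon
      have hrn : r ∣ n := by
        by_contra hrn
        obtain ⟨h2, h3, -⟩ := hcon (by rw [padicValNat.eq_zero_of_not_dvd hrn]; exact Nat.zero_le _)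
        exact hrn (h2 ▸ h3.two_dvd)
      obtain ⟨c, hc, hcd⟩ := (CfsgLib.Elusive.exists_nonpow_iff hrq hrn (by omega)).2
        (fun hh => (hcon hh.1).2.2 (hh.2 (hcon hh.1).1 (hcon hh.1).2.1))
      obtain ⟨f, hf⟩ := CfsgLib.Elusive.kum_build hc hrn
      refine mk f c hf ?_ (hnonscalar f c hf hc) ?_ hall
      · rw [CfsgLib.Elusive.kum_det (n / r) _ f hf hc
          (by rw [hfin, Nat.div_mul_cancel hrn]), hcd]
      · rintro ⟨W, hW, rfl⟩
        exact hrm (CfsgLib.Elusive.kum_dvd hf hc hW)
    · rintro hR x ⟨c, hxc⟩ -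
      rcases CfsgLib.Elusive.normal_form x hxc with ⟨g, hg, htr⟩ | ⟨hf, hc⟩
      · have he := CfsgLib.Elusive.fix_add_mov (f := g)
        rw [hfin] at he
        obtain ⟨W, hW, hWm⟩ := (CfsgLib.Elusive.exists_inv_iff hg hrF hi.symm one_pos m).2
          ⟨min m (Module.finrank F (CfsgLib.Elusive.fixS g)),
            m - min m (Module.finrank F (CfsgLib.Elusive.fixS g)), min_le_right _ _, by omega, by omega⟩
        exact ⟨W, hWm, htr W hW⟩
      · have hrn : r ∣ n := by
          have := CfsgLib.Elusive.kum_dvd hf hc (CfsgLib.Elusive.Inv.top _)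
          rwa [finrank_top, hfin] at this
        have hrm : r ∣ m := by
          refine hR.resolve_right fun hh => ?_
          refine (CfsgLib.Elusive.exists_nonpow_iff hrq hrn (by omega)).1 ⟨c, hc, ?_⟩ hh
          rw [← CfsgLib.Elusive.kum_det (n / r) _ _ hf hc (by rw [hfin, Nat.div_mul_cancel hrn]),
            LinearMap.det_toLin']
          exact x.2
        obtain ⟨W, hW, hWm⟩ := CfsgLib.Elusive.kum_exists hf hc hrm (by rw [hfin]; exact hmn')
        exact ⟨W, hWm, CfsgLib.Elusive.inv_iff.1 hW⟩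
  · have hi2 : 2 ≤ i := by omega
    simp only [hi1, false_and, false_or, hi2, true_and]
    have hne1 : orderOf ((Fintype.card F : ℕ) : ZMod r) ≠ 1 := hi ▸ hi1
    constructor
    · intro hall
      have hmod : m % i ≤ n % i := by
        by_contra hcon
        push Not at hcon
        have hin : i ≤ n := by
          by_contra h
          rw [Nat.mod_eq_of_lt (show n < i by omega), Nat.mod_eq_of_lt (show m < i by omega)] at hcon
          omega
        obtain ⟨f, hf, hfe⟩ := CfsgLib.Elusive.exists_min_fix hrF hi.symm hi0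
          (show n = n / i * i + n % i by rw [Nat.div_add_mod'])
        refine mk f 1 (by rw [hf, one_smul]) (CfsgLib.Elusive.det_eq_one hne1 hf) ?_ ?_ hall
        · intro z hz
          have hz1 : z = 1 := by
            refine CfsgLib.Elusive.eq_one_of_pow_of_order hne1 ?_
            rw [hz, smul_pow, one_pow] at hf
            have := congrFun (LinearMap.congr_fun hf (fun _ => 1)) ⟨0, by omega⟩
            simpa using this
          have htop : CfsgLib.Elusive.fixS f = ⊤ := by
            rw [eq_top_iff]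
            intro v _
            rw [CfsgLib.Elusive.mem_fixS, hz, hz1]
            simp
          rw [htop, finrank_top, hfin] at hfe
          have := Nat.mod_lt n hi0
          omega
        · rintro hW
          obtain ⟨a, j, ha, -, rfl⟩ := (CfsgLib.Elusive.exists_inv_iff hf hrF hi.symm hi0 m).1 hW
          rw [hfe] at ha
          have := Nat.mod_lt n hi0
          rw [Nat.add_mul_mod_self_right, Nat.mod_eq_of_lt (show a < i by omega)] at hcon
          omega
      refine ⟨?_, hmod⟩
      by_contra him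
      refine CfsgLib.Elusive.not_dvd_nSub hq0 hfin hmn' (fun j hj => ?_) hrΩ
      rw [hi]
      intro hdvd
      rw [Nat.mod_eq_of_lt (show m < i by omega)] at hmod
      have h1 := Nat.div_add_mod n i
      have h2 : i ∣ n % i - j := by
        rw [show n - j = (n % i - j) + i * (n / i) by omega] at hdvd
        exact (Nat.dvd_add_left (dvd_mul_right i _)).1 hdvd
      have h3 := Nat.le_of_dvd (by omega) h2
      have := Nat.mod_lt n hi0
      omega
    · rintro ⟨-, hmod⟩ x ⟨c, hxc⟩ -
      rcases CfsgLib.Elusive.normal_form x hxc with ⟨g, hg, htr⟩ | ⟨-, hc⟩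
      · have he := CfsgLib.Elusive.fix_add_mov (f := g)
        rw [hfin] at he
        obtain ⟨t, ht⟩ : i ∣ Module.finrank F (CfsgLib.Elusive.movS g) := by
          have := CfsgLib.Elusive.mov_dvd hg hrF (CfsgLib.Elusive.Inv.top g)
          rwa [Submodule.map_top, hi] at this
        have hmodle : m % i ≤ Module.finrank F (CfsgLib.Elusive.fixS g) := by
          refine hmod.trans ?_
          have h5 : n % i = (Module.finrank F (CfsgLib.Elusive.fixS g) + i * t) % i := by
            rw [← ht, he]
          rw [h5, Nat.add_mul_mod_self_left]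
          exact Nat.mod_le _ _
        obtain ⟨W, hW, hWm⟩ : ∃ W, CfsgLib.Elusive.Inv g W ∧ Module.finrank F W = m := by
          refine (CfsgLib.Elusive.exists_inv_iff hg hrF hi.symm hi0 m).2 ?_
          have hdm := Nat.div_add_mod' m i
          rcases Nat.lt_or_ge t (m / i) with h | h
          · refine ⟨m - t * i, t, ?_, by rw [ht, Nat.mul_comm], ?_⟩
            · rw [Nat.mul_comm t i]; omega
            · have := Nat.mul_le_mul_right i h.le
              omega
          · exact ⟨m % i, m / i, hmodle, by rw [ht, Nat.mul_comm i t]; exact Nat.mul_le_mul_right i h, by omega⟩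
        exact ⟨W, hWm, htr W hW⟩
      · exact absurd (CfsgLib.Elusive.exists_root_of_order hne1 c) (fun ⟨d, hd⟩ => hc d hd)

end Cfsg.Agent.S5949
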