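import Cfsg.Statements.S5950
import Cfsg.Agent.Elusive.Compl

set_option autoImplicit false
open scoped MatrixGroups
open Cfsg

namespace Cfsg.Agent.S5950

/-- Elements of prime order of PSL_n(q) fixing no decomposition `F^n = U ⊕ W` with `dim U = m`. Here `T = PSL_n(F)` for a field `F` with `q = p^f` elements (`n ≥ 2`, `(n, q) ≠ (2, 2), (2, 3)`); an element of `T` of prime order `r` is represented by a matrix `x` of determinant 1 with `x^r` scalar and `x` not scalar; `i` denotes the multiplicative order of `q` modulo `r` (when `r ≠ p`), and `(a)_r` the `r`-part of `a`. Let `n ≥ 3`, `1 ≤ m < n/2`, and let `r` be a prime dividing the number of such decompositions (unordered pairs `{U, W}` of complementary subspaces with `dim U = m`; since `m ≠ n − m` these are the ordered pairs with `dim U = m`). Then every element of `T` of order `r` fixes such a pair (fixes both `U` and `W` for some complementary `U, W` with `dim U = m`) if and only if one of: (i) `r = p > 2` and every partition of `n` into parts of size at most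 `p` contains, as a sub-multiset, a partition of `m`; (ii) `r = p = 2` and `n` is odd or `m` is even; (iii) `r ≠ p`, `i = 1`, and `r ∣ m` or `(q−1)_r ≥ (n)_r` (with `q ≡ 1 (mod 4)` required when `r = 2` and `n` is even); (iv) `r ≠ p`, `2 ≤ i ≤ m` and `n mod i ≥ m mod i`. -/
theorem result {F : Type*} [Field F] [Fintype F] {p : ℕ} [Fact p.Prime] [CharP F p] {q : ℕ} (hq : Fintype.card F = q)
    (n m : ℕ) (hn : 3 ≤ n) (hm : 1 ≤ m) (hmn : 2 * m < n)
    (r : ℕ) [Fact r.Prime]
    (hrΩ : r ∣ Nat.card {P : Submodule F (Fin n → F) × Submodule F (Fin n → F) // IsCompl P.1 P.2 ∧ Module.finrank F ↥P.1 = m}) :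
    (∀ x : Matrix.SpecialLinearGroup (Fin n) F,
      (∃ c : F, ((x ^ r : Matrix.SpecialLinearGroup (Fin n) F) : Matrix (Fin n) (Fin n) F) = c • (1 : Matrix (Fin n) (Fin n) F)) →
      (∀ c : F, (x : Matrix (Fin n) (Fin n) F) ≠ c • (1 : Matrix (Fin n) (Fin n) F)) →
      ∃ U W : Submodule F (Fin n → F), IsCompl U W ∧ Module.finrank F ↥U = m ∧
        U.map (Matrix.toLin' (x : Matrix (Fin n) (Fin n) F)) ≤ U ∧ W.map (Matrix.toLin' (x : Matrix (Fin n) (Fin n) F)) ≤ W) ↔
    ((r = p ∧ 2 < p ∧ (∀ μ : Multiset ℕ, (∀ a ∈ μ, 0 < a ∧ a ≤ p) → μ.sum = n → ∃ ν : Multiset ℕ, ν ≤ μ ∧ ν.sum = m)) ∨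
     (r = p ∧ p = 2 ∧ (Odd n ∨ Even m)) ∨
     (r ≠ p ∧
      ((orderOf (q : ZMod r) = 1 ∧ (r ∣ m ∨ (padicValNat r n ≤ padicValNat r (q - 1) ∧ (r = 2 → Even n → q % 4 = 1)))) ∨
       (2 ≤ orderOf (q : ZMod r) ∧ orderOf (q : ZMod r) ≤ m ∧ m % orderOf (q : ZMod r) ≤ n % orderOf (q : ZMod r))))) := by
  subst hq
  have hmn' : m ≤ n := by omega
  have hfin : Module.finrank F (Fin n → F) = n := Module.finrank_fin_fun F
  have hmk : ∀ (f : (Fin n → F) →ₗ[F] (Fin n → F)) (c : F), f ^ r = c • 1 → LinearMap.det f = 1 →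
      (∀ z : F, f ≠ z • 1) → (¬ ∃ U W, IsCompl U W ∧ CfsgLib.Elusive.Inv f U ∧ CfsgLib.Elusive.Inv f W ∧ Module.finrank F U = m) →
      ¬ ∀ x : Matrix.SpecialLinearGroup (Fin n) F,
        (∃ c : F, ((x ^ r : Matrix.SpecialLinearGroup (Fin n) F) : Matrix (Fin n) (Fin n) F) = c • (1 : Matrix (Fin n) (Fin n) F)) →
        (∀ c : F, (x : Matrix (Fin n) (Fin n) F) ≠ c • (1 : Matrix (Fin n) (Fin n) F)) →
        ∃ U W : Submodule F (Fin n → F), IsCompl U W ∧ Module.finrank F ↥U = m ∧
          U.map (Matrix.toLin' (x : Matrix (Fin n) (Fin n) F)) ≤ U ∧ W.map (Matrix.toLin' (x : Matrix (Fin n) (Fin n) F)) ≤ W := by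
    intro f c hf hd hns hno hall
    obtain ⟨x, hx⟩ := CfsgLib.Elusive.exists_sl hd
    obtain ⟨U, W, hc, hU, hUi, hWi⟩ := hall x ⟨c, CfsgLib.Elusive.sl_pow_scalar hf hx⟩
      (fun z hz => hns z (hx ▸ CfsgLib.Elusive.scalar_toLin hz))
    exact hno ⟨U, W, hc, CfsgLib.Elusive.inv_iff.2 (hx ▸ hUi), CfsgLib.Elusive.inv_iff.2 (hx ▸ hWi), hU⟩
  by_cases hrp : r = p
  · subst hrp
    simp only [ne_eq, not_true_eq_false, false_and, or_false, true_and]
    have hP : (∀ x : Matrix.SpecialLinearGroup (Fin n) F,
        (∃ c : F, ((x ^ r : Matrix.SpecialLinearGroup (Fin n) F) : Matrix (Fin n) (Fin n) F) = c • (1 : Matrix (Fin n) (Fin n) F)) →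
        (∀ c : F, (x : Matrix (Fin n) (Fin n) F) ≠ c • (1 : Matrix (Fin n) (Fin n) F)) →
        ∃ U W : Submodule F (Fin n → F), IsCompl U W ∧ Module.finrank F ↥U = m ∧
          U.map (Matrix.toLin' (x : Matrix (Fin n) (Fin n) F)) ≤ U ∧ W.map (Matrix.toLin' (x : Matrix (Fin n) (Fin n) F)) ≤ W) ↔
        (∀ μ : Multiset ℕ, (∀ a ∈ μ, 0 < a ∧ a ≤ r) → μ.sum = n → ∃ ν : Multiset ℕ, ν ≤ μ ∧ ν.sum = m) := by
      constructor
      · intro hall μ hμ hμn
        by_contra hcon
        obtain ⟨N, hN, hprof⟩ := CfsgLib.Elusive.exists_nilpotent (F := F) μ (fun a ha => (hμ a ha).2) hμn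
        have hf : (N + 1) ^ r = (1 : F) • 1 := by
          have : Nonempty (Fin n) := ⟨⟨0, by omega⟩⟩
          have : CharP ((Fin n → F) →ₗ[F] (Fin n → F)) r :=
            charP_of_injective_algebraMap (algebraMap F _).injective r
          rw [add_pow_char_of_commute r (Commute.one_right N), hN, one_pow, zero_add, one_smul]
        have hdet : LinearMap.det (N + 1) = 1 := by
          obtain ⟨d, hd⟩ : ∃ d, d = LinearMap.det (N + 1) := ⟨_, rfl⟩
          have h0 : d ^ r = 1 := by rw [hd, ← map_pow, hf, one_smul, map_one]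
          rw [← hd]
          have : ExpChar F r := ExpChar.prime (Fact.out)
          exact frobenius_inj F r (by simpa [frobenius_def] using h0)
        refine hmk (N + 1) 1 hf hdet ?_ ?_ hall
        · intro z hz
          have hN0 : N = (z - 1) • (1 : (Fin n → F) →ₗ[F] (Fin n → F)) := LinearMap.ext fun v => by
            have := LinearMap.congr_fun hz v
            simp only [LinearMap.add_apply, LinearMap.smul_apply, Module.End.one_apply] at this ⊢
            rw [sub_smul, one_smul, ← this, add_sub_cancel_right]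
          have hz1 : z = 1 := by
            rw [hN0, smul_pow, one_pow] at hN
            have := congrFun (LinearMap.congr_fun hN (fun _ => 1)) ⟨0, by omega⟩
            have h0 : (z - 1) ^ r = 0 := by simpa using this
            exact sub_eq_zero.1 (pow_eq_zero_iff (Fact.out : r.Prime).ne_zero |>.1 h0)
          have hμ1 : μ = Multiset.replicate n 1 := by
            refine CfsgLib.Elusive.profile_injective (fun a ha => (hμ a ha).1)
              (fun a ha => by rw [Multiset.eq_of_mem_replicate ha]; exact one_pos) fun k => ?_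
            rw [← hprof, hN0, hz1, sub_self, zero_smul]
            rcases k with _ | k
            · rw [CfsgLib.Elusive.kerDim, pow_zero, top_inf_eq]
              rw [show LinearMap.ker (1 : (Fin n → F) →ₗ[F] (Fin n → F)) = ⊥ from LinearMap.ker_id, finrank_bot]
              simp [CfsgLib.Elusive.profile]
            · rw [CfsgLib.Elusive.kerDim, zero_pow (Nat.succ_ne_zero k), top_inf_eq, LinearMap.ker_zero,
                finrank_top, hfin]
              simp [CfsgLib.Elusive.profile]
          exact hcon ⟨Multiset.replicate m 1, hμ1 ▸ Multiset.replicate_mono 1 hmn', by simp⟩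
        · rintro ⟨U, W, hc, hU, hW, hUd⟩
          have hsub : N + 1 - 1 = N := add_sub_cancel_right N 1
          refine hcon ?_
          obtain ⟨ν, hν, hνs⟩ := CfsgLib.Elusive.exists_sub_partition (p := r) (fun v => by rw [hN]; rfl)
            (fun a ha => (hμ a ha).1) hprof (hsub ▸ CfsgLib.Elusive.inv_add_one.2 hU)
            (hsub ▸ CfsgLib.Elusive.inv_add_one.2 hW) hc
          exact ⟨ν, hν, hνs.trans hUd⟩
      · rintro hμ x ⟨c, hxc⟩ -
        rcases CfsgLib.Elusive.normal_form x hxc with ⟨g, hg, htr⟩ | ⟨-, hc⟩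
        · have hN := CfsgLib.Elusive.sub_one_pow_eq_zero hg
          obtain ⟨μ, h1, h2, -, h4⟩ := CfsgLib.Elusive.exists_jordan (p := r) n ⊤
            (by rw [finrank_top, hfin]) (CfsgLib.Elusive.Inv.top (g - 1)) (fun v _ => by rw [hN]; rfl)
          obtain ⟨ν, hν, hνs⟩ := hμ μ h1 h2
          obtain ⟨U, W, hU, hW, hsup, hinf, hUd⟩ := h4 ν hν
          exact ⟨U, W, IsCompl.of_eq hinf hsup, hUd.trans hνs, htr U (CfsgLib.Elusive.inv_add_one.1 hU),
            htr W (CfsgLib.Elusive.inv_add_one.1 hW)⟩
        · obtain ⟨d, hd⟩ := CfsgLib.Elusive.exists_pth_root (p := r) c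
          exact absurd hd (hc d)
    rw [hP]
    rcases (Fact.out : r.Prime).eq_two_or_odd with h2 | h2
    · subst h2
      simp only [lt_irrefl, false_and, false_or, eq_self_iff_true, true_and]
      constructor
      · intro hμ
        by_contra hcon
        push Not at hcon
        obtain ⟨h1, h2⟩ := hcon
        obtain ⟨s, rfl⟩ := Nat.not_odd_iff_even.1 h1
        obtain ⟨ν, hν, hνs⟩ := hμ (Multiset.replicate s 2)
          (fun a ha => by rw [Multiset.eq_of_mem_replicate ha]; omega) (by simp; omega)
        refine h2 ?_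
        rw [Multiset.eq_replicate_card.2 fun a ha => Multiset.eq_of_mem_replicate (Multiset.mem_of_le hν ha)] at hνs
        rw [← hνs, Multiset.sum_replicate, smul_eq_mul]
        exact even_two.mul_left _
      · intro hpar μ hμ hμn
        have hμe : μ = Multiset.replicate (μ.count 1) 1 + Multiset.replicate (μ.count 2) 2 := by
          ext a
          rw [Multiset.count_add, Multiset.count_replicate, Multiset.count_replicate]
          by_cases ha : a ∈ μ
          · obtain ⟨h1, h2⟩ := hμ a ha
            interval_cases a <;> simp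
          · rw [Multiset.count_eq_zero.2 ha]
            by_cases h1 : a = 1
            · subst h1; simp [Multiset.count_eq_zero.2 ha]
            by_cases h2' : a = 2
            · subst h2'; simp [Multiset.count_eq_zero.2 ha]
            rw [if_neg (Ne.symm h1), if_neg (Ne.symm h2')]
        have hsum : μ.count 1 + μ.count 2 * 2 = n := by
          rw [← hμn]; conv_rhs => rw [hμe]
          simp
        have hb : 2 * min (m / 2) (μ.count 2) ≤ m ∧ m - 2 * min (m / 2) (μ.count 2) ≤ μ.count 1 := by
          refine ⟨by omega, ?_⟩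
          rcases hpar with ⟨s, hs⟩ | ⟨s, hs⟩ <;> omega
        refine ⟨Multiset.replicate (m - 2 * min (m / 2) (μ.count 2)) 1 + Multiset.replicate (min (m / 2) (μ.count 2)) 2,
          ?_, by simp; omega⟩
        conv_rhs => rw [hμe]
        exact add_le_add (Multiset.replicate_mono 1 hb.2) (Multiset.replicate_mono 2 (min_le_right _ _))
    · have hr2 : 2 < r := by have := (Fact.out : r.Prime).two_le; omega
      have hr2' : r ≠ 2 := by omega
      simp only [hr2, hr2', false_and, or_false, true_and]
  have hq0 := CfsgLib.Elusive.card_ne_zero_mod (F := F) hrp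
  have hrF := CfsgLib.Elusive.cast_ne_zero_of_ne (F := F) hrp
  have hi0 := CfsgLib.Elusive.orderOf_q_pos (F := F) hq0
  generalize hi : orderOf ((Fintype.card F : ℕ) : ZMod r) = i at hi0 ⊢
  simp only [ne_eq, hrp, not_false_eq_true, true_and, false_and, false_or]
  have hnonscalar : ∀ (f : (Fin n → F) →ₗ[F] (Fin n → F)) (c : F), f ^ r = c • 1 →
      (∀ y : F, y ^ r ≠ c) → ∀ z : F, f ≠ z • 1 := by
    intro f c hf hc z hz
    refine hc z ?_
    rw [hz, smul_pow, one_pow] at hf
    have := congrFun (LinearMap.congr_fun hf (fun _ => 1)) ⟨0, by omega⟩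
    simpa using this
  by_cases hi1 : i = 1
  · subst hi1
    have hrq : r ∣ Fintype.card F - 1 :=
      CfsgLib.Elusive.dvd_card_sub_one_iff.2 (orderOf_eq_one_iff.1 hi)
    rw [show (2 ≤ 1) = False by simp, false_and, or_false, eq_self_iff_true, true_and]
    constructor
    · intro hall
      by_contra hcon
      push Not at hcon
      obtain ⟨hrm, hcon⟩ := hcon
      have hrn : r ∣ n := by
        by_contra hrn
        obtain ⟨h2, h3, -⟩ := hcon (by rw [padicValNat.eq_zero_of_not_dvd hrn]; exact Nat.zero_le _)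
        exact hrn (h2 ▸ h3.two_dvd)
      obtain ⟨c, hc, hcd⟩ := (CfsgLib.Elusive.exists_nonpow_iff hrq hrn (by omega)).2
        (fun hh => (hcon hh.1).2.2 (hh.2 (hcon hh.1).1 (hcon hh.1).2.1))
      obtain ⟨f, hf⟩ := CfsgLib.Elusive.kum_build hc hrn
      refine hmk f c hf ?_ (hnonscalar f c hf hc) ?_ hall
      · rw [CfsgLib.Elusive.kum_det (n / r) _ f hf hc
          (by rw [hfin, Nat.div_mul_cancel hrn]), hcd]
      · rintro ⟨U, W, -, hU, -, rfl⟩
        exact hrm (CfsgLib.Elusive.kum_dvd hf hc hU)
    · rintro hR x ⟨c, hxc⟩ -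
      rcases CfsgLib.Elusive.normal_form x hxc with ⟨g, hg, htr⟩ | ⟨hf, hc⟩
      · have he := CfsgLib.Elusive.fix_add_mov (f := g)
        rw [hfin] at he
        obtain ⟨W, hW, hWm⟩ := (CfsgLib.Elusive.exists_inv_iff hg hrF hi.symm one_pos m).2
          ⟨min m (Module.finrank F (CfsgLib.Elusive.fixS g)),
            m - min m (Module.finrank F (CfsgLib.Elusive.fixS g)), min_le_right _ _, by omega, by omega⟩
        obtain ⟨W', hc', hW'⟩ := CfsgLib.Elusive.exists_compl_of (CfsgLib.Elusive.isSemisimple hg hrF) hW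
        exact ⟨W, W', hc', hWm, htr W hW, htr W' hW'⟩
      · have hrn : r ∣ n := by
          have := CfsgLib.Elusive.kum_dvd hf hc (CfsgLib.Elusive.Inv.top _)
          rwa [finrank_top, hfin] at this
        have hrm : r ∣ m := by
          refine hR.resolve_right fun hh => ?_
          refine (CfsgLib.Elusive.exists_nonpow_iff hrq hrn (by omega)).1 ⟨c, hc, ?_⟩ hh
          rw [← CfsgLib.Elusive.kum_det (n / r) _ _ hf hc (by rw [hfin, Nat.div_mul_cancel hrn]),
            LinearMap.det_toLin']
          exact x.2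
        obtain ⟨W, hW, hWm⟩ := CfsgLib.Elusive.kum_exists hf hc hrm (by rw [hfin]; exact hmn')
        obtain ⟨W', hc', hW'⟩ := CfsgLib.Elusive.exists_compl_of
          (CfsgLib.Elusive.semisimple_of_pow_eq_smul hf hrF
            (fun e => hc 0 (by rw [e, zero_pow (Fact.out : r.Prime).ne_zero]))) hW
        exact ⟨W, W', hc', hWm, CfsgLib.Elusive.inv_iff.1 hW, CfsgLib.Elusive.inv_iff.1 hW'⟩
  · have hi2 : 2 ≤ i := by omega
    simp only [hi1, false_and, false_or, hi2, true_and]
    have hne1 : orderOf ((Fintype.card F : ℕ) : ZMod r) ≠ 1 := hi ▸ hi1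
    constructor
    · intro hall
      have hmod : m % i ≤ n % i := by
        by_contra hcon
        push Not at hcon
        have hin : i ≤ n := by
          by_contra h
          rw [Nat.mod_eq_of_lt (show n < i by omega), Nat.mod_eq_of_lt (show m < i by omega)] at hcon
          omega
        obtain ⟨f, hf, hfe⟩ := CfsgLib.Elusive.exists_min_fix hrF hi.symm hi0
          (show n = n / i * i + n % i by rw [Nat.div_add_mod'])
        refine hmk f 1 (by rw [hf, one_smul]) (CfsgLib.Elusive.det_eq_one hne1 hf) ?_ ?_ hall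
        · intro z hz
          have hz1 : z = 1 := by
            refine CfsgLib.Elusive.eq_one_of_pow_of_order hne1 ?_
            rw [hz, smul_pow, one_pow] at hf
            have := congrFun (LinearMap.congr_fun hf (fun _ => 1)) ⟨0, by omega⟩
            simpa using this
          have htop : CfsgLib.Elusive.fixS f = ⊤ := by
            rw [eq_top_iff]
            intro v _
            rw [CfsgLib.Elusive.mem_fixS, hz, hz1]
            simp
          rw [htop, finrank_top, hfin] at hfe
          have := Nat.mod_lt n hi0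
          omega
        · rintro ⟨U, W, -, hU, -, hUd⟩
          obtain ⟨a, j, ha, -, rfl⟩ := (CfsgLib.Elusive.exists_inv_iff hf hrF hi.symm hi0 m).1 ⟨U, hU, hUd⟩
          rw [hfe] at ha
          have := Nat.mod_lt n hi0
          rw [Nat.add_mul_mod_self_right, Nat.mod_eq_of_lt (show a < i by omega)] at hcon
          omega
      refine ⟨?_, hmod⟩
      by_contra him
      refine CfsgLib.Elusive.not_dvd_nSub hq0 hfin hmn' (fun j hj => ?_)
        (CfsgLib.Elusive.dvd_nSub_of_dvd_compl hrp hrΩ)
      rw [hi]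
      intro hdvd
      rw [Nat.mod_eq_of_lt (show m < i by omega)] at hmod
      have h1 := Nat.div_add_mod n i
      have h2 : i ∣ n % i - j := by
        rw [show n - j = (n % i - j) + i * (n / i) by omega] at hdvd
        exact (Nat.dvd_add_left (dvd_mul_right i _)).1 hdvd
      have h3 := Nat.le_of_dvd (by omega) h2
      have := Nat.mod_lt n hi0
      omega
    · rintro ⟨-, hmod⟩ x ⟨c, hxc⟩ -
      rcases CfsgLib.Elusive.normal_form x hxc with ⟨g, hg, htr⟩ | ⟨-, hc⟩
      · have he := CfsgLib.Elusive.fix_add_mov (f := g)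
        rw [hfin] at he
        obtain ⟨t, ht⟩ : i ∣ Module.finrank F (CfsgLib.Elusive.movS g) := by
          have := CfsgLib.Elusive.mov_dvd hg hrF (CfsgLib.Elusive.Inv.top g)
          rwa [Submodule.map_top, hi] at this
        have hmodle : m % i ≤ Module.finrank F (CfsgLib.Elusive.fixS g) := by
          refine hmod.trans ?_
          have h5 : n % i = (Module.finrank F (CfsgLib.Elusive.fixS g) + i * t) % i := by
            rw [← ht, he]
          rw [h5, Nat.add_mul_mod_self_left]
          exact Nat.mod_le _ _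
        obtain ⟨W, hW, hWm⟩ : ∃ W, CfsgLib.Elusive.Inv g W ∧ Module.finrank F W = m := by
          refine (CfsgLib.Elusive.exists_inv_iff hg hrF hi.symm hi0 m).2 ?_
          have hdm := Nat.div_add_mod' m i
          rcases Nat.lt_or_ge t (m / i) with h | h
          · refine ⟨m - t * i, t, ?_, by rw [ht, Nat.mul_comm], ?_⟩
            · rw [Nat.mul_comm t i]; omega
            · have := Nat.mul_le_mul_right i h.le
              omega
          · exact ⟨m % i, m / i, hmodle, by rw [ht, Nat.mul_comm i t]; exact Nat.mul_le_mul_right i h, by omega⟩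
        obtain ⟨W', hc', hW'⟩ := CfsgLib.Elusive.exists_compl_of (CfsgLib.Elusive.isSemisimple hg hrF) hW
        exact ⟨W, W', hc', hWm, htr W hW, htr W' hW'⟩
      · exact absurd (CfsgLib.Elusive.exists_root_of_order hne1 c) (fun ⟨d, hd⟩ => hc d hd)

end Cfsg.Agent.S5950
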