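import Cfsg.Statements.S5951
import Cfsg.Agent.Elusive.Pairs

set_option autoImplicit false
open scoped MatrixGroups
open Cfsg

namespace Cfsg.Agent.S5951

/-- Elements of prime order of PSL_n(q) fixing no pair of subspaces `U < W` with `dim U = m`, `dim W = n − m`. Here `T = PSL_n(F)` for a field `F` with `q = p^f` elements (`n ≥ 2`, `(n, q) ≠ (2, 2), (2, 3)`); an element of `T` of prime order `r` is represented by a matrix `x` of determinant 1 with `x^r` scalar and `x` not scalar; `i` denotes the multiplicative order of `q` modulo `r` (when `r ≠ p`), and `(a)_r` the `r`-part of `a`. Let `1 ≤ m < n/2` and let `r` be a prime dividing the number of such pairs. Then every element of `T` of order `r` fixes such a pair (both `U` and `W`) if and only if `r ≠ p` and either (i) `i = 1` and (`r ∣ m`, or `(q−1)_r ≥ (n)_r` with `q ≡ 1 (mod 4)` required when `r = 2` and `n` is even), or (ii) `2 ≤ i ≤ m` and `n mod i ≥ 2 (m mod i)`. -/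
theorem result {F : Type*} [Field F] [Fintype F] {p : ℕ} [Fact p.Prime] [CharP F p] {q : ℕ} (hq : Fintype.card F = q)
    (n m : ℕ) (hn : 2 ≤ n) (hT : (n, q) ≠ (2, 2) ∧ (n, q) ≠ (2, 3)) (hm : 1 ≤ m) (hmn : 2 * m < n)
    (r : ℕ) [Fact r.Prime]
    (hrΩ : r ∣ Nat.card {P : Submodule F (Fin n → F) × Submodule F (Fin n → F) //
        P.1 ≤ P.2 ∧ Module.finrank F ↥P.1 = m ∧ Module.finrank F ↥P.2 = n - m}) :
    (∀ x : Matrix.SpecialLinearGroup (Fin n) F,
      (∃ c : F, ((x ^ r : Matrix.SpecialLinearGroup (Fin n) F) : Matrix (Fin n) (Fin n) F) = c • (1 : Matrix (Fin n) (Fin n) F)) →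
      (∀ c : F, (x : Matrix (Fin n) (Fin n) F) ≠ c • (1 : Matrix (Fin n) (Fin n) F)) →
      ∃ U W : Submodule F (Fin n → F), U ≤ W ∧ Module.finrank F ↥U = m ∧ Module.finrank F ↥W = n - m ∧
        U.map (Matrix.toLin' (x : Matrix (Fin n) (Fin n) F)) ≤ U ∧ W.map (Matrix.toLin' (x : Matrix (Fin n) (Fin n) F)) ≤ W) ↔
    (r ≠ p ∧
      ((orderOf (q : ZMod r) = 1 ∧ (r ∣ m ∨ (padicValNat r n ≤ padicValNat r (q - 1) ∧ (r = 2 → Even n → q % 4 = 1)))) ∨
       (2 ≤ orderOf (q : ZMod r) ∧ orderOf (q : ZMod r) ≤ m ∧ 2 * (m % orderOf (q : ZMod r)) ≤ n % orderOf (q : ZMod r)))) := by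
  subst hq
  obtain ⟨hT1, hT2⟩ := hT
  have hmn' : m ≤ n := by omega
  have hfin : Module.finrank F (Fin n → F) = n := Module.finrank_fin_fun F
  obtain ⟨U₀, hU₀⟩ := CfsgLib.Elusive.exists_sub (F := F) hfin hmn'
  have hcount : r ∣ CfsgLib.Elusive.nSub F (Fin n → F) m * CfsgLib.Elusive.nSub F ((Fin n → F) ⧸ U₀) (n - m - m) := by
    rw [← CfsgLib.Elusive.card_nested hfin (show m ≤ n - m by omega) (Nat.sub_le n m) U₀ hU₀]
    exact hrΩ
  by_cases hrp : r = p
  · have hqd := U₀.finrank_quotient_add_finrank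
    rw [hU₀, hfin] at hqd
    rcases (Fact.out : r.Prime).dvd_mul.1 hcount with h | h
    · exact absurd (hrp ▸ h) (CfsgLib.Elusive.nSub_mod_char (F := F) (p := p) hfin hmn')
    · exact absurd (hrp ▸ h) (CfsgLib.Elusive.nSub_mod_char (F := F) (p := p) (n := n - m) (by omega) (by omega))
  have hq0 := CfsgLib.Elusive.card_ne_zero_mod (F := F) hrp
  have hrF := CfsgLib.Elusive.cast_ne_zero_of_ne (F := F) hrp
  have hi0 := CfsgLib.Elusive.orderOf_q_pos (F := F) hq0
  generalize hi : orderOf ((Fintype.card F : ℕ) : ZMod r) = i at hi0 ⊢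
  simp only [ne_eq, hrp, not_false_eq_true, true_and]
  have mk : ∀ (f : (Fin n → F) →ₗ[F] (Fin n → F)) (c : F), f ^ r = c • 1 → LinearMap.det f = 1 →
      (∀ z : F, f ≠ z • 1) → (¬ ∃ U W, CfsgLib.Elusive.Inv f U ∧ CfsgLib.Elusive.Inv f W ∧ U ≤ W ∧
        Module.finrank F U = m ∧ Module.finrank F W = n - m) →
      ¬ ∀ x : Matrix.SpecialLinearGroup (Fin n) F,
        (∃ c : F, ((x ^ r : Matrix.SpecialLinearGroup (Fin n) F) : Matrix (Fin n) (Fin n) F) = c • (1 : Matrix (Fin n) (Fin n) F)) →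
        (∀ c : F, (x : Matrix (Fin n) (Fin n) F) ≠ c • (1 : Matrix (Fin n) (Fin n) F)) →
        ∃ U W : Submodule F (Fin n → F), U ≤ W ∧ Module.finrank F ↥U = m ∧ Module.finrank F ↥W = n - m ∧
          U.map (Matrix.toLin' (x : Matrix (Fin n) (Fin n) F)) ≤ U ∧ W.map (Matrix.toLin' (x : Matrix (Fin n) (Fin n) F)) ≤ W := by
    intro f c hf hd hns hno hall
    obtain ⟨x, hx⟩ := CfsgLib.Elusive.exists_sl hd
    obtain ⟨U, W, hle, hU, hW, hUi, hWi⟩ := hall x ⟨c, CfsgLib.Elusive.sl_pow_scalar hf hx⟩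
      (fun z hz => hns z (hx ▸ CfsgLib.Elusive.scalar_toLin hz))
    exact hno ⟨U, W, CfsgLib.Elusive.inv_iff.2 (hx ▸ hUi), CfsgLib.Elusive.inv_iff.2 (hx ▸ hWi), hle, hU, hW⟩
  have hnonscalar : ∀ (f : (Fin n → F) →ₗ[F] (Fin n → F)) (c : F), f ^ r = c • 1 →
      (∀ y : F, y ^ r ≠ c) → ∀ z : F, f ≠ z • 1 := by
    intro f c hf hc z hz
    refine hc z ?_
    rw [hz, smul_pow, one_pow] at hf
    have := congrFun (LinearMap.congr_fun hf (fun _ => 1)) ⟨0, by omega⟩
    simpa using this
  by_cases hi1 : i = 1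
  · subst hi1
    have hrq : r ∣ Fintype.card F - 1 :=
      CfsgLib.Elusive.dvd_card_sub_one_iff.2 (orderOf_eq_one_iff.1 hi)
    rw [show (2 ≤ 1) = False by simp, false_and, or_false, eq_self_iff_true, true_and]
    constructor
    · intro hall
      by_contra hcon
      push Not at hcon
      obtain ⟨hrm, hcon⟩ := hcon
      have hrn : r ∣ n := by
        by_contra hrn
        obtain ⟨h2, h3, -⟩ := hcon (by rw [padicValNat.eq_zero_of_not_dvd hrn]; exact Nat.zero_le _)
        exact hrn (h2 ▸ h3.two_dvd)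
      obtain ⟨c, hc, hcd⟩ := (CfsgLib.Elusive.exists_nonpow_iff hrq hrn (by omega)).2
        (fun hh => (hcon hh.1).2.2 (hh.2 (hcon hh.1).1 (hcon hh.1).2.1))
      obtain ⟨f, hf⟩ := CfsgLib.Elusive.kum_build hc hrn
      refine mk f c hf ?_ (hnonscalar f c hf hc) ?_ hall
      · rw [CfsgLib.Elusive.kum_det (n / r) _ f hf hc
          (by rw [hfin, Nat.div_mul_cancel hrn]), hcd]
      · rintro ⟨U, W, hU, -, -, rfl, -⟩
        exact hrm (CfsgLib.Elusive.kum_dvd hf hc hU)
    · rintro hR x ⟨c, hxc⟩ -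
      rcases CfsgLib.Elusive.normal_form x hxc with ⟨g, hg, htr⟩ | ⟨hf, hc⟩
      · obtain ⟨U, W, hU, hW, hle, hUd, hWd⟩ := CfsgLib.Elusive.exists_nested hg hrF hi.symm one_pos
          hfin (by omega : 2 * m ≤ n) hm (by simp [Nat.mod_one])
        exact ⟨U, W, hle, hUd, hWd, htr U hU, htr W hW⟩
      · have hrn : r ∣ n := by
          have := CfsgLib.Elusive.kum_dvd hf hc (CfsgLib.Elusive.Inv.top _)
          rwa [finrank_top, hfin] at this
        have hrm : r ∣ m := by
          refine hR.resolve_right fun hh => ?_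
          refine (CfsgLib.Elusive.exists_nonpow_iff hrq hrn (by omega)).1 ⟨c, hc, ?_⟩ hh
          rw [← CfsgLib.Elusive.kum_det (n / r) _ _ hf hc (by rw [hfin, Nat.div_mul_cancel hrn]),
            LinearMap.det_toLin']
          exact x.2
        obtain ⟨U, hU, hUd⟩ := CfsgLib.Elusive.kum_exists hf hc hrm (by rw [hfin]; exact hmn')
        obtain ⟨j, hj⟩ : r ∣ n - m - m := Nat.dvd_sub (Nat.dvd_sub hrn hrm) hrm
        obtain ⟨W, hW, hUW, -, hWd⟩ := CfsgLib.Elusive.greedy (i := r) [Polynomial.X ^ r - Polynomial.C c]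
          (fun P hP => by
            rw [List.mem_singleton] at hP; subst hP
            exact ⟨Polynomial.monic_X_pow_sub_C c (Fact.out : r.Prime).ne_zero, Polynomial.natDegree_X_pow_sub_C.le⟩)
          hU (CfsgLib.Elusive.Inv.top _) le_top
          (fun u _ => by
            rw [List.prod_singleton, map_sub, map_pow, Polynomial.aeval_X, Polynomial.aeval_C, hf,
              Algebra.algebraMap_eq_smul_one, sub_self, LinearMap.zero_apply]
            exact Submodule.zero_mem _)
          (fun X hX _ _ => Nat.dvd_sub (CfsgLib.Elusive.kum_dvd hf hc hX) (hUd ▸ hrm)) j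
          (by rw [hUd, finrank_top, hfin, Nat.mul_comm, ← hj]; omega)
        exact ⟨U, W, hUW, hUd, by rw [hWd, hUd, Nat.mul_comm, ← hj]; omega,
          CfsgLib.Elusive.inv_iff.1 hU, CfsgLib.Elusive.inv_iff.1 hW⟩
  · have hi2 : 2 ≤ i := by omega
    simp only [hi1, false_and, false_or, hi2, true_and]
    have hne1 : orderOf ((Fintype.card F : ℕ) : ZMod r) ≠ 1 := hi ▸ hi1
    constructor
    · intro hall
      have hmod : 2 * (m % i) ≤ n % i := by
        by_contra hcon
        push Not at hcon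
        have hin : i ≤ n := by
          by_contra h
          rw [Nat.mod_eq_of_lt (show n < i by omega), Nat.mod_eq_of_lt (show m < i by omega)] at hcon
          omega
        obtain ⟨f, hf, hfe⟩ := CfsgLib.Elusive.exists_min_fix hrF hi.symm hi0
          (show n = n / i * i + n % i by rw [Nat.div_add_mod'])
        refine mk f 1 (by rw [hf, one_smul]) (CfsgLib.Elusive.det_eq_one hne1 hf) ?_ ?_ hall
        · intro z hz
          have hz1 : z = 1 := by
            refine CfsgLib.Elusive.eq_one_of_pow_of_order hne1 ?_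
            rw [hz, smul_pow, one_pow] at hf
            have := congrFun (LinearMap.congr_fun hf (fun _ => 1)) ⟨0, by omega⟩
            simpa using this
          have htop : CfsgLib.Elusive.fixS f = ⊤ := by
            rw [eq_top_iff]
            intro v _
            rw [CfsgLib.Elusive.mem_fixS, hz, hz1]
            simp
          rw [htop, finrank_top, hfin] at hfe
          have := Nat.mod_lt n hi0
          omega
        · rintro ⟨U, W, hU, hW, hle, hUd, hWd⟩
          have := CfsgLib.Elusive.nested_necessary hf hrF hi.symm hfin hi0 hfe hU hW hle hUd hWd (by omega)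
          omega
      refine ⟨?_, hmod⟩
      by_contra him
      rw [Nat.mod_eq_of_lt (show m < i by omega)] at hmod
      have hnd : ∀ N, N = n ∨ N = n - m → ∀ j < m, ¬ orderOf ((Fintype.card F : ℕ) : ZMod r) ∣ N - j := by
        intro N hN j hj
        rw [hi]
        intro hdvd
        have h1 := Nat.div_add_mod n i
        have := Nat.mod_lt n hi0
        rcases hN with rfl | rfl
        · rw [show N - j = (N % i - j) + i * (N / i) by omega] at hdvd
          have := Nat.le_of_dvd (by omega) ((Nat.dvd_add_left (dvd_mul_right i _)).1 hdvd)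
          omega
        · rw [show n - m - j = (n % i - m - j) + i * (n / i) by omega] at hdvd
          have := Nat.le_of_dvd (by omega) ((Nat.dvd_add_left (dvd_mul_right i _)).1 hdvd)
          omega
      have hqd := U₀.finrank_quotient_add_finrank
      rw [hU₀, hfin] at hqd
      rcases (Fact.out : r.Prime).dvd_mul.1 hcount with h | h
      · exact CfsgLib.Elusive.not_dvd_nSub hq0 hfin hmn' (hnd n (Or.inl rfl)) h
      · refine CfsgLib.Elusive.not_dvd_nSub (V := (Fin n → F) ⧸ U₀) hq0 (n := n - m) (by omega) (by omega) (hnd _ (Or.inr rfl)) ?_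
        rw [CfsgLib.Elusive.nSub_symm (n := n - m) (by omega) (by omega)] at h
        rwa [show n - m - (n - m - m) = m by omega] at h
    · rintro ⟨him, hmod⟩ x ⟨c, hxc⟩ -
      rcases CfsgLib.Elusive.normal_form x hxc with ⟨g, hg, htr⟩ | ⟨-, hc⟩
      · obtain ⟨U, W, hU, hW, hle, hUd, hWd⟩ := CfsgLib.Elusive.exists_nested hg hrF hi.symm hi0
          hfin (by omega : 2 * m ≤ n) him hmod
        exact ⟨U, W, hle, hUd, hWd, htr U hU, htr W hW⟩
      · exact absurd (CfsgLib.Elusive.exists_root_of_order hne1 c) (fun ⟨d, hd⟩ => hc d hd)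

end Cfsg.Agent.S5951
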