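import Cfsg.Statements.S5954
import Cfsg.Agent.Elusive2.UnitNdgMain
import Cfsg.Agent.Elusive2.UnitUnip

set_option autoImplicit false
open scoped MatrixGroups
open Cfsg

namespace Cfsg.Agent.S5954

theorem two_parts {n m : ℕ} (hmn : m ≤ n) :
    (∀ μ : Multiset ℕ, (∀ a ∈ μ, 0 < a ∧ a ≤ 2) → μ.sum = n → ∃ ν : Multiset ℕ, ν ≤ μ ∧ ν.sum = m) ↔
      (Odd n ∨ Even m) := by
  constructor
  · intro h
    by_contra hcon
    rw [not_or, Nat.not_odd_iff_even, Nat.not_even_iff_odd] at hcon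
    obtain ⟨⟨u, hu⟩, w, hw⟩ := hcon
    obtain ⟨ν, hν, hνs⟩ := h (Multiset.replicate u 2)
      (fun a ha => by rw [Multiset.eq_of_mem_replicate ha]; omega)
      (by rw [Multiset.sum_replicate, smul_eq_mul]; omega)
    obtain ⟨k, -, rfl⟩ := Multiset.le_replicate_iff.1 hν
    rw [Multiset.sum_replicate, smul_eq_mul] at hνs
    omega
  · intro h μ hμ hμs
    obtain ⟨a, f, rfl⟩ : ∃ a f, μ = Multiset.replicate a 1 + Multiset.replicate f 2 := by
      refine ⟨μ.count 1, (μ.filter fun x => ¬ x = 1).card, ?_⟩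
      conv_lhs => rw [← Multiset.filter_add_not (fun x => x = 1) μ]
      rw [Multiset.filter_eq']
      congr 1
      refine Multiset.eq_replicate_card.2 fun b hb => ?_
      obtain ⟨hb, hb1⟩ := Multiset.mem_filter.1 hb
      have := hμ b hb
      omega
    rw [Multiset.sum_add, Multiset.sum_replicate, Multiset.sum_replicate, smul_eq_mul, smul_eq_mul] at hμs
    have hpar : n % 2 = 1 ∨ m % 2 = 0 := h.imp Nat.odd_iff.1 Nat.even_iff.1
    refine ⟨Multiset.replicate (m - 2 * min f (m / 2)) 1 + Multiset.replicate (min f (m / 2)) 2,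
      add_le_add ((Multiset.replicate_le_replicate _).2 ?_) ((Multiset.replicate_le_replicate _).2 (min_le_left _ _)), ?_⟩
    · rcases Nat.le_total f (m / 2) with hf | hf
      · rw [min_eq_left hf]; omega
      · rw [min_eq_right hf]; omega
    · rw [Multiset.sum_add, Multiset.sum_replicate, Multiset.sum_replicate, smul_eq_mul, smul_eq_mul]
      omega

/-- Elements of prime order of PSU_n(q) with no fixed nondegenerate `m`-space. Here `T = PSU_n(q)` (`n ≥ 3`, `(n, q) ≠ (3, 2)`), realised through the matrices of determinant 1 over the field `F` with `q²` elements preserving the Hermitian form `h(u, v) = Σ u_i v_i^q`; an element of `T` of prime order `r` is such a matrix `x` with `x^r` scalar and `x` not scalar. For `r ≠ p` let `i` be the multiplicative order of `q` modulo `r`, `b = i/2` for `i` even and `b = i` for `i` odd, `c = i, i/2, 2i` according as `i ≡ 0, 2 (mod 4)` or `i` odd, and write `k = n mod c`, `ℓ = m mod b`, `ℓ'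 = m mod c`, `n' = ⌊n/b⌋`, `m' = ⌊m/b⌋`, `s = (r−1)/b`; `(a)_r` is the `r`-part of `a`. Let `1 ≤ m < n/2` and let `r` be a prime dividing the number of nondegenerate `m`-spaces. Then every element of `T` of order `r` fixes a nondegenerate `m`-space if and only if one of: (i) `r = p > 2` and every partition of `n` into parts of size at most `p` contains (as a sub-multiset) a partition of `m`; (ii) `r = p = 2` and (`n` is odd or `m` is even); (iii) `r = 2 ≠ p` and (`n` is odd, or `m` is even, or `(q+1)_2 ≥ (n)_2` and `q ≡ 3 (mod 4)`); (iv) `r ≠ p`, `r > 2`, and either `i ≠ 2`, `c ≤ m` and `k ≥ ℓ'`, or `i = 2` and (`r ∣ m` or `(q+1)_r ≥ (n)_r`). -/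
theorem result {F : Type*} [Field F] [Fintype F] {p : ℕ} [Fact p.Prime] [CharP F p] {q : ℕ} (hq : Fintype.card F = q ^ 2)
    (n m : ℕ) (hn : 3 ≤ n) (hT : (n, q) ≠ (3, 2)) (hm : 1 ≤ m) (hmn : 2 * m < n)
    (r : ℕ) [Fact r.Prime]
    (hrΩ : r ∣ Nat.card {W : Submodule F (Fin n → F) // Module.finrank F ↥W = m ∧ (∀ u ∈ W, u ≠ 0 → ∃ v ∈ W, Cfsg.hermForm n F q u v ≠ 0)})
    (i b c : ℕ) (hi : i = orderOf (q : ZMod r)) (hb : b = if Even i then i / 2 else i)
    (hc : c = if i % 4 = 0 then i else if i % 4 = 2 then i / 2 else 2 * i) :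
    (∀ x : Matrix.SpecialLinearGroup (Fin n) F, x ∈ Cfsg.SU n F q →
      (∃ z : F, ((x ^ r : Matrix.SpecialLinearGroup (Fin n) F) : Matrix (Fin n) (Fin n) F) = z • (1 : Matrix (Fin n) (Fin n) F)) →
      (∀ z : F, (x : Matrix (Fin n) (Fin n) F) ≠ z • (1 : Matrix (Fin n) (Fin n) F)) →
      ∃ W : Submodule F (Fin n → F), Module.finrank F ↥W = m ∧ (∀ u ∈ W, u ≠ 0 → ∃ v ∈ W, Cfsg.hermForm n F q u v ≠ 0) ∧
        W.map (Matrix.toLin' (x : Matrix (Fin n) (Fin n) F)) ≤ W) ↔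
    ((r = p ∧ 2 < p ∧ (∀ μ : Multiset ℕ, (∀ a ∈ μ, 0 < a ∧ a ≤ p) → μ.sum = n → ∃ ν : Multiset ℕ, ν ≤ μ ∧ ν.sum = m)) ∨
     (r = p ∧ p = 2 ∧ (Odd n ∨ Even m)) ∨
     (r = 2 ∧ p ≠ 2 ∧ (Odd n ∨ Even m ∨ (padicValNat 2 n ≤ padicValNat 2 (q + 1) ∧ q % 4 = 3))) ∨
     (r ≠ p ∧ 2 < r ∧ ((i ≠ 2 ∧ c ≤ m ∧ m % c ≤ n % c) ∨ (i = 2 ∧ (r ∣ m ∨ padicValNat r n ≤ padicValNat r (q + 1)))))) := by
  have hF : Nat.card F = q ^ 2 := by rw [Nat.card_eq_fintype_card, hq]
  subst hb hc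
  have hp2le := (Fact.out : p.Prime).two_le
  have hrcase : r = p ∨ (r = 2 ∧ p ≠ 2) ∨ (r ≠ p ∧ 2 < r) := by
    have h1 := (Fact.out : r.Prime).two_le
    omega
  rcases hrcase with hrp | ⟨rfl, hp2⟩ | ⟨hrp, hr2⟩
  · subst hrp
    have key := CfsgLib.UnitElusive.all_fix_ndg_char (p := r) hF hm (n := n) (by omega)
    constructor
    · intro hL
      have h := key.1 fun x hx => hL x hx.1 hx.2.1 hx.2.2
      rcases eq_or_ne r 2 with rfl | h2
      · exact Or.inr (Or.inl ⟨rfl, rfl, (two_parts (by omega)).1 h⟩)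
      · exact Or.inl ⟨rfl, by omega, h⟩
    · intro hR x hx hxz hns
      refine key.2 ?_ x ⟨hx, hxz, hns⟩
      obtain ⟨-, -, h⟩ | ⟨-, rfl, h⟩ | ⟨h1, h2, -⟩ | ⟨h1, -⟩ := hR
      · exact h
      · exact (two_parts (by omega)).2 h
      · exact absurd h1 h2
      · exact absurd rfl h1
  · have hodd : q % 2 = 1 := by
      obtain ⟨e, hp, hcard⟩ := FiniteField.card F p
      have h2 : (p : ℕ) % 2 = 1 := Nat.odd_iff.1 (hp.odd_of_ne_two hp2)
      rw [hq] at hcard
      have := congrArg (· % 2) hcard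
      simp [Nat.pow_mod, h2] at this
      rcases Nat.mod_two_eq_zero_or_one q with h | h <;> simp_all
    constructor
    · intro hL
      exact Or.inr (Or.inr (Or.inl ⟨rfl, hp2, (CfsgLib.UnitElusive.all_fix_ndg_two hF hodd hm hmn).1
        fun x hx => hL x hx.1 hx.2.1 hx.2.2⟩))
    · intro hR x hx hxz hns
      obtain ⟨h, -⟩ | ⟨h, -⟩ | ⟨-, -, h⟩ | ⟨-, h, -⟩ := hR
      · exact absurd h.symm hp2
      · exact absurd h.symm hp2
      · exact (CfsgLib.UnitElusive.all_fix_ndg_two hF hodd hm hmn).2 h x ⟨hx, hxz, hns⟩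
      · omega
  · have hr : (r : F) ≠ 0 := CfsgLib.Elusive.cast_ne_zero_of_ne (p := p) hrp
    have key := CfsgLib.UnitElusive.all_fix_ndg_odd hF hr (by omega) hi hm hmn hrΩ
    constructor
    · intro hL
      exact Or.inr (Or.inr (Or.inr ⟨hrp, hr2, key.1 fun x hx => hL x hx.1 hx.2.1 hx.2.2⟩))
    · intro hR x hx hxz hns
      obtain ⟨h, -⟩ | ⟨h, -⟩ | ⟨h, -⟩ | ⟨-, -, h⟩ := hR
      · exact absurd h hrp
      · exact absurd h hrp
      · omega
      · exact key.2 h x ⟨hx, hxz, hns⟩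

end Cfsg.Agent.S5954
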