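import Cfsg.Statements.S5955
import Cfsg.Agent.Elusive2.SympIso
import Cfsg.Agent.Elusive2.Spread
import Cfsg.Agent.Elusive2.IsoCount
import Cfsg.Agent.Elusive2.SympInvIso

set_option autoImplicit false
open scoped MatrixGroups
open Cfsg

namespace Cfsg.Agent.S5955

open Module CfsgLib.Elusive CfsgLib.Elusive2

/-- Elements of prime order of PSp_n(q) with no fixed totally isotropic `m`-space. Here `T = PSp_n(q)` with `n = 2d ≥ 4`, `(n, q) ≠ (4, 2)`, realised through the symplectic matrices over the field `F` with `q` elements (preserving the standard alternating form); an element of `T` of prime order `r` is such a matrix `x` with `x^r` scalar and `x` not scalar. For `r ≠ p` let `i` be the multiplicative order of `q` modulo `r`, `c = i` for `i` even and `c = 2i` for `i` odd, and write `k = n mod c`, `ℓ = m mod i`, `ℓ' = m mod c`, `n' = ⌊n/i⌋`, `m' = ⌊m/i⌋`, `t = (r−1)/i`. Let `1 ≤ m ≤ n/2` and let `r` be a prime dividing the number of totally isotropic `m`-spaces. Then every element of `T` of order `r` fixes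 a totally isotropic `m`-space if and only if either (i) `r = 2 ≠ p` and (`m` is even or `q ≡ 1 (mod 4)`); or (ii) `r ≠ p`, `r > 2`, `i ≤ m`, `k ≥ 2ℓ`, and (`i` is odd or `n' − 2m' ≥ t`). -/
theorem result {F : Type*} [Field F] [Fintype F] {p : ℕ} [Fact p.Prime] [CharP F p] {q : ℕ} (hq : Fintype.card F = q)
    (d m : ℕ) (hd : 2 ≤ d) (hT : (d, q) ≠ (2, 2)) (hm : 1 ≤ m) (hmd : m ≤ d)
    (r : ℕ) [Fact r.Prime]
    (hrΩ : r ∣ Nat.card {W : Submodule F (Fin d ⊕ Fin d → F) // Module.finrank F ↥W = m ∧ (∀ u ∈ W, ∀ v ∈ W, Cfsg.sympForm d F u v = 0)})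
    (i c : ℕ) (hi : i = orderOf (q : ZMod r)) (hc : c = if Even i then i else 2 * i) :
    (∀ x : ↥(Matrix.symplecticGroup (Fin d) F),
      (∃ z : F, ((x ^ r : ↥(Matrix.symplecticGroup (Fin d) F)) : Matrix (Fin d ⊕ Fin d) (Fin d ⊕ Fin d) F) = z • (1 : Matrix (Fin d ⊕ Fin d) (Fin d ⊕ Fin d) F)) →
      (∀ z : F, (x : Matrix (Fin d ⊕ Fin d) (Fin d ⊕ Fin d) F) ≠ z • (1 : Matrix (Fin d ⊕ Fin d) (Fin d ⊕ Fin d) F)) →
      ∃ W : Submodule F (Fin d ⊕ Fin d → F), Module.finrank F ↥W = m ∧ (∀ u ∈ W, ∀ v ∈ W, Cfsg.sympForm d F u v = 0) ∧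
        W.map (Matrix.toLin' (x : Matrix (Fin d ⊕ Fin d) (Fin d ⊕ Fin d) F)) ≤ W) ↔
    ((r = 2 ∧ p ≠ 2 ∧ (Even m ∨ q % 4 = 1)) ∨
     (r ≠ p ∧ 2 < r ∧ i ≤ m ∧ 2 * (m % i) ≤ (2 * d) % c ∧ (Odd i ∨ (r - 1) / i + 2 * (m / i) ≤ (2 * d) / i))) := by
  classical
  subst hq
  have hd0 : 0 < d := by omega
  have hic : c = blockDim (ordq F r) := by rw [hc, hi]; rfl
  have hi' : i = ordq F r := hi
  have halt : ∀ v : Fin d ⊕ Fin d → F, sympBilin d F v v = 0 := fun v => CfsgLib.Symp.form_self v
  have hrefl := alt_refl halt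
  have hcard : finrank F (Fin d ⊕ Fin d → F) = 2 * d := by
    rw [finrank_fintype_fun_eq_card, Fintype.card_sum, Fintype.card_fin, two_mul]
  have hrcase : r = p ∨ (r = 2 ∧ p ≠ 2) ∨ (r ≠ p ∧ 2 < r) := by
    have h1 := (Fact.out : r.Prime).two_le
    omega
  rcases hrcase with hrp | ⟨rfl, hp2⟩ | ⟨hrp, hr2⟩
  · subst hrp
    exact absurd hrΩ (not_dvd_card_iso_char (F := F) hmd)
  · -- involutions
    have h2F : (2 : F) ≠ 0 := by
      exact_mod_cast cast_ne_zero_of_ne (F := F) (p := p) (r := 2) (Ne.symm hp2)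
    have hq2 : Fintype.card F % 2 = 1 := FiniteField.odd_card_of_char_ne_two fun e => h2F (by
      have := ringChar.Nat.cast_ringChar (R := F); rw [e] at this; exact_mod_cast this)
    constructor
    · intro hL
      refine Or.inl ⟨rfl, hp2, ?_⟩
      by_contra hcon
      push Not at hcon
      have hns : ¬ IsSquare (-1 : F) := by
        rw [FiniteField.isSquare_neg_one_iff]
        omega
      obtain ⟨x, hx, hxs, hev⟩ := exists_no_odd (F := F) hd0 hns
      obtain ⟨W, hWm, -, hWi⟩ := hL x ⟨-1, hx⟩ hxs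
      exact hcon.1 (hWm ▸ hev W hWi)
    · intro hR x hx _
      obtain ⟨-, -, hcond⟩ | ⟨-, h, -⟩ := hR
      swap
      · omega
      obtain ⟨z, hz⟩ := hx
      obtain ⟨W, hWd, hWiso, hWi⟩ := exists_inv_iso hd0 hmd h2F
        (hcond.imp id fun h => FiniteField.isSquare_neg_one_iff.2 (by omega)) hz
      exact ⟨W, hWd, hWiso, hWi⟩
  · -- elements of odd order prime to the characteristic
    have hr : r ≠ 2 := by omega
    have hrF : (r : F) ≠ 0 := cast_ne_zero_of_ne (p := p) hrp
    have hi0 : 0 < i := hi' ▸ ordq_pos hrF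
    have hev : Even c := hic ▸ blockDim_even (ordq F r)
    have hc0 : 0 < c := lt_of_lt_of_le hi0 (hic ▸ hi' ▸ le_blockDim (ordq F r))
    obtain ⟨e, he⟩ : Even (2 * d % c) :=
      even_iff_two_dvd.2 ((Nat.dvd_mod_iff (even_iff_two_dvd.1 hev)).2 (dvd_mul_right 2 d))
    have hdm := Nat.div_add_mod (2 * d) c
    have hmm := Nat.div_add_mod m i
    constructor
    · intro hL
      refine Or.inr ⟨hrp, hr2, ?_⟩
      -- the parts of a fixed subspace
      have hparts : ∀ x : ↥(Matrix.symplecticGroup (Fin d) F), x ^ r = 1 →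
          (∀ z : F, (x : Matrix (Fin d ⊕ Fin d) (Fin d ⊕ Fin d) F) ≠ z • 1) →
          ∃ (W : Submodule F (Fin d ⊕ Fin d → F)) (a b : ℕ),
            Inv (Matrix.toLinAlgEquiv' (x : Matrix (Fin d ⊕ Fin d) (Fin d ⊕ Fin d) F)) W ∧
            Iso0 (sympBilin d F) W ∧
            W ≤ movS (Matrix.toLinAlgEquiv' (x : Matrix (Fin d ⊕ Fin d) (Fin d ⊕ Fin d) F)) ∧
            finrank F W = a * i ∧ m = b + a * i ∧
            2 * b ≤ finrank F (fixS (Matrix.toLinAlgEquiv' (x : Matrix (Fin d ⊕ Fin d) (Fin d ⊕ Fin d) F))) := by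
        intro x hx hns
        obtain ⟨W, hWm, hWiso, hWi⟩ := hL x ⟨1, by rw [hx, one_smul]; rfl⟩ hns
        have hP : IsSympPack (sympBilin d F)
            (Matrix.toLinAlgEquiv' (x : Matrix (Fin d ⊕ Fin d) (Fin d ⊕ Fin d) F)) r :=
          ⟨⟨hrefl, fun u v => CfsgLib.Symp.form_smul_smul x u v,
            by rw [← map_pow, ← SubmonoidClass.coe_pow, hx]; exact map_one _, (Fact.out : r.Prime).pos⟩,
            halt, ndg_top_symp⟩
        have hWinv : Inv (Matrix.toLinAlgEquiv' (x : Matrix (Fin d ⊕ Fin d) (Fin d ⊕ Fin d) F)) W :=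
          inv_iff.2 hWi
        obtain ⟨a, ha, hsum, hb⟩ := hP.iso_parts hrF (W := W) hWinv hWiso
        exact ⟨_, a, _, hWinv.map_sub.1, Iso0.mono hWiso hWinv.map_sub.2, LinearMap.map_le_range,
          by rw [hi', ha], by rw [hi', ← hsum, hWm], hb⟩
      have hworst : 0 < 2 * d / c → 2 * (m % i) ≤ 2 * d % c := by
        intro hs
        obtain ⟨x, hx, hns, hfix⟩ := exists_worst (F := F) hrF hr (d := d) hs (e := e)
          (by rw [← hic, mul_comm (2 * d / c)]; omega)
        obtain ⟨W, a, b, -, -, -, -, hab, hb⟩ := hparts x hx hns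
        rw [hfix] at hb
        rw [hab, Nat.add_mul_mod_self_right]
        have := Nat.mod_le b i
        omega
      have hk : 2 * (m % i) ≤ 2 * d % c := by
        rcases Nat.eq_zero_or_pos (2 * d / c) with h0 | hs
        · rw [h0, Nat.mul_zero] at hdm
          have := Nat.mod_le m i
          omega
        · exact hworst hs
      have him : i ≤ m := by
        by_contra hlt
        push Not at hlt
        rw [Nat.mod_eq_of_lt hlt] at hk
        refine not_dvd_card_iso (F := F) hmd (fun k hk' => ?_) hrΩ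
        exact not_dvd_factor (F := F) (h := m) (by rw [← hic]; exact hk) (by omega) (by omega)
      refine ⟨him, hk, ?_⟩
      rcases Nat.even_or_odd i with hie | hio
      swap
      · exact Or.inl hio
      refine Or.inr (Nat.le_of_not_lt fun hlt => ?_)
      have hci : c = i := by rw [hc, if_pos hie]
      rw [hci] at hdm he
      set t := (r - 1) / i with ht
      set s := 2 * d / i with hs
      have ht1 : 0 < t := by
        refine Nat.div_pos (Nat.le_of_dvd (by omega) ?_) hi0
        rw [hi']
        exact orderOf_dvd_of_pow_eq_one (ZMod.pow_card_sub_one_eq_one fun h0 => by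
          have := ordq_pos (F := F) hrF
          rw [ordq, h0] at this
          simp at this)
      have hs1 : 0 < s := Nat.div_pos (by omega) hi0
      obtain ⟨S, R, e', hS, hR, hRodd, hsle, hd'⟩ : ∃ S R e', S < t ∧ 0 < R ∧ Odd R ∧
          (S + 1 = t ∨ S + 1 = s) ∧ 2 * d = (S + R) * i + 2 * e' := by
        obtain ⟨j, hj⟩ := hie
        rcases Nat.lt_or_ge t s with hts | hts
        · rcases Nat.even_or_odd (s - t) with ⟨w, hw⟩ | ⟨w, hw⟩
          · refine ⟨t - 1, s - t + 1, e, by omega, by omega, ⟨w, by omega⟩, Or.inl (by omega), ?_⟩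
            rw [show t - 1 + (s - t + 1) = s by omega, mul_comm s]
            omega
          · refine ⟨t - 1, s - t, e + j, by omega, by omega, ⟨w, hw⟩, Or.inl (by omega), ?_⟩
            rw [show t - 1 + (s - t) = s - 1 by omega, Nat.sub_mul, one_mul, mul_comm s]
            have : i ≤ i * s := Nat.le_mul_of_pos_right i hs1
            omega
        · refine ⟨s - 1, 1, e, by omega, by omega, odd_one, Or.inr (by omega), ?_⟩
          rw [show s - 1 + 1 = s by omega, mul_comm s]
          omega
      obtain ⟨x, hx, hns, hfix, hbound⟩ := exists_spread (F := F) hrF hr (hi' ▸ hie) (d := d) (S := S)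
        (R := R) (e := e') (hi' ▸ hS) hR (hi' ▸ hd')
      obtain ⟨W, a, b, hW, hWiso, hWM, hWd, hab, hb⟩ := hparts x hx hns
      have h2 := hbound W hW hWiso hWM
      rw [hWd, ← hi'] at h2
      rw [hfix] at hb
      have h2a : 2 * a ≤ R - 1 := by
        have h3 : 2 * a ≤ R := Nat.le_of_mul_le_mul_right (by rw [Nat.mul_assoc]; exact h2) hi0
        obtain ⟨w, hw⟩ := hRodd
        omega
      have h4 := Nat.mul_le_mul_right i h2a
      rw [Nat.sub_mul, one_mul, Nat.mul_assoc] at h4
      have h5 : i ≤ R * i := Nat.le_mul_of_pos_left i hR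
      rw [Nat.add_mul] at hd'
      rcases hsle with hSt | hSs
      · have h6 := Nat.mul_le_mul_right i (show s + 1 ≤ t + 2 * (m / i) by omega)
        rw [Nat.add_mul, Nat.add_mul, one_mul, mul_comm s, Nat.mul_assoc, mul_comm (m / i)] at h6
        rw [← hSt, Nat.add_mul, one_mul] at h6
        have := Nat.mod_lt (2 * d) hi0
        omega
      · have h6 : (S + 1) * i = i * s := by rw [hSs, mul_comm]
        rw [Nat.add_mul, one_mul] at h6
        have := Nat.mod_lt (2 * d) hi0
        omega
    · intro hR x hx hns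
      obtain ⟨h, -⟩ | ⟨-, -, him, hk, hcond⟩ := hR
      · omega
      obtain ⟨f, hP, -, hinv⟩ := exists_sympPack hd0 hr x hx hns
      have hsum := fix_add_mov (f := f)
      rw [hcard] at hsum
      obtain ⟨s, hs⟩ := hP.blockDim_dvd_mov hrF (Inv.top f) hP.top
      rw [Submodule.map_top] at hs
      change finrank F (movS f) = _ at hs
      rw [← hic] at hs
      have hk0 : 2 * d % c ≤ finrank F (fixS f) := by
        have h3 : 2 * d = finrank F (fixS f) + c * s := by omega
        rw [h3, Nat.add_mul_mod_self_left]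
        exact Nat.mod_le _ _
      suffices h : ∃ a b, 2 * b ≤ finrank F (fixS f) ∧ m = b + a * i ∧
          ∃ U, Inv f U ∧ Iso0 (sympBilin d F) U ∧ U ≤ movS f ∧ finrank F U = a * i by
        obtain ⟨a, b, hb, hab, hU⟩ := h
        obtain ⟨W, hW, hWiso, hWd⟩ := hP.exists_iso_join hrF hb hU
        exact ⟨W, by omega, hWiso, (hinv W).1 hW⟩
      rw [hi'] at hcond
      rcases Nat.even_or_odd i with hie | hio
      · have hci : c = i := by rw [hc, if_pos hie]
        have hcond' : (r - 1) / i + 2 * (m / i) ≤ 2 * d / i :=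
          hi' ▸ hcond.resolve_left (Nat.not_odd_iff_even.2 (hi' ▸ hie))
        rw [hci] at hs hk0 hk hdm
        set t := (r - 1) / i with ht
        set a := min (m / i) ((s + 1 - t) / 2) with ha
        have hale : a * i ≤ i * (m / i) := by rw [mul_comm]; exact Nat.mul_le_mul_left i (min_le_left _ _)
        refine ⟨a, m - a * i, ?_, by omega, ?_⟩
        · rcases Nat.le_total (m / i) ((s + 1 - t) / 2) with h | h
          · rw [show a = m / i from min_eq_left h, mul_comm (m / i)]
            omega
          · have hsa : s ≤ t + 2 * a := by rw [ha, min_eq_right h]; omega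
            have h1 := Nat.mul_le_mul_left i hsa
            have h2 := Nat.mul_le_mul_left i hcond'
            rw [Nat.mul_add, ← Nat.mul_assoc, mul_comm i 2, Nat.mul_assoc, mul_comm i a] at h1
            rw [Nat.mul_add, ← Nat.mul_assoc, mul_comm i 2, Nat.mul_assoc] at h2
            omega
        · obtain h := hP.exists_iso_mov_even hrF hr (hi' ▸ hie) (a := a) (by
            rcases Nat.eq_zero_or_pos a with h0 | hapos
            · exact Or.inl h0
            · refine Or.inr ?_
              rw [← hi', hs, ← ht]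
              have h1 : t + 2 * a ≤ s + 1 := by
                have : a ≤ (s + 1 - t) / 2 := min_le_right _ _
                omega
              have h2 := Nat.mul_le_mul_right i h1
              rw [Nat.add_mul s 1 i, one_mul, mul_comm s i] at h2
              exact h2)
          rwa [← hi'] at h
      · have hci : c = 2 * i := by rw [hc, if_neg (Nat.not_even_iff_odd.2 hio)]
        rw [hci] at hs hk0 hk
        set a := min s (m / i) with ha
        have hale : a * i ≤ i * (m / i) := by rw [mul_comm]; exact Nat.mul_le_mul_left i (min_le_right _ _)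
        refine ⟨a, m - a * i, ?_, by omega, ?_⟩
        · rcases Nat.le_total s (m / i) with h | h
          · rw [show a = s from min_eq_left h]
            have : 2 * i * s = 2 * (s * i) := by ring
            omega
          · rw [show a = m / i from min_eq_right h, mul_comm (m / i)]
            omega
        · have h := hP.exists_iso_mov_odd hrF (hi' ▸ hio) (a := a) (by
            rw [← hi', hs, mul_comm (2 * i) s]
            exact Nat.mul_le_mul_right _ (min_le_left _ _))
          rwa [← hi'] at h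

end Cfsg.Agent.S5955
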