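import Cfsg.Statements.S5956
import Cfsg.Agent.Elusive2.SympWorst
import Cfsg.Agent.Elusive2.SympCount
import Cfsg.Agent.Elusive2.SympExamples
import Cfsg.Agent.Geo.JordanSp

set_option autoImplicit false
open scoped MatrixGroups
open Cfsg

namespace Cfsg.Agent.S5956

open Module CfsgLib.Elusive CfsgLib.Elusive2

/-- Elements of prime order of PSp_n(q) with no fixed nondegenerate `m`-space. Here `T = PSp_n(q)` with `n = 2d ≥ 4`, `(n, q) ≠ (4, 2)`, realised through the symplectic matrices over the field `F` with `q` elements (preserving the standard alternating form); an element of `T` of prime order `r` is such a matrix `x` with `x^r` scalar and `x` not scalar. For `r ≠ p` let `i` be the multiplicative order of `q` modulo `r`, `c = i` for `i` even and `c = 2i` for `i` odd, and write `k = n mod c`, `ℓ = m mod i`, `ℓ' = m mod c`, `n' = ⌊n/i⌋`, `m' = ⌊m/i⌋`, `t = (r−1)/i`. Let `m` be even with `2 ≤ m < n/2` and let `r` be a prime dividing the number of nondegenerate `m`-spaces. Then every element of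 `T` of order `r` fixes a nondegenerate `m`-space if and only if one of: (i) `r = p > 2` and every partition of `n` into parts of size at most `p` in which every odd part has even multiplicity contains (as a sub-multiset) a partition of `m` in which every odd part has even multiplicity; (ii) `r = p = 2` and (`n ≡ 2 (mod 4)` or `m ≡ 0 (mod 4)`); (iii) `r = 2 ≠ p`; (iv) `r ≠ p`, `r > 2`, `c ≤ m` and `k ≥ ℓ'`. -/
theorem result {F : Type*} [Field F] [Fintype F] {p : ℕ} [Fact p.Prime] [CharP F p] {q : ℕ} (hq : Fintype.card F = q)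
    (d m : ℕ) (hd : 2 ≤ d) (hT : (d, q) ≠ (2, 2)) (hm : 2 ≤ m) (hme : Even m) (hmd : m < d)
    (r : ℕ) [Fact r.Prime]
    (hrΩ : r ∣ Nat.card {W : Submodule F (Fin d ⊕ Fin d → F) // Module.finrank F ↥W = m ∧ (∀ u ∈ W, u ≠ 0 → ∃ v ∈ W, Cfsg.sympForm d F u v ≠ 0)})
    (i c : ℕ) (hi : i = orderOf (q : ZMod r)) (hc : c = if Even i then i else 2 * i) :
    (∀ x : ↥(Matrix.symplecticGroup (Fin d) F),
      (∃ z : F, ((x ^ r : ↥(Matrix.symplecticGroup (Fin d) F)) : Matrix (Fin d ⊕ Fin d) (Fin d ⊕ Fin d) F) = z • (1 : Matrix (Fin d ⊕ Fin d) (Fin d ⊕ Fin d) F)) →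
      (∀ z : F, (x : Matrix (Fin d ⊕ Fin d) (Fin d ⊕ Fin d) F) ≠ z • (1 : Matrix (Fin d ⊕ Fin d) (Fin d ⊕ Fin d) F)) →
      ∃ W : Submodule F (Fin d ⊕ Fin d → F), Module.finrank F ↥W = m ∧ (∀ u ∈ W, u ≠ 0 → ∃ v ∈ W, Cfsg.sympForm d F u v ≠ 0) ∧
        W.map (Matrix.toLin' (x : Matrix (Fin d ⊕ Fin d) (Fin d ⊕ Fin d) F)) ≤ W) ↔
    ((r = p ∧ 2 < p ∧ (∀ μ : Multiset ℕ, (∀ a ∈ μ, 0 < a ∧ a ≤ p) → (∀ a : ℕ, Odd a → Even (μ.count a)) → μ.sum = 2 * d →
        ∃ ν : Multiset ℕ, ν ≤ μ ∧ ν.sum = m ∧ ∀ a : ℕ, Odd a → Even (ν.count a))) ∨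
     (r = p ∧ p = 2 ∧ ((2 * d) % 4 = 2 ∨ m % 4 = 0)) ∨
     (r = 2 ∧ p ≠ 2) ∨
     (r ≠ p ∧ 2 < r ∧ c ≤ m ∧ m % c ≤ (2 * d) % c)) := by
  classical
  subst hq
  have hd0 : 0 < d := by omega
  have hic : c = blockDim (ordq F r) := by rw [hc, hi]; rfl
  obtain ⟨h, hh⟩ := hme
  have halt : ∀ v : Fin d ⊕ Fin d → F, sympBilin d F v v = 0 := fun v => CfsgLib.Symp.form_self v
  have hrefl := alt_refl halt
  have hcard : finrank F (Fin d ⊕ Fin d → F) = 2 * d := by
    rw [finrank_fintype_fun_eq_card, Fintype.card_sum, Fintype.card_fin, two_mul]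
  have : Nontrivial (Fin d ⊕ Fin d → F) := ⟨0, Pi.single (Sum.inl ⟨0, hd0⟩) 1, Ne.symm (by simp)⟩
  have hrcase : (r = p ∧ 2 < p) ∨ (r = p ∧ p = 2) ∨ (r = 2 ∧ p ≠ 2) ∨ (r ≠ p ∧ 2 < r) := by
    have h1 := (Fact.out : r.Prime).two_le
    have h2 := (Fact.out : p.Prime).two_le
    omega
  rcases hrcase with ⟨rfl, hp2⟩ | ⟨rfl, rfl⟩ | ⟨rfl, hp2⟩ | ⟨hrp, hr2⟩
  · -- unipotent elements
    have hr : r ≠ 2 := by omega
    have h2F : (2 : F) ≠ 0 := by
      exact_mod_cast cast_ne_zero_of_ne (F := F) (p := r) (r := 2) (by omega)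
    have : CharP (Module.End F (Fin d ⊕ Fin d → F)) r :=
      charP_of_injective_algebraMap (algebraMap F _).injective r
    have hfrob : ∀ f : Module.End F (Fin d ⊕ Fin d → F), (f - 1) ^ r = f ^ r - 1 := fun f => by
      rw [sub_pow_char_of_commute r (Commute.one_right f), one_pow]
    constructor
    · intro hL
      refine Or.inl ⟨rfl, hp2, fun μ hμ hμe hμs => ?_⟩
      obtain ⟨d', A, hs', hA⟩ := CfsgLib.Geo.JordanSp.exists_type (F := F) _ μ rfl hμe
      obtain rfl : d' = d := by omega
      set g : Module.End F (Fin d' ⊕ Fin d' → F) :=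
        Matrix.toLinAlgEquiv' (A : Matrix (Fin d' ⊕ Fin d') (Fin d' ⊕ Fin d') F) with hg
      have hprof : ∀ j, kerDim (g - 1) ⊤ j = profile μ j := fun j => by
        have h1 := LinearMap.finrank_range_add_finrank_ker ((g - 1) ^ j)
        have h2 : finrank F (LinearMap.range ((g - 1) ^ j)) = (μ.map fun a => a - j).sum := by
          rw [← hA j, hg, ← map_one Matrix.toLinAlgEquiv', ← map_sub, ← map_pow]
          rfl
        rw [h2, hcard] at h1
        rw [kerDim, top_inf_eq]
        have h3 : (μ.map fun a => a - j).sum + profile μ j = μ.sum := by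
          rw [profile, ← Multiset.sum_map_add]
          conv_rhs => rw [← Multiset.map_id' μ]
          refine congrArg _ (Multiset.map_congr rfl fun a _ => ?_)
          omega
        omega
      have hN : (g - 1) ^ r = 0 := by
        refine LinearMap.ker_eq_top.1 (Submodule.eq_top_of_finrank_eq ?_)
        have := hprof r
        rw [kerDim, top_inf_eq] at this
        rw [this, hcard, profile, Multiset.map_congr rfl (fun a ha => min_eq_right (hμ a ha).2),
          Multiset.map_id', hμs]
      by_cases h1 : ∀ a ∈ μ, a = 1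
      · refine ⟨Multiset.replicate m 1, ?_, by simp, fun a _ => ?_⟩
        · rw [← Multiset.le_count_iff_replicate_le]
          have e : μ = Multiset.replicate μ.card 1 := Multiset.eq_replicate_card.2 h1
          rw [e, Multiset.sum_replicate, smul_eq_mul, mul_one] at hμs
          rw [e, Multiset.count_replicate_self]
          omega
        · rw [Multiset.count_replicate]
          split_ifs
          · exact ⟨h, hh⟩
          · exact ⟨0, rfl⟩
      push Not at h1
      obtain ⟨a, ha, ha1⟩ := h1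
      have hgr : g ^ r = 1 := sub_eq_zero.1 ((hfrob g).symm.trans hN)
      have hAr : ((A ^ r : ↥(Matrix.symplecticGroup (Fin d') F)) : Matrix (Fin d' ⊕ Fin d') (Fin d' ⊕ Fin d') F) = 1 := by
        refine Matrix.toLinAlgEquiv'.injective ?_
        rw [SubmonoidClass.coe_pow, map_pow, ← hg, hgr, map_one]
      have hP : IsPack (sympBilin d' F) g r :=
        ⟨hrefl, fun u v => CfsgLib.Symp.form_smul_smul A u v, hgr, by omega⟩
      obtain ⟨W, hWm, hWn, hWi⟩ := hL A ⟨1, by rw [hAr, one_smul]⟩ fun z hz => by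
        have hz1 : g = algebraMap F _ z := by
          rw [hg, hz, map_smul, map_one, Algebra.algebraMap_eq_smul_one]
        have hzr := hgr
        rw [hz1, ← map_pow, ← map_one (algebraMap F (Module.End F (Fin d' ⊕ Fin d' → F)))] at hzr
        have hzr' : z ^ r = 1 := (algebraMap F _).injective hzr
        have hz0 : z = 1 := by
          have := sub_pow_char (p := r) z 1
          rw [hzr', one_pow, sub_self] at this
          exact sub_eq_zero.1 (eq_zero_of_pow_eq_zero this)
        have hg1 : g - 1 = 0 := by rw [hz1, hz0, map_one, sub_self]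
        have hp1 := hprof 1
        rw [hg1, kerDim, top_inf_eq, pow_one, LinearMap.ker_zero, finrank_top, hcard] at hp1
        obtain ⟨μ', rfl⟩ := Multiset.exists_cons_of_mem ha
        have h3 : profile μ' 1 ≤ μ'.sum := by
          conv_rhs => rw [← Multiset.map_id' μ']
          exact Multiset.sum_map_le_sum_map _ _ fun b _ => min_le_right _ _
        rw [profile_cons] at hp1
        rw [Multiset.sum_cons] at hμs
        have := (hμ a (Multiset.mem_cons_self a μ')).1
        omega
      obtain ⟨ν, hν, hνe, hνs⟩ := exists_sp_sub_partition hP halt h2F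
        ndg_top_symp (fun v => LinearMap.congr_fun hN v) (fun b hb => (hμ b hb).1) hprof
        (W := W) (fun v hv => hWi ⟨v, hv, rfl⟩) hWn
      exact ⟨ν, hν, hνs.trans hWm, hνe⟩
    · intro hR
      obtain ⟨-, -, hcond⟩ | ⟨-, h, -⟩ | ⟨h, -⟩ | ⟨h, -⟩ := hR
      rotate_left
      · omega
      · omega
      · exact absurd rfl h
      intro x hx hns
      obtain ⟨f, hP, -, hinv⟩ := exists_sympPack hd0 hr x hx hns
      obtain ⟨μ, hμ, hμe, hμs, -, hμν⟩ := exists_sp_partition hP.toIsPack hP.alt h2F (p := r) _ ⊤ rfl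
        (Inv.top f) hP.top fun v _ => by rw [hfrob f, hP.pow_r, sub_self]; rfl
      rw [finrank_top, hcard] at hμs
      obtain ⟨ν, hν, hνs, hνe⟩ := hcond μ hμ hμe hμs
      obtain ⟨W, hW, hWn, -, hWd⟩ := hμν ν hν hνe
      exact ⟨W, hWd.trans hνs, hWn, (hinv W).1 hW⟩
  · -- involutions in characteristic two
    have h2F : (2 : F) = 0 := CharTwo.two_eq_zero
    constructor
    · intro hL
      refine Or.inr (Or.inl ⟨rfl, rfl, ?_⟩)
      by_contra hcon
      push Not at hcon
      obtain ⟨x, hx, hns, hbad⟩ := exists_full_involution h2F hd0 (Nat.even_iff.2 (by omega))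
      obtain ⟨W, hWm, hWn, hWi⟩ := hL x ⟨1, by rw [hx, one_smul]; rfl⟩ hns
      have := hbad W hWn hWi
      omega
    · intro hR x hx hns
      obtain ⟨-, h, -⟩ | ⟨-, -, hcond⟩ | ⟨-, h⟩ | ⟨h, -⟩ := hR
      · omega
      rotate_left
      · exact absurd rfl h
      · exact absurd rfl h
      obtain ⟨z, hz⟩ := hx
      set f : Module.End F (Fin d ⊕ Fin d → F) :=
        Matrix.toLinAlgEquiv' (x : Matrix (Fin d ⊕ Fin d) (Fin d ⊕ Fin d) F) with hf
      have hform : ∀ u v, sympBilin d F (f u) (f v) = sympBilin d F u v := fun u v =>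
        CfsgLib.Symp.form_smul_smul x u v
      have hfz : f ^ 2 = z • 1 := by
        rw [hf, ← map_pow, ← SubmonoidClass.coe_pow, hz, map_smul, map_one]
      have hz1 : z = 1 := by
        obtain ⟨v, hv⟩ := CfsgLib.Symp.exists_form_ne_zero
          (v := (Pi.single (Sum.inl ⟨0, hd0⟩) 1 : Fin d ⊕ Fin d → F)) (by simp)
        have h1 := (hform _ _).trans (hform (Pi.single (Sum.inl ⟨0, hd0⟩) 1) v)
        rw [← Module.End.mul_apply, ← Module.End.mul_apply, ← pow_two, hfz, LinearMap.smul_apply,
          LinearMap.smul_apply, map_smul, map_smul, LinearMap.smul_apply, smul_eq_mul, smul_eq_mul,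
          ← mul_assoc] at h1
        rcases mul_self_eq_one_iff.1 (mul_right_cancel₀ hv (h1.trans (one_mul _).symm)) with e | e
        · exact e
        · rw [e]; linear_combination (-1 : F) * h2F
      have hP : IsPack (sympBilin d F) f 2 := ⟨hrefl, hform, by rw [hfz, hz1, one_smul], by norm_num⟩
      obtain ⟨W, hW, hWn, -, hWd⟩ := exists_two_ndg hP halt h2F (2 * d) ⊤
        (by rw [finrank_top, hcard]) (Inv.top f) ndg_top_symp m ⟨h, hh⟩ (by omega) hcond
      exact ⟨W, hWd, hWn, inv_iff.1 hW⟩
  · -- involutions in odd characteristic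
    refine ⟨fun _ => Or.inr (Or.inr (Or.inl ⟨rfl, hp2⟩)), fun _ x hx _ => ?_⟩
    obtain ⟨z, hz⟩ := hx
    have h2F : (2 : F) ≠ 0 := by
      exact_mod_cast cast_ne_zero_of_ne (F := F) (p := p) (r := 2) (Ne.symm hp2)
    obtain ⟨W, hWd, hWn, hWi⟩ := exists_inv_planes hd0 (show h ≤ d by omega) h2F hz
    exact ⟨W, by omega, hWn, hWi⟩
  · -- elements of odd order prime to the characteristic
    have hr : r ≠ 2 := by omega
    have hrF : (r : F) ≠ 0 := cast_ne_zero_of_ne (p := p) hrp
    have hc0 : 0 < c := by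
      have := le_blockDim (ordq F r)
      have := ordq_pos (F := F) hrF
      omega
    have hev : Even c := hic ▸ blockDim_even (ordq F r)
    obtain ⟨e, he⟩ : Even (2 * d % c) := even_iff_two_dvd.2 ((Nat.dvd_mod_iff (even_iff_two_dvd.1 hev)).2 (dvd_mul_right 2 d))
    constructor
    · intro hL
      refine Or.inr (Or.inr (Or.inr ⟨hrp, hr2, ?_⟩))
      by_contra hcon
      have hworst : 0 < 2 * d / c → m % c ≤ 2 * d % c := by
        intro hs
        obtain ⟨x, hx, hns, hfix⟩ := exists_worst (F := F) hrF hr (d := d) hs (e := e)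
          (by have := Nat.div_add_mod (2 * d) c; rw [← hic, mul_comm (2 * d / c)]; omega)
        obtain ⟨W, hWm, hWn, hWi⟩ := hL x ⟨1, by rw [hx, one_smul]; rfl⟩ hns
        have hP : IsSympPack (sympBilin d F)
            (Matrix.toLinAlgEquiv' (x : Matrix (Fin d ⊕ Fin d) (Fin d ⊕ Fin d) F)) r :=
          ⟨⟨hrefl, fun u v => CfsgLib.Symp.form_smul_smul x u v,
            by rw [← map_pow, ← SubmonoidClass.coe_pow, hx]; exact map_one _, (Fact.out : r.Prime).pos⟩,
            halt, ndg_top_symp⟩
        obtain ⟨a, b, -, hb, -, hab⟩ := (hP.exists_ndg_iff hrF hr m).1 ⟨W, inv_iff.2 hWi, hWn, hWm⟩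
        rw [← hic] at hab
        rw [hfix] at hb
        rw [hab, Nat.add_mul_mod_self_right]
        exact (Nat.mod_le _ _).trans (hb.trans (by omega))
      rcases Nat.lt_or_ge m c with hmc | hcm
      · have hmk : m ≤ 2 * d % c := by
          rcases Nat.eq_zero_or_pos (2 * d / c) with h0 | hs
          · have := Nat.div_add_mod (2 * d) c
            rw [h0, Nat.mul_zero] at this
            omega
          · have := hworst hs
            rwa [Nat.mod_eq_of_lt hmc] at this
        have : Nonempty {W : Submodule F (Fin d ⊕ Fin d → F) // finrank F W = 2 * h ∧ Ndg (sympBilin d F) W} := by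
          have hP1 : IsPack (sympBilin d F) (1 : Module.End F (Fin d ⊕ Fin d → F)) r :=
            ⟨hrefl, fun _ _ => rfl, one_pow r, (Fact.out : r.Prime).pos⟩
          obtain ⟨W, -, hW, -, hWd⟩ := exists_peel hP1 (Inv.top _) ndg_top_symp (c := 2)
            (fun W _ hWn _ hne => by
              obtain ⟨Y, hY, hYW, hYd⟩ := exists_plane halt hWn hne
              exact ⟨Y, fun v hv => hv, hY, hYW, hYd⟩) h
            (by rw [finrank_top, hcard]; omega)
          exact ⟨⟨W, by omega, hW⟩⟩
        refine not_dvd_card_ndg (F := F) hrF (show h ≤ d by omega) (by rw [← hic]; omega) ?_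
        have hm2 : m = 2 * h := by omega
        subst hm2
        exact hrΩ
      · exact hcon ⟨hcm, hworst (Nat.div_pos (by omega) hc0)⟩
    · intro hR x hx hns
      obtain ⟨h', -⟩ | ⟨h', -⟩ | ⟨h', -⟩ | ⟨-, -, hcm, hk⟩ := hR
      · exact absurd h' hrp
      · exact absurd h' hrp
      · omega
      obtain ⟨f, hP, -, hinv⟩ := exists_sympPack hd0 hr x hx hns
      have hsum := fix_add_mov (f := f)
      rw [hcard] at hsum
      obtain ⟨s, hs⟩ := hP.blockDim_dvd_mov hrF (Inv.top f) hP.top
      rw [Submodule.map_top] at hs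
      change finrank F (movS f) = _ at hs
      rw [← hic] at hs
      have hle : min s (m / c) * c ≤ m :=
        (Nat.mul_le_mul_right c (min_le_right _ _)).trans (Nat.div_mul_le_self m c)
      obtain ⟨W, hW, hWn, hWd⟩ := (hP.exists_ndg_iff hrF hr m).2
        ⟨min s (m / c), m - min s (m / c) * c, by
          rw [Nat.even_sub hle]
          exact ⟨fun _ => hev.mul_left _, fun _ => ⟨h, hh⟩⟩, by
          rcases Nat.le_total s (m / c) with hle' | hle'
          · rw [min_eq_left hle', mul_comm]
            omega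
          · rw [min_eq_right hle']
            have h1 := Nat.mod_add_div m c
            have h2 : 2 * d % c ≤ finrank F (fixS f) := by
              have h3 : 2 * d = finrank F (fixS f) + c * s := by omega
              rw [h3, Nat.add_mul_mod_self_left]
              exact Nat.mod_le _ _
            rw [mul_comm]
            omega, by rw [← hic, hs, mul_comm c]; exact Nat.mul_le_mul_right _ (min_le_left _ _), by
          rw [← hic, Nat.sub_add_cancel hle]⟩
      exact ⟨W, hWd, hWn, (hinv W).1 hW⟩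

end Cfsg.Agent.S5956
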