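import Cfsg.Statements.S5957
import Cfsg.Agent.Elusive.Decomp

set_option autoImplicit false
open scoped MatrixGroups
open Cfsg

namespace Cfsg.Agent.S5957

/-- Involutions of PSL_n(q) and imprimitive subgroups. Here `T = PSL_n(F)` for a field `F` with `q = p^f` elements (`n ≥ 2`, `(n, q) ≠ (2, 2), (2, 3)`), `n = a·t` with `t ≥ 2`, and Ω is the set of direct-sum decompositions of `F^n` into `t` subspaces of dimension `a` (unordered; their number is the number of ordered ones divided by `t!`), whose stabilizers are the imprimitive subgroups of type GL_a(q) ≀ S_t (maximal except in some small cases; maximality is not assumed); an element of `T` of prime order `r` (a matrix `x` of determinant 1 with `x^r` scalar, `x` not scalar) fixes a point of Ω when it permutes the summands of some such decomposition. If the number of such decompositions is even, then every involution of `T` stabilizes one of them (the action is 2-elusive). -/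
theorem result {F : Type*} [Field F] [Fintype F] {p : ℕ} [Fact p.Prime] [CharP F p] {q : ℕ} (hq : Fintype.card F = q)
    (n a t : ℕ) (hn : 2 ≤ n) (hT : (n, q) ≠ (2, 2) ∧ (n, q) ≠ (2, 3)) (hat : n = a * t) (ha : 1 ≤ a) (ht : 2 ≤ t)
    (hΩ : 2 ∣ Nat.card {D : Fin t → Submodule F (Fin n → F) // Cfsg.Geo.IsMDecomposition a D} / Nat.factorial t)
    (x : Matrix.SpecialLinearGroup (Fin n) F)
    (hx1 : ∃ z : F, ((x ^ 2 : Matrix.SpecialLinearGroup (Fin n) F) : Matrix (Fin n) (Fin n) F) = z • (1 : Matrix (Fin n) (Fin n) F))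
    (hx2 : ∀ z : F, (x : Matrix (Fin n) (Fin n) F) ≠ z • (1 : Matrix (Fin n) (Fin n) F)) :
    ∃ D : Fin t → Submodule F (Fin n → F), Cfsg.Geo.IsMDecomposition a D ∧
        ∃ σ : Equiv.Perm (Fin t), ∀ j, (D j).map (Matrix.toLin' (x : Matrix (Fin n) (Fin n) F)) = D (σ j) := by
  subst hq
  have hfin : Module.finrank F (Fin n → F) = a * t := by rw [Module.finrank_fin_fun, hat]
  obtain ⟨z, hxz⟩ := hx1
  have hf : Matrix.toLin' (x : Matrix (Fin n) (Fin n) F) ^ 2 = z • 1 := by
    rw [Matrix.SpecialLinearGroup.coe_pow] at hxz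
    show Matrix.toLinAlgEquiv' (x : Matrix (Fin n) (Fin n) F) ^ 2 = z • 1
    rw [← map_pow, hxz, map_smul, map_one]
  suffices h : CfsgLib.Elusive.Splits (Matrix.toLin' (x : Matrix (Fin n) (Fin n) F)) a ⊤ t by
    obtain ⟨D, hD, hs, σ, hσ⟩ := h
    exact ⟨D, ⟨ht, ha, hD, CfsgLib.Elusive.indep_of_dims hD hs hfin, hs⟩, σ, hσ⟩
  have hz0 : z ≠ 0 := by
    intro hz
    have hd := congrArg LinearMap.det hf
    rw [map_pow, LinearMap.det_toLin', x.2, one_pow, hz, zero_smul, LinearMap.det_zero,
      Module.finrank_fin_fun, zero_pow (by omega)] at hd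
    exact one_ne_zero hd
  by_cases hsq : ∃ y : F, y ^ 2 = z
  · obtain ⟨y, rfl⟩ := hsq
    have hy : y ≠ 0 := fun e => hz0 (by rw [e, zero_pow two_ne_zero])
    set f := Matrix.toLin' (x : Matrix (Fin n) (Fin n) F) with hfdef
    have hg : (y⁻¹ • f) ^ 2 = 1 := by
      rw [smul_pow, hf, smul_smul, ← mul_pow, inv_mul_cancel₀ hy, one_pow, one_smul]
    suffices h : CfsgLib.Elusive.Splits (y⁻¹ • f) a ⊤ t by
      obtain ⟨D, hD, hs, σ, hσ⟩ := h
      exact ⟨D, hD, hs, σ, fun j => by rw [← hσ j, Submodule.map_smul _ _ _ (inv_ne_zero hy)]⟩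
    by_cases h2 : (2 : F) = 0
    · have : CharP F 2 := CharTwo.of_one_ne_zero_of_two_eq_zero one_ne_zero h2
      have : Fact (Nat.Prime 2) := ⟨Nat.prime_two⟩
      exact CfsgLib.Elusive.splits_unipotent (CfsgLib.Elusive.sub_one_pow_eq_zero hg) hg (by omega) hfin
    · exact CfsgLib.Elusive.splits_involution hg h2 (by omega) hfin
  · refine CfsgLib.Elusive.splits_kummer hf (fun y hy => hsq ⟨y, hy⟩) ?_ (by omega) hfin
    intro h2
    have : CharP F 2 := CharTwo.of_one_ne_zero_of_two_eq_zero one_ne_zero h2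
    have : Fact (Nat.Prime 2) := ⟨Nat.prime_two⟩
    obtain ⟨d, hd⟩ := CfsgLib.Elusive.exists_pth_root (p := 2) z
    exact hsq ⟨d, hd⟩

end Cfsg.Agent.S5957
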