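import Cfsg.Statements.S5958
import Cfsg.Agent.Elusive.DecompCount
import Cfsg.Agent.Elusive.OrbitsBuild

set_option autoImplicit false
open scoped MatrixGroups
open Cfsg

namespace Cfsg.Agent.S5958

/-- Elements of odd prime order of PSL_n(q) and imprimitive subgroups. Here `T = PSL_n(F)` for a field `F` with `q = p^f` elements (`n ≥ 2`, `(n, q) ≠ (2, 2), (2, 3)`), `n = a·t` with `t ≥ 2`, and Ω is the set of direct-sum decompositions of `F^n` into `t` subspaces of dimension `a` (unordered; their number is the number of ordered ones divided by `t!`), whose stabilizers are the imprimitive subgroups of type GL_a(q) ≀ S_t (maximal except in some small cases; maximality is not assumed); an element of `T` of prime order `r` (a matrix `x` of determinant 1 with `x^r` scalar, `x` not scalar) fixes a point of Ω when it permutes the summands of some such decomposition. Let `r ≠ p` be an odd prime dividing the number of such decompositions, let `c` be the multiplicative order of `q` modulo `r`,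 and write `k = n mod c`, `ℓ = a mod c`. Then every element of `T` of order `r` stabilizes such a decomposition if and only if either `a = 1`, `c = r − 1 > 1` and `n ≤ k·r`, or `c ≤ a` and `k = t·ℓ`. -/
theorem result {F : Type*} [Field F] [Fintype F] {p : ℕ} [Fact p.Prime] [CharP F p] {q : ℕ} (hq : Fintype.card F = q)
    (n a t : ℕ) (hn : 2 ≤ n) (hT : (n, q) ≠ (2, 2) ∧ (n, q) ≠ (2, 3)) (hat : n = a * t) (ha : 1 ≤ a) (ht : 2 ≤ t)
    (r : ℕ) [Fact r.Prime] (hr2 : r ≠ 2) (hrp : r ≠ p) (hΩ : r ∣ Nat.card {D : Fin t → Submodule F (Fin n → F) // Cfsg.Geo.IsMDecomposition a D} / Nat.factorial t)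
    (c : ℕ) (hc : c = orderOf (q : ZMod r)) :
    (∀ x : Matrix.SpecialLinearGroup (Fin n) F,
      (∃ z : F, ((x ^ r : Matrix.SpecialLinearGroup (Fin n) F) : Matrix (Fin n) (Fin n) F) = z • (1 : Matrix (Fin n) (Fin n) F)) →
      (∀ z : F, (x : Matrix (Fin n) (Fin n) F) ≠ z • (1 : Matrix (Fin n) (Fin n) F)) →
      ∃ D : Fin t → Submodule F (Fin n → F), Cfsg.Geo.IsMDecomposition a D ∧
        ∃ σ : Equiv.Perm (Fin t), ∀ j, (D j).map (Matrix.toLin' (x : Matrix (Fin n) (Fin n) F)) = D (σ j)) ↔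
    ((a = 1 ∧ 1 < c ∧ c = r - 1 ∧ n ≤ (n % c) * r) ∨ (c ≤ a ∧ n % c = t * (a % c))) := by
  classical
  subst hq
  have hr : r.Prime := Fact.out
  have hr3 : 3 ≤ r := by have := hr.two_le; omega
  have hrF : (r : F) ≠ 0 := CfsgLib.Elusive.cast_ne_zero_of_ne (p := p) hrp
  have hqr : ((Fintype.card F : ℕ) : ZMod r) ≠ 0 := CfsgLib.Elusive.card_ne_zero_mod (p := p) hrp
  have hc0 : 0 < c := hc ▸ CfsgLib.Elusive.orderOf_q_pos hqr
  have hcr : c ∣ r - 1 := hc ▸ orderOf_dvd_of_pow_eq_one (ZMod.pow_card_sub_one_eq_one hqr)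
  have hcr' : c ≤ r - 1 := Nat.le_of_dvd (by omega) hcr
  have hfin : Module.finrank F (Fin n → F) = a * t := by rw [Module.finrank_fin_fun, hat]
  have key : ∀ (f : (Fin n → F) →ₗ[F] (Fin n → F)), CfsgLib.Elusive.Splits f a ⊤ t →
      ∃ D : Fin t → Submodule F (Fin n → F), Cfsg.Geo.IsMDecomposition a D ∧
        ∃ σ : Equiv.Perm (Fin t), ∀ j, (D j).map f = D (σ j) := by
    rintro f ⟨D, hD, hs, σ, hσ⟩
    exact ⟨D, ⟨ht, ha, hD, CfsgLib.Elusive.indep_of_dims hD hs hfin, hs⟩, σ, hσ⟩
  -- a non-trivial element of order `r`, when `c ≠ 1`, comes from a map `g` with `g ^ r = 1`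
  have hback : c ≠ 1 → ∀ e s, n = s * c + e → 0 < s →
      (∀ x : Matrix.SpecialLinearGroup (Fin n) F,
        (∃ z : F, ((x ^ r : Matrix.SpecialLinearGroup (Fin n) F) : Matrix (Fin n) (Fin n) F) = z • 1) →
        (∀ z : F, (x : Matrix (Fin n) (Fin n) F) ≠ z • 1) →
        ∃ D : Fin t → Submodule F (Fin n → F), Cfsg.Geo.IsMDecomposition a D ∧
          ∃ σ : Equiv.Perm (Fin t), ∀ j, (D j).map (Matrix.toLin' (x : Matrix (Fin n) (Fin n) F)) = D (σ j)) →
      ∃ f : (Fin n → F) →ₗ[F] (Fin n → F), f ^ r = 1 ∧ Module.finrank F (CfsgLib.Elusive.fixS f) = e ∧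
        ∃ D : Fin t → Submodule F (Fin n → F), Cfsg.Geo.IsMDecomposition a D ∧
          ∃ σ : Equiv.Perm (Fin t), ∀ j, (D j).map f = D (σ j) := by
    intro hc1 e s hns hs h
    obtain ⟨f, hf, hfe⟩ := CfsgLib.Elusive.exists_min_fix hrF hc hc0 hns
    obtain ⟨x, hx⟩ := CfsgLib.Elusive.exists_sl (CfsgLib.Elusive.det_eq_one (hc ▸ hc1) hf)
    refine ⟨f, hf, hfe, ?_⟩
    rw [← hx]
    refine h x ⟨1, CfsgLib.Elusive.sl_pow_scalar (by rw [hf, one_smul]) hx⟩ fun z hz => ?_
    have hfz := (CfsgLib.Elusive.scalar_toLin hz).symm.trans hx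
    have hv : ∀ v, f v = z • v := fun v => by rw [← hfz]; rfl
    have hz1 : z ^ r = 1 := by
      have h1 := LinearMap.congr_fun hf (fun _ => 1)
      rw [← hfz, smul_pow, one_pow, LinearMap.smul_apply, Module.End.one_apply] at h1
      simpa using congrFun h1 ⟨0, by omega⟩
    have hz2 := CfsgLib.Elusive.eq_one_of_pow_of_order (hc ▸ hc1) hz1
    have : CfsgLib.Elusive.fixS f = ⊤ := eq_top_iff.2 fun v _ => by
      rw [CfsgLib.Elusive.mem_fixS, hv, hz2, one_smul]
    rw [this, finrank_top, Module.finrank_fin_fun] at hfe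
    have := Nat.mul_pos hs hc0
    omega
  by_cases hc1 : c = 1
  · refine iff_of_true (fun x ⟨z, hxz⟩ hx2 => ?_) (Or.inr ⟨by omega, by rw [hc1, Nat.mod_one, Nat.mod_one, Nat.mul_zero]⟩)
    have hf : Matrix.toLin' (x : Matrix (Fin n) (Fin n) F) ^ r = z • 1 := by
      rw [Matrix.SpecialLinearGroup.coe_pow] at hxz
      show Matrix.toLinAlgEquiv' (x : Matrix (Fin n) (Fin n) F) ^ r = z • 1
      rw [← map_pow, hxz, map_smul, map_one]
    refine key _ ?_
    by_cases hsq : ∃ y : F, y ^ r = z
    · obtain ⟨y, rfl⟩ := hsq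
      have hy : y ≠ 0 := by
        intro hy
        have hd := congrArg LinearMap.det hf
        rw [map_pow, LinearMap.det_toLin', x.2, one_pow, hy, zero_pow hr.ne_zero, zero_smul,
          LinearMap.det_zero, Module.finrank_fin_fun, zero_pow (by omega)] at hd
        exact one_ne_zero hd
      set f := Matrix.toLin' (x : Matrix (Fin n) (Fin n) F) with hfdef
      have hg : (y⁻¹ • f) ^ r = 1 := by
        rw [smul_pow, hf, smul_smul, ← mul_pow, inv_mul_cancel₀ hy, one_pow, one_smul]
      obtain ⟨D, hD, hs, σ, hσ⟩ := CfsgLib.Elusive.splits_fixed hg hrF hc hc0 (by omega) hfin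
        (by rw [hc1, Nat.mod_one, Nat.mul_zero]; exact Nat.zero_le _)
      exact ⟨D, hD, hs, σ, fun j => by rw [← hσ j, Submodule.map_smul _ _ _ (inv_ne_zero hy)]⟩
    · exact CfsgLib.Elusive.splits_kummer_prime hf (fun y hy => hsq ⟨y, hy⟩) hrF (by omega) hfin
  -- from now on every scalar is an `r`-th power
  have hcn : c ≤ n := by
    by_contra hlt
    have hd : r ∣ Nat.card {D : Fin t → Submodule F (Fin n → F) // Cfsg.Geo.IsMDecomposition a D} :=
      hΩ.trans (Nat.div_dvd_of_dvd CfsgLib.Elusive.factorial_dvd_card)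
    obtain ⟨D, hD, hs, σ, hσ⟩ := CfsgLib.Elusive.splits_fixed (f := (1 : (Fin n → F) →ₗ[F] (Fin n → F)))
      (one_pow r) hrF hc hc0 (by omega) hfin (by
        have : CfsgLib.Elusive.fixS (1 : (Fin n → F) →ₗ[F] (Fin n → F)) = ⊤ :=
          eq_top_iff.2 fun v _ => CfsgLib.Elusive.mem_fixS.2 rfl
        rw [this, finrank_top, hfin, Nat.mul_comm a t]
        exact Nat.mul_le_mul_left t (Nat.mod_le a c))
    exact CfsgLib.Elusive.not_dvd_card hqr hat (by omega)
      ⟨⟨D, ⟨ht, ha, hD, CfsgLib.Elusive.indep_of_dims hD hs hfin, hs⟩⟩⟩ hd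
  have hdm := Nat.mod_add_div n c
  have hk : n % c < c := Nat.mod_lt n hc0
  constructor
  · intro h
    by_contra hR
    push Not at hR
    rcases Nat.lt_or_ge a c with hac | hac
    · -- an element with a moved space of dimension `c`
      obtain ⟨f, hf, hfe, D, hD, σ, hσ⟩ := hback hc1 (n - c) 1 (by omega) one_pos h
      have hmove : ∀ (g : (Fin n → F) →ₗ[F] (Fin n → F)) (D : Fin t → Submodule F (Fin n → F))
          (τ : Equiv.Perm (Fin t)), g ^ r = 1 → Module.finrank F (CfsgLib.Elusive.fixS g) < n →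
          Cfsg.Geo.IsMDecomposition a D → (∀ j, (D j).map g = D (τ j)) → ∃ j, τ j ≠ j := by
        intro g D τ hg hge hD hτ
        by_contra hall
        push Not at hall
        have hinv : ∀ j, CfsgLib.Elusive.Inv g (D j) := fun j =>
          CfsgLib.Elusive.inv_iff.2 (by rw [hτ, hall])
        rcases CfsgLib.Elusive.sum_fixed (f := g) hD.indep hD.finrank_eq hfin with hsum | ⟨j, hj⟩
        · rw [Finset.sum_congr rfl (fun j _ => ?_), Finset.sum_const, Finset.card_univ, Fintype.card_fin,
            smul_eq_mul, Nat.mul_comm, ← hat] at hsum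
          · omega
          · have hs := CfsgLib.Elusive.dim_split (f := g) (D j)
            obtain ⟨w, hw⟩ := hc ▸ CfsgLib.Elusive.mov_dvd hg hrF (hinv j)
            rw [hD.finrank_eq] at hs
            rcases Nat.eq_zero_or_pos w with rfl | hwp
            · rw [Nat.mul_zero] at hw
              exact (show a = _ by omega).symm
            · have := Nat.le_mul_of_pos_right c hwp
              omega
        · exact hj (hinv j)
      obtain ⟨j, hj⟩ := hmove f D σ hf (by omega) hD hσ
      have hmov := CfsgLib.Elusive.le_mov hσ hD.finrank_eq (by omega) hD.indep hf hj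
      have hfm := CfsgLib.Elusive.fix_add_mov (f := f)
      rw [Module.finrank_fin_fun] at hfm
      have h1 : (r - 1) * a ≤ c := by omega
      have h2 : (r - 1) * 1 ≤ (r - 1) * a := Nat.mul_le_mul_left _ ha
      have hcr1 : c = r - 1 := by omega
      have ha1 : a = 1 := by
        by_contra hne
        have h3 : (r - 1) * 2 ≤ (r - 1) * a := Nat.mul_le_mul_left _ (by omega)
        omega
      have hbig := hR.1 ha1 (by omega) hcr1
      obtain ⟨g, hg, hge, E, hE, τ, hτ⟩ := hback hc1 (n % c) (n / c) (by rw [Nat.mul_comm]; omega)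
        (Nat.div_pos hcn hc0) h
      have hle := CfsgLib.Elusive.le_mul_fix hτ hE.finrank_eq (by omega) hE.indep hg hrF ha1
        (fun z hz => CfsgLib.Elusive.eq_one_of_pow_of_order (hc ▸ hc1) hz)
      rw [hge, Nat.mul_comm] at hle
      rw [ha1, Nat.one_mul] at hat
      omega
    · obtain ⟨f, hf, hfe, D, hD, σ, hσ⟩ := hback hc1 (n % c) (n / c) (by rw [Nat.mul_comm]; omega)
        (Nat.div_pos hcn hc0) h
      have hfix : ∀ j, σ j = j := fun j => by
        by_contra hj
        have := CfsgLib.Elusive.le_fix hσ hD.finrank_eq (by omega) hD.indep hf hj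
        omega
      have hinv : ∀ j, CfsgLib.Elusive.Inv f (D j) := fun j =>
        CfsgLib.Elusive.inv_iff.2 (by rw [hσ, hfix])
      rcases CfsgLib.Elusive.sum_fixed (f := f) hD.indep hD.finrank_eq hfin with hsum | ⟨j, hj⟩
      · have hge : ∀ j, a % c ≤ Module.finrank F ↥(D j ⊓ CfsgLib.Elusive.fixS f) := fun j => by
          have hs := CfsgLib.Elusive.dim_split (f := f) (D j)
          obtain ⟨w, hw⟩ := hc ▸ CfsgLib.Elusive.mov_dvd hf hrF (hinv j)
          rw [hD.finrank_eq, hw] at hs
          conv_lhs => rw [hs, Nat.add_mul_mod_self_left]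
          exact Nat.mod_le _ _
        have hlow := Finset.sum_le_sum (s := Finset.univ) fun j _ => hge j
        rw [hsum, hfe, Finset.sum_const, Finset.card_univ, Fintype.card_fin, smul_eq_mul] at hlow
        refine hR.2 hac (le_antisymm ?_ hlow)
        rw [hat, Nat.mul_comm a t]
        have h1 : t * a % c = t * (a % c) % c := by rw [Nat.mul_mod, Nat.mul_mod t (a % c), Nat.mod_mod]
        exact h1.le.trans (Nat.mod_le _ _)
      · exact hj (hinv j)
  · rintro hR x ⟨z, hxz⟩ -
    have hf : Matrix.toLin' (x : Matrix (Fin n) (Fin n) F) ^ r = z • 1 := by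
      rw [Matrix.SpecialLinearGroup.coe_pow] at hxz
      show Matrix.toLinAlgEquiv' (x : Matrix (Fin n) (Fin n) F) ^ r = z • 1
      rw [← map_pow, hxz, map_smul, map_one]
    obtain ⟨y, rfl⟩ := CfsgLib.Elusive.exists_root_of_order (hc ▸ hc1) z
    have hy : y ≠ 0 := by
      intro hy
      have hd := congrArg LinearMap.det hf
      rw [map_pow, LinearMap.det_toLin', x.2, one_pow, hy, zero_pow hr.ne_zero, zero_smul,
        LinearMap.det_zero, Module.finrank_fin_fun, zero_pow (by omega)] at hd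
      exact one_ne_zero hd
    set f := Matrix.toLin' (x : Matrix (Fin n) (Fin n) F) with hfdef
    have hg : (y⁻¹ • f) ^ r = 1 := by
      rw [smul_pow, hf, smul_smul, ← mul_pow, inv_mul_cancel₀ hy, one_pow, one_smul]
    refine key _ ?_
    suffices hsp : CfsgLib.Elusive.Splits (y⁻¹ • f) a ⊤ t by
      obtain ⟨D, hD, hs, σ, hσ⟩ := hsp
      exact ⟨D, hD, hs, σ, fun j => by rw [← hσ j, Submodule.map_smul _ _ _ (inv_ne_zero hy)]⟩
    -- the fixed space has dimension at least `n % c`
    have hs := CfsgLib.Elusive.dim_split (f := y⁻¹ • f) (⊤ : Submodule F (Fin n → F))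
    obtain ⟨w, hw⟩ := hc ▸ CfsgLib.Elusive.mov_dvd hg hrF (CfsgLib.Elusive.Inv.top _)
    rw [finrank_top, Module.finrank_fin_fun, top_inf_eq, hw] at hs
    have hk' : n % c ≤ Module.finrank F (CfsgLib.Elusive.fixS (y⁻¹ • f)) := by
      conv_lhs => rw [hs, Nat.add_mul_mod_self_left]
      exact Nat.mod_le _ _
    rcases hR with ⟨rfl, -, hcr1, hnk⟩ | ⟨hca, hkt⟩
    · have htn : t = n := by omega
      subst htn
      refine CfsgLib.Elusive.splits_orbits hg hrF hc hcr1 _ ⊤ (by rw [finrank_top, Module.finrank_fin_fun])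
        (CfsgLib.Elusive.Inv.top _) ?_
      rw [hw, top_inf_eq]
      have h1 := Nat.mul_le_mul_right r hk'
      generalize Module.finrank F (CfsgLib.Elusive.fixS (y⁻¹ • f)) = e at *
      have h2 : e * r = e + c * e := by
        rw [show r = 1 + c by omega, Nat.mul_add, Nat.mul_one, Nat.mul_comm e c]
      omega
    · exact CfsgLib.Elusive.splits_fixed hg hrF hc hc0 (by omega) hfin (hkt ▸ hk')

end Cfsg.Agent.S5958
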