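import Cfsg.Statements.S5959
import Cfsg.Agent.Elusive.Compl
import Mathlib.Dynamics.PeriodicPts.Defs
import Mathlib.Algebra.Field.GeomSum

set_option autoImplicit false
open scoped MatrixGroups
open Cfsg

namespace Cfsg.Agent.S5959

/-- Elements of order `p` of PSL_n(q) and imprimitive subgroups: a necessary condition. Here `T = PSL_n(F)` for a field `F` with `q = p^f` elements (`n ≥ 2`, `(n, q) ≠ (2, 2), (2, 3)`), `n = a·t` with `t ≥ 2`, and Ω is the set of direct-sum decompositions of `F^n` into `t` subspaces of dimension `a` (unordered; their number is the number of ordered ones divided by `t!`), whose stabilizers are the imprimitive subgroups of type GL_a(q) ≀ S_t (maximal except in some small cases; maximality is not assumed); an element of `T` of prime order `r` (a matrix `x` of determinant 1 with `x^r` scalar, `x` not scalar) fixes a point of Ω when it permutes the summands of some such decomposition. Suppose `p > 2` divides the number of such decompositions. If every element of `T` of order `p` stabilizes such a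 decomposition, then every partition of `n` into parts of size at most `p` in which the part `p` occurs fewer than `a` times contains (as a sub-multiset) a partition of `a`. -/
theorem result {F : Type*} [Field F] [Fintype F] {p : ℕ} [Fact p.Prime] [CharP F p] {q : ℕ} (hq : Fintype.card F = q)
    (n a t : ℕ) (hn : 2 ≤ n) (hT : (n, q) ≠ (2, 2) ∧ (n, q) ≠ (2, 3)) (hat : n = a * t) (ha : 1 ≤ a) (ht : 2 ≤ t)
    (hp : 2 < p) (hΩ : p ∣ Nat.card {D : Fin t → Submodule F (Fin n → F) // Cfsg.Geo.IsMDecomposition a D} / Nat.factorial t)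
    (h : ∀ x : Matrix.SpecialLinearGroup (Fin n) F,
      (∃ z : F, ((x ^ p : Matrix.SpecialLinearGroup (Fin n) F) : Matrix (Fin n) (Fin n) F) = z • (1 : Matrix (Fin n) (Fin n) F)) →
      (∀ z : F, (x : Matrix (Fin n) (Fin n) F) ≠ z • (1 : Matrix (Fin n) (Fin n) F)) →
      ∃ D : Fin t → Submodule F (Fin n → F), Cfsg.Geo.IsMDecomposition a D ∧
        ∃ σ : Equiv.Perm (Fin t), ∀ j, (D j).map (Matrix.toLin' (x : Matrix (Fin n) (Fin n) F)) = D (σ j)) :
    (∀ μ : Multiset ℕ, (∀ b ∈ μ, 0 < b ∧ b ≤ p) → μ.sum = n → μ.count p < a → ∃ ν : Multiset ℕ, ν ≤ μ ∧ ν.sum = a) := by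
  subst hq
  intro μ hμ hμn hcnt
  by_contra hcon
  have hfin : Module.finrank F (Fin n → F) = n := Module.finrank_fin_fun F
  have hr : p.Prime := Fact.out
  obtain ⟨N, hN, hprof⟩ := CfsgLib.Elusive.exists_nilpotent (F := F) μ (fun b hb => (hμ b hb).2) hμn
  have : Nonempty (Fin n) := ⟨⟨0, by omega⟩⟩
  have : CharP ((Fin n → F) →ₗ[F] (Fin n → F)) p :=
    charP_of_injective_algebraMap (algebraMap F _).injective p
  have hf : (N + 1) ^ p = 1 := by
    rw [add_pow_char_of_commute p (Commute.one_right N), hN, one_pow, zero_add]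
  have hdet : LinearMap.det (N + 1) = 1 := by
    have h0 : (LinearMap.det (N + 1)) ^ p = 1 := by rw [← map_pow, hf, map_one]
    have : ExpChar F p := ExpChar.prime hr
    exact frobenius_inj F p (by simpa [frobenius_def] using h0)
  obtain ⟨x, hx⟩ := CfsgLib.Elusive.exists_sl hdet
  have hns : ∀ z : F, N + 1 ≠ z • 1 := by
    intro z hz
    have hN0 : N = (z - 1) • (1 : (Fin n → F) →ₗ[F] (Fin n → F)) := LinearMap.ext fun v => by
      have := LinearMap.congr_fun hz v
      simp only [LinearMap.add_apply, LinearMap.smul_apply, Module.End.one_apply] at this ⊢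
      rw [sub_smul, one_smul, ← this, add_sub_cancel_right]
    have hz1 : z = 1 := by
      rw [hN0, smul_pow, one_pow] at hN
      have := congrFun (LinearMap.congr_fun hN (fun _ => 1)) ⟨0, by omega⟩
      have h0 : (z - 1) ^ p = 0 := by simpa using this
      exact sub_eq_zero.1 (pow_eq_zero_iff hr.ne_zero |>.1 h0)
    have hμ1 : μ = Multiset.replicate n 1 := by
      refine CfsgLib.Elusive.profile_injective (fun b hb => (hμ b hb).1)
        (fun b hb => by rw [Multiset.eq_of_mem_replicate hb]; exact one_pos) fun k => ?_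
      rw [← hprof, hN0, hz1, sub_self, zero_smul]
      rcases k with _ | k
      · rw [CfsgLib.Elusive.kerDim, pow_zero, top_inf_eq,
          show LinearMap.ker (1 : (Fin n → F) →ₗ[F] (Fin n → F)) = ⊥ from LinearMap.ker_id, finrank_bot]
        simp [CfsgLib.Elusive.profile]
      · rw [CfsgLib.Elusive.kerDim, zero_pow (Nat.succ_ne_zero k), top_inf_eq, LinearMap.ker_zero,
          finrank_top, hfin]
        simp [CfsgLib.Elusive.profile]
    have hna : a ≤ n := by rw [hat]; exact Nat.le_mul_of_pos_right a (by omega)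
    exact hcon ⟨Multiset.replicate a 1, hμ1 ▸ Multiset.replicate_mono 1 hna, by simp⟩
  obtain ⟨D, hD, σ, hσ⟩ := h x ⟨1, CfsgLib.Elusive.sl_pow_scalar (by rw [hf, one_smul]) hx⟩
    (fun z hz => hns z (hx ▸ CfsgLib.Elusive.scalar_toLin hz))
  rw [hx] at hσ
  set f := N + 1 with hfdef
  by_cases hfix : ∃ j, σ j = j
  · obtain ⟨j, hj⟩ := hfix
    have hc : IsCompl (D j) (⨆ (k) (_ : k ≠ j), D k) := ⟨hD.indep j, codisjoint_iff.2 (top_le_iff.1 (by
      rw [← hD.iSup_eq_top]
      refine iSup_le fun k => ?_
      rcases eq_or_ne k j with rfl | hk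
      · exact le_sup_left
      · exact le_sup_of_le_right (le_iSup₂_of_le (f := fun k (_ : k ≠ j) => D k) k hk le_rfl)))⟩
    have hsub : f - 1 = N := add_sub_cancel_right N 1
    obtain ⟨ν, hν, hνs⟩ := CfsgLib.Elusive.exists_sub_partition (p := p) (fun v => by rw [hN]; rfl)
      (fun b hb => (hμ b hb).1) hprof
      (hsub ▸ CfsgLib.Elusive.inv_add_one.2 (CfsgLib.Elusive.inv_iff.2 (by rw [hσ, hj])))
      (hsub ▸ CfsgLib.Elusive.inv_add_one.2 (CfsgLib.Elusive.inv_iff.2 (by
        simp only [Submodule.map_iSup, hσ]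
        refine iSup₂_le fun k hk => ?_
        exact le_iSup₂_of_le (f := fun k (_ : k ≠ j) => D k) (σ k)
          (fun e => hk (σ.injective (e.trans hj.symm))) le_rfl))) hc
    exact hcon ⟨ν, hν, hνs.trans (hD.finrank_eq j)⟩
  · push Not at hfix
    have hinjD : Function.Injective D := by
      intro j k e
      by_contra hne
      have h1 := (hD.indep j).mono_right (le_iSup₂_of_le (f := fun k (_ : k ≠ j) => D k) k (Ne.symm hne) le_rfl)
      rw [← e, disjoint_self] at h1
      have := hD.finrank_eq j
      rw [h1, finrank_bot] at this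
      omega
    have hpow : ∀ (i : ℕ) j, (D j).map (f ^ i) = D ((σ ^ i) j) := by
      intro i
      induction i with
      | zero => intro j; rw [pow_zero, pow_zero]; exact Submodule.map_id _
      | succ i ih =>
        intro j
        rw [pow_succ', Module.End.mul_eq_comp, Submodule.map_comp, ih, hσ, pow_succ']
        rfl
    have hσp : ∀ j, (σ ^ p) j = j := fun j => hinjD (by
      rw [← hpow, hf]; exact Submodule.map_id _)
    obtain ⟨j₀⟩ : Nonempty (Fin t) := ⟨⟨0, by omega⟩⟩
    have hper : ∀ i, 0 < i → i < p → (σ ^ i) j₀ ≠ j₀ := by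
      intro i h0 h1 e
      have hg := Function.IsPeriodicPt.gcd (f := σ) (x := j₀)
        (show Function.IsPeriodicPt σ i j₀ by
          rw [Function.IsPeriodicPt, Function.IsFixedPt, ← Equiv.Perm.coe_pow]; exact e)
        (show Function.IsPeriodicPt σ p j₀ by
          rw [Function.IsPeriodicPt, Function.IsFixedPt, ← Equiv.Perm.coe_pow]; exact hσp j₀)
      rw [show Nat.gcd i p = 1 from Nat.Coprime.symm ((Nat.Prime.coprime_iff_not_dvd hr).2
        (fun hd => by have := Nat.le_of_dvd h0 hd; omega))] at hg
      exact hfix j₀ hg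
    have hgeom : N ^ (p - 1) = ∑ i ∈ Finset.range p, f ^ i := by
      have hpoly : ((Polynomial.X - 1) ^ (p - 1) : Polynomial F) = ∑ i ∈ Finset.range p, Polynomial.X ^ i := by
        have hX : (Polynomial.X - 1 : Polynomial F) ≠ 0 := Polynomial.X_sub_C_ne_zero 1
        refine mul_right_cancel₀ hX ?_
        rw [← pow_succ, Nat.sub_add_cancel hr.one_le, geom_sum_mul, sub_pow_char, one_pow]
      have h := congrArg (Polynomial.aeval f) hpoly
      simp only [map_pow, map_sub, map_sum, Polynomial.aeval_X, map_one] at h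
      rw [← h, hfdef, add_sub_cancel_right]
    have hinj : ∀ v ∈ D j₀, (N ^ (p - 1)) v = 0 → v = 0 := by
      intro v hv h0
      rw [hgeom, LinearMap.sum_apply, Finset.range_eq_Ico, Finset.sum_eq_sum_Ico_succ_bot hr.pos, pow_zero,
        Module.End.one_apply] at h0
      have hrest : ∑ i ∈ Finset.Ico 1 p, (f ^ i) v ∈ ⨆ (k) (_ : k ≠ j₀), D k :=
        Submodule.sum_mem _ fun i hi => by
          rw [Finset.mem_Ico] at hi
          exact Submodule.mem_iSup_of_mem ((σ ^ i) j₀) (Submodule.mem_iSup_of_mem
            (hper i (by omega) hi.2) (hpow i j₀ ▸ Submodule.mem_map_of_mem hv))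
      exact (Submodule.disjoint_def.1 (hD.indep j₀)) v hv
        (by rw [eq_neg_of_add_eq_zero_left h0]; exact Submodule.neg_mem _ hrest)
    have hrank : a ≤ Module.finrank F (LinearMap.range (N ^ (p - 1))) := by
      have hli : Function.Injective ((N ^ (p - 1)).domRestrict (D j₀)) := by
        rw [← LinearMap.ker_eq_bot, Submodule.eq_bot_iff]
        intro v hv
        exact Subtype.ext (hinj v v.2 hv)
      rw [← hD.finrank_eq j₀, ← LinearMap.finrank_range_of_inj hli]
      exact Submodule.finrank_mono (by rintro _ ⟨v, rfl⟩; exact ⟨v, rfl⟩)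
    have hk := hprof (p - 1)
    rw [CfsgLib.Elusive.kerDim, top_inf_eq] at hk
    have hrn := LinearMap.finrank_range_add_finrank_ker (N ^ (p - 1))
    rw [hk, hfin] at hrn
    have hfull : ∀ k, p ≤ k → CfsgLib.Elusive.profile μ k = n := by
      intro k hk
      rw [CfsgLib.Elusive.profile, Multiset.map_congr (f := min k) (g := id) rfl (fun b hb => min_eq_right ((hμ b hb).2.trans hk)),
        Multiset.map_id, hμn]
    have hc := CfsgLib.Elusive.count_of_profile μ (fun b hb => (hμ b hb).1) (p - 1)
    rw [show p - 1 + 1 = p by omega, hfull p le_rfl, hfull (p - 1 + 2) (by omega)] at hc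
    omega

end Cfsg.Agent.S5959
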