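import Cfsg.Statements.S5960
import Cfsg.Agent.Elusive.SympPlanes
import Cfsg.Agent.Elusive.PlaneSystem

set_option autoImplicit false
open scoped MatrixGroups
open Cfsg

namespace Cfsg.Agent.S5960

/-- Involutions of PSp_n(q) and imprimitive subgroups. Here `T = PSp_n(q)`, `n = 2d ≥ 4`, `(n, q) ≠ (4, 2)`, realised through the symplectic matrices over the field `F` with `q` elements and the standard alternating form; `n = a·t` with `a` even and `t ≥ 2`, and Ω is the (nonempty) set of orthogonal decompositions of `F^n` into `t` nondegenerate subspaces of dimension `a` (unordered; counted as ordered ones divided by `t!`), whose stabilizers are the imprimitive subgroups of type Sp_a(q) ≀ S_t (maximality is not assumed); an element of `T` of prime order `r` (a symplectic matrix `x` with `x^r` scalar, `x` not scalar) fixes a point of Ω when it permutes the summands of some such decomposition. If the number of such decompositions is even, then every involution of `T` stabilizes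 one of them (the action is 2-elusive). -/
theorem result {F : Type*} [Field F] [Fintype F] {p : ℕ} [Fact p.Prime] [CharP F p] {q : ℕ} (hq : Fintype.card F = q)
    (d : ℕ) (hd : 2 ≤ d) (hT : (d, q) ≠ (2, 2))
    (a t : ℕ) (hat : 2 * d = a * t) (ha : 2 ≤ a) (hae : Even a) (ht : 2 ≤ t) (hΩ : 2 ∣ Nat.card {D : Fin t → Submodule F (Fin d ⊕ Fin d → F) // (Cfsg.Geo.IsMDecomposition a D ∧ (∀ j, ∀ u ∈ D j, u ≠ 0 → ∃ v ∈ D j, Cfsg.sympForm d F u v ≠ 0) ∧
          (∀ j j', j ≠ j' → ∀ u ∈ D j, ∀ v ∈ D j', Cfsg.sympForm d F u v = 0))} / Nat.factorial t)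
    (x : ↥(Matrix.symplecticGroup (Fin d) F))
    (hx1 : ∃ z : F, ((x ^ 2 : ↥(Matrix.symplecticGroup (Fin d) F)) : Matrix (Fin d ⊕ Fin d) (Fin d ⊕ Fin d) F) = z • (1 : Matrix (Fin d ⊕ Fin d) (Fin d ⊕ Fin d) F))
    (hx2 : ∀ z : F, (x : Matrix (Fin d ⊕ Fin d) (Fin d ⊕ Fin d) F) ≠ z • (1 : Matrix (Fin d ⊕ Fin d) (Fin d ⊕ Fin d) F)) :
    ∃ D : Fin t → Submodule F (Fin d ⊕ Fin d → F), (Cfsg.Geo.IsMDecomposition a D ∧ (∀ j, ∀ u ∈ D j, u ≠ 0 → ∃ v ∈ D j, Cfsg.sympForm d F u v ≠ 0) ∧
          (∀ j j', j ≠ j' → ∀ u ∈ D j, ∀ v ∈ D j', Cfsg.sympForm d F u v = 0)) ∧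
        ∃ σ : Equiv.Perm (Fin t), ∀ j, (D j).map (Matrix.toLin' (x : Matrix (Fin d ⊕ Fin d) (Fin d ⊕ Fin d) F)) = D (σ j) := by
  classical
  obtain ⟨z, hz⟩ := hx1
  set B := CfsgLib.Elusive.sympBilin d F with hBdef
  set g := Matrix.toLin' (x : Matrix (Fin d ⊕ Fin d) (Fin d ⊕ Fin d) F) with hgdef
  have hB : ∀ v, B v v = 0 := fun v => CfsgLib.Symp.form_self v
  have hg : ∀ u v, B (g u) (g v) = B u v := fun u v => CfsgLib.Symp.form_smul_smul x u v
  have hinj : Function.Injective g := fun a b e => by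
    rw [← sub_eq_zero]
    by_contra hne
    obtain ⟨v', hv'⟩ := CfsgLib.Symp.exists_form_ne_zero hne
    refine hv' ?_
    show B (a - b) v' = 0
    rw [← hg, map_sub g, e, sub_self, map_zero, LinearMap.zero_apply]
  obtain ⟨π, u, w, hsys, hspan⟩ : ∃ (π : Fin d → Fin d) (u w : Fin d → (Fin d ⊕ Fin d → F)),
      CfsgLib.Elusive.IsPlaneSys B g π u w ∧ Submodule.span F (Set.range (Sum.elim u w)) = ⊤ := by
    by_cases h2 : (2 : F) = 0
    · have : CharP F 2 := CharTwo.of_one_ne_zero_of_two_eq_zero one_ne_zero h2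
      have hgg : ∀ v, g (g v) = v := by
        have hgg' : ∀ v, g (g v) = z • v := fun v => by
          rw [hgdef, Matrix.toLin'_apply, Matrix.toLin'_apply, Matrix.mulVec_mulVec]
          rw [pow_two, Submonoid.coe_mul] at hz
          rw [hz, Matrix.smul_mulVec, Matrix.one_mulVec]
        obtain ⟨v', hv'⟩ := CfsgLib.Symp.exists_form_ne_zero
          (v := (Pi.single (Sum.inl ⟨0, by omega⟩) 1 : Fin d ⊕ Fin d → F)) (by simp)
        have h : B (g (g (Pi.single (Sum.inl ⟨0, by omega⟩) 1))) (g (g v')) =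
            B (Pi.single (Sum.inl ⟨0, by omega⟩) 1) v' := (hg _ _).trans (hg _ _)
        rw [hgg', hgg', map_smul, map_smul, LinearMap.smul_apply, smul_eq_mul, smul_eq_mul, ← mul_assoc] at h
        have hzz := mul_self_eq_one_iff.1 (mul_right_cancel₀ hv' (h.trans (one_mul _).symm))
        intro v
        rcases hzz with e | e
        · rw [hgg', e, one_smul]
        · rw [hgg', e, CharTwo.neg_eq, one_smul]
      obtain ⟨ι, _, π, u, w, hsys, hspan⟩ := CfsgLib.Elusive.exists_planeSys_two hB hg hgg _ ⊤ le_rfl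
        (fun _ _ => Submodule.mem_top) (fun v _ hv => by
          obtain ⟨v', hv'⟩ := CfsgLib.Symp.exists_form_ne_zero hv
          exact ⟨v', Submodule.mem_top, hv'⟩)
      have hc := finrank_span_eq_card (hsys.linearIndependent hB)
      rw [hspan, finrank_top, Module.finrank_fintype_fun_eq_card, Fintype.card_sum, Fintype.card_fin,
        Fintype.card_sum] at hc
      let e : Fin d ≃ ι := (Fintype.equivFinOfCardEq (show Fintype.card ι = d by omega)).symm
      refine ⟨e.symm ∘ π ∘ e, u ∘ e, w ∘ e, ⟨fun i j => hsys.uu _ _, fun i j => hsys.ww _ _,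
        fun i j h => hsys.uw _ _ (e.injective.ne h), fun i => hsys.nz _, fun i => by simp [hsys.invol],
        fun i => by simpa using hsys.act (e i)⟩, ?_⟩
      rw [← hspan]
      congr 1
      rw [show Sum.elim (u ∘ e) (w ∘ e) = Sum.elim u w ∘ Sum.map e e by ext (i | i) <;> rfl,
        Set.range_comp, (Function.Surjective.sumMap e.surjective e.surjective).range_eq, Set.image_univ]
    · obtain ⟨u, w, hp, hs⟩ := CfsgLib.Elusive.exists_planes_symp (by omega) h2 hz
      obtain ⟨huu, hww, huw, hnz, hact⟩ := hp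
      refine ⟨id, u, w, ⟨huu, hww, huw, hnz, fun i => rfl, fun i => ?_⟩, by
        rw [Set.Sum.elim_range, Submodule.span_union, hs]⟩
      rcases hact with ⟨-, h⟩ | ⟨-, h⟩
      · obtain ⟨s, -, hu', hw'⟩ := h i
        exact ⟨hgdef ▸ hu' ▸ Submodule.smul_mem _ s (Submodule.subset_span (by simp)),
          hgdef ▸ hw' ▸ Submodule.smul_mem _ s (Submodule.subset_span (by simp))⟩
      · exact ⟨hgdef ▸ (h i).1 ▸ Submodule.subset_span (by simp),
          hgdef ▸ (h i).2 ▸ Submodule.neg_mem _ (Submodule.subset_span (by simp))⟩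
  obtain ⟨h, rfl⟩ := even_iff_two_dvd.1 hae
  have hdt : d = h * t := by
    have : 2 * d = 2 * (h * t) := by rw [← Nat.mul_assoc]; exact hat
    omega
  obtain ⟨φ, σ, hφ, hfib, hσ⟩ := CfsgLib.Elusive.exists_blocks π hsys.invol (h := h) (by omega) t Finset.univ
    (fun i _ => Finset.mem_univ _) (by rw [Finset.card_univ, Fintype.card_fin, hdt])
  let D : Fin t → Submodule F (Fin d ⊕ Fin d → F) := fun j =>
    Submodule.span F (Set.range fun s : {i // φ i = (j : ℕ)} ⊕ {i // φ i = (j : ℕ)} =>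
      Sum.elim u w (Sum.map Subtype.val Subtype.val s))
  have huD : ∀ i (hi : φ i < t), u i ∈ D ⟨φ i, hi⟩ ∧ w i ∈ D ⟨φ i, hi⟩ := fun i hi =>
    ⟨Submodule.subset_span ⟨Sum.inl ⟨i, rfl⟩, rfl⟩, Submodule.subset_span ⟨Sum.inr ⟨i, rfl⟩, rfl⟩⟩
  have hdim : ∀ j, Module.finrank F (D j) = 2 * h := fun j => by
    rw [show Module.finrank F (D j) = _ from finrank_span_eq_card ((hsys.linearIndependent hB).comp _
      (Subtype.val_injective.sumMap Subtype.val_injective)), Fintype.card_sum, Fintype.card_subtype]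
    have := hfib j j.isLt
    omega
  have hsup : iSup D = ⊤ := by
    rw [eq_top_iff, ← hspan, Submodule.span_le]
    rintro _ ⟨i | i, rfl⟩
    · exact Submodule.mem_iSup_of_mem _ (huD i (hφ i (Finset.mem_univ _))).1
    · exact Submodule.mem_iSup_of_mem _ (huD i (hφ i (Finset.mem_univ _))).2
  have hswap : ∀ a b, B a b = 0 → B b a = 0 := fun a b e => by
    have := hB (a + b)
    simp only [map_add, LinearMap.add_apply, hB, e, zero_add, add_zero] at this
    exact this
  have hpair : ∀ i i', i ≠ i' → ∀ s s' : Fin d ⊕ Fin d, Sum.elim id id s = i → Sum.elim id id s' = i' →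
      B (Sum.elim u w s) (Sum.elim u w s') = 0 := by
    intro i i' hii s s' hs hs'
    rcases s with s | s <;> rcases s' with s' | s' <;> simp only [Sum.elim_inl, Sum.elim_inr, id] at hs hs' ⊢ <;>
      subst hs <;> subst hs'
    · exact hsys.uu _ _
    · exact hsys.uw _ _ hii
    · exact hswap _ _ (hsys.uw _ _ (Ne.symm hii))
    · exact hsys.ww _ _
  have horth : ∀ j j', j ≠ j' → ∀ a ∈ D j, ∀ b ∈ D j', B a b = 0 := by
    intro j j' hjj a ha b hb
    have h1 : ∀ l : {i // φ i = (j' : ℕ)} ⊕ {i // φ i = (j' : ℕ)},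
        D j ≤ LinearMap.ker (B.flip (Sum.elim u w (Sum.map Subtype.val Subtype.val l))) := by
      intro l
      refine Submodule.span_le.2 ?_
      rintro _ ⟨k, rfl⟩
      have hk : φ (Sum.elim id id (Sum.map Subtype.val Subtype.val k)) = (j : ℕ) := by
        rcases k with ⟨k, hk⟩ | ⟨k, hk⟩ <;> exact hk
      have hl : φ (Sum.elim id id (Sum.map Subtype.val Subtype.val l)) = (j' : ℕ) := by
        rcases l with ⟨l, hl⟩ | ⟨l, hl⟩ <;> exact hl
      exact hpair _ _ (fun e => hjj (Fin.ext (by rw [← hk, ← hl, e]))) _ _ rfl rfl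
    have h2 : D j' ≤ LinearMap.ker (B a) := by
      refine Submodule.span_le.2 ?_
      rintro _ ⟨l, rfl⟩
      exact h1 l ha
    exact h2 hb
  have hnd : ∀ j, ∀ a ∈ D j, a ≠ 0 → ∃ b ∈ D j, B a b ≠ 0 := by
    intro j a ha ha0
    obtain ⟨b, hb⟩ := CfsgLib.Symp.exists_form_ne_zero ha0
    by_contra hno
    push Not at hno
    refine hb ?_
    show B a b = 0
    have hle : (⊤ : Submodule F (Fin d ⊕ Fin d → F)) ≤ LinearMap.ker (B a) := by
      rw [← hsup]
      refine iSup_le fun j' c hc => ?_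
      rw [LinearMap.mem_ker]
      by_cases hj : j' = j
      · exact hno c (hj ▸ hc)
      · exact horth j j' (Ne.symm hj) a ha c hc
    exact hle Submodule.mem_top
  refine ⟨D, ⟨⟨ht, by omega, hdim, ?_, hsup⟩, hnd, horth⟩, ?_⟩
  · intro j
    rw [disjoint_iff, Submodule.eq_bot_iff]
    rintro a ⟨ha, ha'⟩
    by_contra ha0
    obtain ⟨b, hb, hab⟩ := hnd j a ha ha0
    refine hab ?_
    have hle : (⨆ j', ⨆ (_ : j' ≠ j), D j') ≤ LinearMap.ker (B.flip b) := iSup₂_le fun j' hj c hc => by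
      rw [LinearMap.mem_ker, LinearMap.BilinForm.flip_apply]
      exact horth j' j hj c hc b hb
    exact hle ha'
  · have hne : ∀ j : Fin t, ∃ i, φ i = (j : ℕ) := fun j => by
      obtain ⟨i, hi⟩ := Finset.card_pos.1 (show 0 < (Finset.univ.filter fun i => φ i = (j : ℕ)).card by
        rw [hfib j j.isLt]; omega)
      exact ⟨i, (Finset.mem_filter.1 hi).2⟩
    have hσt : ∀ j : Fin t, σ j < t := fun j => by
      obtain ⟨i, hi⟩ := hne j
      rw [← hi, ← hσ i (Finset.mem_univ _)]
      exact hφ _ (Finset.mem_univ _)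
    let τ : Fin t → Fin t := fun j => ⟨σ j, hσt j⟩
    have hττ : Function.Involutive τ := fun j => Fin.ext (by
      obtain ⟨i, hi⟩ := hne j
      show σ (σ j) = j
      rw [← hi, ← hσ i (Finset.mem_univ _), ← hσ _ (Finset.mem_univ _), hsys.invol])
    refine ⟨hττ.toPerm τ, fun j => ?_⟩
    show (D j).map g = D (τ j)
    refine Submodule.eq_of_le_of_finrank_eq ?_ ?_
    · rw [Submodule.map_span, Submodule.span_le]
      rintro _ ⟨_, ⟨s, rfl⟩, rfl⟩
      have key : ∀ i, φ i = (j : ℕ) → Submodule.span F {u (π i), w (π i)} ≤ D (τ j) := fun i hi => by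
        have h1 : φ (π i) = (τ j : ℕ) := by rw [hσ i (Finset.mem_univ _), hi]
        refine Submodule.span_le.2 ?_
        rintro _ (rfl | rfl)
        · exact Submodule.subset_span ⟨Sum.inl ⟨π i, h1⟩, rfl⟩
        · exact Submodule.subset_span ⟨Sum.inr ⟨π i, h1⟩, rfl⟩
      rcases s with ⟨i, hi⟩ | ⟨i, hi⟩
      · exact key i hi (hsys.act i).1
      · exact key i hi (hsys.act i).2
    · rw [hdim, ← (Submodule.equivMapOfInjective g hinj (D j)).finrank_eq, hdim]

end Cfsg.Agent.S5960
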