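import Cfsg.Statements.S5961
import Cfsg.Agent.Elusive2.SympDecompCount

set_option autoImplicit false
open scoped MatrixGroups
open Cfsg

namespace Cfsg.Agent.S5961

open Module CfsgLib.Elusive CfsgLib.Elusive2

/-- Elements of odd prime order of PSp_n(q) and imprimitive subgroups. Here `T = PSp_n(q)`, `n = 2d ≥ 4`, `(n, q) ≠ (4, 2)`, realised through the symplectic matrices over the field `F` with `q` elements and the standard alternating form; `n = a·t` with `a` even and `t ≥ 2`, and Ω is the (nonempty) set of orthogonal decompositions of `F^n` into `t` nondegenerate subspaces of dimension `a` (unordered; counted as ordered ones divided by `t!`), whose stabilizers are the imprimitive subgroups of type Sp_a(q) ≀ S_t (maximality is not assumed); an element of `T` of prime order `r` (a symplectic matrix `x` with `x^r` scalar, `x` not scalar) fixes a point of Ω when it permutes the summands of some such decomposition. Let `r ≠ p` be an odd prime dividing the number of such decompositions, let `i` be the multiplicative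 order of `q` modulo `r`, `c = i` if `i` is even and `c = 2i` if `i` is odd, and write `k = n mod c`, `ℓ = a mod c`. Then every element of `T` of order `r` stabilizes such a decomposition if and only if `c ≤ a` and `k = t·ℓ`. -/
theorem result {F : Type*} [Field F] [Fintype F] {p : ℕ} [Fact p.Prime] [CharP F p] {q : ℕ} (hq : Fintype.card F = q)
    (d : ℕ) (hd : 2 ≤ d) (hT : (d, q) ≠ (2, 2))
    (a t : ℕ) (hat : 2 * d = a * t) (ha : 2 ≤ a) (hae : Even a) (ht : 2 ≤ t)
    (r : ℕ) [Fact r.Prime] (hr2 : r ≠ 2) (hrp : r ≠ p) (hΩ : r ∣ Nat.card {D : Fin t → Submodule F (Fin d ⊕ Fin d → F) // (Cfsg.Geo.IsMDecomposition a D ∧ (∀ j, ∀ u ∈ D j, u ≠ 0 → ∃ v ∈ D j, Cfsg.sympForm d F u v ≠ 0) ∧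
          (∀ j j', j ≠ j' → ∀ u ∈ D j, ∀ v ∈ D j', Cfsg.sympForm d F u v = 0))} / Nat.factorial t)
    (i c : ℕ) (hi : i = orderOf (q : ZMod r)) (hc : c = if Even i then i else 2 * i) :
    (∀ x : ↥(Matrix.symplecticGroup (Fin d) F),
      (∃ z : F, ((x ^ r : ↥(Matrix.symplecticGroup (Fin d) F)) : Matrix (Fin d ⊕ Fin d) (Fin d ⊕ Fin d) F) = z • (1 : Matrix (Fin d ⊕ Fin d) (Fin d ⊕ Fin d) F)) →
      (∀ z : F, (x : Matrix (Fin d ⊕ Fin d) (Fin d ⊕ Fin d) F) ≠ z • (1 : Matrix (Fin d ⊕ Fin d) (Fin d ⊕ Fin d) F)) →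
      ∃ D : Fin t → Submodule F (Fin d ⊕ Fin d → F), (Cfsg.Geo.IsMDecomposition a D ∧ (∀ j, ∀ u ∈ D j, u ≠ 0 → ∃ v ∈ D j, Cfsg.sympForm d F u v ≠ 0) ∧
          (∀ j j', j ≠ j' → ∀ u ∈ D j, ∀ v ∈ D j', Cfsg.sympForm d F u v = 0)) ∧
        ∃ σ : Equiv.Perm (Fin t), ∀ j, (D j).map (Matrix.toLin' (x : Matrix (Fin d ⊕ Fin d) (Fin d ⊕ Fin d) F)) = D (σ j)) ↔
    (c ≤ a ∧ (2 * d) % c = t * (a % c)) := by
  classical
  subst hq
  have hd0 : 0 < d := by omega
  have hr : r ≠ 2 := hr2
  have hrF : (r : F) ≠ 0 := cast_ne_zero_of_ne (p := p) hrp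
  have hic : c = blockDim (ordq F r) := by rw [hc, hi]; rfl
  have hi' : i = ordq F r := hi
  have hi0 : 0 < i := hi' ▸ ordq_pos hrF
  have halt : ∀ v : Fin d ⊕ Fin d → F, sympBilin d F v v = 0 := fun v => CfsgLib.Symp.form_self v
  have hrefl := alt_refl halt
  have hcard : finrank F (Fin d ⊕ Fin d → F) = a * t := by
    rw [finrank_fintype_fun_eq_card, Fintype.card_sum, Fintype.card_fin, ← hat, two_mul]
  have hev : Even c := hic ▸ blockDim_even (ordq F r)
  have hc0 : 0 < c := lt_of_lt_of_le hi0 (hic ▸ hi' ▸ le_blockDim (ordq F r))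
  obtain ⟨e, he⟩ : Even (2 * d % c) :=
    even_iff_two_dvd.2 ((Nat.dvd_mod_iff (even_iff_two_dvd.1 hev)).2 (dvd_mul_right 2 d))
  have hcr : c ∣ r - 1 := by
    have hodd : Even (r - 1) := by
      obtain ⟨w, hw⟩ := (Fact.out : r.Prime).odd_of_ne_two hr2
      exact ⟨w, by omega⟩
    rw [hic]
    refine blockDim_dvd (orderOf_dvd_of_pow_eq_one (ZMod.pow_card_sub_one_eq_one fun h0 => ?_)) hodd
    have := ordq_pos (F := F) hrF
    rw [ordq, h0] at this
    simp at this
  have hdm := Nat.div_add_mod (2 * d) c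
  constructor
  · intro hL
    -- what a fixed decomposition gives
    have hfix : ∀ (x : ↥(Matrix.symplecticGroup (Fin d) F)), x ^ r = 1 →
        (∀ z : F, (x : Matrix (Fin d ⊕ Fin d) (Fin d ⊕ Fin d) F) ≠ z • 1) →
        let f := Matrix.toLinAlgEquiv' (x : Matrix (Fin d ⊕ Fin d) (Fin d ⊕ Fin d) F)
        IsSympPack (sympBilin d F) f r ∧
        ∃ D : Fin t → Submodule F (Fin d ⊕ Fin d → F), IsOrthDec d a D ∧
          ((((r - 1) * a ≤ finrank F (movS f)) ∧ a ≤ finrank F (fixS f)) ∨ ∀ j, Inv f (D j)) := by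
      intro x hx hns f
      obtain ⟨D, hD, σ, hσ⟩ := hL x ⟨1, by rw [hx, one_smul]; rfl⟩ hns
      have hfr : f ^ r = 1 := by
        simp only [f]; rw [← map_pow, ← SubmonoidClass.coe_pow, hx]; exact map_one _
      refine ⟨⟨⟨hrefl, fun u v => CfsgLib.Symp.form_smul_smul x u v, hfr, (Fact.out : r.Prime).pos⟩, halt,
        ndg_top_symp⟩, D, hD, ?_⟩
      by_cases hall : ∀ j, σ j = j
      · exact Or.inr fun j => inv_iff.2 ((hσ j).trans (by rw [hall j])).le
      · push Not at hall
        obtain ⟨j, hj⟩ := hall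
        exact Or.inl (orbit_moved (f := f) hfr hD.1.indep hD.1.finrank_eq (fun j => hσ j) hj (by omega))
    rcases Nat.lt_or_ge a c with hac | hca
    · exfalso
      rcases Nat.lt_or_ge (2 * d) c with hcn | hcn
      · -- no elements of order `r` at all
        have hne : Nonempty {D : Fin t → Submodule F (Fin d ⊕ Fin d → F) // IsOrthDec d a D} := by
          have hP1 : IsSympPack (sympBilin d F) (1 : Module.End F (Fin d ⊕ Fin d → F)) r :=
            ⟨⟨hrefl, fun _ _ => rfl, one_pow r, (Fact.out : r.Prime).pos⟩, halt, ndg_top_symp⟩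
          obtain ⟨D, hDs, hD⟩ := hP1.exists_decomp hrF hr (a := a) hae (hic ▸ hc0) t ⊤ (Inv.top _) ndg_top_symp
            (by rw [finrank_top, hcard])
            (by rw [sub_self, Submodule.map_zero, finrank_bot]; exact Nat.zero_le _)
          exact ⟨⟨D, ⟨ht, by omega, fun j => (hD j).1, indep_of_dims (fun j => (hD j).1) hDs hcard, hDs⟩,
            fun j => (hD j).2.1, fun j j' h => (hD j).2.2.2 j' h⟩⟩
        have hN : r ∣ Nat.card {D : Fin t → Submodule F (Fin d ⊕ Fin d → F) // IsOrthDec d a D} :=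
          dvd_trans hΩ (Nat.div_dvd_of_dvd factorial_dvd_card_orthDec)
        have hSp := hN.trans card_orthDec_dvd
        rw [CfsgLib.Symp.card_Sp] at hSp
        rcases (Fact.out : r.Prime).dvd_mul.1 hSp with h | h
        · have h' := (Fact.out : r.Prime).dvd_of_dvd_pow h
          obtain ⟨n, hp', hq'⟩ := FiniteField.card F p
          rw [Nat.card_eq_fintype_card, hq'] at h'
          exact hrp ((Nat.prime_dvd_prime_iff_eq Fact.out hp').1 ((Fact.out : r.Prime).dvd_of_dvd_pow h'))
        · obtain ⟨l, hl, hl'⟩ := (Prime.dvd_finsetProd_iff (Fact.out : r.Prime).prime _).1 h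
          rw [Finset.mem_range] at hl
          refine not_dvd_factor (F := F) (d := d) (h := d) ?_ (by omega) (by omega) hl'
          rw [← hic, Nat.mod_eq_of_lt hcn]
      · -- one block
        obtain ⟨e1, he1⟩ : Even (2 * d - c) := (Nat.even_sub hcn).2 ⟨fun _ => hev, fun _ => even_two_mul d⟩
        obtain ⟨x, hx, hns, hF⟩ := exists_worst (F := F) hrF hr (d := d) Nat.one_pos (e := e1)
          (by rw [one_mul, ← hic]; omega)
        obtain ⟨hP, D, hD, h | h⟩ := hfix x hx hns
        · have hs := fix_add_mov (f := Matrix.toLinAlgEquiv' (x : Matrix (Fin d ⊕ Fin d) (Fin d ⊕ Fin d) F))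
          rw [hcard, hF] at hs
          have h1 : c ≤ r - 1 := Nat.le_of_dvd (by have := (Fact.out : r.Prime).two_le; omega) hcr
          have h2 : 2 * (r - 1) ≤ (r - 1) * a := by rw [mul_comm 2]; exact Nat.mul_le_mul_left _ ha
          omega
        · have hall : ∀ j, ∀ v ∈ D j, Matrix.toLinAlgEquiv' (x : Matrix (Fin d ⊕ Fin d) (Fin d ⊕ Fin d) F) v = v := by
            intro j v hv
            obtain ⟨w, hw⟩ := hP.blockDim_dvd_mov hrF (h j) (hD.2.1 j)
            have hle := Submodule.finrank_mono (h j).map_sub.2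
            rw [hw, hD.1.finrank_eq j, ← hic] at hle
            have hw0 : w = 0 := by
              rcases Nat.eq_zero_or_pos w with h0 | h0
              · exact h0
              · have := Nat.le_mul_of_pos_right c h0
                omega
            rw [hw0, Nat.mul_zero, Submodule.finrank_eq_zero] at hw
            have := LinearMap.le_ker_iff_map.2 hw hv
            rwa [LinearMap.mem_ker, LinearMap.sub_apply, Module.End.one_apply, sub_eq_zero] at this
          have hmem : ∀ v, v ∈ fixS (Matrix.toLinAlgEquiv' (x : Matrix (Fin d ⊕ Fin d) (Fin d ⊕ Fin d) F)) := fun v => by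
            have : (⊤ : Submodule F (Fin d ⊕ Fin d → F)) ≤ _ := hD.1.iSup_eq_top ▸
              iSup_le fun j v hv => mem_fixS.2 (hall j v hv)
            exact this Submodule.mem_top
          have hfull : finrank F (fixS (Matrix.toLinAlgEquiv' (x : Matrix (Fin d ⊕ Fin d) (Fin d ⊕ Fin d) F))) = a * t := by
            rw [Submodule.eq_top_iff'.2 hmem, finrank_top, hcard]
          rw [hF] at hfull
          omega
    · refine ⟨hca, ?_⟩
      have hs : 0 < 2 * d / c := Nat.div_pos (by
        have := Nat.le_mul_of_pos_right a (show 0 < t by omega)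
        omega) hc0
      obtain ⟨x, hx, hns, hF⟩ := exists_worst (F := F) hrF hr (d := d) hs (e := e)
        (by rw [← hic, mul_comm (2 * d / c)]; omega)
      obtain ⟨hP, D, hD, h | h⟩ := hfix x hx hns
      · have := Nat.mod_lt (2 * d) hc0
        rw [hF] at h
        omega
      set f := Matrix.toLinAlgEquiv' (x : Matrix (Fin d ⊕ Fin d) (Fin d ⊕ Fin d) F)
      have hb : ∀ j, a % c ≤ finrank F ↥(D j ⊓ fixS f) := fun j => by
        obtain ⟨w, hw⟩ := hP.blockDim_dvd_mov hrF (h j) (hD.2.1 j)
        have h1 := dim_split (f := f) (D j)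
        rw [hD.1.finrank_eq j, hw, ← hic] at h1
        rw [h1, Nat.add_mul_mod_self_left]
        exact Nat.mod_le _ _
      have hind : iSupIndep fun j => D j ⊓ fixS f := hD.1.indep.mono fun j => inf_le_left
      have hsum : ∑ j, finrank F ↥(D j ⊓ fixS f) ≤ finrank F (fixS f) := by
        let Ψ : (∀ j, ↥(D j ⊓ fixS f)) →ₗ[F] fixS f :=
          LinearMap.codRestrict (fixS f) (∑ j, (D j ⊓ fixS f).subtype.comp (LinearMap.proj j)) fun v => by
            simp only [LinearMap.sum_apply, LinearMap.comp_apply]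
            exact Submodule.sum_mem _ fun j _ => (v j).2.2
        have hinj : Function.Injective Ψ := by
          rw [← LinearMap.ker_eq_bot, Submodule.eq_bot_iff]
          intro v hv
          have h0 := congrArg Subtype.val (LinearMap.mem_ker.1 hv)
          simp only [Ψ, LinearMap.codRestrict_apply, LinearMap.sum_apply, LinearMap.comp_apply] at h0
          funext j
          refine Subtype.ext (Submodule.disjoint_def.1 (hind j) _ (v j).2 ?_)
          rw [← Finset.add_sum_erase _ _ (Finset.mem_univ j)] at h0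
          change (v j : Fin d ⊕ Fin d → F) + _ = 0 at h0
          rw [eq_neg_of_add_eq_zero_left h0]
          exact Submodule.neg_mem _ (Submodule.sum_mem _ fun k hk =>
            Submodule.mem_iSup_of_mem k (Submodule.mem_iSup_of_mem (Finset.ne_of_mem_erase hk) (v k).2))
        have := LinearMap.finrank_le_finrank_of_injective hinj
        rwa [Module.finrank_pi_fintype] at this
      have h2 : t * (a % c) ≤ ∑ j, finrank F ↥(D j ⊓ fixS f) := by
        have := Finset.sum_le_sum fun j (_ : j ∈ Finset.univ) => hb j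
        rwa [Finset.sum_const, Finset.card_univ, Fintype.card_fin, smul_eq_mul] at this
      rw [hF] at hsum
      have h3 : 2 * d % c ≤ t * (a % c) := by
        conv_lhs => rw [hat, ← Nat.div_add_mod a c, Nat.add_mul, Nat.mul_assoc, Nat.mul_add_mod, mul_comm (a % c)]
        exact Nat.mod_le _ _
      omega
  · rintro ⟨hca, hk⟩ x hx hns
    obtain ⟨f, hP, -, hinv⟩ := exists_sympPack hd0 hr x hx hns
    obtain ⟨s, hs⟩ := hP.blockDim_dvd_mov hrF (Inv.top f) hP.top
    obtain ⟨D, hDs, hD⟩ := hP.exists_decomp hrF hr (a := a) hae (hic ▸ hc0) t ⊤ (Inv.top f) hP.top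
      (by rw [finrank_top, hcard]) (by
        rw [hs, ← hic, mul_comm c s]
        refine Nat.mul_le_mul_right c ?_
        have hsum := fix_add_mov (f := f)
        rw [Submodule.map_top] at hs
        change finrank F (movS f) = _ at hs
        rw [hcard, hs, ← hic] at hsum
        have h1 : c * s ≤ c * (t * (a / c)) + t * (a % c) := by
          calc c * s ≤ a * t := by omega
            _ = (c * (a / c) + a % c) * t := by rw [Nat.div_add_mod]
            _ = c * (t * (a / c)) + t * (a % c) := by ring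
        have h2 : t * (a % c) < c := hk ▸ Nat.mod_lt _ hc0
        have h3 : c * s < c * (t * (a / c) + 1) := by rw [Nat.mul_add, Nat.mul_one]; omega
        have := Nat.lt_of_mul_lt_mul_left h3
        omega)
    refine ⟨D, ⟨⟨ht, by omega, fun j => (hD j).1, indep_of_dims (fun j => (hD j).1) hDs hcard, hDs⟩,
      fun j => (hD j).2.1, fun j j' h => (hD j).2.2.2 j' h⟩, 1, fun j => ?_⟩
    refine map_eq_of_inv (fun u v e => ?_) (inv_iff.2 ((hinv (D j)).1 (hD j).2.2.1))
    exact MulAction.injective x e

end Cfsg.Agent.S5961
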