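import Cfsg.Statements.S5962
import Cfsg.Agent.Elusive.SympPlanes

set_option autoImplicit false
open scoped MatrixGroups
open Cfsg

namespace Cfsg.Agent.S5962

/-- Involutions of PSp_n(q), q odd, and the subgroups GL_{n/2}(q).2. Here `T = PSp_n(q)`, `n = 2d ≥ 4`, `q` odd, realised through the symplectic matrices over the field `F` with `q` elements; Ω is the set of unordered pairs `{U, W}` of complementary totally isotropic `d`-spaces (`F^n = U ⊕ W`), whose stabilizers are the subgroups of type GL_d(q).2 (maximal except in some small cases; maximality is not assumed); an element of `T` of prime order `r` (a symplectic matrix `x` with `x^r` scalar, `x` not scalar) fixes such a pair when it fixes or interchanges `U` and `W`. If the number of such pairs is even, every involution of `T` fixes one of them (the action is 2-elusive). -/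
theorem result {F : Type*} [Field F] [Fintype F] {p : ℕ} [Fact p.Prime] [CharP F p] {q : ℕ} (hq : Fintype.card F = q)
    (d : ℕ) (hd : 2 ≤ d) (hT : (d, q) ≠ (2, 2)) (hodd : Odd q)
    (hΩ : 2 ∣ Nat.card {P : Submodule F (Fin d ⊕ Fin d → F) × Submodule F (Fin d ⊕ Fin d → F) // IsCompl P.1 P.2 ∧ (∀ u ∈ P.1, ∀ v ∈ P.1, Cfsg.sympForm d F u v = 0) ∧ (∀ u ∈ P.2, ∀ v ∈ P.2, Cfsg.sympForm d F u v = 0)} / 2)
    (x : ↥(Matrix.symplecticGroup (Fin d) F))
    (hx1 : ∃ z : F, ((x ^ 2 : ↥(Matrix.symplecticGroup (Fin d) F)) : Matrix (Fin d ⊕ Fin d) (Fin d ⊕ Fin d) F) = z • (1 : Matrix (Fin d ⊕ Fin d) (Fin d ⊕ Fin d) F))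
    (hx2 : ∀ z : F, (x : Matrix (Fin d ⊕ Fin d) (Fin d ⊕ Fin d) F) ≠ z • (1 : Matrix (Fin d ⊕ Fin d) (Fin d ⊕ Fin d) F)) :
    ∃ U W : Submodule F (Fin d ⊕ Fin d → F), IsCompl U W ∧ (∀ u ∈ U, ∀ v ∈ U, Cfsg.sympForm d F u v = 0) ∧ (∀ u ∈ W, ∀ v ∈ W, Cfsg.sympForm d F u v = 0) ∧
        ((U.map (Matrix.toLin' (x : Matrix (Fin d ⊕ Fin d) (Fin d ⊕ Fin d) F)) = U ∧ W.map (Matrix.toLin' (x : Matrix (Fin d ⊕ Fin d) (Fin d ⊕ Fin d) F)) = W) ∨
         (U.map (Matrix.toLin' (x : Matrix (Fin d ⊕ Fin d) (Fin d ⊕ Fin d) F)) = W ∧ W.map (Matrix.toLin' (x : Matrix (Fin d ⊕ Fin d) (Fin d ⊕ Fin d) F)) = U)) := by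
  classical
  obtain ⟨z, hz⟩ := hx1
  have h2 : (2 : F) ≠ 0 := by
    intro e
    have hch : ringChar F = 2 := CharP.ringChar_of_prime_eq_zero Nat.prime_two (by exact_mod_cast e)
    have := FiniteField.even_card_iff_char_two.1 hch
    rw [← hq, Nat.odd_iff] at hodd
    omega
  obtain ⟨u, w, hp, hs⟩ := CfsgLib.Elusive.exists_planes_symp (by omega) h2 hz
  have hiso : ∀ u : Fin d → (Fin d ⊕ Fin d → F), (∀ i j, CfsgLib.Elusive.sympBilin d F (u i) (u j) = 0) →
      ∀ a ∈ Submodule.span F (Set.range u), ∀ b ∈ Submodule.span F (Set.range u), Cfsg.sympForm d F a b = 0 := by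
    intro u hu a ha b hb
    obtain ⟨ca, rfl⟩ := (Submodule.mem_span_range_iff_exists_fun F).1 ha
    obtain ⟨cb, rfl⟩ := (Submodule.mem_span_range_iff_exists_fun F).1 hb
    rw [← CfsgLib.Elusive.sympBilin_apply]
    simp [map_sum, map_smul, hu]
  refine ⟨Submodule.span F (Set.range u), Submodule.span F (Set.range w), ⟨?_, codisjoint_iff.2 hs⟩,
    hiso u hp.1, hiso w hp.2.1, ?_⟩
  · rw [Submodule.disjoint_def]
    intro v hu hw
    obtain ⟨a, rfl⟩ := (Submodule.mem_span_range_iff_exists_fun F).1 hu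
    refine Finset.sum_eq_zero fun i _ => ?_
    have h1 := CfsgLib.Elusive.planes_coord hp a 0 i
    simp only [Pi.zero_apply, zero_smul, Finset.sum_const_zero, add_zero] at h1
    have h3 : CfsgLib.Elusive.sympBilin d F (∑ j, a j • u j) (w i) = 0 :=
      hiso w hp.2.1 _ hw _ (Submodule.subset_span ⟨i, rfl⟩)
    rw [h3] at h1
    rw [(mul_eq_zero.1 h1.symm).resolve_right (hp.2.2.2.1 i), zero_smul]
  · obtain ⟨-, h⟩ | ⟨-, h⟩ := hp.2.2.2.2
    · refine Or.inl ⟨?_, ?_⟩
      all_goals
        rw [Submodule.map_span, ← Set.range_comp]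
        refine le_antisymm (Submodule.span_le.2 ?_) (Submodule.span_le.2 ?_)
        all_goals
          rintro _ ⟨i, rfl⟩
          obtain ⟨s, hs1, hu', hw'⟩ := h i
          have hss : s * s = 1 := by rw [← pow_two, hs1]
      · show Matrix.toLin' _ (u i) ∈ _
        rw [hu']
        exact Submodule.smul_mem _ s (Submodule.subset_span ⟨i, rfl⟩)
      · rw [show u i = s • s • u i by rw [smul_smul, hss, one_smul]]
        exact Submodule.smul_mem _ s (Submodule.subset_span ⟨i, hu'⟩)
      · show Matrix.toLin' _ (w i) ∈ _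
        rw [hw']
        exact Submodule.smul_mem _ s (Submodule.subset_span ⟨i, rfl⟩)
      · rw [show w i = s • s • w i by rw [smul_smul, hss, one_smul]]
        exact Submodule.smul_mem _ s (Submodule.subset_span ⟨i, hw'⟩)
    · refine Or.inr ⟨?_, ?_⟩
      · rw [Submodule.map_span, ← Set.range_comp]
        congr 2
        funext i
        exact (h i).1
      · rw [Submodule.map_span, ← Set.range_comp]
        refine le_antisymm (Submodule.span_le.2 ?_) (Submodule.span_le.2 ?_)
        · rintro _ ⟨i, rfl⟩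
          show Matrix.toLin' _ (w i) ∈ _
          rw [(h i).2]
          exact Submodule.neg_mem _ (Submodule.subset_span ⟨i, rfl⟩)
        · rintro _ ⟨i, rfl⟩
          rw [show u i = -(-u i) from (neg_neg _).symm]
          exact Submodule.neg_mem _ (Submodule.subset_span ⟨i, (h i).2⟩)

end Cfsg.Agent.S5962
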