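import Cfsg.Statements.S5963
import Cfsg.Agent.Elusive.LagrPairs

set_option autoImplicit false
open scoped MatrixGroups
open Cfsg

namespace Cfsg.Agent.S5963
open scoped Matrix

/-- Derangements of odd prime order of PSp_n(q), q odd, on pairs of complementary totally isotropic subspaces. Here `T = PSp_n(q)`, `n = 2d ≥ 4`, `q` odd, realised through the symplectic matrices over the field `F` with `q` elements; Ω is the set of unordered pairs `{U, W}` of complementary totally isotropic `d`-spaces (`F^n = U ⊕ W`), whose stabilizers are the subgroups of type GL_d(q).2 (maximal except in some small cases; maximality is not assumed); an element of `T` of prime order `r` (a symplectic matrix `x` with `x^r` scalar, `x` not scalar) fixes such a pair when it fixes or interchanges `U` and `W`. For every odd prime `r ≠ p` dividing the number of such pairs, some element of `T` of order `r` fixes no such pair (the action is never `r`-elusive for odd `r ≠ p`). -/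
theorem result {F : Type*} [Field F] [Fintype F] {p : ℕ} [Fact p.Prime] [CharP F p] {q : ℕ} (hq : Fintype.card F = q)
    (d : ℕ) (hd : 2 ≤ d) (hT : (d, q) ≠ (2, 2)) (hodd : Odd q)
    (r : ℕ) [Fact r.Prime] (hr2 : r ≠ 2) (hrp : r ≠ p) (hΩ : r ∣ Nat.card {P : Submodule F (Fin d ⊕ Fin d → F) × Submodule F (Fin d ⊕ Fin d → F) // IsCompl P.1 P.2 ∧ (∀ u ∈ P.1, ∀ v ∈ P.1, Cfsg.sympForm d F u v = 0) ∧ (∀ u ∈ P.2, ∀ v ∈ P.2, Cfsg.sympForm d F u v = 0)} / 2) :
    ∃ x : ↥(Matrix.symplecticGroup (Fin d) F),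
      (∃ z : F, ((x ^ r : ↥(Matrix.symplecticGroup (Fin d) F)) : Matrix (Fin d ⊕ Fin d) (Fin d ⊕ Fin d) F) = z • (1 : Matrix (Fin d ⊕ Fin d) (Fin d ⊕ Fin d) F)) ∧
      (∀ z : F, (x : Matrix (Fin d ⊕ Fin d) (Fin d ⊕ Fin d) F) ≠ z • (1 : Matrix (Fin d ⊕ Fin d) (Fin d ⊕ Fin d) F)) ∧
      ¬ (∃ U W : Submodule F (Fin d ⊕ Fin d → F), IsCompl U W ∧ (∀ u ∈ U, ∀ v ∈ U, Cfsg.sympForm d F u v = 0) ∧ (∀ u ∈ W, ∀ v ∈ W, Cfsg.sympForm d F u v = 0) ∧
        ((U.map (Matrix.toLin' (x : Matrix (Fin d ⊕ Fin d) (Fin d ⊕ Fin d) F)) = U ∧ W.map (Matrix.toLin' (x : Matrix (Fin d ⊕ Fin d) (Fin d ⊕ Fin d) F)) = W) ∨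
         (U.map (Matrix.toLin' (x : Matrix (Fin d ⊕ Fin d) (Fin d ⊕ Fin d) F)) = W ∧ W.map (Matrix.toLin' (x : Matrix (Fin d ⊕ Fin d) (Fin d ⊕ Fin d) F)) = U))) := by
  classical
  subst hq
  have hrr := (Fact.out : r.Prime)
  have hdvd : r ∣ Nat.card (CfsgLib.Elusive.LagrPairs F d) :=
    hΩ.trans (Nat.div_dvd_of_dvd (even_iff_two_dvd.1 (CfsgLib.Elusive.even_card_lagrPairs (by omega))))
  obtain ⟨i, hid, hi⟩ := CfsgLib.Elusive.dvd_pow_add_one_of_dvd_lagrPairs (p := p) hrp hdvd
  have hr0 : (r : F) ≠ 0 := CfsgLib.Elusive.cast_ne_zero_of_ne (p := p) hrp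
  set Q : ZMod r := ((Fintype.card F : ℕ) : ZMod r) with hQ
  have hQi : Q ^ (i + 1) = -1 := by
    have h1 := (ZMod.natCast_eq_zero_iff _ r).2 hi
    push_cast at h1
    exact eq_neg_of_add_eq_zero_left h1
  set e := orderOf Q with he
  have he2 : e ∣ 2 * (i + 1) := orderOf_dvd_of_pow_eq_one (by rw [Nat.mul_comm, pow_mul, hQi]; ring)
  have hne : ¬ e ∣ i + 1 := fun h => by
    rw [orderOf_dvd_iff_pow_eq_one, hQi] at h
    have h2 : ((2 : ℕ) : ZMod r) = 0 := by push_cast; linear_combination -h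
    rw [ZMod.natCast_eq_zero_iff] at h2
    exact hr2 ((Nat.prime_dvd_prime_iff_eq hrr Nat.prime_two).1 h2)
  obtain ⟨j, hj⟩ : 2 ∣ e := by
    by_contra h
    exact hne (((Nat.Prime.coprime_iff_not_dvd Nat.prime_two).2 h).symm.dvd_of_dvd_mul_left he2)
  have hepos : 0 < e := Nat.pos_of_ne_zero fun h => by rw [h, zero_dvd_iff] at he2; omega
  have hjd : j ≤ d := by
    have := Nat.le_of_dvd (by omega) he2
    omega
  obtain ⟨b, rfl⟩ := Nat.exists_eq_add_of_le hjd
  have hcard : r ∣ Nat.card (Matrix.symplecticGroup (Fin j) F) := by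
    rw [CfsgLib.Symp.card_Sp, Nat.card_eq_fintype_card]
    refine dvd_mul_of_dvd_right ((?_ : r ∣ Fintype.card F ^ (2 * (j - 1 + 1)) - 1).trans
      (Finset.dvd_prod_of_mem (fun k => Fintype.card F ^ (2 * (k + 1)) - 1)
        (Finset.mem_range.2 (show j - 1 < j by omega)))) _
    rw [show 2 * (j - 1 + 1) = e by omega, ← ZMod.natCast_eq_zero_iff,
      Nat.cast_sub (Nat.one_le_pow _ _ Fintype.card_pos), Nat.cast_pow, Nat.cast_one, ← hQ, he, pow_orderOf_eq_one,
      sub_self]
  have := Fintype.ofFinite (Matrix.symplecticGroup (Fin j) F)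
  obtain ⟨g, hg⟩ := exists_prime_orderOf_dvd_card' r hcard
  let ψ := (CfsgLib.Symp.congrSp (R := F) (finSumFinEquiv : Fin j ⊕ Fin b ≃ Fin (j + b))).toMonoidHom.comp
    ((CfsgLib.Symp.blockHom (a := Fin j) (b := Fin b) (R := F)).comp (MonoidHom.inl _ _))
  have hψ : Function.Injective ψ := fun a c h => congrArg Prod.fst (CfsgLib.Symp.blockHom_injective
    (show CfsgLib.Symp.blockHom (R := F) (a, (1 : Matrix.symplecticGroup (Fin b) F)) =
      CfsgLib.Symp.blockHom (R := F) (c, 1) from (CfsgLib.Symp.congrSp _).injective h))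
  set x := ψ g with hx
  have hxr : x ^ r = 1 := by rw [hx, ← map_pow, ← hg, pow_orderOf_eq_one, map_one]
  have hx1 : x ≠ 1 := fun h => by
    rw [hψ (show ψ g = ψ 1 by rw [map_one]; exact h), orderOf_one] at hg
    exact hrr.one_lt.ne hg
  set f := Matrix.toLin' (x : Matrix (Fin (j + b) ⊕ Fin (j + b)) (Fin (j + b) ⊕ Fin (j + b)) F) with hfdef
  have hfr : f ^ r = 1 := by
    show Matrix.toLinAlgEquiv' (x : Matrix (Fin (j + b) ⊕ Fin (j + b)) (Fin (j + b) ⊕ Fin (j + b)) F) ^ r = 1
    rw [← map_pow, ← SubmonoidClass.coe_pow, hxr, OneMemClass.coe_one, map_one]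
  -- at most `2 j` moved dimensions
  have hmov : Module.finrank F (CfsgLib.Elusive.movS f) ≤ e := by
    let ρ : (Fin (j + b) ⊕ Fin (j + b) → F) →ₗ[F] (Fin b ⊕ Fin b → F) :=
      LinearMap.funLeft F F (Sum.map (finSumFinEquiv ∘ Sum.inr) (finSumFinEquiv ∘ Sum.inr))
    have hsub : CfsgLib.Elusive.movS f ≤ LinearMap.ker ρ := by
      rintro _ ⟨v, rfl⟩
      set E := Equiv.sumCongr (finSumFinEquiv : Fin j ⊕ Fin b ≃ Fin (j + b)) finSumFinEquiv
      have hfv : ∀ s, f v (E s) = (CfsgLib.Symp.blockHom (R := F) (g, (1 : Matrix.symplecticGroup (Fin b) F)) • (v ∘ E)) s := by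
        intro s
        show ((Matrix.reindex E E (CfsgLib.Symp.blockHom (R := F) (g, (1 : Matrix.symplecticGroup (Fin b) F))).1) *ᵥ v) (E s) = _
        rw [Matrix.reindex_apply, Matrix.submatrix_mulVec_equiv, Equiv.symm_symm, Function.comp_apply,
          Equiv.symm_apply_apply]
        rfl
      rw [LinearMap.mem_ker]
      funext s
      have hs : Sum.map (finSumFinEquiv ∘ Sum.inr) (finSumFinEquiv ∘ Sum.inr) s = E (Sum.map Sum.inr Sum.inr s) := by
        rcases s with s | s <;> rfl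
      show f v _ - v _ = 0
      rw [hs, hfv, CfsgLib.Symp.blockHom_smul, one_smul, sub_eq_zero]
      exact congrFun (CfsgLib.Symp.resB_glue _ _) s
    have h1 := LinearMap.finrank_range_add_finrank_ker ρ
    rw [LinearMap.range_eq_top.2 (LinearMap.funLeft_surjective_of_injective F F _
        ((finSumFinEquiv.injective.comp Sum.inr_injective).sumMap (finSumFinEquiv.injective.comp Sum.inr_injective))),
      finrank_top, Module.finrank_fintype_fun_eq_card, Module.finrank_fintype_fun_eq_card, Fintype.card_sum,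
      Fintype.card_sum, Fintype.card_fin, Fintype.card_fin] at h1
    have h2 := Submodule.finrank_mono hsub
    omega
  have hmov0 : Module.finrank F (CfsgLib.Elusive.movS f) ≠ 0 := fun h => hx1 (by
    rw [Submodule.finrank_eq_zero, CfsgLib.Elusive.movS, LinearMap.range_eq_bot, sub_eq_zero] at h
    refine Subtype.ext (Matrix.toLin'.injective ?_)
    rw [← hfdef, h, OneMemClass.coe_one, Matrix.toLin'_one]; rfl)
  refine ⟨x, ⟨1, by rw [hxr, OneMemClass.coe_one, one_smul]⟩, ?_, ?_⟩
  · intro z hz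
    refine hx1 (Subtype.ext ?_)
    have hz1 : z = 1 := by
      have hfz : ∀ v, x • v = z • v := fun v => by
        show (x : Matrix (Fin (j + b) ⊕ Fin (j + b)) (Fin (j + b) ⊕ Fin (j + b)) F) *ᵥ v = _
        rw [hz, Matrix.smul_mulVec, Matrix.one_mulVec]
      obtain ⟨v', hv'⟩ := CfsgLib.Symp.exists_form_ne_zero
        (v := (Pi.single (Sum.inl ⟨0, by omega⟩) 1 : Fin (j + b) ⊕ Fin (j + b) → F)) (by simp)
      have h1 := CfsgLib.Symp.form_smul_smul x (Pi.single (Sum.inl ⟨0, by omega⟩) 1) v'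
      rw [hfz, hfz, CfsgLib.Symp.form_smul_left, CfsgLib.Symp.form_smul_right, ← mul_assoc] at h1
      have hzz : z ^ 2 = 1 := by rw [pow_two]; exact mul_right_cancel₀ hv' (h1.trans (one_mul _).symm)
      have hzr : z ^ r = 1 := by
        have h2 := congrArg Subtype.val hxr
        rw [SubmonoidClass.coe_pow, hz, smul_pow, one_pow, OneMemClass.coe_one] at h2
        have := congrFun (congrFun h2 (Sum.inl ⟨0, by omega⟩)) (Sum.inl ⟨0, by omega⟩)
        simpa using this
      obtain ⟨t, ht⟩ := hrr.odd_of_ne_two hr2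
      rw [ht, pow_succ, pow_mul, hzz, one_pow, one_mul] at hzr
      exact hzr
    rw [hz, hz1, one_smul]; rfl
  · rintro ⟨U, W, hc, hU, hW, hinv | ⟨h1, h2⟩⟩
    · obtain ⟨h1, h2⟩ := hinv
      have hUi : CfsgLib.Elusive.Inv f U := CfsgLib.Elusive.inv_iff.2 h1.le
      have hWi : CfsgLib.Elusive.Inv f W := CfsgLib.Elusive.inv_iff.2 h2.le
      have hsum := CfsgLib.Elusive.compl_dims hfr hr0 hUi hWi hc
      have hdU := CfsgLib.Elusive.mov_dvd hfr hr0 hUi
      have hdW := CfsgLib.Elusive.mov_dvd hfr hr0 hWi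
      rw [← hQ, ← he] at hdU hdW
      -- one summand is fixed pointwise, hence both
      have key : ∀ A B : Submodule F (Fin (j + b) ⊕ Fin (j + b) → F), IsCompl A B →
          (∀ u ∈ A, ∀ v ∈ A, Cfsg.sympForm (j + b) F u v = 0) → CfsgLib.Elusive.Inv f A →
          B.map (f - 1) = ⊥ → A.map (f - 1) = ⊥ := by
        intro A B hAB hA hAi hB
        rw [Submodule.eq_bot_iff]
        rintro _ ⟨u, hu, rfl⟩
        refine CfsgLib.Symp.eq_zero_of_form_eq_zero fun v => ?_
        obtain ⟨a, ha, c, hc', rfl⟩ := Submodule.mem_sup.1 (hAB.sup_eq_top ▸ Submodule.mem_top : v ∈ A ⊔ B)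
        rw [CfsgLib.Symp.form_add_left]
        have hfc : f c = c := by
          have h3 : (f - 1) c ∈ B.map (f - 1) := Submodule.mem_map_of_mem hc'
          rw [hB, Submodule.mem_bot, LinearMap.sub_apply, sub_eq_zero] at h3
          exact h3
        have hu' : (f - 1) u = f u - u := rfl
        have h4 : CfsgLib.Symp.form c (f u - u) = 0 := by
          rw [CfsgLib.Symp.form_sub_right, sub_eq_zero]
          conv_lhs => rw [← hfc]
          exact CfsgLib.Symp.form_smul_smul x c u
        rw [hu', h4, add_zero]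
        exact hA a ha _ (A.sub_mem (hAi u hu) hu)
      obtain ⟨a, ha⟩ := hdU
      obtain ⟨c, hc'⟩ := hdW
      rw [ha, hc'] at hsum
      have hle : e * (a + c) ≤ e * 1 := by rw [Nat.mul_add, hsum, Nat.mul_one]; exact hmov
      have hac : a = 0 ∨ c = 0 := by have := Nat.le_of_mul_le_mul_left hle hepos; omega
      rcases hac with h0 | h0
      · rw [h0, Nat.mul_zero, Submodule.finrank_eq_zero] at ha
        have h5 := key W U hc.symm hW hWi ha
        rw [← hc', h5, finrank_bot, h0, Nat.mul_zero] at hsum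
        exact hmov0 hsum.symm
      · rw [h0, Nat.mul_zero, Submodule.finrank_eq_zero] at hc'
        have h5 := key U W hc hU hUi hc'
        rw [← ha, h5, finrank_bot, h0, Nat.mul_zero] at hsum
        exact hmov0 hsum.symm
    · have hpow : ∀ k, U.map (f ^ (2 * k + 1)) = W := fun k => by
        induction k with
        | zero => rw [Nat.mul_zero, zero_add, pow_one]; exact h1
        | succ k ih =>
          rw [show 2 * (k + 1) + 1 = 2 * k + 1 + 1 + 1 by ring, pow_succ', Module.End.mul_eq_comp,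
            Submodule.map_comp, pow_succ', Module.End.mul_eq_comp, Submodule.map_comp, ih, h2]
          exact h1
      obtain ⟨t, ht⟩ := hrr.odd_of_ne_two hr2
      have h3 := hpow t
      rw [← ht, hfr, Module.End.one_eq_id, Submodule.map_id] at h3
      subst h3
      have h4 := hc.inf_eq_bot
      rw [inf_idem] at h4
      have h5 := hc.sup_eq_top
      rw [sup_idem, h4] at h5
      have : Nonempty (Fin (j + b)) := ⟨⟨0, by omega⟩⟩
      exact bot_ne_top h5

end Cfsg.Agent.S5963
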