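import Cfsg.Statements.S5964
import Cfsg.Agent.Elusive.ConjBasis
import Cfsg.Agent.Elusive.SympNormal
import Cfsg.Agent.Elusive.Compl
import Cfsg.Agent.Classical.LinearOrder

set_option autoImplicit false
open scoped MatrixGroups
open Cfsg

namespace Cfsg.Agent.S5964
open scoped Matrix

/-- Involutions of PSL_n(q) and subfield subgroups. Here `T = PSL_n(F)` for a field `F` with `q = p^f` elements (`n ≥ 2`, `(n, q) ≠ (2, 2), (2, 3)`), `F₀` is the subfield with `q₀` elements where `q = q₀^k` for a prime `k`, and `H` is the subgroup of matrices of determinant 1 lying in the subfield group of `F₀` (invertible matrices over `F₀` times scalars) — a maximal subgroup of type GL_n(q₀) (the case `n = 2`, `q₀ = 2` is excluded); Ω is the set of `T`-conjugates of `H` (cosets of `H`), so an element of `T` of prime order `r` (a matrix `x` of determinant 1 with `x^r` scalar, `x` not scalar) fixes a point of Ω when some conjugate of `x` by a matrix of determinant 1 lies in `H`. Suppose the index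 of `H` is even. Then every involution of `T` is conjugate in `T` into `H` if and only if either `q` is even, or `k = 2` and `(n)_2 ≤ (q − 1)_2`. (For `q` odd and `k` odd the index of `H` is odd, so that case does not arise.) -/
theorem result {F : Type*} [Field F] [Fintype F] {p : ℕ} [Fact p.Prime] [CharP F p] {q : ℕ} (hq : Fintype.card F = q)
    (n : ℕ) (hn : 2 ≤ n) (hT : (n, q) ≠ (2, 2) ∧ (n, q) ≠ (2, 3))
    (F₀ : Subfield F) (k q₀ : ℕ) (hk : k.Prime) (hF₀ : Nat.card ↥F₀ = q₀) (hqk : q = q₀ ^ k) (hC5 : ¬ (n = 2 ∧ q₀ = 2)) (hΩ : 2 ∣ ((Cfsg.Geo.subfieldSubgroup F₀ 1).comap (Matrix.SpecialLinearGroup.toGL : Matrix.SpecialLinearGroup (Fin n) F →* GL (Fin n) F)).index) :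
    (∀ x : Matrix.SpecialLinearGroup (Fin n) F,
      (∃ z : F, ((x ^ 2 : Matrix.SpecialLinearGroup (Fin n) F) : Matrix (Fin n) (Fin n) F) = z • (1 : Matrix (Fin n) (Fin n) F)) →
      (∀ z : F, (x : Matrix (Fin n) (Fin n) F) ≠ z • (1 : Matrix (Fin n) (Fin n) F)) →
      ∃ P : Matrix.SpecialLinearGroup (Fin n) F, P⁻¹ * x * P ∈ ((Cfsg.Geo.subfieldSubgroup F₀ 1).comap (Matrix.SpecialLinearGroup.toGL : Matrix.SpecialLinearGroup (Fin n) F →* GL (Fin n) F))) ↔
    (Odd q → (k = 2 ∧ padicValNat 2 n ≤ padicValNat 2 (q - 1))) := by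
  classical
  subst hq
  have : Nonempty (Fin n) := ⟨⟨0, by omega⟩⟩
  have hcard := Fintype.one_lt_card (α := F)
  have : Fact (Nat.Prime 2) := ⟨Nat.prime_two⟩
  have hcard0 : Fintype.card F₀ = q₀ := by rw [← Nat.card_eq_fintype_card, hF₀]
  have hq₀ : 1 < q₀ := hcard0 ▸ Fintype.one_lt_card
  have hdesc : ∀ g : GL (Fin n) F, g ∈ Cfsg.Geo.subfieldSubgroup F₀ 1 → ∃ (A : GL (Fin n) F₀) (c : F),
      c ≠ 0 ∧ (g : Matrix (Fin n) (Fin n) F) = c • (A : Matrix (Fin n) (Fin n) F₀).map F₀.subtype := by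
    intro g hg
    simp only [Cfsg.Geo.subfieldSubgroup, map_one, Subgroup.mem_map] at hg
    obtain ⟨g', hg', rfl⟩ := hg
    obtain ⟨a, ⟨A, rfl⟩, s, hs, rfl⟩ := Subgroup.mem_sup_of_normal_right.1 hg'
    obtain ⟨c, hc⟩ := (Cfsg.Geo.mem_scalars_iff s).1 hs
    refine ⟨A, c, c.ne_zero, ?_⟩
    show ((Matrix.GeneralLinearGroup.map (F₀.subtype : F₀ →+* F) A * s : GL (Fin n) F) : Matrix (Fin n) (Fin n) F) = _
    rw [Units.val_mul, hc, Matrix.mul_smul, Matrix.mul_one]
    rfl
  have hmk : ∀ (g : GL (Fin n) F) (X : Matrix (Fin n) (Fin n) F) (c : F),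
      (∀ i j, X i j ∈ F₀) → (g : Matrix (Fin n) (Fin n) F) = c • X →
      g ∈ Cfsg.Geo.subfieldSubgroup F₀ 1 := by
    intro g X c hX hg
    have hgd : (g : Matrix (Fin n) (Fin n) F).det ≠ 0 := ((Matrix.isUnit_iff_isUnit_det _).1 g.isUnit).ne_zero
    have hc : c ≠ 0 := fun e => hgd (by rw [hg, e, zero_smul, Matrix.det_zero])
    let X₀ : Matrix (Fin n) (Fin n) F₀ := Matrix.of fun i j => ⟨X i j, hX i j⟩
    have hmap : X₀.map F₀.subtype = X := by ext i j; rfl
    have hX₀ : X₀.det ≠ 0 := fun e => hgd (by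
      rw [hg, ← hmap, Matrix.det_smul]
      rw [show X₀.map F₀.subtype = (F₀.subtype).mapMatrix X₀ from rfl, ← RingHom.map_det, e, map_zero, mul_zero])
    simp only [Cfsg.Geo.subfieldSubgroup, map_one, Subgroup.mem_map]
    refine ⟨g, ?_, by simp⟩
    let A : GL (Fin n) F₀ := Matrix.GeneralLinearGroup.mkOfDetNeZero X₀ hX₀
    let s : GL (Fin n) F := Units.map (Matrix.scalar (Fin n) : F →+* Matrix (Fin n) (Fin n) F).toMonoidHom (Units.mk0 c hc)
    have hgs : g = Matrix.GeneralLinearGroup.map (F₀.subtype : F₀ →+* F) A * s := Units.ext (by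
      rw [hg, Units.val_mul]
      show c • X = X₀.map F₀.subtype * Matrix.scalar (Fin n) c
      rw [hmap, Matrix.scalar_apply, ← Matrix.smul_one_eq_diagonal, Matrix.mul_smul, Matrix.mul_one])
    rw [hgs]
    exact Subgroup.mul_mem_sup ⟨A, rfl⟩ ⟨Units.mk0 c hc, rfl⟩
  constructor
  · intro hall hodd
    have h2 : (2 : F) ≠ 0 := by
      intro e
      have hch : ringChar F = 2 := CharP.ringChar_of_prime_eq_zero Nat.prime_two (by exact_mod_cast e)
      have := FiniteField.even_card_iff_char_two.1 hch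
      rw [Nat.odd_iff] at hodd
      omega
    have hk2 : k = 2 := by
      by_contra hk2
      have hkodd : Odd k := hk.odd_of_ne_two hk2
      have hq0odd : Odd q₀ := by rw [hqk, Nat.odd_pow_iff hk.ne_zero] at hodd; exact hodd
      set H := (Cfsg.Geo.subfieldSubgroup F₀ 1).comap
        (Matrix.SpecialLinearGroup.toGL : Matrix.SpecialLinearGroup (Fin n) F →* GL (Fin n) F)
      let φ : Matrix.SpecialLinearGroup (Fin n) F₀ →* Matrix.SpecialLinearGroup (Fin n) F :=
        Matrix.SpecialLinearGroup.map F₀.subtype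
      have hφ : Function.Injective φ := fun a b e => Subtype.ext (Matrix.ext fun i j => Subtype.ext (by
        exact congrFun (congrFun (congrArg Subtype.val e) i) j))
      have hle : φ.range ≤ H := by
        rintro _ ⟨a, rfl⟩
        exact hmk _ ((φ a : Matrix.SpecialLinearGroup (Fin n) F) : Matrix (Fin n) (Fin n) F) 1
          (fun i j => ((a : Matrix (Fin n) (Fin n) F₀) i j).2) (one_smul _ _).symm
      have hdvd : 2 ∣ φ.range.index := hΩ.trans (Subgroup.index_dvd_of_le hle)
      have hmul : φ.range.index * Nat.card (Matrix.SpecialLinearGroup (Fin n) F₀) =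
          Nat.card (Matrix.SpecialLinearGroup (Fin n) F) := by
        rw [← φ.range.index_mul_card, Nat.card_congr (MonoidHom.ofInjective hφ).toEquiv]
      have h0 := CfsgLib.Linear.card_SL_mul hcard0 n (by omega)
      have h1 := CfsgLib.Linear.card_SL_mul (F := F) (rfl : Fintype.card F = Fintype.card F) n (by omega)
      have hgs : ∀ m : ℕ, ∃ G : ℕ, Odd G ∧ (q₀ ^ k) ^ m - 1 = (q₀ ^ m - 1) * G := fun m => by
        refine ⟨∑ i ∈ Finset.range k, (q₀ ^ m) ^ i, ?_, ?_⟩
        · rw [Finset.odd_sum_iff_odd_card_odd, Finset.filter_true_of_mem fun i _ => hq0odd.pow.pow,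
            Finset.card_range]
          exact hkodd
        · rw [← pow_mul, Nat.mul_comm k m, pow_mul]
          have hg := geom_sum_mul_of_one_le (Nat.one_le_pow m q₀ (by omega)) k
          rw [← hg, Nat.mul_comm]
      have hcol : ∀ i : Fin n, ∃ G : ℕ, Odd G ∧
          Fintype.card F ^ n - Fintype.card F ^ (i : ℕ) = (q₀ ^ n - q₀ ^ (i : ℕ)) * G := fun i => by
        obtain ⟨G, hG, he⟩ := hgs (n - (i : ℕ))
        obtain ⟨c, hc⟩ : q₀ ^ (i : ℕ) ∣ (q₀ ^ k) ^ (i : ℕ) := pow_dvd_pow_of_dvd (dvd_pow_self q₀ hk.ne_zero) _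
        refine ⟨G * c, hG.mul ((Nat.odd_mul.1 (hc ▸ hq0odd.pow.pow)).2), ?_⟩
        have hi : (i : ℕ) + (n - (i : ℕ)) = n := by omega
        rw [hqk]
        rw [show (q₀ ^ k) ^ n = (q₀ ^ k) ^ (i : ℕ) * (q₀ ^ k) ^ (n - (i : ℕ)) by rw [← pow_add, hi],
          show q₀ ^ n = q₀ ^ (i : ℕ) * q₀ ^ (n - (i : ℕ)) by rw [← pow_add, hi], ← Nat.mul_sub_one, ← Nat.mul_sub_one,
          he, hc]
        ring
      choose G hG hGe using hcol
      rw [Finset.prod_congr rfl (fun i _ => hGe i), Finset.prod_mul_distrib, ← h0] at h1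
      have hGodd : Odd (∏ i, G i) :=
        Finset.prod_induction _ _ (fun a b ha hb => ha.mul hb) odd_one fun i _ => hG i
      obtain ⟨G1, hG1, he1⟩ := hgs 1
      rw [pow_one, pow_one, ← hqk] at he1
      rw [← hmul, he1] at h1
      have h3 : G1 * φ.range.index = ∏ i, G i := by
        refine Nat.eq_of_mul_eq_mul_left (Nat.mul_pos (by omega : 0 < q₀ - 1)
          (Nat.card_pos (α := Matrix.SpecialLinearGroup (Fin n) F₀))) ?_
        rw [← h1]; ring
      rw [← h3, Nat.odd_mul] at hGodd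
      exact (Nat.not_even_iff_odd.2 hGodd.2) (even_iff_two_dvd.2 hdvd)
    subst hk2
    refine ⟨rfl, ?_⟩
    by_contra hv
    have hev : 2 ∣ n := dvd_of_one_le_padicValNat (by omega)
    obtain ⟨m, hnm⟩ := hev
    have hq4 : Fintype.card F % 4 = 1 := by
      have : Odd q₀ := by rw [hqk, Nat.odd_pow_iff (by norm_num)] at hodd; exact hodd
      obtain ⟨t, rfl⟩ := this
      rw [hqk, show (2 * t + 1) ^ 2 = 4 * (t * t + t) + 1 by ring, Nat.mul_add_mod]
    obtain ⟨c, hc, hcd⟩ := (CfsgLib.Elusive.exists_nonpow_iff (F := F) (r := 2) (by omega) ⟨m, hnm⟩ (by omega)).2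
      (fun hh => hv hh.1)
    subst hnm
    rw [Nat.mul_div_cancel_left m two_pos, show (-1 : F) ^ (2 + 1) = -1 by ring] at hcd
    let e : Fin 2 × Fin m ≃ Fin (2 * m) := finProdFinEquiv
    let X : Matrix (Fin (2 * m)) (Fin (2 * m)) F :=
      (Matrix.blockDiagonal fun _ : Fin m => !![0, c; 1, 0]).submatrix e.symm e.symm
    have hdet : X.det = 1 := by
      rw [Matrix.det_submatrix_equiv_self, Matrix.det_blockDiagonal]
      simp [Matrix.det_fin_two]
      simpa using hcd
    have hXX : X * X = c • 1 := by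
      rw [Matrix.submatrix_mul_equiv, ← Matrix.blockDiagonal_mul]
      have : (fun _ : Fin m => !![0, c; 1, 0] * !![0, c; 1, 0]) = c • (1 : Fin m → Matrix (Fin 2) (Fin 2) F) := by
        funext i; ext a b; fin_cases a <;> fin_cases b <;> simp
      rw [this, Matrix.blockDiagonal_smul, Matrix.blockDiagonal_one]
      ext i j
      simp [Matrix.one_apply]
    have hns : ∀ z : F, X ≠ z • 1 := fun z hz => hc z (by
      have h1 := hXX
      rw [hz, smul_mul_smul_comm, one_mul] at h1
      have := congrFun (congrFun h1 ⟨0, by omega⟩) ⟨0, by omega⟩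
      rw [Matrix.smul_apply, Matrix.smul_apply, Matrix.one_apply_eq, smul_eq_mul, smul_eq_mul, mul_one, mul_one] at this
      rw [pow_two, this])
    obtain ⟨x0, hx0⟩ : ∃ x0 : Matrix.SpecialLinearGroup (Fin (2 * m)) F, (x0 : Matrix (Fin (2 * m)) (Fin (2 * m)) F) = X :=
      ⟨⟨X, hdet⟩, rfl⟩
    obtain ⟨P, hP⟩ := hall x0 ⟨c, by rw [Matrix.SpecialLinearGroup.coe_pow, pow_two, hx0]; exact hXX⟩ (hx0.symm ▸ hns)
    obtain ⟨A, lam, hlam, hA⟩ := hdesc _ hP
    set G := P⁻¹ * x0 * P with hG
    have hGG : ((G * G : Matrix.SpecialLinearGroup (Fin (2 * m)) F) : Matrix (Fin (2 * m)) (Fin (2 * m)) F) = c • 1 := by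
      rw [show G * G = P⁻¹ * (x0 * x0) * P by rw [hG]; group,
        Matrix.SpecialLinearGroup.coe_mul, Matrix.SpecialLinearGroup.coe_mul, Matrix.SpecialLinearGroup.coe_mul, hx0, hXX,
        Matrix.mul_smul, Matrix.mul_one, Matrix.smul_mul, ← Matrix.SpecialLinearGroup.coe_mul, inv_mul_cancel,
        Matrix.SpecialLinearGroup.coe_one]
    have hGv : (G : Matrix (Fin (2 * m)) (Fin (2 * m)) F) = lam • (A : Matrix (Fin (2 * m)) (Fin (2 * m)) F₀).map F₀.subtype := hA
    rw [Matrix.SpecialLinearGroup.coe_mul, hGv, smul_mul_smul_comm] at hGG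
    let i0 : Fin (2 * m) := ⟨0, by omega⟩
    set w : F₀ := ((A : Matrix (Fin (2 * m)) (Fin (2 * m)) F₀) * (A : Matrix (Fin (2 * m)) (Fin (2 * m)) F₀)) i0 i0
    have hw : lam * lam * (w : F) = c := by
      have h3 := congrFun (congrFun hGG i0) i0
      rw [← Matrix.map_mul, Matrix.smul_apply, Matrix.smul_apply, Matrix.one_apply_eq, smul_eq_mul, smul_eq_mul,
        mul_one] at h3
      exact h3
    have hw0 : (w : F) ≠ 0 := fun e => hc 0 (by rw [← hw, e]; ring)
    have hwsq : IsSquare (w : F) := by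
      have hc2 : ringChar F ≠ 2 := fun e => h2 (by
        have : ((ringChar F : ℕ) : F) = 0 := ringChar.Nat.cast_ringChar
        rwa [e, Nat.cast_two] at this)
      refine (FiniteField.isSquare_iff hc2 hw0).2 ?_
      have h4 : w ^ (q₀ - 1) = 1 := hcard0 ▸ FiniteField.pow_card_sub_one_eq_one w (fun e => hw0 (by rw [e]; rfl))
      obtain ⟨t, rfl⟩ : Odd q₀ := by rw [hqk, Nat.odd_pow_iff (by norm_num)] at hodd; exact hodd
      rw [hqk, show (2 * t + 1) ^ 2 = 1 + 2 * ((2 * t + 1 - 1) * (t + 1)) by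
        rw [Nat.add_sub_cancel]; ring, Nat.add_mul_div_left _ _ two_pos, Nat.div_eq_of_lt one_lt_two, Nat.zero_add,
        pow_mul, ← SubmonoidClass.coe_pow w, h4]
      simp
    obtain ⟨r, hr⟩ := hwsq
    exact hc (lam * r) (by rw [← hw, hr]; ring)
  · intro hrhs x ⟨z, hxz⟩ hns
    rw [Matrix.SpecialLinearGroup.coe_pow, pow_two] at hxz
    obtain ⟨y, rfl⟩ : ∃ y, y * y = z := by
      by_contra hno
      push Not at hno
      have h2 : (2 : F) ≠ 0 := fun e => by
        have : CharP F 2 := CharTwo.of_one_ne_zero_of_two_eq_zero one_ne_zero e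
        obtain ⟨d, hd⟩ := CfsgLib.Elusive.exists_pth_root (p := 2) z
        exact hno d (by rw [← pow_two, hd])
      have hodd : Odd (Fintype.card F) := Nat.odd_iff.2 (FiniteField.odd_card_of_char_ne_two fun e => h2 (by
        have : ((ringChar F : ℕ) : F) = 0 := ringChar.Nat.cast_ringChar
        rwa [e, Nat.cast_two] at this))
      obtain ⟨rfl, hv⟩ := hrhs hodd
      have hz0 : z ≠ 0 := fun e => hno 0 (by rw [e, mul_zero])
      rcases Nat.even_or_odd n with hev | hnodd
      · obtain ⟨m, rfl⟩ := hev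
        have hX : Matrix.toLin' (x : Matrix (Fin (m + m)) (Fin (m + m)) F) * Matrix.toLin' (x : Matrix _ _ F) =
            z • 1 := by
          show Matrix.toLinAlgEquiv' (x : Matrix (Fin (m + m)) (Fin (m + m)) F) * Matrix.toLinAlgEquiv' _ = z • 1
          rw [← map_mul, hxz, map_smul, map_one]
        obtain ⟨b, hb⟩ := CfsgLib.Elusive.exists_kummer_basis (m := m) hX (fun y hy => hno y (by rw [← pow_two, hy]))
          (by rw [Module.finrank_fin_fun]; ring)
        have hdet : LinearMap.det (Matrix.toLin b b (Matrix.blockDiagonal fun _ : Fin m => !![0, z; 1, 0])) = 1 := by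
          rw [show Matrix.toLin b b (Matrix.blockDiagonal fun _ : Fin m => !![0, z; 1, 0]) =
            Matrix.toLin' (x : Matrix (Fin (m + m)) (Fin (m + m)) F) from b.ext fun ⟨a, i⟩ => by
              rw [CfsgLib.Elusive.blocks_apply, Fin.sum_univ_two]
              fin_cases a
              · simpa using (hb i).1.symm
              · simpa using (hb i).2.symm, LinearMap.det_toLin', x.2]
        rw [LinearMap.det_toLin, Matrix.det_blockDiagonal] at hdet
        simp [Matrix.det_fin_two] at hdet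
        have hq4 : Fintype.card F % 4 = 1 := by
          have : Odd q₀ := by rw [hqk, Nat.odd_pow_iff (by norm_num)] at hodd; exact hodd
          obtain ⟨t, rfl⟩ := this
          rw [hqk, show (2 * t + 1) ^ 2 = 4 * (t * t + t) + 1 by ring, Nat.mul_add_mod]
        refine (CfsgLib.Elusive.exists_nonpow_iff (F := F) (r := 2) (n := m + m) (by omega) ⟨m, by ring⟩ (by omega)).1
          ⟨z, fun y hy => hno y (by rw [← pow_two, hy]), ?_⟩ ⟨hv, fun _ _ => hq4⟩
        rw [show (m + m) / 2 = m by omega, show (-1 : F) ^ (2 + 1) = -1 by ring]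
        simpa using hdet
      · have hzn : z ^ n = 1 := by
          have h1 := congrArg Matrix.det hxz
          rw [Matrix.det_mul, x.2, one_mul, Matrix.det_smul, Matrix.det_one, mul_one, Fintype.card_fin] at h1
          exact h1.symm
        obtain ⟨t, rfl⟩ := hnodd
        refine hno (z ^ (t + 1)) ?_
        rw [← pow_add, show t + 1 + (t + 1) = 2 * t + 1 + 1 by ring, pow_succ, hzn, one_mul]
    have hy : y ≠ 0 := fun e => by
      have h1 := congrArg Matrix.det hxz
      rw [Matrix.det_mul, x.2, one_mul, e, mul_zero, zero_smul, Matrix.det_zero] at h1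
      exact one_ne_zero h1
    set g := y⁻¹ • Matrix.toLin' (x : Matrix (Fin n) (Fin n) F) with hg
    have hgg : g * g = 1 := by
      have h1 : Matrix.toLin' (x : Matrix (Fin n) (Fin n) F) * Matrix.toLin' (x : Matrix (Fin n) (Fin n) F) =
          (y * y) • 1 := by
        show Matrix.toLinAlgEquiv' (x : Matrix (Fin n) (Fin n) F) * Matrix.toLinAlgEquiv' _ = (y * y) • 1
        rw [← map_mul, hxz, map_smul, map_one]
      rw [hg, smul_mul_smul_comm, h1, smul_smul, show y⁻¹ * y⁻¹ * (y * y) = 1 by field_simp, one_smul]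
    have hgx : ∀ v, (x : Matrix (Fin n) (Fin n) F) *ᵥ v = y • g v := fun v => by
      rw [hg, LinearMap.smul_apply, smul_smul, mul_inv_cancel₀ hy, one_smul, Matrix.toLin'_apply]
    have hfin : Module.finrank F (Fin n → F) = n := Module.finrank_fin_fun F
    by_cases h2 : (2 : F) = 0
    · have : CharP F 2 := CharTwo.of_one_ne_zero_of_two_eq_zero one_ne_zero h2
      obtain ⟨b, X, hX, h01, hD⟩ := CfsgLib.Elusive.exists_unipotent_matrix (g := g) hfin (by
        have h1 := CfsgLib.Elusive.sub_one_pow_eq_zero (p := 2) (g := g) (by rw [pow_two, hgg])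
        rwa [pow_two] at h1) (fun e => hns y (Matrix.toLin'.injective (LinearMap.ext fun v => by
          rw [Matrix.toLin'_apply, hgx, e, map_smul, Matrix.toLin'_one]; rfl)))
      obtain ⟨P, hP⟩ := CfsgLib.Elusive.exists_sl_conj_matrix x b (y • X) (fun j => by
        rw [hgx, hX, Finset.smul_sum]
        exact Finset.sum_congr rfl fun i _ => by rw [Matrix.smul_apply, smul_eq_mul, smul_smul]) (fun d _ => by
        obtain ⟨s, hs⟩ := CfsgLib.Elusive.exists_pth_root (p := 2) d
        obtain ⟨D, hD1, hD2⟩ := hD s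
        exact ⟨D, by rw [hD1, ← hs, pow_two], by rw [Matrix.mul_smul, hD2, Matrix.smul_mul]⟩)
      exact ⟨P, hmk _ X y (fun i j => (h01 i j).elim (fun e => e ▸ F₀.zero_mem) fun e => e ▸ F₀.one_mem) hP⟩
    · obtain ⟨b, s, hb⟩ := CfsgLib.Elusive.exists_sign_basis (g := g) hfin hgg h2
      obtain ⟨P, hP⟩ := CfsgLib.Elusive.exists_sl_conj_matrix x b (y • Matrix.diagonal s) (fun j => by
        rw [hgx, (hb j).2, Finset.sum_eq_single j]
        · rw [Matrix.smul_apply, Matrix.diagonal_apply_eq, smul_eq_mul, smul_smul]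
        · intro i _ hij; rw [Matrix.smul_apply, Matrix.diagonal_apply_ne _ hij, smul_zero, zero_smul]
        · intro h; exact absurd (Finset.mem_univ _) h) (fun d _ => by
        refine ⟨Matrix.diagonal (Function.update (fun _ => 1) (⟨0, by omega⟩ : Fin n) d), ?_, ?_⟩
        · rw [Matrix.det_diagonal, Finset.prod_update_of_mem (Finset.mem_univ _), Finset.prod_const_one, mul_one]
        · rw [← Matrix.diagonal_smul, Matrix.diagonal_mul_diagonal, Matrix.diagonal_mul_diagonal]
          congr 1; funext i; ring)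
      refine ⟨P, hmk _ (Matrix.diagonal s) y (fun i j => ?_) hP⟩
      rw [Matrix.diagonal_apply]
      split
      · rcases mul_self_eq_one_iff.1 (hb i).1 with e | e
        · rw [e]; exact F₀.one_mem
        · rw [e]; exact F₀.neg_mem F₀.one_mem
      · exact F₀.zero_mem

end Cfsg.Agent.S5964
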