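import Cfsg.Statements.S5965
import Cfsg.Agent.Elusive.SubfieldCharpoly
import Cfsg.Agent.Elusive.AffineMultiset
import Cfsg.Agent.Elusive.Construct
import Cfsg.Agent.Classical.LinearOrder

set_option autoImplicit false
open scoped MatrixGroups
open Cfsg

namespace Cfsg.Agent.S5965

open Polynomial CfsgLib.Elusive

/-- The order of the two-dimensional special linear group. -/
theorem card_SL_two {L : Type*} [Field L] [Fintype L] :
    Nat.card (Matrix.SpecialLinearGroup (Fin 2) L) = Fintype.card L * (Fintype.card L ^ 2 - 1) := by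
  have h := CfsgLib.Linear.card_SL_mul (F := L) (rfl : Fintype.card L = Fintype.card L) 2 (by norm_num)
  have h1 : 1 < Fintype.card L := Fintype.one_lt_card
  simp only [Fin.prod_univ_two, Fin.val_zero, Fin.val_one, pow_zero, pow_one] at h
  refine Nat.eq_of_mul_eq_mul_left (by omega : 0 < Fintype.card L - 1) ?_
  rw [h, show Fintype.card L ^ 2 - Fintype.card L = Fintype.card L * (Fintype.card L - 1) by
    rw [Nat.mul_sub_one, pow_two]]
  ring

theorem prod_X_sub_C_map {R S : Type*} [CommRing R] [CommRing S] (f : R →+* S) (L : Multiset R) :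
    (L.map fun l => X - C l).prod.map f = ((L.map f).map fun l => X - C l).prod := by
  rw [Polynomial.map_multiset_prod, Multiset.map_map, Multiset.map_map]
  exact congrArg _ (Multiset.map_congr rfl fun l _ => by simp)


/-- Elements of odd prime order r ≠ p of PSL_n(q) and subfield subgroups. Here `T = PSL_n(F)` for a field `F` with `q = p^f` elements (`n ≥ 2`, `(n, q) ≠ (2, 2), (2, 3)`), `F₀` is the subfield with `q₀` elements where `q = q₀^k` for a prime `k`, and `H` is the subgroup of matrices of determinant 1 lying in the subfield group of `F₀` (invertible matrices over `F₀` times scalars) — a maximal subgroup of type GL_n(q₀) (the case `n = 2`, `q₀ = 2` is excluded); Ω is the set of `T`-conjugates of `H` (cosets of `H`), so an element of `T` of prime order `r` (a matrix `x` of determinant 1 with `x^r` scalar, `x` not scalar) fixes a point of Ω when some conjugate of `x` by a matrix of determinant 1 lies in `H`. Let `r ≠ p` be an odd prime dividing the index of `H`, with `(n, r) ≠ (6, 3)` and, when `r =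 k` divides `q₀ − 1`, with `(n)_r ≤ (q − 1)_r`. Then every element of `T` of order `r` is conjugate in `T` into `H` if and only if `r = k`, or `k = 2`, `r = n ∈ {3, 5}` and `(q₀ + 1)_r = r`. The two excluded cases, `(n, r) = (6, 3)` and `r = k ∣ q₀ − 1` with `(n)_r > (q − 1)_r`, are ones where this criterion can fail, so they are left out. -/
theorem result {F : Type*} [Field F] [Fintype F] {p : ℕ} [Fact p.Prime] [CharP F p] {q : ℕ} (hq : Fintype.card F = q)
    (n : ℕ) (hn : 2 ≤ n) (hT : (n, q) ≠ (2, 2) ∧ (n, q) ≠ (2, 3))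
    (F₀ : Subfield F) (k q₀ : ℕ) (hk : k.Prime) (hF₀ : Nat.card ↥F₀ = q₀) (hqk : q = q₀ ^ k) (hC5 : ¬ (n = 2 ∧ q₀ = 2)) (r : ℕ) [Fact r.Prime] (hr2 : r ≠ 2) (hrp : r ≠ p) (hgap : ¬ (n = 6 ∧ r = 3)) (hgapk : r = k → r ∣ q₀ - 1 → padicValNat r n ≤ padicValNat r (q - 1)) (hΩ : r ∣ ((Cfsg.Geo.subfieldSubgroup F₀ 1).comap (Matrix.SpecialLinearGroup.toGL : Matrix.SpecialLinearGroup (Fin n) F →* GL (Fin n) F)).index) :
    (∀ x : Matrix.SpecialLinearGroup (Fin n) F,
      (∃ z : F, ((x ^ r : Matrix.SpecialLinearGroup (Fin n) F) : Matrix (Fin n) (Fin n) F) = z • (1 : Matrix (Fin n) (Fin n) F)) →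
      (∀ z : F, (x : Matrix (Fin n) (Fin n) F) ≠ z • (1 : Matrix (Fin n) (Fin n) F)) →
      ∃ P : Matrix.SpecialLinearGroup (Fin n) F, P⁻¹ * x * P ∈ ((Cfsg.Geo.subfieldSubgroup F₀ 1).comap (Matrix.SpecialLinearGroup.toGL : Matrix.SpecialLinearGroup (Fin n) F →* GL (Fin n) F))) ↔
    (r = k ∨ (k = 2 ∧ r = n ∧ (n = 3 ∨ n = 5) ∧ padicValNat r (q₀ + 1) = 1)) := by
  classical
  subst hq
  have hr := (Fact.out : r.Prime)
  have hp := (Fact.out : p.Prime)
  haveI : Nonempty (Fin n) := ⟨⟨0, by omega⟩⟩
  haveI : NeZero r := ⟨hr.ne_zero⟩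
  have hrF : (r : F) ≠ 0 := cast_ne_zero_of_ne hrp
  have hqr := card_ne_zero_mod (F := F) hrp
  have hcard0 : Fintype.card F₀ = q₀ := by rw [← Nat.card_eq_fintype_card, hF₀]
  have hq₀ : 1 < q₀ := hcard0 ▸ Fintype.one_lt_card
  haveI : CharP F₀ p := (RingHom.charP_iff F₀.subtype F₀.subtype.injective p).2 inferInstance
  obtain ⟨e₀, he₀⟩ : ∃ e₀, q₀ = p ^ e₀ := by
    obtain ⟨e, -, he⟩ := FiniteField.card F₀ p
    exact ⟨e, hcard0 ▸ he⟩
  haveI : ExpChar F p := ExpChar.prime hp
  let K := AlgebraicClosure F
  haveI : CharP K p := charP_of_injective_algebraMap (algebraMap F K).injective p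
  haveI : ExpChar K p := ExpChar.prime hp
  let alg : F →+* K := algebraMap F K
  let σ : F →+* F := iterateFrobenius F p e₀
  let φ : K →+* K := iterateFrobenius K p e₀
  have hσ : ∀ a : F, σ a = a ^ q₀ := fun a => by rw [he₀]; exact iterateFrobenius_def p e₀ a
  have hφ : ∀ a : K, φ a = a ^ q₀ := fun a => by rw [he₀]; exact iterateFrobenius_def p e₀ a
  have hσ0 : ∀ a : F₀, σ (a : F) = a := fun a => by
    rw [hσ, ← hF₀]; exact (SubField.mem_iff_pow_eq F₀).1 a.2
  have hcoef : ∀ f : F[X], (f.map alg).map φ = f.map alg → ∀ i, f.coeff i ∈ F₀ := by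
    intro f hf i
    have h1 := congrArg (fun g : K[X] => g.coeff i) hf
    simp only [Polynomial.coeff_map, hφ, ← map_pow] at h1
    rw [SubField.mem_iff_pow_eq, hF₀]
    exact alg.injective h1
  set Q : ZMod r := (q₀ : ZMod r) with hQ
  have hQq : ((Fintype.card F : ℕ) : ZMod r) = Q ^ k := by rw [hqk, Nat.cast_pow]
  have hQ0 : Q ≠ 0 := fun e => hqr (by rw [hQq, e, zero_pow hk.ne_zero])
  have hq0r : r ∣ q₀ - 1 ↔ Q = 1 := by
    rw [← ZMod.natCast_eq_zero_iff, Nat.cast_sub hq₀.le, Nat.cast_one, sub_eq_zero]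
  have hqsq : k = 2 → Fintype.card F - 1 = (q₀ - 1) * (q₀ + 1) := fun e => by
    rw [hqk, e, Nat.mul_comm, ← Nat.sq_sub_sq, one_pow]
  constructor
  · intro hall
    by_contra hnot
    rw [not_or] at hnot
    obtain ⟨hrk, hexc⟩ := hnot
    set H := (Cfsg.Geo.subfieldSubgroup F₀ 1).comap
        (Matrix.SpecialLinearGroup.toGL : Matrix.SpecialLinearGroup (Fin n) F →* GL (Fin n) F) with hH
    let ψ : Matrix.SpecialLinearGroup (Fin n) F₀ →* Matrix.SpecialLinearGroup (Fin n) F :=
      Matrix.SpecialLinearGroup.map F₀.subtype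
    have hψ : Function.Injective ψ := fun a b e => Subtype.ext (Matrix.ext fun i j => Subtype.ext (by
      exact congrFun (congrFun (congrArg Subtype.val e) i) j))
    have hle : ψ.range ≤ H := by
      rintro _ ⟨a, rfl⟩
      exact SubField.mem_of_eq F₀ _ (Matrix.SpecialLinearGroup.toGL a) one_ne_zero (one_smul _ _).symm
    have hdvd : r ∣ ψ.range.index := hΩ.trans (Subgroup.index_dvd_of_le hle)
    have hmul : ψ.range.index * Nat.card (Matrix.SpecialLinearGroup (Fin n) F₀) =
        Nat.card (Matrix.SpecialLinearGroup (Fin n) F) := by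
      rw [← ψ.range.index_mul_card, Nat.card_congr (MonoidHom.ofInjective hψ).toEquiv]
    have h1q := CfsgLib.Linear.card_SL_mul (F := F) (rfl : Fintype.card F = Fintype.card F) n (by omega)
    -- the index is prime to r when the two fields see r alike
    have hord : ¬ orderOf Q ∣ orderOf (Q ^ k) := by
      intro hdd
      have hgs : ∀ m : ℕ, ∃ G : ℕ, ¬ r ∣ G ∧ (q₀ ^ k) ^ m - 1 = (q₀ ^ m - 1) * G := fun m => by
        refine ⟨∑ i ∈ Finset.range k, (q₀ ^ m) ^ i, ?_, ?_⟩
        · rw [← ZMod.natCast_eq_zero_iff, Nat.cast_sum]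
          simp only [Nat.cast_pow, ← hQ]
          intro hG
          by_cases hm : Q ^ m = 1
          · simp only [hm, one_pow, Finset.sum_const, Finset.card_range, nsmul_eq_mul, mul_one] at hG
            rw [ZMod.natCast_eq_zero_iff] at hG
            exact hrk ((Nat.prime_dvd_prime_iff_eq hr hk).1 hG)
          · have h2 := geom_sum_mul (Q ^ m) k
            rw [hG, zero_mul, eq_comm, sub_eq_zero, ← pow_mul, Nat.mul_comm, pow_mul] at h2
            exact hm (orderOf_dvd_iff_pow_eq_one.1 (hdd.trans (orderOf_dvd_of_pow_eq_one h2)))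
        · rw [← pow_mul, Nat.mul_comm k m, pow_mul]
          have hg := geom_sum_mul_of_one_le (Nat.one_le_pow m q₀ (by omega)) k
          rw [← hg, Nat.mul_comm]
      have hq0nd : ¬ r ∣ q₀ := fun h => hQ0 ((ZMod.natCast_eq_zero_iff q₀ r).2 h)
      have hcol : ∀ i : Fin n, ∃ G : ℕ, ¬ r ∣ G ∧
          Fintype.card F ^ n - Fintype.card F ^ (i : ℕ) = (q₀ ^ n - q₀ ^ (i : ℕ)) * G := fun i => by
        obtain ⟨G, hG, he⟩ := hgs (n - (i : ℕ))
        obtain ⟨c, hc⟩ : q₀ ^ (i : ℕ) ∣ (q₀ ^ k) ^ (i : ℕ) := pow_dvd_pow_of_dvd (dvd_pow_self q₀ hk.ne_zero) _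
        refine ⟨G * c, fun h => ?_, ?_⟩
        · rcases hr.dvd_mul.1 h with h | h
          · exact hG h
          · exact hq0nd (hr.dvd_of_dvd_pow (hr.dvd_of_dvd_pow (hc ▸ h.mul_left (q₀ ^ (i : ℕ)))))
        have hi : (i : ℕ) + (n - (i : ℕ)) = n := by omega
        rw [hqk]
        rw [show (q₀ ^ k) ^ n = (q₀ ^ k) ^ (i : ℕ) * (q₀ ^ k) ^ (n - (i : ℕ)) by rw [← pow_add, hi],
          show q₀ ^ n = q₀ ^ (i : ℕ) * q₀ ^ (n - (i : ℕ)) by rw [← pow_add, hi], ← Nat.mul_sub_one, ← Nat.mul_sub_one,
          he, hc]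
        ring
      choose G hG hGe using hcol
      have h0 := CfsgLib.Linear.card_SL_mul hcard0 n (by omega)
      rw [Finset.prod_congr rfl (fun i _ => hGe i), Finset.prod_mul_distrib, ← h0] at h1q
      obtain ⟨G1, -, he1⟩ := hgs 1
      rw [pow_one, pow_one, ← hqk] at he1
      rw [← hmul, he1] at h1q
      have h3 : G1 * ψ.range.index = ∏ i, G i := by
        refine Nat.eq_of_mul_eq_mul_left (Nat.mul_pos (by omega : 0 < q₀ - 1)
          (Nat.card_pos (α := Matrix.SpecialLinearGroup (Fin n) F₀))) ?_
        rw [← h1q]; ring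
      obtain ⟨i, -, hi⟩ := (Nat.prime_iff.1 hr).exists_mem_finset_dvd (h3 ▸ hdvd.mul_left G1)
      exact hG i hi
    by_cases hd : Q ^ k = 1
    · -- diagonal elements
      have hQ1 : Q ≠ 1 := fun e => hord (by rw [e, one_pow])
      have hrq : r ∣ Fintype.card F - 1 := dvd_card_sub_one_iff.2 (hQq.trans hd)
      obtain ⟨u, hu⟩ := exists_prime_orderOf_dvd_card' (G := Fˣ) r
        (by rw [Nat.card_eq_fintype_card, Fintype.card_units]; exact hrq)
      have hζ : IsPrimitiveRoot (u : F) r := IsPrimitiveRoot.coe_units_iff.2 (hu ▸ IsPrimitiveRoot.orderOf u)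
      let χ : AddChar (ZMod r) F := AddChar.zmodChar r hζ.pow_eq_one
      have hχinj : ∀ a b, χ a = χ b → a = b := fun a b e =>
        ZMod.val_injective r (hζ.pow_inj (ZMod.val_lt a) (ZMod.val_lt b) e)
      have hχ0 : ∀ a, χ a ≠ 0 := fun a => pow_ne_zero _ u.ne_zero
      have hσχ : ∀ a, σ (χ a) = χ (Q * a) := fun a => by
        rw [hσ, ← AddChar.map_nsmul_eq_pow, nsmul_eq_mul]
      have hbad : ∀ (μ : F) (E : Multiset (ZMod r)), μ ≠ 0 → Multiset.card E = n → μ ^ n * χ E.sum = 1 →
          (∃ a ∈ E, ∃ a' ∈ E, a ≠ a') → (∀ b, E.map (fun e => Q * e + b) ≠ E) → False := by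
        intro μ E hμ hEn hdet hE2 hsym
        obtain ⟨e, he⟩ : ∃ e : Fin n → ZMod r, Finset.univ.val.map e = E := by
          have hl : E.toList.length = n := by rw [Multiset.length_toList, hEn]
          subst hl
          refine ⟨E.toList.get, ?_⟩
          rw [Fin.univ_val_map, List.ofFn_get, Multiset.coe_toList]
        let dg : Fin n → F := fun i => μ * χ (e i)
        have hsum : ∏ i, dg i = 1 := by
          rw [Finset.prod_mul_distrib, Finset.prod_const, Finset.card_univ, Fintype.card_fin, ← hdet]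
          congr 1
          rw [← he]
          show ∏ i, χ (e i) = χ (∑ i, e i)
          induction (Finset.univ : Finset (Fin n)) using Finset.induction_on with
          | empty => simp [AddChar.map_zero_eq_one]
          | insert a S ha ih => rw [Finset.prod_insert ha, Finset.sum_insert ha, AddChar.map_add_eq_mul, ih]
        let x : Matrix.SpecialLinearGroup (Fin n) F := ⟨Matrix.diagonal dg, by rw [Matrix.det_diagonal, hsum]⟩
        have hxr : ((x ^ r : Matrix.SpecialLinearGroup (Fin n) F) : Matrix (Fin n) (Fin n) F) = μ ^ r • 1 := by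
          rw [Matrix.SpecialLinearGroup.coe_pow]
          show Matrix.diagonal dg ^ r = _
          rw [Matrix.diagonal_pow, Matrix.smul_one_eq_diagonal]
          congr 1
          funext i
          simp only [Pi.pow_apply, dg, mul_pow]
          rw [← AddChar.map_nsmul_eq_pow, nsmul_eq_mul, ZMod.natCast_self, zero_mul, AddChar.map_zero_eq_one, mul_one]
        have hmem : ∀ a ∈ E, ∃ i, e i = a := fun a ha => by
          rw [← he, Multiset.mem_map] at ha
          obtain ⟨i, -, hi⟩ := ha
          exact ⟨i, hi⟩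
        have hns : ∀ z : F, (x : Matrix (Fin n) (Fin n) F) ≠ z • 1 := by
          intro z hz
          have hall' : ∀ i, μ * χ (e i) = z := fun i => by
            have h1 := congrFun (congrFun hz i) i
            rwa [Matrix.smul_apply, Matrix.one_apply_eq, smul_eq_mul, mul_one,
              show (x : Matrix (Fin n) (Fin n) F) = Matrix.diagonal dg from rfl, Matrix.diagonal_apply_eq] at h1
          obtain ⟨a, ha, a', ha', hne⟩ := hE2
          obtain ⟨i, rfl⟩ := hmem a ha
          obtain ⟨j, rfl⟩ := hmem a' ha'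
          exact hne (hχinj _ _ (mul_left_cancel₀ hμ ((hall' i).trans (hall' j).symm)))
        obtain ⟨P, hP⟩ := hall x ⟨_, hxr⟩ hns
        obtain ⟨c, A, hc, hfix, -⟩ := SubField.exists_smul_charpoly_fixed F₀ σ hσ0 x P hP
        rw [show (x : Matrix (Fin n) (Fin n) F) = Matrix.diagonal dg from rfl, ← Matrix.diagonal_smul,
          Matrix.charpoly_diagonal, Finset.prod_eq_multiset_prod,
          show (Finset.univ.val.map fun i => X - C ((c⁻¹ • dg) i)) =
            (E.map fun a => c⁻¹ * μ * χ a).map fun l => X - C l by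
            rw [← he, Multiset.map_map, Multiset.map_map]
            exact Multiset.map_congr rfl fun i _ => by simp [dg, mul_assoc],
          prod_X_sub_C_map] at hfix
        have hroots := congrArg Polynomial.roots hfix
        rw [roots_multiset_prod_X_sub_C, roots_multiset_prod_X_sub_C, Multiset.map_map] at hroots
        set w := c⁻¹ * μ with hw
        have hw0 : w ≠ 0 := mul_ne_zero (inv_ne_zero hc) hμ
        obtain ⟨a, ha⟩ : ∃ a, a ∈ E := ⟨hE2.choose, hE2.choose_spec.1⟩
        have h2 : σ (w * χ a) ∈ E.map fun a => w * χ a := by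
          rw [← hroots]; exact Multiset.mem_map_of_mem (σ ∘ fun a => w * χ a) ha
        obtain ⟨a', -, ha'⟩ := Multiset.mem_map.1 h2
        rw [map_mul, hσχ] at ha'
        have hσw : σ w = w * χ (a' - Q * a) := by
          refine mul_right_cancel₀ (hχ0 (Q * a)) ?_
          rw [mul_assoc, ← AddChar.map_add_eq_mul, sub_add_cancel, ← ha']
        refine hsym (a' - Q * a) (Multiset.map_injective (f := fun a => w * χ a)
          (fun s t h => hχinj _ _ (mul_left_cancel₀ hw0 h)) ?_)
        rw [Multiset.map_map]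
        refine Eq.trans (Multiset.map_congr rfl fun t _ => ?_) hroots
        simp only [Function.comp_apply, map_mul, hσχ, hσw, AddChar.map_add_eq_mul]
        ring
      by_cases hn2 : k = 2 ∧ n = 2
      · obtain ⟨rfl, rfl⟩ := hn2
        rw [card_SL_two, card_SL_two, hcard0, hqk] at hmul
        have h4 : (q₀ ^ 2) ^ 2 - 1 = (q₀ ^ 2 - 1) * (q₀ ^ 2 + 1) := by
          conv_lhs => rw [← one_pow 2, Nat.sq_sub_sq, Nat.mul_comm]
        rw [h4] at hmul
        have hI : ψ.range.index = q₀ * (q₀ ^ 2 + 1) := by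
          refine Nat.eq_of_mul_eq_mul_right (Nat.mul_pos (by omega : 0 < q₀)
            (Nat.sub_pos_of_lt (Nat.one_lt_pow two_ne_zero hq₀))) ?_
          rw [hmul]; ring
        rw [hI, ← ZMod.natCast_eq_zero_iff, Nat.cast_mul, Nat.cast_add, Nat.cast_pow, Nat.cast_one, ← hQ, hd,
          mul_eq_zero] at hdvd
        rcases hdvd with h | h
        · exact hQ0 h
        · rw [show (1 : ZMod r) + 1 = ((2 : ℕ) : ZMod r) by norm_num, ZMod.natCast_eq_zero_iff] at h
          exact hr2 ((Nat.prime_dvd_prime_iff_eq hr Nat.prime_two).1 h)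
      by_cases hpat : k = 2 ∧ r = n ∧ (n = 3 ∨ n = 5)
      · obtain ⟨hk2, hrn, hn35⟩ := hpat
        have hQm : Q = -1 := by
          subst hk2
          exact (sq_eq_one_iff.1 hd).resolve_left hQ1
        have hdvd1 : r ∣ q₀ + 1 := by
          rw [← ZMod.natCast_eq_zero_iff, Nat.cast_add, Nat.cast_one, ← hQ, hQm, neg_add_cancel]
        have hv : padicValNat r (q₀ + 1) ≠ 1 := fun e => hexc ⟨hk2, hrn, hn35, e⟩
        have hr2' : r ^ 2 ∣ Fintype.card F - 1 := by
          rw [hqsq hk2]
          refine Dvd.dvd.mul_left ?_ _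
          rw [padicValNat_dvd_iff_le (by omega)]
          have := one_le_padicValNat_of_dvd (by omega) hdvd1
          omega
        obtain ⟨μ, hμ⟩ : ∃ μ : F, μ ^ r = ((u⁻¹ : Fˣ) : F) := by
          by_contra hne
          push Not at hne
          refine (not_pow_iff hrq u⁻¹).1 hne ?_
          obtain ⟨w, hw⟩ := hr2'
          rw [hw, pow_two, Nat.mul_assoc, Nat.mul_div_cancel_left _ hr.pos, pow_mul, ← hu, inv_pow,
            pow_orderOf_eq_one, inv_one, one_pow]
        refine hbad μ (Multiset.replicate (n - 1) 0 + {1}) (fun e => u⁻¹.ne_zero (by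
          rw [← hμ, e, zero_pow hr.ne_zero])) (by simp; omega) ?_ ⟨0, ?_, 1, by simp, zero_ne_one⟩ ?_
        · rw [← hrn, hμ, Multiset.sum_add, Multiset.sum_replicate, smul_zero, zero_add, Multiset.sum_singleton]
          show ((u⁻¹ : Fˣ) : F) * (u : F) ^ (1 : ZMod r).val = 1
          haveI : Fact (1 < r) := ⟨hr.one_lt⟩
          rw [ZMod.val_one, pow_one, Units.inv_mul]
        · simp only [Multiset.mem_add, Multiset.mem_replicate]; left; exact ⟨by omega, trivial⟩
        · rw [hQm]
          exact AffMS.bad_sum_one hr2 (by omega)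
      · obtain ⟨E, hEn, hEs, hE2, hsym⟩ := AffMS.exists_bad (r := r) hr2 hn hk hd hQ1 hgap (by
          rintro ⟨h2, h | h⟩
          · exact hn2 ⟨h2, h⟩
          · exact hpat ⟨h2, h⟩)
        exact hbad 1 E one_ne_zero hEn (by rw [hEs, one_pow, one_mul, AddChar.map_zero_eq_one]) hE2 hsym
    · -- an element with an irreducible block
      set d := orderOf (Q ^ k) with hdd
      have hd1 : orderOf ((Fintype.card F : ℕ) : ZMod r) ≠ 1 := fun e => hd (by
        rw [← hQq]; exact orderOf_eq_one_iff.1 e)
      have hd0 : 0 < d := by rw [hdd, ← hQq]; exact orderOf_q_pos hqr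
      have hdn : d ≤ n := by
        have h2 : r ∣ ∏ i : Fin n, (Fintype.card F ^ n - Fintype.card F ^ (i : ℕ)) := by
          rw [← h1q]
          exact Dvd.dvd.mul_left (hdvd.trans ⟨_, hmul.symm⟩) _
        obtain ⟨i, -, hi⟩ := (Nat.prime_iff.1 hr).exists_mem_finset_dvd h2
        have hin : (i : ℕ) + (n - (i : ℕ)) = n := by omega
        rw [← ZMod.natCast_eq_zero_iff,
          Nat.cast_sub (Nat.pow_le_pow_right Fintype.card_pos (by omega)), Nat.cast_pow, Nat.cast_pow, hQq,
          sub_eq_zero] at hi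
        nth_rw 1 [← hin] at hi
        rw [pow_add, mul_eq_left₀ (pow_ne_zero _ (pow_ne_zero _ hQ0))] at hi
        exact (Nat.le_of_dvd (by omega) (orderOf_dvd_of_pow_eq_one hi)).trans (Nat.sub_le _ _)
      obtain ⟨g, hg, hgfix⟩ := exists_fpf (F := F) hrF (i := d) (by rw [hQq, hdd]) hd0
      set M := LinearMap.toMatrix' g with hM
      have hMr : M ^ r = 1 := by
        rw [hM]
        show LinearMap.toMatrixAlgEquiv' g ^ r = 1
        rw [← map_pow, hg, map_one]
      have hMfix : ∀ v, M.mulVec v = v → v = 0 := fun v hv => by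
        have : v ∈ fixS g := mem_fixS.2 (by rwa [hM, LinearMap.toMatrix'_mulVec] at hv)
        rwa [hgfix, Submodule.mem_bot] at this
      have hM1 : M.charpoly.eval 1 ≠ 0 := by
        rw [Matrix.eval_charpoly]
        intro h0
        obtain ⟨v, hv, hv'⟩ := Matrix.exists_mulVec_eq_zero_iff.2 h0
        refine hv (hMfix v ?_)
        rw [Matrix.sub_mulVec, map_one, Matrix.one_mulVec, sub_eq_zero] at hv'
        exact hv'.symm
      let e : Fin d ⊕ Fin (n - d) ≃ Fin n := finSumFinEquiv.trans (finCongr (by omega))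
      let X₁ : Matrix (Fin n) (Fin n) F := Matrix.reindexAlgEquiv F F e (Matrix.fromBlocks M 0 0 1)
      have hpowB : ∀ j : ℕ, Matrix.fromBlocks M 0 0 (1 : Matrix (Fin (n - d)) (Fin (n - d)) F) ^ j =
          Matrix.fromBlocks (M ^ j) 0 0 1 := fun j => by
        induction j with
        | zero => rw [pow_zero, pow_zero, Matrix.fromBlocks_one]
        | succ j ih => rw [pow_succ, pow_succ, ih, Matrix.fromBlocks_multiply]; simp
      have hXr : X₁ ^ r = 1 := by
        rw [← map_pow, hpowB, hMr, Matrix.fromBlocks_one, map_one]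
      have hdetX : X₁.det = 1 := by
        rw [Matrix.det_reindexAlgEquiv, Matrix.det_fromBlocks_zero₂₁, Matrix.det_one, mul_one, hM,
          LinearMap.det_toMatrix']
        exact det_eq_one hd1 hg
      let x : Matrix.SpecialLinearGroup (Fin n) F := ⟨X₁, hdetX⟩
      have hns : ∀ z : F, (x : Matrix (Fin n) (Fin n) F) ≠ z • 1 := by
        intro z hz
        have hB : Matrix.fromBlocks M 0 0 (1 : Matrix (Fin (n - d)) (Fin (n - d)) F) = z • 1 :=
          (Matrix.reindexAlgEquiv F F e).injective (by rw [map_smul, map_one]; exact hz)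
        have hMz : M = z • 1 := by
          ext i j
          have h1 := congrFun (congrFun hB (Sum.inl i)) (Sum.inl j)
          rw [Matrix.fromBlocks_apply₁₁, Matrix.smul_apply] at h1
          rw [h1, Matrix.smul_apply]
          simp [Matrix.one_apply]
        have hz1 : z = 1 := by
          have h1 := hMr
          rw [hMz, _root_.smul_pow, one_pow] at h1
          have h2 := congrFun (congrFun h1 ⟨0, hd0⟩) ⟨0, hd0⟩
          rw [Matrix.smul_apply, Matrix.one_apply_eq, smul_eq_mul, mul_one] at h2
          exact eq_one_of_pow_of_order hd1 h2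
        have h3 := hMfix (fun _ => 1) (by rw [hMz, hz1, one_smul, Matrix.one_mulVec])
        exact one_ne_zero (congrFun h3 ⟨0, hd0⟩)
      obtain ⟨P, hP⟩ := hall x ⟨1, by rw [Matrix.SpecialLinearGroup.coe_pow, one_smul]; exact hXr⟩ hns
      obtain ⟨A, c, hc, hA⟩ := SubField.exists_of_mem F₀ hP
      have hA' : ((P⁻¹ * x * P : Matrix.SpecialLinearGroup (Fin n) F) : Matrix (Fin n) (Fin n) F) =
          c • (A : Matrix (Fin n) (Fin n) F₀).map F₀.subtype := hA
      set A' := (A : Matrix (Fin n) (Fin n) F₀).map F₀.subtype with hA'def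
      have hcA : (c • A') ^ r = 1 := by
        rw [← hA', ← Matrix.SpecialLinearGroup.coe_pow, show P⁻¹ * x * P = P⁻¹ * x * (P⁻¹)⁻¹ by rw [inv_inv],
          conj_pow, show x ^ r = 1 from Subtype.ext (by rw [Matrix.SpecialLinearGroup.coe_pow]; exact hXr), mul_one,
          mul_inv_cancel, Matrix.SpecialLinearGroup.coe_one]
      have hcF : c ∈ F₀ := by
        let a : F₀ := ((A : Matrix (Fin n) (Fin n) F₀) ^ r) ⟨0, by omega⟩ ⟨0, by omega⟩
        have h1 : c ^ r * (a : F) = 1 := by
          have h2 := congrFun (congrFun hcA ⟨0, by omega⟩) ⟨0, by omega⟩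
          rwa [_root_.smul_pow, hA'def, show ((A : Matrix (Fin n) (Fin n) F₀).map F₀.subtype) ^ r =
            ((A : Matrix (Fin n) (Fin n) F₀) ^ r).map F₀.subtype from
              (map_pow F₀.subtype.mapMatrix _ r).symm, Matrix.smul_apply, Matrix.map_apply, Matrix.one_apply_eq,
            smul_eq_mul] at h2
        obtain ⟨a₀, ha₀⟩ := exists_root_of_order (F := F₀) (r := r) (by
          rw [hcard0, ← hQ]
          exact fun e => hd (by rw [orderOf_eq_one_iff.1 e, one_pow])) a
        have h3 : c * (a₀ : F) = 1 := eq_one_of_pow_of_order hd1 (by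
          rw [mul_pow, ← h1, ← ha₀, SubmonoidClass.coe_pow])
        rw [eq_inv_of_mul_eq_one_left h3]
        exact F₀.inv_mem a₀.2
      have hchX : X₁.charpoly = (c • A').charpoly := by
        have h2 : (c • A' : Matrix (Fin n) (Fin n) F) =
            ((Matrix.SpecialLinearGroup.toGL P⁻¹ : GL (Fin n) F) : Matrix (Fin n) (Fin n) F) * X₁ *
              ((Matrix.SpecialLinearGroup.toGL P : GL (Fin n) F) : Matrix (Fin n) (Fin n) F) := by
          rw [← hA']; rfl
        rw [h2, map_inv, Matrix.coe_units_inv, Matrix.charpoly_units_conj']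
      have hXσ : X₁.charpoly.map σ = X₁.charpoly := by
        rw [hchX, ← Matrix.charpoly_map]
        congr 1
        ext i j
        simp only [Matrix.map_apply, Matrix.smul_apply, smul_eq_mul, map_mul, hA'def]
        rw [hσ0 ⟨c, hcF⟩]
        exact congrArg (c * ·) (hσ0 _)
      set f := M.charpoly.map alg with hf
      set fX := X₁.charpoly.map alg with hfX
      have hfXφ : fX.map φ = fX := by
        have hcomm : φ.comp alg = alg.comp σ := RingHom.ext fun a => by
          simp only [RingHom.comp_apply, hφ, hσ, map_pow]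
        rw [hfX, Polynomial.map_map, hcomm, ← Polynomial.map_map, hXσ]
      have hfac : fX = f * (X - 1) ^ (n - d) := by
        rw [hfX, hf, show X₁.charpoly = M.charpoly * (X - 1) ^ (n - d) by
          rw [show X₁ = Matrix.reindex e e (Matrix.fromBlocks M 0 0 1) from rfl, Matrix.charpoly_reindex,
            Matrix.charpoly_fromBlocks_zero₁₂, Matrix.charpoly_one, Fintype.card_fin]]
        simp
      have hfd : f.natDegree = d := by
        rw [hf, Polynomial.natDegree_map, Matrix.charpoly_natDegree_eq_dim, Fintype.card_fin]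
      have hf0 : f ≠ 0 := ((Matrix.charpoly_monic M).map alg).ne_zero
      obtain ⟨l, hl⟩ := IsAlgClosed.exists_root f (by
        rw [Polynomial.degree_eq_natDegree hf0, hfd, Ne, ← Nat.cast_zero (R := WithBot ℕ)]
        exact fun h => hd0.ne' (WithBot.coe_injective h))
      have hlr : l ^ r = 1 := SubField.root_pow_eq_one (M.map alg) (by
        rw [show M.map alg = alg.mapMatrix M from rfl, ← map_pow, hMr, map_one]) (by
        rw [Matrix.charpoly_map, Polynomial.mem_roots ((Matrix.charpoly_monic M).map alg).ne_zero]; exact hl)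
      have hl1 : l ≠ 1 := fun e => hM1 (alg.injective (by
        have h1 := hl
        rwa [e, IsRoot.def, hf, ← map_one alg, Polynomial.eval_map_apply, ← map_zero alg] at h1))
      have hlord : orderOf l = r := orderOf_eq_prime hlr hl1
      have hconj : ∀ j : ℕ, fX.IsRoot (l ^ q₀ ^ j) := fun j => by
        induction j with
        | zero =>
          rw [pow_zero, pow_one, hfac, IsRoot.def, eval_mul, IsRoot.def.1 hl, zero_mul]
        | succ j ih =>
          have h1 := ih.map (f := φ)
          rwa [hfXφ, hφ, ← pow_mul, ← pow_succ] at h1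
      have hsub : (Finset.range (orderOf Q)).image (fun j => l ^ q₀ ^ j) ⊆ f.roots.toFinset := by
        intro y hy
        obtain ⟨j, -, rfl⟩ := Finset.mem_image.1 hy
        rw [Multiset.mem_toFinset, Polynomial.mem_roots hf0]
        have h1 := hconj j
        rw [hfac, IsRoot.def, eval_mul, mul_eq_zero] at h1
        refine h1.resolve_right fun h => ?_
        rw [eval_pow, eval_sub, eval_X, eval_one] at h
        have h2 := sub_eq_zero.1 (eq_zero_of_pow_eq_zero h)
        rw [← orderOf_dvd_iff_pow_eq_one, hlord, ← ZMod.natCast_eq_zero_iff, Nat.cast_pow, ← hQ] at h2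
        exact pow_ne_zero _ hQ0 h2
      have hinj : Set.InjOn (fun j => l ^ q₀ ^ j) ↑(Finset.range (orderOf Q)) := by
        intro a ha b hb hab
        have hl0 : l ≠ 0 := fun e => by rw [e, zero_pow hr.ne_zero] at hlr; exact zero_ne_one hlr
        have h1 := pow_eq_pow_iff_modEq.1 (show Units.mk0 l hl0 ^ q₀ ^ a = Units.mk0 l hl0 ^ q₀ ^ b from
          Units.ext (by simpa using hab))
        rw [← orderOf_units, Units.val_mk0, hlord, ← ZMod.natCast_eq_natCast_iff, Nat.cast_pow, Nat.cast_pow, ← hQ] at h1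
        exact pow_injOn_Iio_orderOf (by simpa using ha) (by simpa using hb) h1
      have hle' : orderOf Q ≤ d := by
        have h1 := Finset.card_le_card hsub
        rw [Finset.card_image_of_injOn hinj, Finset.card_range] at h1
        exact h1.trans ((Multiset.toFinset_card_le _).trans ((Polynomial.card_roots' f).trans hfd.le))
      have hdvd' : d ∣ orderOf Q := orderOf_pow_dvd k
      have hQpos : 0 < orderOf Q := orderOf_pos_iff.2 (isOfFinOrder_iff_pow_eq_one.2
        ⟨r - 1, by have := hr.two_le; omega, ZMod.pow_card_sub_one_eq_one hQ0⟩)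
      refine hord ?_
      show orderOf Q ∣ d
      rw [Nat.le_antisymm (Nat.le_of_dvd hQpos hdvd') hle']
  · intro hrhs x ⟨z, hxz⟩ _
    set f := Matrix.toLin' (x : Matrix (Fin n) (Fin n) F) with hfdef
    have hxz' : (x : Matrix (Fin n) (Fin n) F) ^ r = z • 1 := by rw [← Matrix.SpecialLinearGroup.coe_pow]; exact hxz
    have hfz : f ^ r = z • 1 := by
      show Matrix.toLinAlgEquiv' (x : Matrix (Fin n) (Fin n) F) ^ r = z • 1
      rw [← map_pow, hxz', map_smul, map_one]
    have hdetf : LinearMap.det f = 1 := by rw [hfdef, LinearMap.det_toLin', x.2]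
    have hexcFacts : (k = 2 ∧ r = n ∧ (n = 3 ∨ n = 5) ∧ padicValNat r (q₀ + 1) = 1) →
        Q = -1 ∧ r ∣ Fintype.card F - 1 ∧ ¬ r ^ 2 ∣ Fintype.card F - 1 := by
      rintro ⟨hk2, -, -, hv⟩
      have hdvd1 : r ∣ q₀ + 1 := dvd_of_one_le_padicValNat hv.ge
      have hQm : Q = -1 := by
        have h1 := (ZMod.natCast_eq_zero_iff (q₀ + 1) r).2 hdvd1
        rw [Nat.cast_add, Nat.cast_one, ← hQ] at h1
        exact eq_neg_of_add_eq_zero_left h1
      refine ⟨hQm, (hqsq hk2) ▸ hdvd1.mul_left _, fun h => ?_⟩
      rw [hqsq hk2] at h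
      have hnd : ¬ r ∣ q₀ - 1 := fun h' => by
        have h2 : r ∣ 2 := by
          have := Nat.dvd_sub hdvd1 h'
          rwa [show q₀ + 1 - (q₀ - 1) = 2 by omega] at this
        exact hr2 ((Nat.prime_dvd_prime_iff_eq hr Nat.prime_two).1 h2)
      have h3 := ((Nat.Coprime.pow_left 2 ((Nat.Prime.coprime_iff_not_dvd hr).2 hnd))).dvd_of_dvd_mul_left h
      rw [padicValNat_dvd_iff_le (by omega)] at h3
      omega
    obtain ⟨μ, hμ⟩ : ∃ μ : F, μ ^ r = z := by
      by_contra hno
      push Not at hno
      have hdvdn : r ∣ n := by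
        have := kum_dvd hfz hno (Inv.top f)
        rwa [finrank_top, Module.finrank_fin_fun] at this
      have hrq : r ∣ Fintype.card F - 1 := by
        by_contra h
        obtain ⟨y, hy⟩ := exists_root_of_order (F := F) (r := r)
          (fun e => h (dvd_card_sub_one_iff.2 (orderOf_eq_one_iff.1 e))) z
        exact hno y hy
      have hdet1 : ((-1 : F) ^ (r + 1) * z) ^ (n / r) = 1 := by
        rw [← kum_det (n / r) _ f hfz hno (by rw [Module.finrank_fin_fun, Nat.div_mul_cancel hdvdn]), hdetf]
      rcases hrhs with hrk | ⟨hk2, hrn, hn35, hv⟩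
      · have hQk : Q ^ k = 1 := hQq.symm.trans (dvd_card_sub_one_iff.1 hrq)
        rw [← hrk, ZMod.pow_card] at hQk
        exact (exists_nonpow_iff hrq hdvdn (by omega)).1 ⟨z, hno, hdet1⟩
          ⟨hgapk hrk (hq0r.2 hQk), fun h => absurd h hr2⟩
      · rw [← hrn, Nat.div_self hr.pos, pow_one, ((hr.odd_of_ne_two hr2).add_one).neg_one_pow, one_mul] at hdet1
        exact hno 1 (by rw [one_pow, hdet1])
    have hμ0 : μ ≠ 0 := fun e => by
      have h1 := congrArg Matrix.det hxz
      rw [(x ^ r).2, ← hμ, e, zero_pow hr.ne_zero, zero_smul, Matrix.det_zero] at h1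
      exact one_ne_zero h1
    -- it suffices to find a shift
    obtain ⟨ν, hν0, hνr, hνfix⟩ : ∃ ν : F, ν ≠ 0 ∧ ν ^ r = z ∧
        ((ν⁻¹ • (x : Matrix (Fin n) (Fin n) F)).charpoly.map alg).map φ =
          (ν⁻¹ • (x : Matrix (Fin n) (Fin n) F)).charpoly.map alg := by
      set G := μ⁻¹ • (x : Matrix (Fin n) (Fin n) F) with hG
      set GK := G.map alg with hGK
      have hGr : G ^ r = 1 := by
        rw [hG, _root_.smul_pow, hxz', smul_smul, ← hμ, ← mul_pow, inv_mul_cancel₀ hμ0, one_pow, one_smul]
      have hGKr : GK ^ r = 1 := by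
        rw [hGK, show G.map alg = alg.mapMatrix G from rfl, ← map_pow, hGr, map_one]
      have hsplit : GK.charpoly = (GK.charpoly.roots.map fun l => X - C l).prod :=
        (IsAlgClosed.splits GK.charpoly).eq_prod_roots_of_monic (Matrix.charpoly_monic GK)
      rcases hrhs with hrk | hex
      · refine ⟨μ, hμ0, hμ, ?_⟩
        show (G.charpoly.map alg).map φ = G.charpoly.map alg
        rw [← Matrix.charpoly_map, ← hGK]
        let φq : K →+* K := iterateFrobenius K p (e₀ * k)
        have hφq : ∀ a : K, φq a = a ^ Fintype.card F := fun a => by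
          rw [hqk, he₀, ← pow_mul]; exact iterateFrobenius_def p (e₀ * k) a
        have h1 : GK.charpoly.map φq = GK.charpoly := by
          have hcomm : φq.comp alg = alg := RingHom.ext fun a => by
            simp only [RingHom.comp_apply, hφq, ← map_pow, FiniteField.pow_card]
          rw [hGK, Matrix.charpoly_map, Polynomial.map_map, hcomm]
        conv_rhs => rw [← h1]
        rw [hsplit, prod_X_sub_C_map, prod_X_sub_C_map]
        refine congrArg (fun L : Multiset K => (L.map fun l => X - C l).prod) (Multiset.map_congr rfl fun l hl => ?_)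
        rw [hφ, hφq, pow_eq_pow_mod q₀ (SubField.root_pow_eq_one GK hGKr hl),
          pow_eq_pow_mod (Fintype.card F) (SubField.root_pow_eq_one GK hGKr hl)]
        congr 1
        apply (ZMod.natCast_eq_natCast_iff' _ _ _).1
        rw [hQq, ← hrk, ZMod.pow_card]
      · obtain ⟨hQm, hrq, hnsq⟩ := hexcFacts hex
        obtain ⟨-, hrn, hn35, -⟩ := hex
        obtain ⟨u, hu⟩ := exists_prime_orderOf_dvd_card' (G := Fˣ) r
          (by rw [Nat.card_eq_fintype_card, Fintype.card_units]; exact hrq)
        have hζ : IsPrimitiveRoot (u : F) r := IsPrimitiveRoot.coe_units_iff.2 (hu ▸ IsPrimitiveRoot.orderOf u)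
        let χ : AddChar (ZMod r) F := AddChar.zmodChar r hζ.pow_eq_one
        have hζK : IsPrimitiveRoot (alg (u : F)) r := hζ.map_of_injective alg.injective
        let χK : ZMod r → K := fun a => alg (χ a)
        have hχKadd : ∀ a b, χK (a + b) = χK a * χK b := fun a b => by
          simp only [χK, AddChar.map_add_eq_mul, map_mul]
        have hφχ : ∀ a, φ (χK a) = χK (-a) := fun a => by
          show φ (alg (χ a)) = alg (χ (-a))
          rw [hφ, ← map_pow, ← AddChar.map_nsmul_eq_pow, nsmul_eq_mul, ← hQ, hQm, neg_one_mul]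
        have hlog : ∀ l ∈ GK.charpoly.roots, ∃ a, χK a = l := fun l hl => by
          obtain ⟨i, hi, rfl⟩ := hζK.eq_pow_of_pow_eq_one (SubField.root_pow_eq_one GK hGKr hl)
          refine ⟨(i : ZMod r), ?_⟩
          show alg ((u : F) ^ (i : ZMod r).val) = _
          rw [ZMod.val_natCast, Nat.mod_eq_of_lt hi, map_pow]
        choose! lg hlg using hlog
        set E := GK.charpoly.roots.map lg with hE
        have hR : GK.charpoly.roots = E.map χK := by
          rw [hE, Multiset.map_map]
          conv_lhs => rw [← Multiset.map_id GK.charpoly.roots]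
          exact Multiset.map_congr rfl fun l hl => (hlg l hl).symm
        clear_value E
        have hEcard : Multiset.card E = r := by
          rw [hE, Multiset.card_map, ← Polynomial.Splits.natDegree_eq_card_roots (IsAlgClosed.splits _),
            Matrix.charpoly_natDegree_eq_dim, Fintype.card_fin, hrn]
        have hprod : ∀ S : Multiset (ZMod r), (S.map χK).prod = χK S.sum := fun S => by
          induction S using Multiset.induction_on with
          | empty => simp [χK, AddChar.map_zero_eq_one]
          | cons a S ih => rw [Multiset.map_cons, Multiset.prod_cons, ih, Multiset.sum_cons, hχKadd]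
        have hsum : E.sum = 0 := by
          have h1 : χK E.sum = alg (μ⁻¹ ^ r) := by
            rw [← hprod, ← hR, ← Matrix.det_eq_prod_roots_charpoly]
            show (alg.mapMatrix G).det = _
            rw [← RingHom.map_det, hG, Matrix.det_smul, x.2, mul_one, Fintype.card_fin, hrn]
          have h2 : χ E.sum = μ⁻¹ ^ r := alg.injective h1
          set N := (Fintype.card F - 1) / r with hN
          have h3 : χ (N • E.sum) = 1 := by
            rw [AddChar.map_nsmul_eq_pow, h2, ← pow_mul, hN, Nat.mul_div_cancel' hrq,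
              FiniteField.pow_card_sub_one_eq_one _ (inv_ne_zero hμ0)]
          have h4 : N • E.sum = 0 := by
            refine ZMod.val_injective r (hζ.pow_inj (ZMod.val_lt _) (ZMod.val_lt _) ?_)
            rw [ZMod.val_zero, pow_zero]; exact h3
          rw [nsmul_eq_mul, mul_eq_zero] at h4
          refine h4.resolve_left fun h => hnsq ?_
          rw [ZMod.natCast_eq_zero_iff] at h
          rw [pow_two, ← Nat.mul_div_cancel' hrq]
          exact Nat.mul_dvd_mul_left r h
        obtain ⟨c, hc⟩ := AffMS.exists_centre (by omega) hEcard hsum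
        have hχ0 : χ c ≠ 0 := pow_ne_zero _ u.ne_zero
        refine ⟨μ * χ c, mul_ne_zero hμ0 hχ0, ?_, ?_⟩
        · rw [mul_pow, hμ, ← AddChar.map_nsmul_eq_pow, nsmul_eq_mul, ZMod.natCast_self, zero_mul,
            AddChar.map_zero_eq_one, mul_one]
        · have hinv : alg ((χ c)⁻¹) = χK (-c) := congrArg alg (AddChar.map_neg_eq_inv χ c).symm
          have hsm : ((μ * χ c)⁻¹ • (x : Matrix (Fin n) (Fin n) F)).charpoly.map alg =
              ((E.map fun e => χK (e - c)).map fun l => X - C l).prod := by
            rw [← Matrix.charpoly_map, mul_inv, mul_comm, ← smul_smul, ← hG,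
              show ((χ c)⁻¹ • G).map alg = χK (-c) • GK by
                ext i j; simp [hGK, ← hinv],
              SubField.charpoly_smul_eq GK (a := χK (-c)) ((map_ne_zero alg).2 (pow_ne_zero _ u.ne_zero)), hR, Multiset.map_map,
              Multiset.map_map, Multiset.map_map]
            exact congrArg _ (Multiset.map_congr rfl fun e _ => by
              simp only [Function.comp_apply]; rw [← hχKadd, neg_add_eq_sub])
          rw [hsm, prod_X_sub_C_map]
          have hgen : ∀ S : Multiset (ZMod r), (S.map fun e => χK (e - c)).map φ =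
              (S.map fun e => 2 * c - e).map fun e => χK (e - c) := fun S => by
            rw [Multiset.map_map, Multiset.map_map]
            exact Multiset.map_congr rfl fun e _ => by
              simp only [Function.comp_apply, hφχ]
              exact congrArg χK (by ring)
          rw [hgen E, hc]
    let g : GL (Fin n) F := Matrix.GeneralLinearGroup.mkOfDetNeZero (ν⁻¹ • (x : Matrix (Fin n) (Fin n) F)) (by
      rw [Matrix.det_smul, x.2, mul_one]; exact pow_ne_zero _ (inv_ne_zero hν0))
    have hgr : g ^ r = 1 := Units.ext (by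
      show (ν⁻¹ • (x : Matrix (Fin n) (Fin n) F)) ^ r = 1
      rw [_root_.smul_pow, hxz', smul_smul, ← hνr, ← mul_pow, inv_mul_cancel₀ hν0, one_pow, one_smul])
    exact SubField.exists_conj_mem p F₀ (by omega) x g hν0
      (by show _ = ν • (ν⁻¹ • _); rw [smul_smul, mul_inv_cancel₀ hν0, one_smul])
      (Nat.Coprime.coprime_dvd_left (orderOf_dvd_of_pow_eq_one hgr) ((Nat.coprime_primes hr hp).2 hrp))
      (hcoef _ hνfix)

end Cfsg.Agent.S5965
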