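import Cfsg.Statements.S5966
import Cfsg.Agent.Elusive.NilNormal
import Cfsg.Agent.Elusive.FieldTower
import Cfsg.Agent.Elusive.ConjBasis

set_option autoImplicit false
open scoped MatrixGroups
open Cfsg

namespace Cfsg.Agent.S5966
open scoped Matrix

/-- Elements of order 3 of PSL_n(q) in characteristic 3 and subfield subgroups. Here `T = PSL_n(F)` for a field `F` with `q` elements, `q` a power of 3 (`n ≥ 2`, `(n, q) ≠ (2, 2), (2, 3)`), `F₀` is the subfield with `q₀` elements where `q = q₀^k` for a prime `k`, and `H` is the subgroup of matrices of determinant 1 lying in the subfield group of `F₀` (invertible matrices over `F₀` times scalars) — a maximal subgroup of type GL_n(q₀) (the case `n = 2`, `q₀ = 2` is excluded); Ω is the set of `T`-conjugates of `H` (cosets of `H`), so an element of `T` of prime order `r` (a matrix `x` of determinant 1 with `x^r` scalar, `x` not scalar) fixes a point of Ω when some conjugate of `x` by a matrix of determinant 1 lies in `H`. Suppose 3 divides the index of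 `H`. Then every element of `T` of order 3 is conjugate in `T` into `H` if and only if `n` is odd, or `n` is even and `k > 2`. -/
theorem result {F : Type*} [Field F] [Fintype F] [CharP F 3] {q : ℕ} (hq : Fintype.card F = q)
    (n : ℕ) (hn : 2 ≤ n) (hT : (n, q) ≠ (2, 3))
    (F₀ : Subfield F) (k q₀ : ℕ) (hk : k.Prime) (hF₀ : Nat.card ↥F₀ = q₀) (hqk : q = q₀ ^ k) (hC5 : ¬ (n = 2 ∧ q₀ = 2)) (hΩ : 3 ∣ ((Cfsg.Geo.subfieldSubgroup F₀ 1).comap (Matrix.SpecialLinearGroup.toGL : Matrix.SpecialLinearGroup (Fin n) F →* GL (Fin n) F)).index) :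
    (∀ x : Matrix.SpecialLinearGroup (Fin n) F,
      (∃ z : F, ((x ^ 3 : Matrix.SpecialLinearGroup (Fin n) F) : Matrix (Fin n) (Fin n) F) = z • (1 : Matrix (Fin n) (Fin n) F)) →
      (∀ z : F, (x : Matrix (Fin n) (Fin n) F) ≠ z • (1 : Matrix (Fin n) (Fin n) F)) →
      ∃ P : Matrix.SpecialLinearGroup (Fin n) F, P⁻¹ * x * P ∈ ((Cfsg.Geo.subfieldSubgroup F₀ 1).comap (Matrix.SpecialLinearGroup.toGL : Matrix.SpecialLinearGroup (Fin n) F →* GL (Fin n) F))) ↔
    (Odd n ∨ (Even n ∧ 2 < k)) := by
  classical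
  subst hq
  have : Fact (Nat.Prime 3) := ⟨by norm_num⟩
  have : Nonempty (Fin n) := ⟨⟨0, by omega⟩⟩
  have hcard := Fintype.one_lt_card (α := F)
  have hcard0 : Fintype.card F₀ = q₀ := by rw [← Nat.card_eq_fintype_card, hF₀]
  have hq₀ : 1 < q₀ := hcard0 ▸ Fintype.one_lt_card
  have hodd : Odd (Fintype.card F) := by
    obtain ⟨e, -, he⟩ := FiniteField.card F 3
    rw [he]; exact (by decide : Odd 3).pow
  have hodd0 : Odd q₀ := by rw [hqk, Nat.odd_pow_iff hk.ne_zero] at hodd; exact hodd
  have hchar2 : ringChar F ≠ 2 := by rw [ringChar.eq F 3]; norm_num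
  have hcube : ∀ z : F, ∃ c : F, c ^ 3 = z := fun z =>
    Finite.surjective_of_injective (frobenius_inj F 3) z
  have hdesc : ∀ g : GL (Fin n) F, g ∈ Cfsg.Geo.subfieldSubgroup F₀ 1 → ∃ (A : GL (Fin n) F₀) (c : F),
      c ≠ 0 ∧ (g : Matrix (Fin n) (Fin n) F) = c • (A : Matrix (Fin n) (Fin n) F₀).map F₀.subtype := by
    intro g hg
    simp only [Cfsg.Geo.subfieldSubgroup, map_one, Subgroup.mem_map] at hg
    obtain ⟨g', hg', rfl⟩ := hg
    obtain ⟨a, ⟨A, rfl⟩, s, hs, rfl⟩ := Subgroup.mem_sup_of_normal_right.1 hg'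
    obtain ⟨c, hc⟩ := (Cfsg.Geo.mem_scalars_iff s).1 hs
    refine ⟨A, c, c.ne_zero, ?_⟩
    show ((Matrix.GeneralLinearGroup.map (F₀.subtype : F₀ →+* F) A * s : GL (Fin n) F) : Matrix (Fin n) (Fin n) F) = _
    rw [Units.val_mul, hc, Matrix.mul_smul, Matrix.mul_one]
    rfl
  have hmk : ∀ (g : GL (Fin n) F) (X : Matrix (Fin n) (Fin n) F) (c : F),
      (∀ i j, X i j ∈ F₀) → (g : Matrix (Fin n) (Fin n) F) = c • X →
      g ∈ Cfsg.Geo.subfieldSubgroup F₀ 1 := by
    intro g X c hX hg
    have hgd : (g : Matrix (Fin n) (Fin n) F).det ≠ 0 := ((Matrix.isUnit_iff_isUnit_det _).1 g.isUnit).ne_zero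
    have hc : c ≠ 0 := fun e => hgd (by rw [hg, e, zero_smul, Matrix.det_zero])
    let X₀ : Matrix (Fin n) (Fin n) F₀ := Matrix.of fun i j => ⟨X i j, hX i j⟩
    have hmap : X₀.map F₀.subtype = X := by ext i j; rfl
    have hX₀ : X₀.det ≠ 0 := fun e => hgd (by
      rw [hg, ← hmap, Matrix.det_smul]
      rw [show X₀.map F₀.subtype = (F₀.subtype).mapMatrix X₀ from rfl, ← RingHom.map_det, e, map_zero, mul_zero])
    simp only [Cfsg.Geo.subfieldSubgroup, map_one, Subgroup.mem_map]
    refine ⟨g, ?_, by simp⟩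
    let A : GL (Fin n) F₀ := Matrix.GeneralLinearGroup.mkOfDetNeZero X₀ hX₀
    let s : GL (Fin n) F := Units.map (Matrix.scalar (Fin n) : F →+* Matrix (Fin n) (Fin n) F).toMonoidHom (Units.mk0 c hc)
    have hgs : g = Matrix.GeneralLinearGroup.map (F₀.subtype : F₀ →+* F) A * s := Units.ext (by
      rw [hg, Units.val_mul]
      show c • X = X₀.map F₀.subtype * Matrix.scalar (Fin n) c
      rw [hmap, Matrix.scalar_apply, ← Matrix.smul_one_eq_diagonal, Matrix.mul_smul, Matrix.mul_one])
    rw [hgs]
    exact Subgroup.mul_mem_sup ⟨A, rfl⟩ ⟨Units.mk0 c hc, rfl⟩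
  -- squares and the subfield
  have hsq2 : k = 2 → ∀ w : F₀, w ≠ 0 → IsSquare (w : F) := by
    intro hk2 w hw
    refine (FiniteField.isSquare_iff hchar2 (fun e => hw (Subtype.ext e))).2 ?_
    have h4 : w ^ (q₀ - 1) = 1 := hcard0 ▸ FiniteField.pow_card_sub_one_eq_one w hw
    obtain ⟨t, rfl⟩ := hodd0
    rw [hqk, hk2, show (2 * t + 1) ^ 2 = 1 + 2 * ((2 * t + 1 - 1) * (t + 1)) by
      rw [Nat.add_sub_cancel]; ring, Nat.add_mul_div_left _ _ two_pos, Nat.div_eq_of_lt one_lt_two, Nat.zero_add,
      pow_mul, ← SubmonoidClass.coe_pow w, h4]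
    simp
  constructor
  · intro hall
    by_contra hno
    have hne : Even n := Nat.not_odd_iff_even.1 fun h => hno (Or.inl h)
    have hk2 : k = 2 := by
      have := hk.two_le
      by_contra h
      exact hno (Or.inr ⟨hne, by omega⟩)
    obtain ⟨m, rfl⟩ := hne
    let e : Fin m ⊕ Fin m ≃ Fin (m + m) := finSumFinEquiv
    let N0 : Matrix (Fin (m + m)) (Fin (m + m)) F := (Matrix.fromBlocks 0 0 1 0).submatrix e.symm e.symm
    let Y0 : Matrix (Fin (m + m)) (Fin (m + m)) F := (Matrix.fromBlocks 0 1 0 0).submatrix e.symm e.symm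
    have hNN : N0 * N0 = 0 := by
      rw [Matrix.submatrix_mul_equiv, Matrix.fromBlocks_multiply]; simp
    have hNY : Y0 * N0 + N0 * Y0 = 1 := by
      rw [Matrix.submatrix_mul_equiv, Matrix.submatrix_mul_equiv, Matrix.fromBlocks_multiply, Matrix.fromBlocks_multiply]
      ext i j
      obtain ⟨s, rfl⟩ := e.surjective i
      obtain ⟨t, rfl⟩ := e.surjective j
      rcases s with s | s <;> rcases t with t | t <;> simp [Matrix.one_apply]
    have hcomm : ∀ D : Matrix (Fin (m + m)) (Fin (m + m)) F, D * N0 = N0 * D → IsSquare D.det := by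
      intro D hD
      have h1 : D.submatrix e e * Matrix.fromBlocks 0 0 1 0 = Matrix.fromBlocks 0 0 1 0 * D.submatrix e e := by
        have h := congrArg (fun M : Matrix (Fin (m + m)) (Fin (m + m)) F => M.submatrix e e) hD
        simp only [← Matrix.submatrix_mul_equiv _ _ e e e, N0, Matrix.submatrix_submatrix, Equiv.symm_comp_self,
          Matrix.submatrix_id_id] at h
        exact h
      rw [← Matrix.fromBlocks_toBlocks (D.submatrix e e), Matrix.fromBlocks_multiply, Matrix.fromBlocks_multiply,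
        Matrix.fromBlocks_inj] at h1
      simp at h1
      refine ⟨(D.submatrix e e).toBlocks₁₁.det, ?_⟩
      rw [← Matrix.det_submatrix_equiv_self e D, ← Matrix.fromBlocks_toBlocks (D.submatrix e e), h1.1,
        Matrix.det_fromBlocks_zero₁₂, h1.2.1]
      simp [Matrix.toBlocks_fromBlocks₁₁]
    obtain ⟨ν, hν⟩ := FiniteField.exists_nonsquare hchar2
    have hν0 : ν ≠ 0 := fun h => hν (h ▸ ⟨0, by simp⟩)
    let i0 : Fin (m + m) := ⟨0, by omega⟩
    obtain ⟨E, hE⟩ : ∃ E : GL (Fin (m + m)) F, (E : Matrix (Fin (m + m)) (Fin (m + m)) F).det = ν :=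
      ⟨Matrix.GeneralLinearGroup.mkOfDetNeZero (Matrix.diagonal (Function.update 1 i0 ν))
        (by rw [Matrix.det_diagonal, Finset.prod_update_of_mem (Finset.mem_univ _)]; simp [hν0]),
        by simp [Matrix.GeneralLinearGroup.mkOfDetNeZero, Matrix.det_diagonal, Finset.prod_update_of_mem]⟩
    set N : Matrix (Fin (m + m)) (Fin (m + m)) F := (E : Matrix _ _ F) * N0 * ((E⁻¹ : GL _ F) : Matrix _ _ F) with hNdef
    have hN2 : N * N = 0 := by
      rw [hNdef]
      simp only [Matrix.mul_assoc, Units.inv_mul_cancel_left]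
      rw [← Matrix.mul_assoc N0, hNN, Matrix.zero_mul, Matrix.mul_zero]
    have hx3 : (1 + N) ^ 3 = 1 := by
      rw [add_pow_char_of_commute 3 (Commute.one_left N), one_pow, pow_succ, pow_two, hN2, Matrix.zero_mul, add_zero]
    have hdet : (1 + N).det = 1 := CfsgLib.Elusive.det_one_add (p := 3) hN2
    have hN0 : N ≠ 0 := fun h => by
      have h1 : N0 = 0 := by
        have h' := congrArg (fun M => ((E⁻¹ : GL _ F) : Matrix _ _ F) * M * (E : Matrix _ _ F)) h
        simpa [hNdef, Matrix.mul_assoc] using h'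
      rw [h1, Matrix.mul_zero, Matrix.zero_mul, add_zero] at hNY
      exact zero_ne_one hNY
    let x : Matrix.SpecialLinearGroup (Fin (m + m)) F := ⟨1 + N, hdet⟩
    obtain ⟨P, hP⟩ := hall x ⟨1, by rw [Matrix.SpecialLinearGroup.coe_pow, one_smul]; exact hx3⟩ (fun z hz => hN0 (by
      have hz' : 1 + N = z • 1 := hz
      have h1 := hx3
      rw [hz', smul_pow, one_pow] at h1
      have hz1 : z = 1 := frobenius_inj F 3 (by
        have := congrFun (congrFun h1 i0) i0
        simpa [frobenius_def] using this)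
      rw [hz1, one_smul] at hz'
      exact add_eq_left.1 hz'))
    obtain ⟨A, lam, hlam, hA⟩ := hdesc _ hP
    have hG : ((P⁻¹ * x * P : Matrix.SpecialLinearGroup (Fin (m + m)) F) : Matrix (Fin (m + m)) (Fin (m + m)) F) =
        lam • (A : Matrix (Fin (m + m)) (Fin (m + m)) F₀).map F₀.subtype := hA
    set Pm := (P : Matrix (Fin (m + m)) (Fin (m + m)) F)
    set Pi' := ((P⁻¹ : Matrix.SpecialLinearGroup (Fin (m + m)) F) : Matrix (Fin (m + m)) (Fin (m + m)) F)
    have hPP : Pi' * Pm = 1 := by
      rw [← Matrix.SpecialLinearGroup.coe_mul, inv_mul_cancel, Matrix.SpecialLinearGroup.coe_one]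
    have hPP' : Pm * Pi' = 1 := by
      rw [← Matrix.SpecialLinearGroup.coe_mul, mul_inv_cancel, Matrix.SpecialLinearGroup.coe_one]
    have hG' : Pi' * (1 + N) * Pm = lam • (A : Matrix (Fin (m + m)) (Fin (m + m)) F₀).map F₀.subtype := by
      rw [← hG, Matrix.SpecialLinearGroup.coe_mul, Matrix.SpecialLinearGroup.coe_mul]
    -- the scalar lies in the subfield
    obtain ⟨l0, rfl⟩ : ∃ l0 : F₀, (l0 : F) = lam := by
      have h1 : (P⁻¹ * x * P) ^ 3 = 1 := by
        rw [show (P⁻¹ * x * P) ^ 3 = P⁻¹ * x ^ 3 * P by simp only [pow_succ, pow_zero, one_mul]; group,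
          show x ^ 3 = 1 from Subtype.ext (by rw [Matrix.SpecialLinearGroup.coe_pow]; exact hx3), mul_one, inv_mul_cancel]
      have h2 := congrArg (fun M : Matrix.SpecialLinearGroup (Fin (m + m)) F => (M : Matrix (Fin (m + m)) (Fin (m + m)) F) i0 i0) h1
      simp only [Matrix.SpecialLinearGroup.coe_pow, hG, smul_pow, Matrix.SpecialLinearGroup.coe_one, Matrix.one_apply_eq] at h2
      have h3 : ((A : Matrix (Fin (m + m)) (Fin (m + m)) F₀).map F₀.subtype) ^ 3 =
          ((A : Matrix (Fin (m + m)) (Fin (m + m)) F₀) ^ 3).map F₀.subtype :=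
        (map_pow F₀.subtype.mapMatrix _ 3).symm
      rw [h3, Matrix.smul_apply, Matrix.map_apply, smul_eq_mul] at h2
      obtain ⟨ν0, hν0'⟩ := Finite.surjective_of_injective (frobenius_inj F₀ 3) (((A : Matrix _ _ F₀) ^ 3) i0 i0)
      rw [frobenius_def] at hν0'
      rw [← hν0', map_pow, ← mul_pow] at h2
      have h4 : lam * (ν0 : F) = 1 := frobenius_inj F 3 (by simpa [frobenius_def] using h2)
      exact ⟨ν0⁻¹, by push_cast; exact (eq_inv_of_mul_eq_one_left h4).symm⟩
    set A1 : Matrix (Fin (m + m)) (Fin (m + m)) F₀ := l0 • (A : Matrix (Fin (m + m)) (Fin (m + m)) F₀) - 1 with hA1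
    have hA1m : A1.map F₀.subtype = Pi' * N * Pm := by
      have h1 : Pi' * N * Pm = Pi' * (1 + N) * Pm - 1 := by
        rw [Matrix.mul_add, Matrix.mul_one, Matrix.add_mul, hPP, add_sub_cancel_left]
      rw [h1, hG']
      ext i j
      simp [hA1, Matrix.one_apply]
      split_ifs <;> simp
    have hA12 : A1 * A1 = 0 := by
      apply Matrix.map_injective (f := F₀.subtype) Subtype.val_injective
      show (A1 * A1).map F₀.subtype = (0 : Matrix (Fin (m + m)) (Fin (m + m)) F₀).map F₀.subtype
      rw [Matrix.map_mul, hA1m, Matrix.map_zero _ (map_zero _)]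
      simp only [Matrix.mul_assoc]
      rw [← Matrix.mul_assoc Pm Pi', hPP', Matrix.one_mul, ← Matrix.mul_assoc N N, hN2, Matrix.zero_mul, Matrix.mul_zero]
    obtain ⟨π, hπ⟩ := (Algebra.linearMap F₀ F).exists_leftInverse_of_injective
      (LinearMap.ker_eq_bot.2 (algebraMap F₀ F).injective)
    have hπ1 : π 1 = 1 := by simpa using LinearMap.congr_fun hπ 1
    set Y : Matrix (Fin (m + m)) (Fin (m + m)) F :=
      Pi' * (E : Matrix _ _ F) * Y0 * ((E⁻¹ : GL _ F) : Matrix _ _ F) * Pm with hY
    have hYN : Y * A1.map F₀.subtype + A1.map F₀.subtype * Y = 1 := by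
      rw [hA1m, hY, hNdef]
      simp only [Matrix.mul_assoc]
      rw [← Matrix.mul_assoc Pm Pi', hPP', Matrix.one_mul, ← Matrix.mul_assoc Pm Pi', hPP', Matrix.one_mul,
        Units.inv_mul_cancel_left, Units.inv_mul_cancel_left, ← Matrix.mul_add, ← Matrix.mul_add,
        ← Matrix.mul_assoc Y0, ← Matrix.mul_assoc N0, ← Matrix.add_mul, hNY, Matrix.one_mul,
        ← Matrix.mul_assoc (E : Matrix (Fin (m + m)) (Fin (m + m)) F), Units.mul_inv, Matrix.one_mul, hPP]
    have hexact : ∀ v, A1 *ᵥ v = 0 → ∃ w, A1 *ᵥ w = v := by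
      intro v hv
      refine ⟨Y.map π *ᵥ v, ?_⟩
      have h1 : Y.map π * A1 + A1 * Y.map π = 1 := by
        ext i j
        have h2 := congrArg π (congrFun (congrFun hYN i) j)
        simp only [Matrix.add_apply, Matrix.mul_apply, map_add, map_sum, Matrix.map_apply, Subfield.coe_subtype] at h2 ⊢
        have hl : ∀ (y : F) (a : F₀), π (y * (a : F)) = π y * a := fun y a => by
          rw [show y * (a : F) = a • y from mul_comm _ _, map_smul, smul_eq_mul, mul_comm]
        have hr : ∀ (y : F) (a : F₀), π ((a : F) * y) = a * π y := fun y a => by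
          rw [mul_comm, hl, mul_comm]
        rw [Finset.sum_congr rfl (fun l _ => hl _ _), Finset.sum_congr rfl (fun l _ => hr _ _)] at h2
        rw [h2, Matrix.one_apply, Matrix.one_apply]
        split_ifs <;> simp [hπ1]
      have h2 := congrArg (· *ᵥ v) h1
      simpa [Matrix.add_mulVec, ← Matrix.mulVec_mulVec, hv] using h2
    let g0 := Matrix.toLin' A1
    obtain ⟨U, hU⟩ := exists_isCompl (LinearMap.ker g0)
    have hrk : LinearMap.range g0 = LinearMap.ker g0 := le_antisymm
      (by rintro _ ⟨v, rfl⟩; simp [g0, Matrix.mulVec_mulVec, hA12])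
      (fun v hv => by obtain ⟨w, hw⟩ := hexact v (by simpa [g0] using hv); exact ⟨w, by simpa [g0] using hw⟩)
    have hUd : Module.finrank F₀ U = m := by
      have h1 := g0.finrank_range_add_finrank_ker
      have h2 := Submodule.finrank_add_eq_of_isCompl hU
      rw [hrk] at h1
      rw [Module.finrank_fin_fun] at h1 h2
      omega
    let bU := (Module.finBasis F₀ U).reindex (finCongr hUd)
    let fam : Fin m ⊕ Fin m → (Fin (m + m) → F₀) := Sum.elim (fun i => (bU i : Fin (m + m) → F₀)) (fun i => g0 (bU i))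
    have hli : LinearIndependent F₀ fam := by
      have hkill : ∀ c : Fin m → F₀, g0 (∑ i, c i • (bU i : Fin (m + m) → F₀)) = 0 → c = 0 := fun c hc => by
        have h1 : (∑ i, c i • (bU i : Fin (m + m) → F₀)) ∈ U := U.sum_mem fun i _ => U.smul_mem _ (bU i).2
        have h0 : ∑ i, c i • bU i = 0 := Subtype.ext (by
          rw [Submodule.coe_sum, Submodule.coe_zero]
          exact (Submodule.eq_bot_iff _).1 hU.inf_eq_bot _ ⟨LinearMap.mem_ker.2 hc, h1⟩)
        exact funext (Fintype.linearIndependent_iff.1 bU.linearIndependent c h0)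
      refine Fintype.linearIndependent_iff.2 fun c hc => ?_
      rw [Fintype.sum_sum_type] at hc
      simp only [fam, Sum.elim_inl, Sum.elim_inr] at hc
      have hgg : ∀ v, g0 (g0 v) = 0 := fun v => by simp [g0, Matrix.mulVec_mulVec, hA12]
      have h1 : (fun i => c (Sum.inl i)) = 0 := hkill _ (by
        have := congrArg g0 hc
        simpa [map_add, map_sum, hgg] using this)
      have h2 : (fun i => c (Sum.inr i)) = 0 := hkill _ (by
        simp only [congrFun h1, Pi.zero_apply, zero_smul, Finset.sum_const_zero, zero_add] at hc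
        simpa [map_sum] using hc)
      rintro (i | i)
      · exact congrFun h1 i
      · exact congrFun h2 i
    let B0 : Matrix (Fin (m + m)) (Fin (m + m)) F₀ := Matrix.of fun l j => fam (e.symm j) l
    have hB0 : B0.det ≠ 0 := by
      have h1 : LinearIndependent F₀ B0.col := hli.comp _ e.symm.injective
      rw [Matrix.linearIndependent_cols_iff_isUnit, Matrix.isUnit_iff_isUnit_det] at h1
      exact h1.ne_zero
    have hAB : A1 * B0 = B0 * (Matrix.fromBlocks 0 0 1 0).submatrix e.symm e.symm := by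
      ext l j
      obtain ⟨s, rfl⟩ := e.surjective j
      rw [Matrix.mul_apply, Matrix.mul_apply, ← e.sum_comp (fun t => B0 l t * _)]
      simp only [B0, Matrix.of_apply, Matrix.submatrix_apply, Equiv.symm_apply_apply, Fintype.sum_sum_type]
      rcases s with i | i
      · simp [fam, g0, Matrix.mulVec, dotProduct, Matrix.one_apply]
      · have h0 : g0 (g0 (bU i)) = 0 := by simp [g0, Matrix.mulVec_mulVec, hA12]
        have := congrFun h0 l
        simp [fam, g0, Matrix.mulVec, dotProduct] at this ⊢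
        exact_mod_cast this
    have hAB' : Pi' * N * Pm * B0.map F₀.subtype = B0.map F₀.subtype * N0 := by
      rw [← hA1m, ← Matrix.map_mul, hAB, Matrix.map_mul]
      congr 1
      ext i j
      obtain ⟨s, rfl⟩ := e.surjective i
      obtain ⟨t, rfl⟩ := e.surjective j
      rcases s with s | s <;> rcases t with t | t <;> simp [N0, Matrix.one_apply, apply_ite]
    set D := ((E⁻¹ : GL _ F) : Matrix (Fin (m + m)) (Fin (m + m)) F) * Pm * B0.map F₀.subtype with hD
    have hDN : D * N0 = N0 * D := by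
      rw [hD, Matrix.mul_assoc, ← hAB', hNdef]
      simp only [Matrix.mul_assoc]
      rw [← Matrix.mul_assoc Pm Pi', hPP', Matrix.one_mul, Units.inv_mul_cancel_left]
    obtain ⟨t, ht⟩ := hcomm D hDN
    obtain ⟨u, hu⟩ := hsq2 hk2 B0.det hB0
    have hmapdet : (B0.map F₀.subtype).det = (B0.det : F) := (RingHom.map_det F₀.subtype B0).symm
    have hdetP : Pm.det = 1 := P.2
    have hEi : ((E⁻¹ : GL _ F) : Matrix (Fin (m + m)) (Fin (m + m)) F).det = ν⁻¹ := by
      refine eq_inv_of_mul_eq_one_left ?_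
      rw [← hE, ← Matrix.det_mul, Units.inv_mul, Matrix.det_one]
    rw [hD, Matrix.det_mul, Matrix.det_mul, hEi, hdetP, mul_one, hmapdet, hu] at ht
    have hu0 : u ≠ 0 := fun h => hB0 (Subtype.ext (by rw [hu, h, mul_zero]; rfl))
    have ht0 : t ≠ 0 := fun h => by
      rw [h, mul_zero, mul_eq_zero, inv_eq_zero] at ht
      exact ht.elim hν0 (mul_ne_zero hu0 hu0)
    refine hν ⟨u / t, ?_⟩
    field_simp at ht ⊢
    linear_combination -ht
  · intro hrhs x ⟨z, hxz⟩ hns
    rw [Matrix.SpecialLinearGroup.coe_pow] at hxz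
    obtain ⟨c, rfl⟩ := hcube z
    have hc : c ≠ 0 := fun e => by
      have h := congrArg Matrix.det hxz
      rw [e, zero_pow three_ne_zero, zero_smul, Matrix.det_zero, Matrix.det_pow, x.2, one_pow] at h
      exact one_ne_zero h
    let g : (Fin n → F) →ₗ[F] (Fin n → F) := c⁻¹ • Matrix.toLin' (x : Matrix (Fin n) (Fin n) F)
    have hxg : ∀ v, (x : Matrix (Fin n) (Fin n) F) *ᵥ v = c • g v := fun v => by
      simp [g, smul_smul, mul_inv_cancel₀ hc]
    have hg3 : (g - 1) ^ 3 = 0 := by
      have h1 : g ^ 3 = 1 := LinearMap.ext fun v => by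
        rw [smul_pow, LinearMap.smul_apply, ← Matrix.toLin'_pow, hxz, Matrix.toLin'_apply, Matrix.smul_mulVec,
          Matrix.one_mulVec, smul_smul, inv_pow, inv_mul_cancel₀ (pow_ne_zero 3 hc), one_smul]
        rfl
      haveI : CharP (Module.End F (Fin n → F)) 3 :=
        charP_of_injective_algebraMap (algebraMap F (Module.End F (Fin n → F))).injective 3
      rw [sub_pow_char_of_commute 3 (Commute.one_right g), h1, one_pow, sub_self]
    have hBdet : ∀ (b : Module.Basis (Fin n) F (Fin n → F)) (X : Matrix (Fin n) (Fin n) F),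
        (∀ j, g (b j) = ∑ i, X i j • b i) → (∀ i j, X i j = 0 ∨ X i j = 1) →
        (∃ (E : Fin n → F₀) (D : Matrix (Fin n) (Fin n) F), (∀ i, E i ≠ 0) ∧ D * X = X * D ∧
          (Matrix.of fun l i => b i l).det * D.det * (∏ i, (E i : F)) = 1) →
        ∃ P : Matrix.SpecialLinearGroup (Fin n) F, P⁻¹ * x * P ∈ (Cfsg.Geo.subfieldSubgroup F₀ 1).comap
          (Matrix.SpecialLinearGroup.toGL : Matrix.SpecialLinearGroup (Fin n) F →* GL (Fin n) F) := by
      rintro b X hX h01 ⟨E, D, hE, hDX, hdet⟩
      set B : Matrix (Fin n) (Fin n) F := Matrix.of fun l i => b i l with hB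
      have hxB : (x : Matrix (Fin n) (Fin n) F) * B = B * (c • X) := by
        ext l j
        have h1 : ((x : Matrix (Fin n) (Fin n) F) * B) l j = ((x : Matrix (Fin n) (Fin n) F) *ᵥ b j) l := by
          simp [Matrix.mul_apply, Matrix.mulVec, dotProduct, hB]
        rw [h1, hxg, hX j]
        simp [Matrix.mul_apply, hB, Finset.mul_sum, mul_comm, mul_assoc]
      let Ed : Matrix (Fin n) (Fin n) F := Matrix.diagonal fun i => (E i : F)
      let P : Matrix.SpecialLinearGroup (Fin n) F := ⟨B * D * Ed, by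
        rw [Matrix.det_mul, Matrix.det_mul, Matrix.det_diagonal]; exact hdet⟩
      let X' : Matrix (Fin n) (Fin n) F := Matrix.of fun i j => (E i : F)⁻¹ * X i j * (E j : F)
      refine ⟨P, hmk _ X' c (fun i j => ?_) ?_⟩
      · have hij : X i j ∈ F₀ := by
          rcases h01 i j with e | e <;> rw [e]
          · exact F₀.zero_mem
          · exact F₀.one_mem
        exact F₀.mul_mem (F₀.mul_mem (F₀.inv_mem (E i).2) hij) (E j).2
      · show ((P⁻¹ * x * P : Matrix.SpecialLinearGroup (Fin n) F) : Matrix (Fin n) (Fin n) F) = c • X'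
        have hEX : Ed * X' = X * Ed := by
          ext i j
          have : (E i : F) ≠ 0 := fun e => hE i (Subtype.ext e)
          simp [Ed, X']
          field_simp
        have h1 : ((x * P : Matrix.SpecialLinearGroup (Fin n) F) : Matrix (Fin n) (Fin n) F) =
            (P : Matrix (Fin n) (Fin n) F) * (c • X') := by
          rw [Matrix.SpecialLinearGroup.coe_mul]
          show (x : Matrix (Fin n) (Fin n) F) * (B * D * Ed) = B * D * Ed * (c • X')
          rw [← Matrix.mul_assoc, ← Matrix.mul_assoc, hxB, Matrix.mul_smul, Matrix.mul_smul, Matrix.smul_mul,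
            Matrix.smul_mul, Matrix.mul_assoc B X D, ← hDX, Matrix.mul_assoc (B * D) Ed X', hEX]
          simp only [Matrix.mul_assoc]
        rw [mul_assoc, Matrix.SpecialLinearGroup.coe_mul, h1, ← Matrix.mul_assoc, ← Matrix.SpecialLinearGroup.coe_mul,
          inv_mul_cancel, Matrix.SpecialLinearGroup.coe_one, Matrix.one_mul]
    have hB0 : ∀ b : Module.Basis (Fin n) F (Fin n → F), (Matrix.of fun l i => b i l).det ≠ 0 := fun b e => by
      have h1 : (Matrix.of fun l i => b i l) = (Pi.basisFun F (Fin n)).toMatrix b := by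
        ext l i; simp [Module.Basis.toMatrix_apply]
      have h2 := congrArg Matrix.det ((Pi.basisFun F (Fin n)).toMatrix_mul_toMatrix_flip b)
      rw [← h1, Matrix.det_mul, e, zero_mul, Matrix.det_one] at h2
      exact zero_ne_one h2
    have hall' : (∀ d : F, ∃ D : (Fin n → F) →ₗ[F] (Fin n → F), LinearMap.det D = d ∧ D * (g - 1) = (g - 1) * D) →
        ∃ P : Matrix.SpecialLinearGroup (Fin n) F, P⁻¹ * x * P ∈ (Cfsg.Geo.subfieldSubgroup F₀ 1).comap
          (Matrix.SpecialLinearGroup.toGL : Matrix.SpecialLinearGroup (Fin n) F →* GL (Fin n) F) := by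
      intro hD
      obtain ⟨b, X, hX, h01⟩ := CfsgLib.Elusive.exists_unipotent_normal hg3
      obtain ⟨D, hd, hcm⟩ := hD (Matrix.of fun l i => b i l).det⁻¹
      refine hBdet b X hX h01 ⟨fun _ => 1, LinearMap.toMatrix b b D, fun _ => one_ne_zero, ?_, ?_⟩
      · have hXg : X = LinearMap.toMatrix b b g := by
          ext i j
          rw [LinearMap.toMatrix_apply, hX j]
          simp [Finsupp.single_apply]
        have hcm' : D * g = g * D := by
          rw [mul_sub, sub_mul, mul_one, one_mul] at hcm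
          exact sub_left_inj.1 hcm
        rw [hXg, ← LinearMap.toMatrix_mul, ← LinearMap.toMatrix_mul, hcm']
      · rw [LinearMap.det_toMatrix, hd, mul_inv_cancel₀ (hB0 b)]
        simp
    by_cases h2 : (g - 1) ^ 2 = 0
    · by_cases hrk : LinearMap.range (g - 1) ⊔ LinearMap.ker (g - 1) = LinearMap.range (g - 1)
      · have hne : Even n := by
          have hle : LinearMap.range (g - 1) ≤ LinearMap.ker (g - 1) := by
            rintro _ ⟨v, rfl⟩
            exact LinearMap.congr_fun ((pow_two (g - 1)).symm.trans h2) v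
          have heq : LinearMap.range (g - 1) = LinearMap.ker (g - 1) := le_antisymm hle (sup_eq_left.1 hrk)
          have h := (g - 1).finrank_range_add_finrank_ker
          rw [heq, Module.finrank_fin_fun] at h
          exact ⟨_, h.symm⟩
        have hkodd : Odd k := hk.odd_of_ne_two (by
          rcases hrhs with h | ⟨-, h⟩
          · exact absurd hne (Nat.not_even_iff_odd.2 h)
          · omega)
        have hgne : g ≠ 1 := fun e => hns c (Matrix.toLin'.injective (LinearMap.ext fun v => by
          rw [Matrix.toLin'_apply, hxg, e]; simp))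
        obtain ⟨b, X, hX, h01, hsq⟩ := CfsgLib.Elusive.exists_unipotent_matrix (Module.finrank_fin_fun F)
          (by rw [← pow_two]; exact h2) hgne
        obtain ⟨ν0, hν0⟩ := FiniteField.exists_nonsquare (F := F₀) (by rw [ringChar.eq F₀ 3]; norm_num)
        have hν00 : ν0 ≠ 0 := fun h => hν0 (h ▸ ⟨0, by simp⟩)
        have hνF : ¬ IsSquare (ν0 : F) := by
          have hne' : (ν0 : F) ≠ 0 := fun e => hν00 (Subtype.ext e)
          rw [FiniteField.isSquare_iff hchar2 hne']
          have hm1 : ν0 ^ (q₀ / 2) = -1 := by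
            rcases FiniteField.pow_dichotomy (F := F₀) (by rw [ringChar.eq F₀ 3]; norm_num) hν00 with h | h
            · exact absurd ((FiniteField.isSquare_iff (by rw [ringChar.eq F₀ 3]; norm_num) hν00).2 h) hν0
            · rwa [hcard0] at h
          obtain ⟨S, hS, hdiv⟩ : ∃ S, Odd S ∧ Fintype.card F / 2 = q₀ / 2 * S := by
            refine ⟨∑ i ∈ Finset.range k, q₀ ^ i, ?_, ?_⟩
            · rw [Finset.odd_sum_iff_odd_card_odd, Finset.filter_true_of_mem fun i _ => hodd0.pow, Finset.card_range]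
              exact hkodd
            · have hg := geom_sum_mul_of_one_le (show 1 ≤ q₀ by omega) k
              obtain ⟨t, ht⟩ := hodd0
              rw [show q₀ - 1 = 2 * t by omega] at hg
              rw [hqk, show q₀ / 2 = t by omega]
              have := Nat.one_le_pow k q₀ (by omega)
              rw [show (∑ i ∈ Finset.range k, q₀ ^ i) * (2 * t) = 2 * (t * ∑ i ∈ Finset.range k, q₀ ^ i) by ring] at hg
              omega
          rw [hdiv, pow_mul, ← SubmonoidClass.coe_pow, hm1]
          push_cast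
          rw [hS.neg_one_pow]
          exact fun e => (Ring.neg_one_ne_one_of_char_ne_two hchar2) e
        set β := (Matrix.of fun l i => b i l).det with hβ
        obtain ⟨e0, he0, s, hs⟩ : ∃ e0 : F₀, e0 ≠ 0 ∧ IsSquare (β * (e0 : F)) := by
          by_cases hb : IsSquare β
          · exact ⟨1, one_ne_zero, by simpa using hb⟩
          · refine ⟨ν0, hν00, ?_⟩
            have h1 := FiniteField.pow_dichotomy hchar2 (hB0 b)
            have h3 := FiniteField.pow_dichotomy hchar2 (fun e : (ν0 : F) = 0 => hν00 (Subtype.ext e))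
            have hb1 := h1.resolve_left fun h => hb ((FiniteField.isSquare_iff hchar2 (hB0 b)).2 h)
            have hν1 := h3.resolve_left fun h => hνF ((FiniteField.isSquare_iff hchar2 fun e => hν00 (Subtype.ext e)).2 h)
            refine (FiniteField.isSquare_iff hchar2 (mul_ne_zero (hB0 b) fun e => hν00 (Subtype.ext e))).2 ?_
            rw [mul_pow, hb1, hν1]; ring
        have hs0 : s ≠ 0 := fun e => mul_ne_zero (hB0 b) (fun e => he0 (Subtype.ext e)) (by rw [hs, e, mul_zero])
        obtain ⟨D, hD, hDX⟩ := hsq s⁻¹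
        refine hBdet b X hX h01 ⟨Function.update 1 ⟨0, by omega⟩ e0, D, fun i => ?_, hDX, ?_⟩
        · rcases eq_or_ne i (⟨0, by omega⟩ : Fin n) with h | h
          · subst h; simpa using he0
          · simp [Function.update_of_ne h]
        · rw [← hβ, hD, ← Finset.mul_prod_erase _ _ (Finset.mem_univ (⟨0, by omega⟩ : Fin n)), Function.update_self,
            Finset.prod_eq_one (fun i hi => by simp [Function.update_of_ne (Finset.ne_of_mem_erase hi)]), mul_one]
          rw [mul_comm β, mul_assoc, hs]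
          field_simp
      · exact hall' fun d => CfsgLib.Elusive.exists_commute_det hrk d
    · exact hall' fun d => by
        obtain ⟨s, hs⟩ := hcube d
        obtain ⟨D, hD, hD'⟩ := CfsgLib.Elusive.exists_commute_det_cube hg3 h2 s
        exact ⟨D, hD.trans hs, hD'⟩

end Cfsg.Agent.S5966
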