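import Cfsg.Statements.S5967
import Cfsg.Agent.Elusive.SympNormal
import Cfsg.Agent.Elusive.Compl

set_option autoImplicit false
open scoped MatrixGroups
open Cfsg

namespace Cfsg.Agent.S5967
open scoped Matrix

/-- Involutions of PSL_n(q) and the symplectic-type subgroups. Here `T = PSL_n(F)` for a field `F` with `q` elements, `n ≥ 4` even, `f` is a nondegenerate alternating form on `F^n`, and `H` is the subgroup of matrices of determinant 1 preserving `f` up to a scalar — a maximal subgroup of type Sp_n(q); Ω is the set of `T`-conjugates of `H` (cosets of `H`), so an element of `T` of prime order `r` (a matrix `x` of determinant 1 with `x^r` scalar, `x` not scalar) fixes a point of Ω when some conjugate of `x` by a matrix of determinant 1 preserves `f` up to a scalar. Suppose the index of `H` is even. Then every involution of `T` is conjugate in `T` into `H` if and only if `(q − 1)_2 ≤ (n)_2`. -/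
theorem result {F : Type*} [Field F] [Fintype F] {p : ℕ} [Fact p.Prime] [CharP F p] {q : ℕ} (hq : Fintype.card F = q)
    (n : ℕ) (hn : 4 ≤ n) (he : Even n) (f : (Fin n → F) → (Fin n → F) → F) (hf : Cfsg.Geo.IsSymplecticForm f)
    (hΩ : 2 ∣ ((Cfsg.Geo.similarityGroup f).comap (Matrix.SpecialLinearGroup.toGL : Matrix.SpecialLinearGroup (Fin n) F →* GL (Fin n) F)).index) :
    (∀ x : Matrix.SpecialLinearGroup (Fin n) F,
      (∃ z : F, ((x ^ 2 : Matrix.SpecialLinearGroup (Fin n) F) : Matrix (Fin n) (Fin n) F) = z • (1 : Matrix (Fin n) (Fin n) F)) →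
      (∀ z : F, (x : Matrix (Fin n) (Fin n) F) ≠ z • (1 : Matrix (Fin n) (Fin n) F)) →
      ∃ P : Matrix.SpecialLinearGroup (Fin n) F, P⁻¹ * x * P ∈ ((Cfsg.Geo.similarityGroup f).comap (Matrix.SpecialLinearGroup.toGL : Matrix.SpecialLinearGroup (Fin n) F →* GL (Fin n) F))) ↔
    padicValNat 2 (q - 1) ≤ padicValNat 2 n := by
  classical
  subst hq
  obtain ⟨m, c, hnm, hc⟩ := CfsgLib.Elusive.exists_pair_basis hf
  have hm : 2 ≤ m := by omega
  have hfin : Module.finrank F (Fin n → F) = 2 * m := by rw [Module.finrank_fin_fun, hnm]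
  have hcard := Fintype.one_lt_card (α := F)
  have : Fact (Nat.Prime 2) := ⟨Nat.prime_two⟩
  constructor
  · intro h
    by_contra hlt
    push Not at hlt
    have hq0 : Fintype.card F - 1 ≠ 0 := by omega
    have hev : 2 ∣ Fintype.card F - 1 :=
      dvd_of_one_le_padicValNat (by omega)
    have h2 : (2 : F) ≠ 0 := by
      intro e
      have hch : ringChar F = 2 := CharP.ringChar_of_prime_eq_zero Nat.prime_two (by exact_mod_cast e)
      have := FiniteField.even_card_iff_char_two.1 hch
      omega
    obtain ⟨g, hg⟩ := IsCyclic.exists_generator (α := Fˣ)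
    have hgo : orderOf g = Fintype.card F - 1 := by
      rw [orderOf_eq_card_of_forall_mem_zpowers hg, Nat.card_eq_fintype_card, Fintype.card_units]
    set o := orderOf (g ^ n) with ho
    have hev2 : 2 ∣ o := by
      by_contra hodd
      have hdg : (Fintype.card F - 1) = o * Nat.gcd (Fintype.card F - 1) n := by
        rw [ho, orderOf_pow' g (by omega), hgo, Nat.div_mul_cancel (Nat.gcd_dvd_left _ _)]
      have hd : 2 ^ padicValNat 2 (Fintype.card F - 1) ∣ o * Nat.gcd (Fintype.card F - 1) n :=
        hdg ▸ pow_padicValNat_dvd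
      have h1 := ((Nat.Coprime.pow_left _ ((Nat.Prime.coprime_iff_not_dvd Nat.prime_two).2 hodd)).dvd_of_dvd_mul_left
        hd).trans (Nat.gcd_dvd_right _ _)
      have := (padicValNat_dvd_iff_le (p := 2) (by omega : n ≠ 0)).1 h1
      omega
    set y : F := ((g ^ (o / 2) : Fˣ) : F) with hy
    have hy0 : y ≠ 0 := Units.ne_zero _
    have hyn : y ^ n = -1 := by
      have h1 : ((g ^ n) ^ (o / 2)) ^ 2 = 1 := by
        rw [← pow_mul, Nat.div_mul_cancel hev2, ho, pow_orderOf_eq_one]
      have h3 : (g ^ n) ^ (o / 2) ≠ 1 := fun e => by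
        have hpos : 0 < o := orderOf_pos _
        have := Nat.le_of_dvd (by omega) (orderOf_dvd_of_pow_eq_one e)
        omega
      have h4 : ((g ^ n) ^ (o / 2) : Fˣ) = ((g ^ (o / 2)) ^ n : Fˣ) := by rw [← pow_mul, ← pow_mul, Nat.mul_comm]
      rw [hy, ← Units.val_pow_eq_pow_val, ← h4]
      have h5 : (((g ^ n) ^ (o / 2) : Fˣ) : F) * (((g ^ n) ^ (o / 2) : Fˣ) : F) = 1 := by
        rw [← sq, ← Units.val_pow_eq_pow_val, h1, Units.val_one]
      exact (mul_self_eq_one_iff.1 h5).resolve_left fun e => h3 (Units.ext e)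
    let i0 : Fin n := ⟨0, by omega⟩
    let e : Fin n → F := fun j => if j = i0 then y else -y
    have hdet : (Matrix.diagonal e).det = 1 := by
      rw [Matrix.det_diagonal, ← Finset.mul_prod_erase _ _ (Finset.mem_univ i0),
        Finset.prod_congr rfl (fun j hj => show e j = -y from if_neg (Finset.ne_of_mem_erase hj)),
        Finset.prod_const, Finset.card_erase_of_mem (Finset.mem_univ i0), Finset.card_univ, Fintype.card_fin,
        show e i0 = y from if_pos rfl, Odd.neg_pow (Nat.odd_iff.2 (by omega)), mul_neg, ← pow_succ',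
        show n - 1 + 1 = n by omega, hyn, neg_neg]
    let x : Matrix.SpecialLinearGroup (Fin n) F := ⟨Matrix.diagonal e, hdet⟩
    have hns : ∀ z : F, (x : Matrix (Fin n) (Fin n) F) ≠ z • 1 := by
      intro z hz
      have h0 := congrFun (congrFun hz i0) i0
      have h1 := congrFun (congrFun hz (⟨1, by omega⟩ : Fin n)) ⟨1, by omega⟩
      simp [x, e, i0, Fin.ext_iff] at h0 h1
      refine h2 ((mul_eq_zero.1 (show (2 : F) * y = 0 from ?_)).resolve_right hy0)
      linear_combination h0 - h1
    obtain ⟨P, μ, hμ⟩ := h x ⟨y ^ 2, by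
      rw [Matrix.SpecialLinearGroup.coe_pow]
      show Matrix.diagonal e ^ 2 = _
      rw [Matrix.diagonal_pow, Matrix.smul_one_eq_diagonal]
      congr 1
      funext j
      simp only [e, Pi.pow_apply]
      split <;> ring⟩ hns
    set G := P⁻¹ * x * P with hG
    set Q : Matrix (Fin n) (Fin n) F := ((P⁻¹ : Matrix.SpecialLinearGroup (Fin n) F) : Matrix (Fin n) (Fin n) F)
    let v : Fin n → (Fin n → F) := fun j => Q *ᵥ Pi.single j 1
    have hGv : ∀ j, (G : Matrix (Fin n) (Fin n) F) *ᵥ v j = e j • v j := by
      intro j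
      show _ *ᵥ (Q *ᵥ _) = _ • (Q *ᵥ _)
      rw [Matrix.mulVec_mulVec, ← Matrix.SpecialLinearGroup.coe_mul, hG, mul_assoc, mul_inv_cancel, mul_one,
        Matrix.SpecialLinearGroup.coe_mul, ← Matrix.mulVec_mulVec, ← Matrix.mulVec_smul]
      congr 1
      show Matrix.diagonal e *ᵥ _ = _
      ext l
      rw [Matrix.mulVec_diagonal]
      by_cases hl : l = j
      · subst hl; simp
      · simp [Pi.single_eq_of_ne hl]
    have hrel : ∀ i j, e i * e j * f (v i) (v j) = (μ : F) * f (v i) (v j) := by
      intro i j
      have h1 : f ((G : Matrix (Fin n) (Fin n) F) *ᵥ v i) ((G : Matrix (Fin n) (Fin n) F) *ᵥ v j) =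
          (μ : F) * f (v i) (v j) := hμ (v i) (v j)
      rw [hGv, hGv, hf.bilinear.smul_left, hf.bilinear.smul_right] at h1
      linear_combination h1
    let B : LinearMap.BilinForm F (Fin n → F) := LinearMap.mk₂ F f hf.bilinear.add_left hf.bilinear.smul_left
      (fun x y z => hf.bilinear.add_right x y z) (fun c x y => hf.bilinear.smul_right c x y)
    have hB : ∀ u w, B u w = f u w := fun _ _ => rfl
    have hrad : ∀ u, (∀ j, f u (v j) = 0) → u = 0 := by
      intro u hu
      by_contra hu0
      obtain ⟨-, w, hw⟩ := hf.nondegenerate u hu0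
      refine hw ?_
      have hw' : w = ∑ j, ((P : Matrix (Fin n) (Fin n) F) *ᵥ w) j • v j := by
        have h1 : Q *ᵥ ((P : Matrix (Fin n) (Fin n) F) *ᵥ w) = w := by
          rw [Matrix.mulVec_mulVec, ← Matrix.SpecialLinearGroup.coe_mul, inv_mul_cancel,
            Matrix.SpecialLinearGroup.coe_one, Matrix.one_mulVec]
        conv_lhs => rw [← h1, pi_eq_sum_univ' ((P : Matrix (Fin n) (Fin n) F) *ᵥ w)]
        rw [Matrix.mulVec_sum]
        exact Finset.sum_congr rfl fun j _ => Matrix.mulVec_smul _ _ _
      rw [← hB, hw', map_sum]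
      exact Finset.sum_eq_zero fun j _ => by rw [map_smul, hB, hu j, smul_zero]
    have hne : ∀ j, v j ≠ 0 := fun j hj => by
      have h1 : (P : Matrix (Fin n) (Fin n) F) *ᵥ v j = Pi.single j 1 := by
        show _ *ᵥ (Q *ᵥ _) = _
        rw [Matrix.mulVec_mulVec, ← Matrix.SpecialLinearGroup.coe_mul, mul_inv_cancel,
          Matrix.SpecialLinearGroup.coe_one, Matrix.one_mulVec]
      rw [hj, Matrix.mulVec_zero] at h1
      simpa using congrFun h1 j
    have hμv : (μ : F) = -(y ^ 2) := by
      by_contra hne'
      refine hne i0 (hrad _ fun j => ?_)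
      by_cases hj : j = i0
      · subst hj; exact hf.alternating _
      · have h1 := hrel i0 j
        simp only [e, if_pos, if_neg hj] at h1
        have h3 : ((μ : F) + y ^ 2) * f (v i0) (v j) = 0 := by linear_combination -h1
        exact (mul_eq_zero.1 h3).resolve_left fun h4 => hne' (eq_neg_of_add_eq_zero_left h4)
    have hzero : ∀ i j, i ≠ i0 → j ≠ i0 → f (v i) (v j) = 0 := by
      intro i j hi hj
      have h1 := hrel i j
      simp only [e, if_neg hi, if_neg hj, hμv] at h1
      have h3 : (2 * (y * y)) * f (v i) (v j) = 0 := by linear_combination h1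
      exact (mul_eq_zero.1 h3).resolve_left (mul_ne_zero h2 (mul_ne_zero hy0 hy0))
    let i1 : Fin n := ⟨1, by omega⟩
    let i2 : Fin n := ⟨2, by omega⟩
    have h10 : i1 ≠ i0 := by simp [i1, i0, Fin.ext_iff]
    have h20 : i2 ≠ i0 := by simp [i2, i0, Fin.ext_iff]
    by_cases hz1 : f (v i1) (v i0) = 0
    · refine hne i1 (hrad _ fun j => ?_)
      by_cases hj : j = i0
      · exact hj ▸ hz1
      · exact hzero _ _ h10 hj
    · have hu : f (v i2) (v i0) • v i1 - f (v i1) (v i0) • v i2 = 0 := by
        refine hrad _ fun j => ?_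
        rw [← hB, map_sub, map_smul, map_smul, LinearMap.sub_apply, LinearMap.smul_apply, LinearMap.smul_apply,
          hB, hB, smul_eq_mul, smul_eq_mul]
        by_cases hj : j = i0
        · subst hj; ring
        · rw [hzero _ _ h10 hj, hzero _ _ h20 hj]; ring
      have h1 : (P : Matrix (Fin n) (Fin n) F) *ᵥ (f (v i2) (v i0) • v i1 - f (v i1) (v i0) • v i2) = 0 := by
        rw [hu, Matrix.mulVec_zero]
      have hPv : ∀ j, (P : Matrix (Fin n) (Fin n) F) *ᵥ v j = Pi.single j 1 := fun j => by
        show _ *ᵥ (Q *ᵥ _) = _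
        rw [Matrix.mulVec_mulVec, ← Matrix.SpecialLinearGroup.coe_mul, mul_inv_cancel,
          Matrix.SpecialLinearGroup.coe_one, Matrix.one_mulVec]
      rw [Matrix.mulVec_sub, Matrix.mulVec_smul, Matrix.mulVec_smul, hPv, hPv] at h1
      have h12 := congrFun h1 i2
      simp [i1, i2, Fin.ext_iff] at h12
      exact hz1 h12
  · intro hle x ⟨z, hxz⟩ _
    have hf2 : Matrix.toLin' (x : Matrix (Fin n) (Fin n) F) * Matrix.toLin' (x : Matrix (Fin n) (Fin n) F) =
        z • 1 := by
      rw [Matrix.SpecialLinearGroup.coe_pow, pow_two] at hxz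
      show Matrix.toLinAlgEquiv' (x : Matrix (Fin n) (Fin n) F) * Matrix.toLinAlgEquiv' _ = z • 1
      rw [← map_mul, hxz, map_smul, map_one]
    have hzn : z ^ n = 1 := by
      have := congrArg LinearMap.det hf2
      rw [map_mul, LinearMap.det_toLin', x.2, one_mul, LinearMap.det_smul, map_one, mul_one,
        Module.finrank_fin_fun] at this
      exact this.symm
    have hz0 : z ≠ 0 := fun e => by rw [e, zero_pow (by omega)] at hzn; exact zero_ne_one hzn
    by_cases hsq : ∃ y : F, y ^ 2 = z
    · obtain ⟨y, rfl⟩ := hsq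
      have hy : y ≠ 0 := fun e => hz0 (by rw [e, zero_pow two_ne_zero])
      obtain ⟨o, ho⟩ : 2 ^ padicValNat 2 (Fintype.card F - 1) ∣ n :=
        (padicValNat_dvd_iff_le (by omega)).2 hle
      obtain ⟨d, hd⟩ : 2 ^ padicValNat 2 (Fintype.card F - 1) ∣ Fintype.card F - 1 := pow_padicValNat_dvd
      have hdodd : Nat.Coprime 2 d := (Nat.Prime.coprime_iff_not_dvd Nat.prime_two).2 fun h2d =>
        pow_succ_padicValNat_not_dvd (p := 2) (n := Fintype.card F - 1) (by omega)
          (by conv_rhs => rw [hd]
              rw [pow_succ]; exact Nat.mul_dvd_mul_left _ h2d)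
      have hyn : y ^ n = 1 := by
        rw [← pow_mul] at hzn
        have h1 := (pow_gcd_eq_one (a := y) (m := 2 * n) (n := Fintype.card F - 1)).2
          ⟨hzn, FiniteField.pow_card_sub_one_eq_one y hy⟩
        obtain ⟨w, hw⟩ : Nat.gcd (2 * n) (Fintype.card F - 1) ∣ n := by
          generalize 2 ^ padicValNat 2 (Fintype.card F - 1) = T at ho hd
          rw [ho, hd, ← mul_assoc, Nat.mul_comm 2 T, mul_assoc, Nat.gcd_mul_left,
            Nat.Coprime.gcd_mul_left_cancel _ hdodd]
          exact Nat.mul_dvd_mul_left _ (Nat.gcd_dvd_left _ _)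
        rw [hw, pow_mul, h1, one_pow]
      set g := y⁻¹ • Matrix.toLin' (x : Matrix (Fin n) (Fin n) F) with hg_def
      have hgg : g * g = 1 := by
        rw [hg_def, smul_mul_smul_comm, hf2, smul_smul]
        field_simp
        rw [one_smul]
      have hgx : Matrix.toLin' (x : Matrix (Fin n) (Fin n) F) = y • g := by
        rw [hg_def, smul_smul, mul_inv_cancel₀ hy, one_smul]
      by_cases h2 : (2 : F) = 0
      · have : CharP F 2 := CharTwo.of_one_ne_zero_of_two_eq_zero one_ne_zero h2
        have : Nonempty (Fin n) := ⟨⟨0, by omega⟩⟩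
        obtain ⟨k, b, hb⟩ := CfsgLib.Elusive.exists_unipotent_basis (g := g) (by
          have h1 := CfsgLib.Elusive.sub_one_pow_eq_zero (p := 2) (g := g) (by rw [pow_two, hgg])
          rwa [pow_two] at h1) hfin
        refine CfsgLib.Elusive.conj_into_similarity hf c hc x b
          (fun i => y • (if (i : ℕ) < k then !![1, 1; 0, 1] else 1)) (μ := y ^ 2) (pow_ne_zero 2 hy) ?_ ?_
          ⟨0, by omega⟩ fun d _ => ?_
        · intro i
          rw [Matrix.det_smul, Fintype.card_fin]
          split <;> simp [Matrix.det_fin_two]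
        · intro a i
          rw [hgx, LinearMap.smul_apply, Fin.sum_univ_two]
          fin_cases a
          · rw [show g (b ((⟨0, _⟩ : Fin 2), i)) = b (0, i) from (hb i).1]
            split <;> simp [Matrix.smul_apply, smul_smul]
          · rw [show g (b ((⟨1, _⟩ : Fin 2), i)) = _ from (hb i).2]
            split <;> simp [Matrix.smul_apply, smul_smul, smul_add, add_comm]
        · obtain ⟨s, hs⟩ := CfsgLib.Elusive.exists_pth_root (p := 2) d
          exact ⟨s • 1, by rw [Matrix.det_smul, Fintype.card_fin, Matrix.det_one, mul_one, hs], by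
            rw [smul_mul_assoc, one_mul, mul_smul_comm, mul_one]⟩
      · have h2' : ((2 : ℕ) : F) ≠ 0 := by simpa using h2
        have hdg : LinearMap.det g = 1 := by
          rw [hg_def, LinearMap.det_smul, LinearMap.det_toLin', x.2, mul_one, Module.finrank_fin_fun, inv_pow,
            hyn, inv_one]
        have hdis : Disjoint (CfsgLib.Elusive.fixS g) (CfsgLib.Elusive.movS g) :=
          Submodule.disjoint_def.2 fun v h1 h2 =>
            CfsgLib.Elusive.disjoint_fix_mov (r := 2) (by rw [pow_two, hgg]) h2' h1 h2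
        have hcompl : IsCompl (CfsgLib.Elusive.fixS g) (CfsgLib.Elusive.movS g) := ⟨hdis, codisjoint_iff.2 (by
          refine Submodule.eq_top_of_finrank_eq ?_
          have h1 := Submodule.finrank_sup_add_finrank_inf_eq (CfsgLib.Elusive.fixS g) (CfsgLib.Elusive.movS g)
          rw [disjoint_iff.1 hdis, finrank_bot] at h1
          have := CfsgLib.Elusive.fix_add_mov (f := g)
          omega)⟩
        set A := CfsgLib.Elusive.fixS g
        set M := CfsgLib.Elusive.movS g with hM
        let E := Submodule.prodEquivOfIsCompl _ _ hcompl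
        have hge : g = (E : (A × M) →ₗ[F] (Fin n → F)) ∘ₗ
            ((LinearMap.id : A →ₗ[F] A).prodMap ((-1 : F) • (LinearMap.id : M →ₗ[F] M))) ∘ₗ
              (E.symm : (Fin n → F) →ₗ[F] (A × M)) := by
          refine LinearMap.ext fun v => ?_
          obtain ⟨⟨a, b⟩, rfl⟩ := E.surjective v
          simp only [LinearMap.comp_apply, LinearEquiv.coe_coe, LinearEquiv.symm_apply_apply]
          show g ((a : Fin n → F) + b) = (a : Fin n → F) + (-1 : F) • (b : Fin n → F)
          obtain ⟨u, hu⟩ : ∃ u, (g - 1) u = b := b.2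
          rw [map_add, CfsgLib.Elusive.mem_fixS.1 a.2, ← hu, neg_one_smul, LinearMap.sub_apply,
            Module.End.one_apply, map_sub, ← Module.End.mul_apply, hgg, Module.End.one_apply, neg_sub]
        rw [hge, LinearMap.det_conj, LinearMap.det_prodMap, LinearMap.det_id, one_mul, LinearMap.det_smul,
          LinearMap.det_id, mul_one, neg_one_pow_eq_one_iff_even (by
            intro h1; exact h2 (by linear_combination -h1))] at hdg
        obtain ⟨w, hw⟩ := hdg
        have hfm := CfsgLib.Elusive.fix_add_mov (f := g)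
        rw [hfin] at hfm
        obtain ⟨b, hb⟩ := CfsgLib.Elusive.exists_involution_basis (g := g) (k := m - w) hgg h2 hfin (by
          show Module.finrank F A = _
          change Module.finrank F A + Module.finrank F M = _ at hfm
          omega)
        refine CfsgLib.Elusive.conj_into_similarity hf c hc x b
          (fun i => (y * if (i : ℕ) < m - w then (1 : F) else -1) • (1 : Matrix (Fin 2) (Fin 2) F)) (μ := y ^ 2)
          (pow_ne_zero 2 hy) ?_ ?_ ⟨0, by omega⟩ fun d _ => ⟨!![d, 0; 0, 1], by simp [Matrix.det_fin_two], by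
            rw [mul_smul_comm, mul_one, smul_mul_assoc, one_mul]⟩
        · intro i
          rw [Matrix.det_smul, Fintype.card_fin, Matrix.det_one, mul_one]
          split <;> ring
        · intro a i
          rw [hgx, LinearMap.smul_apply, hb, smul_smul, Fin.sum_univ_two]
          fin_cases a <;> simp [Matrix.smul_apply]
    · push Not at hsq
      obtain ⟨b, hb⟩ := CfsgLib.Elusive.exists_kummer_basis hf2 hsq hfin
      have hodd : Fintype.card F % 2 = 1 := by
        refine FiniteField.odd_card_of_char_ne_two fun e => ?_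
        have h2 : (2 : F) = 0 := by
          have : ((ringChar F : ℕ) : F) = 0 := ringChar.Nat.cast_ringChar
          rwa [e, Nat.cast_two] at this
        have : CharP F 2 := CharTwo.of_one_ne_zero_of_two_eq_zero one_ne_zero h2
        obtain ⟨w, hw⟩ := CfsgLib.Elusive.exists_pth_root (p := 2) z
        exact hsq w hw
      refine CfsgLib.Elusive.conj_into_similarity hf c hc x b (fun _ => !![0, z; 1, 0]) (μ := -z)
        (neg_ne_zero.2 hz0) (fun i => by simp [Matrix.det_fin_two]) ?_ ⟨0, by omega⟩ fun d _ => ?_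
      · intro a i
        rw [Fin.sum_univ_two]
        fin_cases a
        · simpa using (hb i).1
        · simpa using (hb i).2
      · obtain ⟨s, t, hst⟩ := FiniteField.exists_root_sum_quadratic (R := F) (f := Polynomial.X ^ 2)
          (g := Polynomial.C (-z) * Polynomial.X ^ 2 - Polynomial.C d) (Polynomial.degree_X_pow 2)
          (by
            rw [sub_eq_add_neg, ← map_neg, Polynomial.degree_add_C (by
              rw [Polynomial.degree_C_mul_X_pow 2 (neg_ne_zero.2 hz0)]; decide),
              Polynomial.degree_C_mul_X_pow 2 (neg_ne_zero.2 hz0)]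
            rfl) hodd
        simp only [Polynomial.eval_pow, Polynomial.eval_X, Polynomial.eval_sub, Polynomial.eval_mul,
          Polynomial.eval_C] at hst
        refine ⟨s • 1 + t • !![0, z; 1, 0], ?_, ?_⟩
        · simp [Matrix.det_fin_two]
          linear_combination hst
        · simp [add_mul, mul_add, mul_comm]

end Cfsg.Agent.S5967
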