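import Cfsg.Statements.S5968
import Cfsg.Agent.Elusive.SimilBad

set_option autoImplicit false
open scoped MatrixGroups
open Cfsg

namespace Cfsg.Agent.S5968
open scoped Matrix

/-- Derangements of odd prime order of PSL_n(q) on the cosets of a symplectic-type subgroup. Here `T = PSL_n(F)` for a field `F` with `q` elements, `n ≥ 4` even, `f` is a nondegenerate alternating form on `F^n`, and `H` is the subgroup of matrices of determinant 1 preserving `f` up to a scalar — a maximal subgroup of type Sp_n(q); Ω is the set of `T`-conjugates of `H` (cosets of `H`), so an element of `T` of prime order `r` (a matrix `x` of determinant 1 with `x^r` scalar, `x` not scalar) fixes a point of Ω when some conjugate of `x` by a matrix of determinant 1 preserves `f` up to a scalar. For every odd prime `r` dividing the index of `H`, with `(n, r) ≠ (6, 3)`, there is an element of `T` of order `r` with no conjugate in `H`. (For `n = 6`, `r = 3` this can fail: when `(q − 1)_3 = 3` every element of order 3 is conjugate into `H`.) -/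
theorem result {F : Type*} [Field F] [Fintype F] {p : ℕ} [Fact p.Prime] [CharP F p] {q : ℕ} (hq : Fintype.card F = q)
    (n : ℕ) (hn : 4 ≤ n) (he : Even n) (f : (Fin n → F) → (Fin n → F) → F) (hf : Cfsg.Geo.IsSymplecticForm f)
    (r : ℕ) [Fact r.Prime] (hr2 : r ≠ 2) (hgap : ¬ (n = 6 ∧ r = 3)) (hΩ : r ∣ ((Cfsg.Geo.similarityGroup f).comap (Matrix.SpecialLinearGroup.toGL : Matrix.SpecialLinearGroup (Fin n) F →* GL (Fin n) F)).index) :
    ∃ x : Matrix.SpecialLinearGroup (Fin n) F,
      (∃ z : F, ((x ^ r : Matrix.SpecialLinearGroup (Fin n) F) : Matrix (Fin n) (Fin n) F) = z • (1 : Matrix (Fin n) (Fin n) F)) ∧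
      (∀ z : F, (x : Matrix (Fin n) (Fin n) F) ≠ z • (1 : Matrix (Fin n) (Fin n) F)) ∧
      ∀ P : Matrix.SpecialLinearGroup (Fin n) F, P⁻¹ * x * P ∉ ((Cfsg.Geo.similarityGroup f).comap (Matrix.SpecialLinearGroup.toGL : Matrix.SpecialLinearGroup (Fin n) F →* GL (Fin n) F)) := by
  classical
  subst hq
  have hrr := (Fact.out : r.Prime)
  have hr3 : 3 ≤ r := by have := hrr.two_le; omega
  let i₀ : Fin n := ⟨0, by omega⟩
  let i₁ : Fin n := ⟨1, by omega⟩
  let i₂ : Fin n := ⟨2, by omega⟩
  let i₃ : Fin n := ⟨3, by omega⟩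
  have h01 : i₀ ≠ i₁ := by simp [i₀, i₁, Fin.ext_iff]
  have h02 : i₀ ≠ i₂ := by simp [i₀, i₂, Fin.ext_iff]
  have h12 : i₁ ≠ i₂ := by simp [i₁, i₂, Fin.ext_iff]
  -- the form seen through a conjugating matrix
  suffices H : ∃ x : Matrix.SpecialLinearGroup (Fin n) F, (x : Matrix (Fin n) (Fin n) F) ^ r = 1 ∧
      (∀ z : F, (x : Matrix (Fin n) (Fin n) F) ≠ z • (1 : Matrix (Fin n) (Fin n) F)) ∧
      ∀ (B : LinearMap.BilinForm F (Fin n → F)), (∀ v, B v v = 0) → (∀ v, (∀ w, B v w = 0) → v = 0) →
        ∀ μ : F, μ ^ r = 1 → (∀ u v, B (Matrix.toLin' (x : Matrix (Fin n) (Fin n) F) u)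
          (Matrix.toLin' (x : Matrix (Fin n) (Fin n) F) v) = μ * B u v) → False by
    obtain ⟨x, hxr, hns, hbad⟩ := H
    refine ⟨x, ⟨1, by rw [Matrix.SpecialLinearGroup.coe_pow, hxr, one_smul]⟩, hns, fun P hP => ?_⟩
    obtain ⟨μ, hμ⟩ := hP
    set Pi' := ((P⁻¹ : Matrix.SpecialLinearGroup (Fin n) F) : Matrix (Fin n) (Fin n) F)
    let B₀ : LinearMap.BilinForm F (Fin n → F) := LinearMap.mk₂ F f hf.bilinear.add_left hf.bilinear.smul_left
      (fun x y z => hf.bilinear.add_right x y z) (fun c x y => hf.bilinear.smul_right c x y)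
    let B : LinearMap.BilinForm F (Fin n → F) := B₀.compl₁₂ (Matrix.toLin' Pi') (Matrix.toLin' Pi')
    have hPinv : ∀ v, Pi' *ᵥ ((P : Matrix (Fin n) (Fin n) F) *ᵥ v) = v := fun v => by
      rw [Matrix.mulVec_mulVec, ← Matrix.SpecialLinearGroup.coe_mul, inv_mul_cancel,
        Matrix.SpecialLinearGroup.coe_one, Matrix.one_mulVec]
    have hnd : ∀ v, (∀ w, B v w = 0) → v = 0 := fun v hv => by
      by_contra hv0
      have h1 : Pi' *ᵥ v ≠ 0 := fun e => hv0 (by
        have h2 := congrArg ((P : Matrix (Fin n) (Fin n) F) *ᵥ ·) e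
        simpa only [Matrix.mulVec_mulVec, Pi', ← Matrix.SpecialLinearGroup.coe_mul, mul_inv_cancel,
          Matrix.SpecialLinearGroup.coe_one, Matrix.one_mulVec, Matrix.mulVec_zero] using h2)
      obtain ⟨-, w, hw⟩ := hf.nondegenerate _ h1
      refine hw ?_
      have := hv ((P : Matrix (Fin n) (Fin n) F) *ᵥ w)
      change f (Pi' *ᵥ v) (Pi' *ᵥ ((P : Matrix (Fin n) (Fin n) F) *ᵥ w)) = 0 at this
      rwa [hPinv] at this
    have hsim : ∀ u v, B (Matrix.toLin' (x : Matrix (Fin n) (Fin n) F) u)
        (Matrix.toLin' (x : Matrix (Fin n) (Fin n) F) v) = (μ : F) * B u v := fun u v => by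
      show f (Pi' *ᵥ ((x : Matrix (Fin n) (Fin n) F) *ᵥ u)) (Pi' *ᵥ ((x : Matrix (Fin n) (Fin n) F) *ᵥ v)) =
        (μ : F) * f (Pi' *ᵥ u) (Pi' *ᵥ v)
      rw [← hμ (Pi' *ᵥ u) (Pi' *ᵥ v)]
      show f _ _ = f (((P⁻¹ * x * P : Matrix.SpecialLinearGroup (Fin n) F) : Matrix (Fin n) (Fin n) F) *ᵥ _)
        (((P⁻¹ * x * P : Matrix.SpecialLinearGroup (Fin n) F) : Matrix (Fin n) (Fin n) F) *ᵥ _)
      simp only [Matrix.mulVec_mulVec, Pi', ← Matrix.SpecialLinearGroup.coe_mul, mul_assoc, mul_inv_cancel, mul_one]
    refine hbad B (fun v => hf.alternating _) hnd μ ?_ hsim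
    have hiter : ∀ k, ∀ u v, B ((Matrix.toLin' (x : Matrix (Fin n) (Fin n) F) ^ k) u)
        ((Matrix.toLin' (x : Matrix (Fin n) (Fin n) F) ^ k) v) = (μ : F) ^ k * B u v := fun k => by
      induction k with
      | zero => intro u v; simp
      | succ k ih =>
        intro u v
        rw [pow_succ', Module.End.mul_apply, Module.End.mul_apply, hsim, ih]
        ring
    have hlr : Matrix.toLin' (x : Matrix (Fin n) (Fin n) F) ^ r = 1 := by
      show Matrix.toLinAlgEquiv' (x : Matrix (Fin n) (Fin n) F) ^ r = 1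
      rw [← map_pow, hxr, map_one]
    have hne : (Pi.single i₀ 1 : Fin n → F) ≠ 0 := by simp
    obtain ⟨w, hw⟩ : ∃ w, B (Pi.single i₀ 1) w ≠ 0 := by
      by_contra h
      push Not at h
      exact hne (hnd _ h)
    have := hiter r (Pi.single i₀ 1) w
    rw [hlr, Module.End.one_apply, Module.End.one_apply] at this
    exact mul_right_cancel₀ hw (this.symm.trans (one_mul _).symm)
  have hsingle : ∀ (M : Matrix (Fin n) (Fin n) F) (a b : Fin n), (M *ᵥ Pi.single a 1) b = M b a := fun M a b => by
    rw [Matrix.mulVec_single_one]; rfl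
  by_cases hrp : r = p
  · -- a Jordan block of size three
    subst hrp
    let N : Matrix (Fin n) (Fin n) F := Matrix.single i₁ i₀ 1 + Matrix.single i₂ i₁ 1
    have hdet : (1 + N).det = 1 := by
      rw [show 1 + N = Matrix.transvection i₁ i₀ 1 * Matrix.transvection i₂ i₁ (1 : F) by
        simp [N, Matrix.transvection, mul_add, add_mul, h02, h02.symm, add_assoc],
        Matrix.det_mul, Matrix.det_transvection_of_ne _ _ h01.symm, Matrix.det_transvection_of_ne _ _ h12.symm, one_mul]
    have hN3 : N ^ 3 = 0 := by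
      simp [N, pow_succ, mul_add, add_mul, h02, h02.symm, h01, h01.symm, h12, h12.symm]
    have : Nonempty (Fin n) := ⟨i₀⟩
    have : CharP (Matrix (Fin n) (Fin n) F) r := charP_of_injective_algebraMap (algebraMap F _).injective r
    refine ⟨⟨1 + N, hdet⟩, ?_, fun z hz => ?_, fun B hB hnd μ hμ hsim => ?_⟩
    · show (1 + N) ^ r = 1
      rw [add_pow_char_of_commute r (Commute.one_left N), one_pow, pow_eq_zero_of_le hr3 hN3, add_zero]
    · have := congrFun (congrFun hz i₁) i₀
      simp [N, Matrix.smul_apply, Matrix.one_apply, h01.symm, h01, h12.symm] at this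
    · have hμ1 : μ = 1 := by
        have : ExpChar F r := ExpChar.prime (Fact.out)
        exact frobenius_inj F r (by simpa [frobenius_def] using hμ)
      subst hμ1
      simp only [one_mul] at hsim
      refine CfsgLib.Elusive.no_jordan_three hB hnd (x := Matrix.toLin' (1 + N)) hsim (Pi.basisFun F (Fin n))
        (i₀ := i₀) (i₁ := i₁) (i₂ := i₂) ?_ ?_ (fun k hk0 hk1 => ?_) h02.symm h12.symm
      all_goals
        rw [Matrix.toLin'_apply]
        simp only [Pi.basisFun_apply]
        ext l
        rw [hsingle]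
      · simp [N, Matrix.one_apply, Pi.single_apply, Matrix.single_apply, h01, h02, h12, h01.symm, h02.symm, h12.symm,
          eq_comm]
      · simp [N, Matrix.one_apply, Pi.single_apply, Matrix.single_apply, h01, h02, h12, h01.symm, h02.symm, h12.symm,
          eq_comm]
      · simp [N, Matrix.one_apply, Pi.single_apply, Matrix.single_apply, hk0, hk1, Ne.symm hk0, Ne.symm hk1,
          eq_comm]
  have hr0 : (r : F) ≠ 0 := CfsgLib.Elusive.cast_ne_zero_of_ne (p := p) hrp
  by_cases h1 : r ∣ Fintype.card F - 1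
  · -- a diagonal element
    rw [← Fintype.card_units, ← Nat.card_eq_fintype_card] at h1
    obtain ⟨g, hg⟩ := exists_prime_orderOf_dvd_card' r h1
    set ζ : F := ((g : Fˣ) : F) with hζ
    have hζr : ζ ^ r = 1 := by rw [hζ, ← Units.val_pow_eq_pow_val, ← hg, pow_orderOf_eq_one, Units.val_one]
    have hζpow : ∀ k, 0 < k → k < r → ζ ^ k ≠ 1 := fun k hk hkr e => by
      rw [hζ, ← Units.val_pow_eq_pow_val, Units.val_eq_one, ← orderOf_dvd_iff_pow_eq_one, hg] at e
      exact absurd (Nat.le_of_dvd hk e) (by omega)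
    have hζ1 : ζ ≠ 1 := fun e => hζpow 1 one_pos hrr.one_lt (by rw [pow_one, e])
    have hζ0 : ζ ≠ 0 := Units.ne_zero g
    set η : F := ζ ^ (r - 2) with hη
    have hηζ : η * ζ * ζ = 1 := by
      rw [hη, ← pow_succ, ← pow_succ, show r - 2 + 1 + 1 = r by omega, hζr]
    let e : Fin n → F := fun l => if (l : ℕ) < 2 then ζ else if (l : ℕ) = 2 then η else 1
    have hdet : (Matrix.diagonal e).det = 1 := by
      rw [Matrix.det_diagonal, ← Finset.prod_subset (Finset.subset_univ ({i₀, i₁, i₂} : Finset (Fin n)))]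
      · rw [Finset.prod_insert (by simp [h01, h02]), Finset.prod_pair h12]
        simp [e, i₀, i₁, i₂]
        linear_combination hηζ
      · intro l _ hl
        simp only [Finset.mem_insert, Finset.mem_singleton, not_or] at hl
        simp only [i₀, i₁, i₂, Fin.ext_iff] at hl
        simp only [e]
        rw [if_neg (by omega), if_neg (by omega)]
    refine ⟨⟨Matrix.diagonal e, hdet⟩, ?_, fun z hz => ?_, fun B hB hnd μ hμ hsim => ?_⟩
    · show Matrix.diagonal e ^ r = 1
      rw [Matrix.diagonal_pow, ← Matrix.diagonal_one]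
      congr 1
      funext l
      simp only [e, Pi.pow_apply]
      split_ifs
      · exact hζr
      · rw [hη, ← pow_mul, Nat.mul_comm, pow_mul, hζr, one_pow]
      · exact one_pow r
    · have h0 := congrFun (congrFun hz i₀) i₀
      have h3 := congrFun (congrFun hz i₃) i₃
      simp [e, i₀, i₃] at h0 h3
      exact hζ1 (h0.trans h3.symm)
    · have hBd : ∀ a b, e a * e b * B (Pi.single a 1) (Pi.single b 1) = μ * B (Pi.single a 1) (Pi.single b 1) := by
        intro a b
        rw [← hsim (Pi.single a 1) (Pi.single b 1)]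
        have hd : ∀ a, Matrix.toLin' (Matrix.diagonal e) (Pi.single a (1 : F)) = e a • Pi.single a 1 := fun a => by
          ext l
          rw [Matrix.toLin'_apply, hsingle, Pi.smul_apply, Pi.single_apply, Matrix.diagonal_apply]
          by_cases hla : l = a <;> simp [hla]
        rw [hd, hd, map_smul, map_smul, LinearMap.smul_apply, smul_eq_mul, smul_eq_mul]
        ring
      have hle := fun α => CfsgLib.Elusive.diag_class_card_le hnd hBd α
      -- partner values
      have hμ0 : μ ≠ 0 := fun h => by rw [h, zero_pow hrr.ne_zero] at hμ; exact zero_ne_one hμ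
      have hclass : ∀ α, α ≠ 0 → (Finset.univ.filter fun l => e l = α).card =
          (Finset.univ.filter fun l => e l = μ / α).card := fun α hα => by
        have key : ∀ α : F, α ≠ 0 → (Finset.univ.filter fun l => e l = α).card ≤
            (Finset.univ.filter fun l => e l = μ / α).card := fun α hα => (hle α).trans_eq (by
          congr 1; ext l; simp [eq_div_iff hα, mul_comm])
        refine le_antisymm (key α hα) ((key _ (div_ne_zero hμ0 hα)).trans_eq ?_)
        congr 2; funext l; rw [div_div_cancel₀ hμ0]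
      have hcount : ∀ α, (Finset.univ.filter fun l => e l = α).card =
          (if ζ = α then 2 else 0) + (if η = α then 1 else 0) + (if 1 = α then n - 3 else 0) := fun α => by
        rw [Finset.card_filter, Fin.sum_univ_eq_sum_range (fun l => if (if l < 2 then ζ else if l = 2 then η else 1) = α then 1 else 0) n,
          show n = 2 + 1 + (n - 3) by omega, Finset.sum_range_add, Finset.sum_range_succ, Finset.sum_range_succ,
          Finset.sum_range_succ, Finset.sum_range_zero,
          Finset.sum_congr rfl fun x (_ : x ∈ Finset.range (n - 3)) => show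
            (if (if 2 + 1 + x < 2 then ζ else if 2 + 1 + x = 2 then η else 1) = α then 1 else 0) =
              if (1 : F) = α then 1 else 0 by rw [if_neg (by omega : ¬ 2 + 1 + x < 2), if_neg (by omega : ¬ 2 + 1 + x = 2)]]
        simp only [Finset.sum_const, Finset.card_range, smul_eq_mul, mul_ite, mul_one, mul_zero]
        norm_num
        split_ifs <;> rfl
      have hη1 : η ≠ 1 := by
        rw [hη]; exact hζpow _ (by omega) (by omega)
      obtain ⟨m, hm⟩ := he
      by_cases hr' : r = 3
      · have hηe : η = ζ := by rw [hη, hr', show 3 - 2 = 1 from rfl, pow_one]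
        have h6 : n ≠ 6 := fun h => hgap ⟨h, hr'⟩
        have hz := hclass ζ hζ0
        have ho := hclass 1 one_ne_zero
        rw [hcount, hcount, hηe, div_one] at ho
        rw [hcount, hcount, hηe] at hz
        simp only [if_neg hζ1, if_neg hζ1.symm, if_pos] at hz ho
        have hz' : μ / ζ = ζ := by
          by_contra h
          simp only [if_neg (Ne.symm h)] at hz
          split_ifs at hz <;> omega
        have hμe : μ = ζ ^ 2 := by rw [pow_two]; field_simp at hz'; linear_combination hz'
        have hne2 : ζ ≠ μ := fun h => hζ1 (mul_left_cancel₀ hζ0 (show ζ * ζ = ζ * 1 by rw [mul_one, ← pow_two, ← hμe, ← h]))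
        have hne3 : (1 : F) ≠ μ := fun h => hζpow 2 two_pos (by omega) (by rw [← hμe, ← h])
        simp only [if_neg hne2, if_neg hne3] at ho
        omega
      · have hηζ' : η ≠ ζ := fun h => by
          rw [hη] at h
          refine hζpow (r - 3) (by omega) (by omega) (mul_right_cancel₀ hζ0 ?_)
          rw [one_mul, ← pow_succ, show r - 3 + 1 = r - 2 by omega, h]
        have hz := hclass ζ hζ0
        rw [hcount, hcount] at hz
        simp only [if_neg hηζ', if_neg hζ1.symm, if_pos] at hz
        have hz' : μ / ζ = ζ := by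
          by_contra h
          simp only [if_neg (Ne.symm h)] at hz
          split_ifs at hz with ha hb hb <;> first | omega | exact hη1 (ha.trans hb.symm)
        have hμe : μ = ζ ^ 2 := by rw [pow_two]; field_simp at hz'; linear_combination hz'
        have ho := hclass 1 one_ne_zero
        rw [hcount, hcount, div_one] at ho
        have hne1 : ζ ≠ μ := fun h => hζ1 (mul_left_cancel₀ hζ0 (show ζ * ζ = ζ * 1 by rw [mul_one, ← pow_two, ← hμe, ← h]))
        have hne2 : η ≠ μ := fun h => hζpow 4 (by omega) (by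
          have : r ≠ 4 := fun h => by rw [h] at hrr; norm_num at hrr
          omega) (by
          rw [show ζ ^ 4 = ζ ^ 2 * ζ * ζ by ring, ← hμe, ← h, hηζ])
        have hne3 : (1 : F) ≠ μ := fun h => hζpow 2 two_pos (by omega) (by rw [← hμe, ← h])
        simp only [if_neg hne1, if_neg hne2, if_neg hne3, if_neg hη1, if_neg hζ1, if_pos] at ho
        omega
  · -- moved space of odd dimension
    obtain ⟨k, hkodd, hkn, hk⟩ := CfsgLib.Elusive.dvd_of_dvd_similarity_index (p := p) hrp hf (by omega) hΩ
    set i := orderOf ((Fintype.card F : ℕ) : ZMod r) with hi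
    have hi0 : 0 < i := CfsgLib.Elusive.orderOf_q_pos (CfsgLib.Elusive.card_ne_zero_mod (F := F) hrp)
    have hik : i ∣ k := by
      refine orderOf_dvd_of_pow_eq_one ?_
      have := (ZMod.natCast_eq_zero_iff _ r).2 hk
      rwa [Nat.cast_sub (Nat.one_le_pow _ _ Fintype.card_pos), Nat.cast_pow, Nat.cast_one, sub_eq_zero] at this
    have hiodd : Odd i := hkodd.of_dvd_nat hik
    have hi1 : i ≠ 1 := fun h => h1 (CfsgLib.Elusive.dvd_card_sub_one_iff.2 (orderOf_eq_one_iff.1 h))
    have hin : i ≤ n := (Nat.le_of_dvd (by rcases hkodd with ⟨t, ht⟩; omega) hik).trans hkn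
    obtain ⟨g, hg, hgf⟩ := CfsgLib.Elusive.exists_min_fix (F := F) (r := r) hr0 hi hi0 (n := n) (s := 1) (e := n - i)
      (by omega)
    obtain ⟨x, hx⟩ := CfsgLib.Elusive.exists_sl (CfsgLib.Elusive.det_eq_one (hi ▸ hi1) hg)
    have hfm := CfsgLib.Elusive.fix_add_mov (f := g)
    rw [hgf, Module.finrank_fin_fun] at hfm
    refine ⟨x, ?_, fun z hz => ?_, fun B hB hnd μ hμ hsim => ?_⟩
    · have := CfsgLib.Elusive.sl_pow_scalar (c := (1 : F)) (r := r) (by rw [hg, one_smul]) hx
      rwa [Matrix.SpecialLinearGroup.coe_pow, one_smul] at this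
    · have hgz : ∀ v, g v = z • v := fun v => by
        rw [← hx, Matrix.toLin'_apply, hz, Matrix.smul_mulVec, Matrix.one_mulVec]
      have hz1 : z = 1 := by
        refine CfsgLib.Elusive.eq_one_of_pow_of_order (hi ▸ hi1) ?_
        have h2 := congrArg Matrix.toLinAlgEquiv' (congrArg (· ^ r) hz)
        simp only [map_pow] at h2
        rw [show Matrix.toLinAlgEquiv' (x : Matrix (Fin n) (Fin n) F) = g from hx, hg, map_smul, map_one, smul_pow,
          one_pow] at h2
        have := congrFun (LinearMap.congr_fun h2 (Pi.single i₀ 1)) i₀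
        simpa using this.symm
      have hbot : Module.finrank F (CfsgLib.Elusive.movS g) = 0 := by
        rw [Submodule.finrank_eq_zero, CfsgLib.Elusive.movS, LinearMap.range_eq_bot, sub_eq_zero]
        exact LinearMap.ext fun v => by rw [hgz, hz1, one_smul]; rfl
      omega
    · rw [hx] at hsim
      have hμ1 := CfsgLib.Elusive.eq_one_of_pow_of_order (hi ▸ hi1) hμ
      subst hμ1
      simp only [one_mul] at hsim
      have := CfsgLib.Elusive.even_mov hr0 hB hnd hg hsim
      rw [show Module.finrank F (CfsgLib.Elusive.movS g) = i by omega] at this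
      exact (Nat.not_even_iff_odd.2 hiodd) this

end Cfsg.Agent.S5968
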