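import Cfsg.Statements.S5969
import Cfsg.Agent.Elusive.ExtField

set_option autoImplicit false
open scoped MatrixGroups
open Cfsg

namespace Cfsg.Agent.S5969
open scoped Matrix

/-- Involutions of PSL_n(q) and extension-field subgroups of degree 2. Here `T = PSL_n(F)` for a field `F` with `q = p^f` elements (`n ≥ 2`, `(n, q) ≠ (2, 2), (2, 3)`), `k` is a prime dividing `n`, `K` is a subalgebra of the `n × n` matrices that is a field of degree `k` over `F` (an extension-field structure F_{q^k} on `F^n`), and `H` is the subgroup of matrices of determinant 1 normalizing `K` — a subgroup of type GL_{n/k}(q^k) (maximal except in some small cases; maximality is not assumed); Ω is the set of cosets of `H` in `T`, so an element of `T` of prime order `r` (a matrix `x` of determinant 1 with `x^r` scalar, `x` not scalar) fixes a point of Ω when some conjugate of `x` by a matrix of determinant 1 normalizes `K`. Take `k = 2` and suppose the index of `H` is even. Then every involution of `T` is conjugate in `T` into `H` if and only if `n = 2`, or `q` is odd and `(q − 1)_2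 ≤ (n)_2`. -/
theorem result {F : Type*} [Field F] [Fintype F] {p : ℕ} [Fact p.Prime] [CharP F p] {q : ℕ} (hq : Fintype.card F = q)
    (n : ℕ) (hn : 2 ≤ n) (hT : (n, q) ≠ (2, 2) ∧ (n, q) ≠ (2, 3))
    (k : ℕ) (hk : k.Prime) (hkn : k ∣ n) (K : Subalgebra F (Matrix (Fin n) (Fin n) F)) (hK : Cfsg.Geo.IsFieldSubalgebra k K) (hk2 : k = 2) (hΩ : 2 ∣ ((Cfsg.Geo.subalgebraNormalizer K).comap (Matrix.SpecialLinearGroup.toGL : Matrix.SpecialLinearGroup (Fin n) F →* GL (Fin n) F)).index) :
    (∀ x : Matrix.SpecialLinearGroup (Fin n) F,
      (∃ z : F, ((x ^ 2 : Matrix.SpecialLinearGroup (Fin n) F) : Matrix (Fin n) (Fin n) F) = z • (1 : Matrix (Fin n) (Fin n) F)) →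
      (∀ z : F, (x : Matrix (Fin n) (Fin n) F) ≠ z • (1 : Matrix (Fin n) (Fin n) F)) →
      ∃ P : Matrix.SpecialLinearGroup (Fin n) F, P⁻¹ * x * P ∈ ((Cfsg.Geo.subalgebraNormalizer K).comap (Matrix.SpecialLinearGroup.toGL : Matrix.SpecialLinearGroup (Fin n) F →* GL (Fin n) F))) ↔
    (n = 2 ∨ (Odd q ∧ padicValNat 2 (q - 1) ≤ padicValNat 2 n)) := by
  classical
  subst hk2
  subst hq
  have : Nonempty (Fin n) := ⟨⟨0, by omega⟩⟩
  have : Fact (Nat.Prime 2) := ⟨Nat.prime_two⟩
  obtain ⟨m, hnm⟩ := hkn
  have hfin : Module.finrank F (Fin n → F) = 2 * m := by rw [Module.finrank_fin_fun, hnm]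
  have hcard := Fintype.one_lt_card (α := F)
  obtain ⟨j, hj, β, α, hjj, hroot, hspan⟩ := CfsgLib.Elusive.exists_generator hK
  constructor
  · intro h
    by_contra hno
    push Not at hno
    obtain ⟨hn2, hno⟩ := hno
    have hn4 : 4 ≤ n := by omega
    suffices hex : ∃ (x : Matrix.SpecialLinearGroup (Fin n) F) (z e : F), e ≠ 0 ∧
        (x : Matrix (Fin n) (Fin n) F) * x = z • 1 ∧ (∀ z : F, (x : Matrix (Fin n) (Fin n) F) ≠ z • 1) ∧
        Module.finrank F (LinearMap.ker (Matrix.toLin' (x : Matrix (Fin n) (Fin n) F) - e • 1)) = n - 1 by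
      obtain ⟨x, z, e, he, hsq, hns, hdim⟩ := hex
      obtain ⟨P, hP⟩ := h x ⟨z, by rw [Matrix.SpecialLinearGroup.coe_pow, pow_two, hsq]⟩ hns
      refine CfsgLib.Elusive.no_hyperplane hK hP he (by rw [Fintype.card_fin]; omega) ?_
      rw [Fintype.card_fin]
      let Q : (Fin n → F) ≃ₗ[F] (Fin n → F) := LinearEquiv.ofLinear
        (Matrix.toLin' (P : Matrix (Fin n) (Fin n) F))
        (Matrix.toLin' ((P⁻¹ : Matrix.SpecialLinearGroup (Fin n) F) : Matrix (Fin n) (Fin n) F))
        (by rw [← Matrix.toLin'_mul, ← Matrix.SpecialLinearGroup.coe_mul, mul_inv_cancel,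
          Matrix.SpecialLinearGroup.coe_one, Matrix.toLin'_one])
        (by rw [← Matrix.toLin'_mul, ← Matrix.SpecialLinearGroup.coe_mul, inv_mul_cancel,
          Matrix.SpecialLinearGroup.coe_one, Matrix.toLin'_one])
      rw [← hdim]
      refine (LinearEquiv.finrank_eq (Q.ofSubmodules _ _ ?_))
      ext v
      rw [Submodule.mem_map_equiv]
      show _ ↔ v ∈ LinearMap.ker _
      simp only [LinearMap.mem_ker, LinearMap.sub_apply, LinearMap.smul_apply, Module.End.one_apply, sub_eq_zero,
        Matrix.toLin'_apply]
      show ((P⁻¹ * x * P : Matrix.SpecialLinearGroup (Fin n) F) : Matrix (Fin n) (Fin n) F) *ᵥ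
          (((P⁻¹ : Matrix.SpecialLinearGroup (Fin n) F) : Matrix (Fin n) (Fin n) F) *ᵥ v) =
          e • (((P⁻¹ : Matrix.SpecialLinearGroup (Fin n) F) : Matrix (Fin n) (Fin n) F) *ᵥ v) ↔ _
      rw [Matrix.mulVec_mulVec, ← Matrix.SpecialLinearGroup.coe_mul, mul_assoc, mul_inv_cancel, mul_one,
        Matrix.SpecialLinearGroup.coe_mul, ← Matrix.mulVec_mulVec, ← Matrix.mulVec_smul]
      refine ⟨fun h1 => ?_, fun h1 => by rw [h1]⟩
      have h2 := congrArg ((P : Matrix (Fin n) (Fin n) F) *ᵥ ·) h1
      simpa only [Matrix.mulVec_mulVec, ← mul_assoc, ← Matrix.SpecialLinearGroup.coe_mul, mul_inv_cancel,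
        Matrix.SpecialLinearGroup.coe_one, one_mul, Matrix.one_mulVec] using h2
    let i0 : Fin n := ⟨0, by omega⟩
    let i1 : Fin n := ⟨1, by omega⟩
    have h01 : i0 ≠ i1 := by simp [i0, i1, Fin.ext_iff]
    by_cases hodd : Odd (Fintype.card F)
    · have hlt := hno hodd
      have h2 : (2 : F) ≠ 0 := by
        intro e
        have hch : ringChar F = 2 := CharP.ringChar_of_prime_eq_zero Nat.prime_two (by exact_mod_cast e)
        have := FiniteField.even_card_iff_char_two.1 hch
        rw [Nat.odd_iff] at hodd
        omega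
      obtain ⟨g, hg⟩ := IsCyclic.exists_generator (α := Fˣ)
      have hgo : orderOf g = Fintype.card F - 1 := by
        rw [orderOf_eq_card_of_forall_mem_zpowers hg, Nat.card_eq_fintype_card, Fintype.card_units]
      set o := orderOf (g ^ n) with ho
      have hev2 : 2 ∣ o := by
        by_contra hodd'
        have hdg : (Fintype.card F - 1) = o * Nat.gcd (Fintype.card F - 1) n := by
          rw [ho, orderOf_pow' g (by omega), hgo, Nat.div_mul_cancel (Nat.gcd_dvd_left _ _)]
        have hd : 2 ^ padicValNat 2 (Fintype.card F - 1) ∣ o * Nat.gcd (Fintype.card F - 1) n :=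
          hdg ▸ pow_padicValNat_dvd
        have h1 := ((Nat.Coprime.pow_left _ ((Nat.Prime.coprime_iff_not_dvd Nat.prime_two).2 hodd')).dvd_of_dvd_mul_left
          hd).trans (Nat.gcd_dvd_right _ _)
        have := (padicValNat_dvd_iff_le (p := 2) (by omega : n ≠ 0)).1 h1
        omega
      set y : F := ((g ^ (o / 2) : Fˣ) : F) with hy
      have hy0 : y ≠ 0 := Units.ne_zero _
      have hyn : y ^ n = -1 := by
        have h1 : ((g ^ n) ^ (o / 2)) ^ 2 = 1 := by
          rw [← pow_mul, Nat.div_mul_cancel hev2, ho, pow_orderOf_eq_one]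
        have h3 : (g ^ n) ^ (o / 2) ≠ 1 := fun e => by
          have hpos : 0 < o := orderOf_pos _
          have := Nat.le_of_dvd (by omega) (orderOf_dvd_of_pow_eq_one e)
          omega
        have h4 : ((g ^ n) ^ (o / 2) : Fˣ) = ((g ^ (o / 2)) ^ n : Fˣ) := by rw [← pow_mul, ← pow_mul, Nat.mul_comm]
        rw [hy, ← Units.val_pow_eq_pow_val, ← h4]
        have h5 : (((g ^ n) ^ (o / 2) : Fˣ) : F) * (((g ^ n) ^ (o / 2) : Fˣ) : F) = 1 := by
          rw [← sq, ← Units.val_pow_eq_pow_val, h1, Units.val_one]
        exact (mul_self_eq_one_iff.1 h5).resolve_left fun e => h3 (Units.ext e)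
      let e : Fin n → F := fun l => if l = i0 then y else -y
      have hdet : (Matrix.diagonal e).det = 1 := by
        rw [Matrix.det_diagonal, ← Finset.mul_prod_erase _ _ (Finset.mem_univ i0),
          Finset.prod_congr rfl (fun j hj => show e j = -y from if_neg (Finset.ne_of_mem_erase hj)),
          Finset.prod_const, Finset.card_erase_of_mem (Finset.mem_univ i0), Finset.card_univ, Fintype.card_fin,
          show e i0 = y from if_pos rfl, Odd.neg_pow (Nat.odd_iff.2 (by omega)), mul_neg, ← pow_succ',
          show n - 1 + 1 = n by omega, hyn, neg_neg]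
      refine ⟨⟨Matrix.diagonal e, hdet⟩, y ^ 2, -y, neg_ne_zero.2 hy0, ?_, fun z hz => ?_, ?_⟩
      · show Matrix.diagonal e * Matrix.diagonal e = _
        rw [Matrix.diagonal_mul_diagonal, Matrix.smul_one_eq_diagonal]
        congr 1
        funext l
        simp only [e]
        split <;> ring
      · have h0 := congrFun (congrFun hz i0) i0
        have h1 := congrFun (congrFun hz i1) i1
        simp [e, i0, i1, Fin.ext_iff] at h0 h1
        refine h2 ((mul_eq_zero.1 (show (2 : F) * y = 0 from ?_)).resolve_right hy0)
        linear_combination h0 - h1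
      · show Module.finrank F (LinearMap.ker (Matrix.toLin' (Matrix.diagonal e) - (-y) • 1)) = n - 1
        have hker : LinearMap.ker (Matrix.toLin' (Matrix.diagonal e) - (-y) • 1) =
            LinearMap.ker (LinearMap.proj i0 : (Fin n → F) →ₗ[F] F) := by
          ext v
          simp only [LinearMap.mem_ker, LinearMap.sub_apply, LinearMap.smul_apply, Module.End.one_apply,
            LinearMap.proj_apply, Matrix.toLin'_apply, funext_iff, Pi.sub_apply, Matrix.mulVec_diagonal,
            Pi.smul_apply, Pi.zero_apply, smul_eq_mul]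
          constructor
          · intro h1
            have h3 := h1 i0
            simp only [e, if_pos] at h3
            have : (2 * y) * v i0 = 0 := by linear_combination h3
            exact (mul_eq_zero.1 this).resolve_left (mul_ne_zero h2 hy0)
          · intro h1 l
            by_cases hl : l = i0
            · subst hl; rw [h1]; ring
            · simp only [e, if_neg hl]; ring
        have h1 := LinearMap.finrank_range_add_finrank_ker (LinearMap.proj i0 : (Fin n → F) →ₗ[F] F)
        rw [LinearMap.range_eq_top.2 (LinearMap.proj_surjective i0), finrank_top, Module.finrank_self,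
          Module.finrank_fin_fun] at h1
        rw [hker]
        omega
    · have h2 : (2 : F) = 0 := by
        by_contra h2
        refine hodd (Nat.odd_iff.2 (FiniteField.odd_card_of_char_ne_two fun e => h2 ?_))
        have : ((ringChar F : ℕ) : F) = 0 := ringChar.Nat.cast_ringChar
        rwa [e, Nat.cast_two] at this
      refine ⟨⟨Matrix.transvection i0 i1 1, Matrix.det_transvection_of_ne i0 i1 h01 1⟩, 1, 1, one_ne_zero, ?_,
        fun z hz => ?_, ?_⟩
      · show Matrix.transvection i0 i1 (1 : F) * Matrix.transvection i0 i1 1 = _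
        rw [Matrix.transvection_mul_transvection_same i0 i1 h01, one_add_one_eq_two, h2, Matrix.transvection_zero, one_smul]
      · have h1 := congrFun (congrFun hz i0) i1
        simp [Matrix.transvection, Matrix.smul_apply, h01] at h1
      · show Module.finrank F (LinearMap.ker (Matrix.toLin' (Matrix.transvection i0 i1 (1 : F)) - (1 : F) • 1)) = n - 1
        have hker : LinearMap.ker (Matrix.toLin' (Matrix.transvection i0 i1 (1 : F)) - (1 : F) • 1) =
            LinearMap.ker (LinearMap.proj i1 : (Fin n → F) →ₗ[F] F) := by
          ext v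
          simp only [LinearMap.mem_ker, LinearMap.sub_apply, LinearMap.smul_apply, Module.End.one_apply,
            LinearMap.proj_apply, Matrix.toLin'_apply, Matrix.transvection, Matrix.add_mulVec,
            Matrix.one_mulVec, one_smul, add_sub_cancel_left, Matrix.single_mulVec, one_mul]
          constructor
          · intro h1; simpa using congrFun h1 i0
          · intro h1
            funext l
            rcases eq_or_ne l i0 with rfl | hl
            · simpa using h1
            · simp [Function.update_of_ne hl]
        have h1 := LinearMap.finrank_range_add_finrank_ker (LinearMap.proj i1 : (Fin n → F) →ₗ[F] F)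
        rw [LinearMap.range_eq_top.2 (LinearMap.proj_surjective i1), finrank_top, Module.finrank_self,
          Module.finrank_fin_fun] at h1
        rw [hker]
        omega
  · intro hcases x ⟨z, hxz⟩ hns
    rw [Matrix.SpecialLinearGroup.coe_pow, pow_two] at hxz
    have hJ : Matrix.toLin' j * Matrix.toLin' j = β • Matrix.toLin' j + α • 1 := by
      show Matrix.toLinAlgEquiv' j * Matrix.toLinAlgEquiv' j = β • Matrix.toLinAlgEquiv' j + α • 1
      rw [← map_mul, hjj, map_add, map_smul, map_smul, map_one]
    obtain ⟨c, hc⟩ := CfsgLib.Elusive.exists_quad_basis hJ hroot hfin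
    -- membership criterion
    have hmemN : ∀ G : Matrix.SpecialLinearGroup (Fin n) F, (∃ j' ∈ K,
        Matrix.toLin' (G : Matrix (Fin n) (Fin n) F) ∘ₗ Matrix.toLin' j =
          Matrix.toLin' j' ∘ₗ Matrix.toLin' (G : Matrix (Fin n) (Fin n) F)) →
        G ∈ (Cfsg.Geo.subalgebraNormalizer K).comap
          (Matrix.SpecialLinearGroup.toGL : Matrix.SpecialLinearGroup (Fin n) F →* GL (Fin n) F) := by
      intro G ⟨j', hj', he⟩
      refine CfsgLib.Elusive.mem_normalizer_of_conj fun k hk => ?_
      obtain ⟨a, b, rfl⟩ := hspan k hk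
      set Gu := Matrix.SpecialLinearGroup.toGL G
      have hGj : (Gu : Matrix (Fin n) (Fin n) F) * j = j' * (Gu : Matrix (Fin n) (Fin n) F) :=
        Matrix.toLin'.injective (by rw [Matrix.toLin'_mul, Matrix.toLin'_mul]; exact he)
      rw [mul_add, add_mul, mul_smul_comm, mul_smul_comm, smul_mul_assoc, smul_mul_assoc, mul_one, hGj,
        Units.mul_inv, mul_assoc, Units.mul_inv, mul_one]
      exact K.add_mem (K.smul_mem K.one_mem a) (K.smul_mem hj' b)
    let m0 : Fin m := ⟨0, by omega⟩
    have hz0 : z ≠ 0 := fun e => by
      have h1 := congrArg Matrix.det hxz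
      rw [Matrix.det_mul, x.2, one_mul, e, zero_smul, Matrix.det_zero] at h1
      · exact one_ne_zero h1
    set X := Matrix.toLin' (x : Matrix (Fin n) (Fin n) F) with hX
    have hXX : X * X = z • 1 := by
      show Matrix.toLinAlgEquiv' (x : Matrix (Fin n) (Fin n) F) * Matrix.toLinAlgEquiv' _ = z • 1
      rw [← map_mul, hxz, map_smul, map_one]
    by_cases hn2 : n = 2
    · -- two dimensional case
      have hm1 : m = 1 := by omega
      subst hm1
      subst hn2
      have htd := CfsgLib.Elusive.trace_det_of_quadratic (A := (x : Matrix (Fin 2) (Fin 2) F)) hns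
        (a := 0) (b := -z) (by rw [hxz, zero_smul, neg_smul, zero_sub, neg_neg])
      rw [x.2] at htd
      have hz1 : z = -1 := by linear_combination htd.2
      subst hz1
      have hX2 : ∀ v, X (X v) = -v := fun v => by
        have := LinearMap.congr_fun hXX v
        simpa using this
      obtain ⟨v, hv⟩ : ∃ v, LinearIndependent F ![v, X v] := by
        by_contra hno
        push Not at hno
        obtain ⟨a, ha⟩ := LinearMap.exists_eq_smul_id_of_forall_notLinearIndependent (f := X) hno
        refine hns a (Matrix.toLin'.injective ?_)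
        rw [map_smul, Matrix.toLin'_one]
        exact ha
      let b : Module.Basis (Fin 2 × Fin 1) F (Fin 2 → F) :=
        (basisOfLinearIndependentOfCardEqFinrank hv (by simp)).reindex (Equiv.prodUnique (Fin 2) (Fin 1)).symm
      have hb0 : ∀ a i, b (a, i) = ![v, X v] a := fun a i => by simp [b]
      obtain ⟨s, t, hst⟩ := CfsgLib.Elusive.exists_sum_two_squares (F := F) 0
      obtain ⟨P, hP⟩ := CfsgLib.Elusive.exists_conj_blocks x b b (fun _ => !![0, -1; 1, 0]) (fun a i => by
          rw [← hX, hb0, Fin.sum_univ_two, hb0, hb0]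
          fin_cases a <;> simp [hX2]) m0 (fun d _ => by
          obtain ⟨s, t, hst⟩ := CfsgLib.Elusive.exists_sum_two_squares (F := F) d
          exact ⟨s • 1 + t • !![0, -1; 1, 0], by simp [Matrix.det_fin_two]; linear_combination hst, by
            rw [add_mul, mul_add, smul_mul_assoc, mul_smul_comm, one_mul, mul_one, smul_mul_assoc,
              mul_smul_comm]⟩)
      -- a semilinear element with the same normal form
      obtain ⟨u0, u1, hu⟩ : ∃ u0 u1 : F, u0 ^ 2 + β * u0 * u1 - α * u1 ^ 2 = -1 := by
        by_cases h2 : (2 : F) = 0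
        · exact ⟨1, 0, by linear_combination h2⟩
        · obtain ⟨a, b, hab⟩ := FiniteField.exists_root_sum_quadratic (R := F) (f := Polynomial.X ^ 2)
            (g := Polynomial.C (-α - (β / 2) ^ 2) * Polynomial.X ^ 2 - Polynomial.C (-1))
            (Polynomial.degree_X_pow 2) (by
              have hD : -α - (β / 2) ^ 2 ≠ 0 := fun e => hroot (β / 2) (by field_simp at e ⊢; linear_combination e)
              rw [sub_eq_add_neg, ← map_neg, Polynomial.degree_add_C (by
                rw [Polynomial.degree_C_mul_X_pow 2 hD]; decide), Polynomial.degree_C_mul_X_pow 2 hD]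
              rfl) (FiniteField.odd_card_of_char_ne_two fun e => h2 (by
                have : ((ringChar F : ℕ) : F) = 0 := ringChar.Nat.cast_ringChar
                rwa [e, Nat.cast_two] at this))
          simp only [Polynomial.eval_pow, Polynomial.eval_X, Polynomial.eval_sub, Polynomial.eval_mul,
            Polynomial.eval_C] at hab
          exact ⟨a - β / 2 * b, b, by field_simp at hab ⊢; linear_combination hab⟩
      let M : Matrix (Fin 2) (Fin 2) F := !![u0, β * u0 - α * u1; u1, -u0]
      set h := Matrix.toLin c c (Matrix.blockDiagonal fun _ : Fin 1 => M) with hh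
      have hh0 : ∀ a i, h (c (a, i)) = ∑ s, M s a • c (s, i) := fun a i => CfsgLib.Elusive.blocks_apply c _ a i
      obtain ⟨g, hg⟩ := CfsgLib.Elusive.exists_sl (f := h) (by
        rw [hh, LinearMap.det_toLin, Matrix.det_blockDiagonal]
        simp [M, Matrix.det_fin_two]
        linear_combination -hu)
      have hgN : g ∈ (Cfsg.Geo.subalgebraNormalizer K).comap
          (Matrix.SpecialLinearGroup.toGL : Matrix.SpecialLinearGroup (Fin 2) F →* GL (Fin 2) F) := by
        refine hmemN g ⟨β • 1 - j, K.sub_mem (K.smul_mem K.one_mem β) hj, c.ext fun ⟨a, i⟩ => ?_⟩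
        have hJ' : ∀ v, Matrix.toLin' (β • (1 : Matrix (Fin 2) (Fin 2) F) - j) v = β • v - Matrix.toLin' j v := fun v => by
          rw [Matrix.toLin'_apply, Matrix.toLin'_apply, Matrix.sub_mulVec, Matrix.smul_mulVec, Matrix.one_mulVec]
        rw [LinearMap.comp_apply, LinearMap.comp_apply, hg, hh0, hJ', Fin.sum_univ_two]
        fin_cases a
        · show h (Matrix.toLin' j (c (0, i))) = _
          rw [(hc i).1, hh0, Fin.sum_univ_two, map_add, map_smul, map_smul]
          simp only [(hc i).1, (hc i).2]
          simp [M]
          module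
        · show h (Matrix.toLin' j (c (1, i))) = _
          rw [(hc i).2, map_add, map_smul, map_smul, hh0, hh0, Fin.sum_univ_two, Fin.sum_univ_two, map_add,
            map_smul, map_smul]
          simp only [(hc i).1, (hc i).2]
          simp [M]
          module
      have hgns : ∀ z : F, (g : Matrix (Fin 2) (Fin 2) F) ≠ z • 1 := fun y hy => by
        have hm : ∀ a : Fin 2, h (c (a, 0)) = y • c (a, 0) := fun a => by
          rw [← hg, hy, map_smul, Matrix.toLin'_one]; rfl
        have h0 := congrArg (fun w => c.repr w (1, 0)) (hm 0)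
        have h00 := congrArg (fun w => c.repr w (0, 0)) (hm 0)
        have h1 := congrArg (fun w => c.repr w (1, 0)) (hm 1)
        have h10 := congrArg (fun w => c.repr w (0, 0)) (hm 1)
        simp [hh0, Fin.sum_univ_two, M] at h0 h00 h1 h10
        subst h0
        rw [mul_zero, sub_zero] at h10
        rcases mul_eq_zero.1 h10 with hb | hu0
        · subst hb
          have h3 : (2 : F) * u0 = 0 := by linear_combination h00 - h1
          rcases mul_eq_zero.1 h3 with h4 | h4
          · obtain ⟨r, hr⟩ : ∃ r : F, r ^ 2 = α := by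
              have : CharP F 2 := CharTwo.of_one_ne_zero_of_two_eq_zero one_ne_zero h4
              exact CfsgLib.Elusive.exists_pth_root (p := 2) α
            exact hroot r (by rw [hr]; ring)
          · subst h4; simp at hu
        · subst hu0; simp at hu
      obtain ⟨w, hw⟩ : ∃ w, LinearIndependent F ![w, Matrix.toLin' (g : Matrix (Fin 2) (Fin 2) F) w] := by
        by_contra hno
        push Not at hno
        obtain ⟨a, ha⟩ := LinearMap.exists_eq_smul_id_of_forall_notLinearIndependent
          (f := Matrix.toLin' (g : Matrix (Fin 2) (Fin 2) F)) hno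
        refine hgns a (Matrix.toLin'.injective ?_)
        rw [map_smul, Matrix.toLin'_one]
        exact ha
      set G := Matrix.toLin' (g : Matrix (Fin 2) (Fin 2) F) with hG
      have hG2 : ∀ v, G (G v) = -v := by
        suffices hsq : G ∘ₗ G = -LinearMap.id from fun v => LinearMap.congr_fun hsq v
        refine c.ext fun ⟨a, i⟩ => ?_
        rw [LinearMap.comp_apply, hg, hh0, Fin.sum_univ_two, map_add, map_smul, map_smul, hh0, hh0,
          Fin.sum_univ_two, Fin.sum_univ_two, LinearMap.neg_apply, LinearMap.id_apply]
        fin_cases a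
        · simp [M]
          match_scalars <;> first | linear_combination hu | linear_combination (0 : F) * hu
        · simp [M]
          match_scalars <;> first | linear_combination hu | linear_combination (0 : F) * hu
      let b' : Module.Basis (Fin 2 × Fin 1) F (Fin 2 → F) :=
        (basisOfLinearIndependentOfCardEqFinrank hw (by simp)).reindex (Equiv.prodUnique (Fin 2) (Fin 1)).symm
      have hb' : ∀ a i, b' (a, i) = ![w, G w] a := fun a i => by simp [b']
      obtain ⟨P', hP'⟩ := CfsgLib.Elusive.exists_conj_blocks g b' b (fun _ => !![0, -1; 1, 0]) (fun a i => by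
          rw [← hG, hb', Fin.sum_univ_two, hb', hb']
          fin_cases a <;> simp [hG2]) m0 (fun d _ => by
          obtain ⟨s, t, hst⟩ := CfsgLib.Elusive.exists_sum_two_squares (F := F) d
          exact ⟨s • 1 + t • !![0, -1; 1, 0], by simp [Matrix.det_fin_two]; linear_combination hst, by
            rw [add_mul, mul_add, smul_mul_assoc, mul_smul_comm, one_mul, mul_one, smul_mul_assoc,
              mul_smul_comm]⟩)
      refine ⟨P * P'⁻¹, ?_⟩
      have he : P⁻¹ * x * P = P'⁻¹ * g * P' :=
        Subtype.ext (Matrix.toLin'.injective (hP.trans hP'.symm))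
      rw [show (P * P'⁻¹)⁻¹ * x * (P * P'⁻¹) = P' * (P⁻¹ * x * P) * P'⁻¹ by group, he,
        show P' * (P'⁻¹ * g * P') * P'⁻¹ = g by group]
      exact hgN
    · -- dimension at least four, odd characteristic
      obtain ⟨hodd, hle⟩ := hcases.resolve_left hn2
      have h2 : (2 : F) ≠ 0 := by
        intro e
        have hch : ringChar F = 2 := CharP.ringChar_of_prime_eq_zero Nat.prime_two (by exact_mod_cast e)
        have := FiniteField.even_card_iff_char_two.1 hch
        rw [Nat.odd_iff] at hodd
        omega
      by_cases hsq : ∃ y : F, y ^ 2 = z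
      · obtain ⟨y, rfl⟩ := hsq
        have hy : y ≠ 0 := fun e => hz0 (by rw [e, zero_pow two_ne_zero])
        have hzn : (y ^ 2) ^ n = 1 := by
          have := congrArg LinearMap.det hXX
          rw [map_mul, hX, LinearMap.det_toLin', x.2, one_mul, LinearMap.det_smul, map_one, mul_one,
            Module.finrank_fin_fun] at this
          exact this.symm
        obtain ⟨o, ho⟩ : 2 ^ padicValNat 2 (Fintype.card F - 1) ∣ n :=
          (padicValNat_dvd_iff_le (by omega)).2 hle
        obtain ⟨d, hd⟩ : 2 ^ padicValNat 2 (Fintype.card F - 1) ∣ Fintype.card F - 1 := pow_padicValNat_dvd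
        have hdodd : Nat.Coprime 2 d := (Nat.Prime.coprime_iff_not_dvd Nat.prime_two).2 fun h2d =>
          pow_succ_padicValNat_not_dvd (p := 2) (n := Fintype.card F - 1) (by omega)
            (by conv_rhs => rw [hd]
                rw [pow_succ]; exact Nat.mul_dvd_mul_left _ h2d)
        have hyn : y ^ n = 1 := by
          rw [← pow_mul] at hzn
          have h1 := (pow_gcd_eq_one (a := y) (m := 2 * n) (n := Fintype.card F - 1)).2
            ⟨hzn, FiniteField.pow_card_sub_one_eq_one y hy⟩
          obtain ⟨w, hw⟩ : Nat.gcd (2 * n) (Fintype.card F - 1) ∣ n := by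
            generalize 2 ^ padicValNat 2 (Fintype.card F - 1) = T at ho hd
            rw [ho, hd, ← mul_assoc, Nat.mul_comm 2 T, mul_assoc, Nat.gcd_mul_left,
              Nat.Coprime.gcd_mul_left_cancel _ hdodd]
            exact Nat.mul_dvd_mul_left _ (Nat.gcd_dvd_left _ _)
          rw [hw, pow_mul, h1, one_pow]
        set g := y⁻¹ • X with hg_def
        have hgg : g * g = 1 := by
          rw [hg_def, smul_mul_smul_comm, hXX, smul_smul]
          field_simp
          rw [one_smul]
        have hgx : X = y • g := by rw [hg_def, smul_smul, mul_inv_cancel₀ hy, one_smul]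
        have hdg : LinearMap.det g = 1 := by
          rw [hg_def, LinearMap.det_smul, hX, LinearMap.det_toLin', x.2, mul_one, Module.finrank_fin_fun, inv_pow,
            hyn, inv_one]
        obtain ⟨k, hk⟩ := CfsgLib.Elusive.involution_fix_even hgg h2 hdg hfin
        obtain ⟨b, hb⟩ := CfsgLib.Elusive.exists_involution_basis (k := k) hgg h2 hfin hk
        let H : Fin m → Matrix (Fin 2) (Fin 2) F := fun i =>
          (y * if (i : ℕ) < k then (1 : F) else -1) • 1
        have hsum : ∀ (s : F) (a : Fin 2) (v : Fin 2 → (Fin n → F)),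
            ∑ t, (s • (1 : Matrix (Fin 2) (Fin 2) F)) t a • v t = s • v a := fun s a v => by
          fin_cases a <;> simp [Fin.sum_univ_two]
        obtain ⟨P, hP⟩ := CfsgLib.Elusive.exists_conj_blocks x b c H (fun a i => by
            rw [← hX, hgx, LinearMap.smul_apply, hb, smul_smul]
            exact (hsum _ a fun t => b (t, i)).symm) m0
          (fun d _ => ⟨!![d, 0; 0, 1], by simp [Matrix.det_fin_two], by
            rw [mul_smul_comm, mul_one, smul_mul_assoc, one_mul]⟩)
        refine ⟨P, hmemN _ ⟨j, hj, ?_⟩⟩
        rw [hP]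
        have hHc : ∀ a i, Matrix.toLin c c (Matrix.blockDiagonal H) (c (a, i)) =
            (y * if (i : ℕ) < k then (1 : F) else -1) • c (a, i) := fun a i => by
          rw [CfsgLib.Elusive.blocks_apply]
          exact hsum _ a fun t => c (t, i)
        refine c.ext fun ⟨a, i⟩ => ?_
        rw [LinearMap.comp_apply, LinearMap.comp_apply, hHc]
        fin_cases a
        · show _ = Matrix.toLin' j (_ • c (0, i))
          rw [map_smul]
          exact (congrArg (Matrix.toLin c c (Matrix.blockDiagonal H)) (hc i).1).trans
            ((hHc 1 i).trans (congrArg _ (hc i).1).symm)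
        · show _ = Matrix.toLin' j (_ • c (1, i))
          rw [map_smul, (hc i).2]
          refine (congrArg (Matrix.toLin c c (Matrix.blockDiagonal H)) (hc i).2).trans ?_
          rw [map_add, map_smul, map_smul, hHc, hHc]
          module
      · push Not at hsq
        obtain ⟨b, hb⟩ := CfsgLib.Elusive.exists_kummer_basis hXX hsq hfin
        -- a square root of the scalar inside the field
        obtain ⟨u, hu⟩ : ∃ u, β = 2 * u := ⟨β / 2, by rw [mul_comm, div_mul_cancel₀ _ h2]⟩
        have hD : u ^ 2 + α ≠ 0 := fun e => hroot u (by subst hu; linear_combination -e)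
        have hc2 : ringChar F ≠ 2 := fun e => h2 (by
          have : ((ringChar F : ℕ) : F) = 0 := ringChar.Nat.cast_ringChar
          rwa [e, Nat.cast_two] at this)
        obtain ⟨r, hr⟩ : IsSquare (z / (u ^ 2 + α)) := by
          have hns1 : ¬ IsSquare z := fun ⟨r, hr⟩ => hsq r (by rw [hr, pow_two])
          have hns2 : ¬ IsSquare (u ^ 2 + α) := fun ⟨r, hr⟩ =>
            hroot (u + r) (by subst hu; linear_combination -hr)
          refine (FiniteField.isSquare_iff hc2 (div_ne_zero hz0 hD)).2 ?_
          rw [div_pow, (FiniteField.pow_dichotomy hc2 hz0).resolve_left fun e =>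
              hns1 ((FiniteField.isSquare_iff hc2 hz0).2 e),
            (FiniteField.pow_dichotomy hc2 hD).resolve_left fun e =>
              hns2 ((FiniteField.isSquare_iff hc2 hD).2 e), div_self (neg_ne_zero.2 one_ne_zero)]
        have hr' : r * r * (u ^ 2 + α) = z := by rw [← hr, div_mul_cancel₀ _ hD]
        set k : Matrix (Fin n) (Fin n) F := r • (j - u • 1) with hk_def
        have hkK : k ∈ K := K.smul_mem (K.sub_mem hj (K.smul_mem K.one_mem _)) r
        have hkk : k * k = z • 1 := by
          rw [hk_def, smul_mul_smul_comm]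
          simp only [sub_mul, mul_sub, hjj, smul_mul_assoc, mul_smul_comm, one_mul, mul_one, smul_smul]
          subst hu
          rw [← hr']
          module
        set Kl := Matrix.toLin' k with hKl
        have hKK : Kl * Kl = z • 1 := by
          show Matrix.toLinAlgEquiv' k * Matrix.toLinAlgEquiv' k = z • 1
          rw [← map_mul, hkk, map_smul, map_one]
        obtain ⟨c', hc'⟩ := CfsgLib.Elusive.exists_kummer_basis hKK hsq hfin
        let H : Fin m → Matrix (Fin 2) (Fin 2) F := fun _ => !![0, z; 1, 0]
        have hblk : Matrix.toLin c' c' (Matrix.blockDiagonal H) = Kl := c'.ext fun ⟨a, i⟩ => by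
          rw [CfsgLib.Elusive.blocks_apply, Fin.sum_univ_two]
          fin_cases a
          · simpa [H] using (hc' i).1.symm
          · simpa [H] using (hc' i).2.symm
        obtain ⟨P, hP⟩ := CfsgLib.Elusive.exists_conj_blocks x b c' H (fun a i => by
            rw [← hX, Fin.sum_univ_two]
            fin_cases a
            · simpa [H] using (hb i).1
            · simpa [H] using (hb i).2) m0 (fun d _ => by
            obtain ⟨s, t, hst⟩ := FiniteField.exists_root_sum_quadratic (R := F) (f := Polynomial.X ^ 2)
              (g := Polynomial.C (-z) * Polynomial.X ^ 2 - Polynomial.C d) (Polynomial.degree_X_pow 2)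
              (by
                rw [sub_eq_add_neg, ← map_neg, Polynomial.degree_add_C (by
                  rw [Polynomial.degree_C_mul_X_pow 2 (neg_ne_zero.2 hz0)]; decide),
                  Polynomial.degree_C_mul_X_pow 2 (neg_ne_zero.2 hz0)]
                rfl) (Nat.odd_iff.1 hodd)
            simp only [Polynomial.eval_pow, Polynomial.eval_X, Polynomial.eval_sub, Polynomial.eval_mul,
              Polynomial.eval_C] at hst
            refine ⟨s • 1 + t • !![0, z; 1, 0], ?_, ?_⟩
            · simp [Matrix.det_fin_two]
              linear_combination hst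
            · simp [H, add_mul, mul_add, mul_comm])
        refine ⟨P, hmemN _ ⟨j, hj, ?_⟩⟩
        rw [hP, hblk, hKl, ← Matrix.toLin'_mul, ← Matrix.toLin'_mul, hK.comm k hkK j hj]

end Cfsg.Agent.S5969
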