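import Cfsg.Statements.S5970
import Cfsg.Agent.Elusive.Singer

set_option autoImplicit false
open scoped MatrixGroups
open Cfsg

namespace Cfsg.Agent.S5970

open scoped Matrix

/-- Elements of order `n` of PSL_n(q), `n` prime, and the normalizer of a Singer cycle. Here `T = PSL_n(F)` for a field `F` with `q = p^f` elements (`n ≥ 2`, `(n, q) ≠ (2, 2), (2, 3)`), `k` is a prime dividing `n`, `K` is a subalgebra of the `n × n` matrices that is a field of degree `k` over `F` (an extension-field structure F_{q^k} on `F^n`), and `H` is the subgroup of matrices of determinant 1 normalizing `K` — a subgroup of type GL_{n/k}(q^k) (maximal except in some small cases; maximality is not assumed); Ω is the set of cosets of `H` in `T`, so an element of `T` of prime order `r` (a matrix `x` of determinant 1 with `x^r` scalar, `x` not scalar) fixes a point of Ω when some conjugate of `x` by a matrix of determinant 1 normalizes `K`. Take `k = n > 3` prime with `n ≠ p` (so `H` is the normalizer of a Singer cycle), and suppose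 `n` divides the index of `H`. Then every element of `T` of order `n` is conjugate in `T` into `H` if and only if the multiplicative order of `q` modulo `n` is `n − 1`. -/
theorem result {F : Type*} [Field F] [Fintype F] {p : ℕ} [Fact p.Prime] [CharP F p] {q : ℕ} (hq : Fintype.card F = q)
    (n : ℕ) (hn : 2 ≤ n) (hT : (n, q) ≠ (2, 2) ∧ (n, q) ≠ (2, 3))
    (k : ℕ) (hk : k.Prime) (hkn : k ∣ n) (K : Subalgebra F (Matrix (Fin n) (Fin n) F)) (hK : Cfsg.Geo.IsFieldSubalgebra k K) (hkn' : k = n) (hn3 : 3 < n) (hnp : n ≠ p) (hΩ : n ∣ ((Cfsg.Geo.subalgebraNormalizer K).comap (Matrix.SpecialLinearGroup.toGL : Matrix.SpecialLinearGroup (Fin n) F →* GL (Fin n) F)).index) :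
    (∀ x : Matrix.SpecialLinearGroup (Fin n) F,
      (∃ z : F, ((x ^ n : Matrix.SpecialLinearGroup (Fin n) F) : Matrix (Fin n) (Fin n) F) = z • (1 : Matrix (Fin n) (Fin n) F)) →
      (∀ z : F, (x : Matrix (Fin n) (Fin n) F) ≠ z • (1 : Matrix (Fin n) (Fin n) F)) →
      ∃ P : Matrix.SpecialLinearGroup (Fin n) F, P⁻¹ * x * P ∈ ((Cfsg.Geo.subalgebraNormalizer K).comap (Matrix.SpecialLinearGroup.toGL : Matrix.SpecialLinearGroup (Fin n) F →* GL (Fin n) F))) ↔
    orderOf (q : ZMod n) = n - 1 := by
  classical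
  subst hkn'
  subst hq
  have hn' : k.Prime := hk
  have : Fact k.Prime := ⟨hk⟩
  have hqn : ((Fintype.card F : ℕ) : ZMod k) ≠ 0 := CfsgLib.Elusive.card_ne_zero_mod (p := p) hnp
  have hnF : (k : F) ≠ 0 := CfsgLib.Elusive.cast_ne_zero_of_ne (p := p) hnp
  set i := orderOf ((Fintype.card F : ℕ) : ZMod k) with hi
  have hi0 : 0 < i := CfsgLib.Elusive.orderOf_q_pos hqn
  have hid : i ∣ k - 1 := orderOf_dvd_of_pow_eq_one (ZMod.pow_card_sub_one_eq_one hqn)
  constructor
  · intro h
    by_contra hne
    obtain ⟨x, hx1, hxk, w, u, hw, hgw, hgu, hind⟩ : ∃ x : Matrix.SpecialLinearGroup (Fin k) F,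
        (∀ z : F, (x : Matrix (Fin k) (Fin k) F) ≠ z • 1) ∧ (x : Matrix (Fin k) (Fin k) F) ^ k = 1 ∧
        ∃ w u : Fin k → F, w ≠ 0 ∧ (x : Matrix (Fin k) (Fin k) F) *ᵥ w = w ∧
          (x : Matrix (Fin k) (Fin k) F) *ᵥ u = u ∧ ∀ c : F, u ≠ c • w := by
      by_cases hi1 : i = 1
      · have hr : k ∣ Fintype.card F - 1 := CfsgLib.Elusive.dvd_card_sub_one_iff.2 (orderOf_eq_one_iff.1 hi1)
        rw [← Fintype.card_units, ← Nat.card_eq_fintype_card] at hr
        obtain ⟨ζ, hζ⟩ := exists_prime_orderOf_dvd_card' k hr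
        let e : Fin k → F := fun j => if (j : ℕ) = 0 then ζ else if (j : ℕ) = 1 then (ζ⁻¹ : Fˣ) else 1
        have hdet : (Matrix.diagonal e).det = 1 := by
          rw [Matrix.det_diagonal, ← Finset.prod_subset (Finset.subset_univ
            ({⟨0, by omega⟩, ⟨1, by omega⟩} : Finset (Fin k)))]
          · rw [Finset.prod_pair (by simp [Fin.ext_iff])]
            simp [e]
          · intro j _ hj
            simp only [Finset.mem_insert, Finset.mem_singleton, Fin.ext_iff, not_or] at hj
            simp only [e]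
            rw [if_neg hj.1, if_neg hj.2]
        refine ⟨⟨Matrix.diagonal e, hdet⟩, fun z hz => ?_, ?_, Pi.single ⟨2, by omega⟩ 1, Pi.single ⟨3, by omega⟩ 1,
          by simp, ?_, ?_, fun c hc => ?_⟩
        · have h0 := congrFun (congrFun hz ⟨0, by omega⟩) ⟨0, by omega⟩
          have h2 := congrFun (congrFun hz ⟨2, by omega⟩) ⟨2, by omega⟩
          simp [e] at h0 h2
          rw [← h2, Units.val_eq_one] at h0
          rw [h0, orderOf_one] at hζ
          exact hn'.one_lt.ne hζ
        · show Matrix.diagonal e ^ k = 1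
          rw [Matrix.diagonal_pow, ← Matrix.diagonal_one, Matrix.diagonal_eq_diagonal_iff]
          intro j
          have h1 : ζ ^ k = 1 := hζ ▸ pow_orderOf_eq_one ζ
          have h2 : (ζ⁻¹) ^ k = 1 := by rw [inv_pow, h1, inv_one]
          simp only [e, Pi.pow_apply]
          split_ifs
          · rw [← Units.val_pow_eq_pow_val, h1, Units.val_one]
          · rw [← Units.val_pow_eq_pow_val, h2, Units.val_one]
          · exact one_pow k
        · show Matrix.diagonal e *ᵥ _ = _
          ext j
          rw [Matrix.mulVec_diagonal]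
          by_cases hj : j = ⟨2, by omega⟩
          · subst hj; simp [e]
          · rw [Pi.single_eq_of_ne hj, mul_zero]
        · show Matrix.diagonal e *ᵥ _ = _
          ext j
          rw [Matrix.mulVec_diagonal]
          by_cases hj : j = ⟨3, by omega⟩
          · subst hj; simp [e]
          · rw [Pi.single_eq_of_ne hj, mul_zero]
        · have h3 := congrFun hc ⟨3, by omega⟩
          rw [Pi.single_eq_same, Pi.smul_apply, Pi.single_eq_of_ne (by simp [Fin.ext_iff]), smul_zero] at h3
          exact one_ne_zero h3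
      · have hile := Nat.le_of_dvd (by omega) hid
        obtain ⟨f, hf, hfe⟩ := CfsgLib.Elusive.exists_min_fix (F := F) (r := k) hnF hi hi0
          (n := k) (s := 1) (e := k - i) (by omega)
        obtain ⟨x, hx⟩ := CfsgLib.Elusive.exists_sl (CfsgLib.Elusive.det_eq_one (hi ▸ hi1) hf)
        have hxv : ∀ v, v ∈ CfsgLib.Elusive.fixS f → (x : Matrix (Fin k) (Fin k) F) *ᵥ v = v := fun v hv => by
          rw [← Matrix.toLin'_apply, hx]; exact CfsgLib.Elusive.mem_fixS.1 hv
        obtain ⟨w, hw, hw0⟩ := (CfsgLib.Elusive.fixS f).exists_mem_ne_zero_of_ne_bot fun e => by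
          rw [e, finrank_bot] at hfe; omega
        obtain ⟨u, hu, hwu⟩ := SetLike.exists_of_lt (lt_of_le_of_ne
          ((Submodule.span_singleton_le_iff_mem w _).2 hw) fun e => by
            rw [← e, finrank_span_singleton hw0] at hfe; omega)
        refine ⟨x, fun z hz => ?_, ?_, w, u, hw0, hxv w hw, hxv u hu,
          fun c hc => hwu (hc ▸ Submodule.smul_mem _ c (Submodule.mem_span_singleton_self w))⟩
        · have h1 := hxv w hw
          rw [hz, Matrix.smul_mulVec, Matrix.one_mulVec] at h1
          have hz1 : z = 1 := by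
            have : (z - 1) • w = 0 := by rw [sub_smul, one_smul, h1, sub_self]
            exact sub_eq_zero.1 ((smul_eq_zero.1 this).resolve_right hw0)
          have : CfsgLib.Elusive.fixS f = ⊤ := eq_top_iff.2 fun v _ => by
            rw [CfsgLib.Elusive.mem_fixS, ← hx, Matrix.toLin'_apply, hz, hz1, one_smul, Matrix.one_mulVec]
          rw [this, finrank_top, Module.finrank_fin_fun] at hfe
          omega
        · have := CfsgLib.Elusive.sl_pow_scalar (c := (1 : F)) (r := k) (by rw [hf, one_smul]) hx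
          rwa [Matrix.SpecialLinearGroup.coe_pow, one_smul] at this
    obtain ⟨P, hP⟩ := h x ⟨1, by rw [Matrix.SpecialLinearGroup.coe_pow, hxk, one_smul]⟩ hx1
    exact CfsgLib.Elusive.not_conj_of_fix hn' hK (fun e => hx1 1 (by rw [e, one_smul]; rfl)) hw hgw hgu hind P hP
  · rintro hik x ⟨z, hxz⟩ hx2
    have hi1 : i ≠ 1 := by omega
    obtain ⟨y, rfl⟩ := CfsgLib.Elusive.exists_root_of_order hi1 z
    have hf : Matrix.toLin' (x : Matrix (Fin k) (Fin k) F) ^ k = y ^ k • 1 := by
      rw [Matrix.SpecialLinearGroup.coe_pow] at hxz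
      show Matrix.toLinAlgEquiv' (x : Matrix (Fin k) (Fin k) F) ^ k = y ^ k • 1
      rw [← map_pow, hxz, map_smul, map_one]
    have hy : y ≠ 0 := by
      intro hy
      have hd := congrArg LinearMap.det hf
      rw [map_pow, LinearMap.det_toLin', x.2, one_pow, hy, zero_pow hn'.ne_zero, zero_smul,
        LinearMap.det_zero, Module.finrank_fin_fun, zero_pow (by omega)] at hd
      exact one_ne_zero hd
    set g := y⁻¹ • Matrix.toLin' (x : Matrix (Fin k) (Fin k) F) with hg_def
    have hg : g ^ k = 1 := by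
      rw [hg_def, smul_pow, hf, smul_smul, ← mul_pow, inv_mul_cancel₀ hy, one_pow, one_smul]
    have hgx : Matrix.toLin' (x : Matrix (Fin k) (Fin k) F) = y • g := by
      rw [hg_def, smul_smul, mul_inv_cancel₀ hy, one_smul]
    have hfin : Module.finrank F (Fin k → F) = k := Module.finrank_fin_fun F
    have hfix1 : ∀ f : (Fin k → F) →ₗ[F] (Fin k → F), f ^ k = 1 → f ≠ 1 →
        Module.finrank F (CfsgLib.Elusive.fixS f) = 1 := by
      intro f hf hf1
      have hs := CfsgLib.Elusive.dim_split (f := f) (⊤ : Submodule F (Fin k → F))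
      obtain ⟨w, hw⟩ := CfsgLib.Elusive.mov_dvd hf hnF (CfsgLib.Elusive.Inv.top _)
      rw [finrank_top, hfin, top_inf_eq, hw, ← hi, hik] at hs
      have hw0 : w ≠ 0 := by
        intro e
        rw [e, Nat.mul_zero, Nat.add_zero] at hs
        refine hf1 (LinearMap.ext fun v => CfsgLib.Elusive.mem_fixS.1 ?_)
        rw [Submodule.eq_top_of_finrank_eq (S := CfsgLib.Elusive.fixS f) (by omega)]
        exact Submodule.mem_top
      rcases Nat.lt_or_ge w 2 with h | h
      · obtain rfl : w = 1 := by omega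
        omega
      · have := Nat.mul_le_mul_left (k - 1) h
        omega
    have hg1 : g ≠ 1 := by
      intro e
      rw [e] at hgx
      refine hx2 y (Matrix.toLin'.injective ?_)
      rw [hgx, map_smul, Matrix.toLin'_one]; rfl
    obtain ⟨h, hh, hh1, -, hnorm⟩ := CfsgLib.Elusive.exists_frobenius hn' hK
    obtain ⟨v, hv⟩ := CfsgLib.Elusive.exists_cyclic hg hnF (hi.symm.trans hik) hfin (hfix1 g hg hg1)
    obtain ⟨w, hw⟩ := CfsgLib.Elusive.exists_cyclic hh hnF (hi.symm.trans hik) hfin (hfix1 h hh hh1)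
    obtain ⟨e₀, he₀⟩ := CfsgLib.Elusive.exists_conj_of_cyclic hg hh hfin hv hw
    obtain ⟨e, hed, he⟩ := CfsgLib.Elusive.exists_conj_det hg hnF (hfix1 g hg hg1) he₀
    obtain ⟨x', hx'⟩ := CfsgLib.Elusive.exists_sl (CfsgLib.Elusive.det_eq_one hi1 hg)
    obtain ⟨P, hP⟩ := CfsgLib.Elusive.exists_sl_conj hed he
    refine ⟨P, CfsgLib.Elusive.smul_mem_normalizer
      (g := Matrix.SpecialLinearGroup.toGL (P⁻¹ * x' * P)) (hnorm _ (hP x' hx')) hy ?_⟩
    have hxx : (x : Matrix (Fin k) (Fin k) F) = y • (x' : Matrix (Fin k) (Fin k) F) :=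
      Matrix.toLin'.injective (by rw [map_smul, hx', hgx])
    show ((P⁻¹ * x * P : Matrix.SpecialLinearGroup (Fin k) F) : Matrix (Fin k) (Fin k) F) =
      y • ((P⁻¹ * x' * P : Matrix.SpecialLinearGroup (Fin k) F) : Matrix (Fin k) (Fin k) F)
    simp only [Matrix.SpecialLinearGroup.coe_mul, hxx, Matrix.mul_smul, Matrix.smul_mul]

end Cfsg.Agent.S5970
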