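import Cfsg.Statements.S5971
import Cfsg.Agent.Elusive.Singer2
import Mathlib.LinearAlgebra.Matrix.GeneralLinearGroup.Card

set_option autoImplicit false
open scoped MatrixGroups
open Cfsg

namespace Cfsg.Agent.S5971

open scoped Matrix

/-- Elements of order 3 of PSL_3(q) and the normalizer of a Singer cycle. Here `T = PSL_n(F)` for a field `F` with `q = p^f` elements (`n ≥ 2`, `(n, q) ≠ (2, 2), (2, 3)`), `k` is a prime dividing `n`, `K` is a subalgebra of the `n × n` matrices that is a field of degree `k` over `F` (an extension-field structure F_{q^k} on `F^n`), and `H` is the subgroup of matrices of determinant 1 normalizing `K` — a subgroup of type GL_{n/k}(q^k) (maximal except in some small cases; maximality is not assumed); Ω is the set of cosets of `H` in `T`, so an element of `T` of prime order `r` (a matrix `x` of determinant 1 with `x^r` scalar, `x` not scalar) fixes a point of Ω when some conjugate of `x` by a matrix of determinant 1 normalizes `K`. Take `n = k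 = 3` and suppose 3 divides the index of `H`. Then every element of `T` of order 3 is conjugate in `T` into `H` if and only if `q ≡ 4, 7` or `8 (mod 9)`. -/
theorem result {F : Type*} [Field F] [Fintype F] {p : ℕ} [Fact p.Prime] [CharP F p] {q : ℕ} (hq : Fintype.card F = q)
    (n : ℕ) (hn : n = 3) (k : ℕ) (hk : k.Prime) (hkn : k ∣ n) (K : Subalgebra F (Matrix (Fin n) (Fin n) F)) (hK : Cfsg.Geo.IsFieldSubalgebra k K) (hk3 : k = 3) (hΩ : 3 ∣ ((Cfsg.Geo.subalgebraNormalizer K).comap (Matrix.SpecialLinearGroup.toGL : Matrix.SpecialLinearGroup (Fin n) F →* GL (Fin n) F)).index) :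
    (∀ x : Matrix.SpecialLinearGroup (Fin n) F,
      (∃ z : F, ((x ^ 3 : Matrix.SpecialLinearGroup (Fin n) F) : Matrix (Fin n) (Fin n) F) = z • (1 : Matrix (Fin n) (Fin n) F)) →
      (∀ z : F, (x : Matrix (Fin n) (Fin n) F) ≠ z • (1 : Matrix (Fin n) (Fin n) F)) →
      ∃ P : Matrix.SpecialLinearGroup (Fin n) F, P⁻¹ * x * P ∈ ((Cfsg.Geo.subalgebraNormalizer K).comap (Matrix.SpecialLinearGroup.toGL : Matrix.SpecialLinearGroup (Fin n) F →* GL (Fin n) F))) ↔
    (q % 9 = 4 ∨ q % 9 = 7 ∨ q % 9 = 8) := by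
  classical
  subst hk3
  subst hn
  subst hq
  have hn' : Nat.Prime 3 := Nat.prime_three
  have : Fact (Nat.Prime 3) := ⟨hn'⟩
  by_cases hp3 : p = 3
  · subst hp3
    obtain ⟨e, -, he⟩ := FiniteField.card F 3
    have hq3 : 3 ∣ Fintype.card F := he ▸ dvd_pow_self 3 e.pos.ne'
    refine iff_of_false (fun h => ?_) (by omega)
    let x : Matrix.SpecialLinearGroup (Fin 3) F := ⟨Matrix.transvection 0 1 (1 : F),
      Matrix.det_transvection_of_ne 0 1 (by decide) 1⟩
    have h3 : (3 : F) = 0 := by exact_mod_cast CharP.cast_eq_zero F 3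
    have hx3 : (x : Matrix (Fin 3) (Fin 3) F) ^ 3 = 1 := by
      show Matrix.transvection 0 1 (1 : F) ^ 3 = 1
      rw [pow_succ, pow_two, Matrix.transvection_mul_transvection_same _ _ (by decide),
        Matrix.transvection_mul_transvection_same _ _ (by decide),
        show (1 : F) + 1 + 1 = 0 by rw [← h3]; norm_num, Matrix.transvection_zero]
    have hns : ∀ z : F, (x : Matrix (Fin 3) (Fin 3) F) ≠ z • 1 := fun z hz => by
      have h01 := congrFun (congrFun hz 0) 1
      simp [x, Matrix.transvection] at h01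
    obtain ⟨P, hP⟩ := h x ⟨1, by rw [Matrix.SpecialLinearGroup.coe_pow, hx3, one_smul]⟩ hns
    refine CfsgLib.Elusive.not_conj_of_eigen hn' hK hns one_ne_zero (w := Pi.single 0 1) (u := Pi.single 2 1)
      (by simp) ?_ ?_ ?_ P hP
    · rw [one_smul]; ext j; fin_cases j <;> simp [x, Matrix.transvection]
    · rw [one_smul]; ext j; fin_cases j <;> simp [x, Matrix.transvection]
    · intro c hc; have := congrFun hc 2; simp at this
  have h3F : ((3 : ℕ) : F) ≠ 0 := CfsgLib.Elusive.cast_ne_zero_of_ne (p := p) (fun e => hp3 e.symm)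
  have hq0 : ((Fintype.card F : ℕ) : ZMod 3) ≠ 0 :=
    CfsgLib.Elusive.card_ne_zero_mod (p := p) (fun e => hp3 e.symm)
  have hqd : ¬ 3 ∣ Fintype.card F := fun hd => hq0 ((ZMod.natCast_eq_zero_iff _ _).2 hd)
  have hfin : Module.finrank F (Fin 3 → F) = 3 := Module.finrank_fin_fun F
  obtain ⟨h, hh, hh1, ⟨w₀, hw₀, hhw₀⟩, hnorm⟩ := CfsgLib.Elusive.exists_frobenius hn' hK
  by_cases hq2 : Fintype.card F % 3 = 2
  · have hord : orderOf ((Fintype.card F : ℕ) : ZMod 3) = 2 := by
      rw [← ZMod.natCast_mod, hq2]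
      exact orderOf_eq_prime (p := 2) rfl (fun e => absurd (congrArg ZMod.val e) (Nat.ne_of_gt Nat.one_lt_two))
    refine iff_of_true (CfsgLib.Elusive.conj_into_of_order hn' le_rfl h3F hord hK) ?_
    by_contra hR
    have h25 : Fintype.card F % 9 = 2 ∨ Fintype.card F % 9 = 5 := by omega
    obtain ⟨y, hy⟩ := CfsgLib.Elusive.exists_sl
      (CfsgLib.Elusive.det_eq_one (r := 3) (by rw [hord]; decide) hh)
    have hy3 : y ^ 3 = 1 := Subtype.ext (by
      rw [CfsgLib.Elusive.sl_pow_scalar (c := (1 : F)) (r := 3) (by rw [hh, one_smul]) hy, one_smul]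
      rfl)
    set H := (Cfsg.Geo.subalgebraNormalizer K).comap
      (Matrix.SpecialLinearGroup.toGL : Matrix.SpecialLinearGroup (Fin 3) F →* GL (Fin 3) F)
    have hyH : y ∈ H := hnorm _ hy
    have hy1 : y ≠ 1 := fun e => hh1 (by
      rw [← hy, e, Matrix.SpecialLinearGroup.coe_one, Matrix.toLin'_one]; rfl)
    have hdH : 3 ∣ Nat.card H := by
      have h1 := Subgroup.orderOf_dvd_natCard H hyH
      rwa [orderOf_eq_prime hy3 hy1] at h1
    have h9 : 3 * 3 ∣ Nat.card (GL (Fin 3) F) := by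
      refine dvd_trans ?_ (Subgroup.card_dvd_of_injective
        (Matrix.SpecialLinearGroup.toGL : Matrix.SpecialLinearGroup (Fin 3) F →* GL (Fin 3) F)
        Matrix.SpecialLinearGroup.toGL_injective)
      rw [← H.card_mul_index]
      exact Nat.mul_dvd_mul hdH hΩ
    rw [Matrix.card_GL_field, ← ZMod.natCast_eq_zero_iff, Nat.cast_prod, Fin.prod_univ_three] at h9
    have hpow : ∀ i : ℕ, i ≤ 3 → Fintype.card F ^ i ≤ Fintype.card F ^ 3 := fun i hi =>
      Nat.pow_le_pow_right Fintype.card_pos hi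
    rw [Nat.cast_sub (hpow _ (by decide)), Nat.cast_sub (hpow _ (by decide)),
      Nat.cast_sub (hpow _ (by decide))] at h9
    simp only [Nat.cast_pow] at h9
    rw [← ZMod.natCast_mod] at h9
    rcases h25 with e | e <;> rw [e] at h9 <;> exact absurd h9 (by decide)
  have hq1 : Fintype.card F % 3 = 1 := by omega
  have hu : Nat.card Fˣ = Fintype.card F - 1 := by rw [Nat.card_eq_fintype_card, Fintype.card_units]
  by_cases hq91 : Fintype.card F % 9 = 1
  · refine iff_of_false (fun hall => ?_) (by omega)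
    obtain ⟨g, hg⟩ := IsCyclic.exists_generator (α := Fˣ)
    have hgo : orderOf g = Fintype.card F - 1 := by rw [orderOf_eq_card_of_forall_mem_zpowers hg, hu]
    set u : Fˣ := g ^ ((Fintype.card F - 1) / 9) with hudef
    have hcard := Fintype.one_lt_card (α := F)
    have hu9 : orderOf u = 9 := by
      rw [hudef, orderOf_pow' g (by omega), hgo,
        Nat.gcd_eq_right (Nat.div_dvd_of_dvd (by omega)), Nat.div_div_self (by omega) (by omega)]
    have hy9 : (u : F) ^ 9 = 1 := by
      have h9 := pow_orderOf_eq_one u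
      rw [hu9] at h9
      exact (Units.val_pow_eq_pow_val u 9).symm.trans (congrArg Units.val h9)
    have hy3 : (u : F) ^ 3 ≠ 1 := fun e => by
      have : u ^ 3 = 1 := Units.ext (by rw [Units.val_pow_eq_pow_val, e, Units.val_one])
      have := Nat.le_of_dvd (by norm_num) (orderOf_dvd_of_pow_eq_one this)
      omega
    set y : F := (u : F)
    let e : Fin 3 → F := ![y, y, y ^ 7]
    have hdet : (Matrix.diagonal e).det = 1 := by
      rw [Matrix.det_diagonal, Fin.prod_univ_three]
      show y * y * y ^ 7 = 1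
      rw [← hy9]; ring
    let x : Matrix.SpecialLinearGroup (Fin 3) F := ⟨Matrix.diagonal e, hdet⟩
    have hns : ∀ z : F, (x : Matrix (Fin 3) (Fin 3) F) ≠ z • 1 := fun z hz => by
      have h0 := congrFun (congrFun hz 0) 0
      have h2 := congrFun (congrFun hz 2) 2
      simp [x, e] at h0 h2
      rw [← h0] at h2
      refine hy3 ?_
      have h6 : y ^ 6 = 1 := mul_left_cancel₀ u.ne_zero (by rw [mul_one, ← pow_succ']; exact h2)
      calc y ^ 3 = y ^ 3 * y ^ 6 := by rw [h6, mul_one]
        _ = 1 := by rw [← pow_add]; exact hy9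
    obtain ⟨P, hP⟩ := hall x ⟨y ^ 3, by
      rw [Matrix.SpecialLinearGroup.coe_pow]
      show Matrix.diagonal e ^ 3 = _
      rw [Matrix.diagonal_pow, Matrix.smul_one_eq_diagonal]
      congr 1
      funext j
      fin_cases j
      · rfl
      · rfl
      · show (y ^ 7) ^ 3 = y ^ 3
        rw [← pow_mul, show 7 * 3 = 9 * 2 + 3 from rfl, pow_add, pow_mul, hy9, one_pow, one_mul]⟩ hns
    refine CfsgLib.Elusive.not_conj_of_eigen hn' hK hns u.ne_zero (w := Pi.single 0 1) (u := Pi.single 1 1)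
      (by simp) ?_ ?_ ?_ P hP
    · ext j; fin_cases j <;> simp [x, e, y, Matrix.mulVec_diagonal]
    · ext j; fin_cases j <;> simp [x, e, y, Matrix.mulVec_diagonal]
    · intro c hc; have := congrFun hc 1; simp at this
  refine iff_of_true (fun x ⟨z, hxz⟩ hx2 => ?_) (by omega)
  have h3dvd : 3 ∣ Nat.card Fˣ := by rw [hu]; omega
  obtain ⟨ζ, hζ⟩ := exists_prime_orderOf_dvd_card' 3 h3dvd
  have hω : IsPrimitiveRoot (ζ : F) 3 := IsPrimitiveRoot.coe_units_iff.2 (hζ ▸ IsPrimitiveRoot.orderOf ζ)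
  have hf : Matrix.toLin' (x : Matrix (Fin 3) (Fin 3) F) ^ 3 = z • 1 := by
    rw [Matrix.SpecialLinearGroup.coe_pow] at hxz
    show Matrix.toLinAlgEquiv' (x : Matrix (Fin 3) (Fin 3) F) ^ 3 = z • 1
    rw [← map_pow, hxz, map_smul, map_one]
  have hdetf : LinearMap.det (Matrix.toLin' (x : Matrix (Fin 3) (Fin 3) F)) = 1 := by
    rw [LinearMap.det_toLin', x.2]
  have hz3 : z ^ 3 = 1 := by
    have := congrArg LinearMap.det hf
    rw [map_pow, hdetf, one_pow, LinearMap.det_smul, map_one, mul_one, hfin] at this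
    exact this.symm
  have hz1 : z = 1 := by
    by_cases hc : ∀ y : F, y ^ 3 ≠ z
    · have := CfsgLib.Elusive.kum_det 1 (Fin 3 → F) _ hf hc (by rw [hfin])
      rw [hdetf, pow_one] at this
      norm_num at this
      exact this.symm
    · push Not at hc
      obtain ⟨y, rfl⟩ := hc
      rw [← pow_mul] at hz3
      have hy0 : y ≠ 0 := fun e => by rw [e, zero_pow (by norm_num)] at hz3; exact zero_ne_one hz3
      have h2 := (pow_gcd_eq_one (a := y) (m := 3 * 3) (n := Fintype.card F - 1)).2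
        ⟨hz3, FiniteField.pow_card_sub_one_eq_one y hy0⟩
      rwa [show Nat.gcd (3 * 3) (Fintype.card F - 1) = 3 by
        rw [Nat.gcd_rec]
        rcases (show (Fintype.card F - 1) % (3 * 3) = 3 ∨ (Fintype.card F - 1) % (3 * 3) = 6 by omega)
          with e | e <;> rw [e] <;> rfl] at h2
  subst hz1
  rw [one_smul] at hf
  set f := Matrix.toLin' (x : Matrix (Fin 3) (Fin 3) F) with hfdef
  have hωj : ∀ j : Fin 3, (ζ : F) ^ (j : ℕ) ≠ 0 := fun j => pow_ne_zero _ ζ.ne_zero
  have hker : ∀ (g : (Fin 3 → F) →ₗ[F] (Fin 3 → F)) (c : F), c ≠ 0 →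
      LinearMap.ker (g - c • 1) = CfsgLib.Elusive.fixS (c⁻¹ • g) := fun g c hc => by
    ext v
    rw [LinearMap.mem_ker, CfsgLib.Elusive.mem_fixS, LinearMap.sub_apply, sub_eq_zero, LinearMap.smul_apply,
      LinearMap.smul_apply, Module.End.one_apply, inv_smul_eq_iff₀ hc]
  obtain ⟨b, hb⟩ := CfsgLib.Elusive.exists_eigen_basis hω hfin hf fun j => by
    rw [hker f _ (hωj j)]
    by_contra hlt
    have hc3 : ((ζ : F) ^ (j : ℕ))⁻¹ ^ 3 = 1 := by
      rw [inv_pow, ← pow_mul, Nat.mul_comm, pow_mul, hω.pow_eq_one, one_pow, inv_one]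
    have h1 := CfsgLib.Elusive.eq_one_of_fix_two (f := ((ζ : F) ^ (j : ℕ))⁻¹ • f) hfin
      (by rw [smul_pow, hf, hc3, one_smul]) h3F
      (by rw [LinearMap.det_smul, hfin, hc3, hdetf, mul_one]) (by omega)
    rw [inv_smul_eq_iff₀ (hωj j)] at h1
    exact hx2 _ (Matrix.toLin'.injective (by rw [map_smul, Matrix.toLin'_one, ← hfdef, h1]; rfl))
  have hMd : (LinearMap.toMatrix' h).det ≠ 0 := by
    rw [LinearMap.det_toMatrix']
    intro e
    have h1 := congrArg LinearMap.det hh
    rw [map_pow, e, map_one, zero_pow (by norm_num)] at h1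
    exact zero_ne_one h1
  have hG : Matrix.GeneralLinearGroup.mkOfDetNeZero _ hMd ∈ Cfsg.Geo.subalgebraNormalizer K :=
    hnorm _ (Matrix.toLin'_toMatrix' h)
  set G := Matrix.GeneralLinearGroup.mkOfDetNeZero _ hMd
  obtain ⟨b', hb'⟩ := CfsgLib.Elusive.exists_eigen_basis hω hfin hh fun j => by
    rw [hker h _ (hωj j)]
    set c := (ζ : F) ^ (j : ℕ)
    let g : GL (Fin 3) F := Units.map (Matrix.scalar (Fin 3) : F →+* Matrix (Fin 3) (Fin 3) F).toMonoidHom
      (Units.mk0 c⁻¹ (inv_ne_zero (hωj j))) * G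
    have hge : (g : Matrix (Fin 3) (Fin 3) F) = c⁻¹ • (G : Matrix (Fin 3) (Fin 3) F) := by
      simp [g, Matrix.smul_eq_diagonal_mul]
    have hg := CfsgLib.Elusive.smul_mem_normalizer hG (inv_ne_zero (hωj j)) hge
    have hgl : Matrix.toLin' (g : Matrix (Fin 3) (Fin 3) F) = c⁻¹ • h := by
      rw [hge, map_smul]; exact congrArg _ (Matrix.toLin'_toMatrix' h)
    have hg1 : g ≠ 1 := by
      intro e
      rw [e, Units.val_one, Matrix.toLin'_one] at hgl
      have h1 : w₀ = c⁻¹ • w₀ := by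
        have := LinearMap.congr_fun hgl w₀
        rwa [LinearMap.id_apply, LinearMap.smul_apply, hhw₀] at this
      have hc1 : c⁻¹ = 1 := by
        have : (c⁻¹ - 1) • w₀ = 0 := by rw [sub_smul, one_smul, ← h1, sub_self]
        exact sub_eq_zero.1 ((smul_eq_zero.1 this).resolve_right hw₀)
      rw [hc1, one_smul] at hgl
      exact hh1 hgl.symm
    rcases eq_or_ne (CfsgLib.Elusive.fixS (c⁻¹ • h)) ⊥ with e | e
    · rw [e, finrank_bot]; exact Nat.zero_le _
    obtain ⟨v, hv, hv0⟩ := Submodule.exists_mem_ne_zero_of_ne_bot e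
    refine (Submodule.finrank_mono (t := Submodule.span F {v}) fun u hu => ?_).trans
      (finrank_span_singleton hv0).le
    rw [CfsgLib.Elusive.mem_fixS, ← hgl, Matrix.toLin'_apply] at hv hu
    obtain ⟨d, rfl⟩ := CfsgLib.Elusive.fixed_le_one hn' hK hg hg1 hv0 hv hu
    exact Submodule.smul_mem _ _ (Submodule.mem_span_singleton_self v)
  have he0 : ∀ v, (b.equiv b' (Equiv.refl _)) (f v) = h ((b.equiv b' (Equiv.refl _)) v) :=
    LinearMap.congr_fun (show (b.equiv b' (Equiv.refl _)).toLinearMap ∘ₗ f =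
      h ∘ₗ (b.equiv b' (Equiv.refl _)).toLinearMap from b.ext fun i => by
        simp [hb, hb', map_smul, Module.Basis.equiv_apply])
  have hfix : Module.finrank F (CfsgLib.Elusive.fixS f) = 1 := by
    have hle : Module.finrank F (CfsgLib.Elusive.fixS f) ≤ 1 := by
      by_contra hlt
      have h1 := CfsgLib.Elusive.eq_one_of_fix_two hfin hf h3F hdetf (by omega)
      exact hx2 1 (Matrix.toLin'.injective (by rw [map_smul, Matrix.toLin'_one, ← hfdef, h1, one_smul]; rfl))
    have hmem : b 0 ∈ CfsgLib.Elusive.fixS f :=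
      CfsgLib.Elusive.mem_fixS.2 (by rw [hb, Fin.val_zero, pow_zero, one_smul])
    have : Module.finrank F (CfsgLib.Elusive.fixS f) ≠ 0 := fun e => b.ne_zero 0 (by
      rwa [Submodule.finrank_eq_zero.1 e, Submodule.mem_bot] at hmem)
    omega
  obtain ⟨e, hed, he⟩ := CfsgLib.Elusive.exists_conj_det (n := 3) hf h3F hfix he0
  obtain ⟨P, hP⟩ := CfsgLib.Elusive.exists_sl_conj hed he
  exact ⟨P, hnorm _ (hP x rfl)⟩

end Cfsg.Agent.S5971
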