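import Cfsg.Statements.S5972
import Cfsg.Agent.Elusive2.OrthSingMain
-- import your own Cfsg.Agent.* helpers here

set_option autoImplicit false
open scoped MatrixGroups
open Cfsg

namespace Cfsg.Agent.S5972

open Module CfsgLib.Elusive CfsgLib.Elusive2

/-- Elements of prime order of Ω_n(q), n = 2d+1 ≥ 7, q odd, with no fixed totally singular `m`-space. Here `T = Ω_n(q)` is realised as the commutator subgroup of the isometry group of the quadratic form `x₀² + Σ xᵢyᵢ` over the field `F` with `q` elements (it has trivial centre, so its elements of prime order `r` are used directly); let `1 ≤ m ≤ d` and let `r` be a prime dividing the number of totally singular `m`-spaces. For `r ≠ p` let `i` be the multiplicative order of `q` modulo `r`, `c = i` for `i` even and `c = 2i` for `i` odd, and write `k = n mod c`, `ℓ = m mod i`, `n' = ⌊n/i⌋`, `m' = ⌊m/i⌋`, `t = (r−1)/i`. Then every element of `T` of order `r` fixes some totally singular `m`-space if and only if either (i) `r =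 2` and (`m < (n−1)/2` or `q ≡ 1 (mod 4)`); or (ii) `r ≠ p` is odd, `i ≤ m`, `k > 2ℓ`, and (`i` is odd or `n' − 2m' ≥ t`). -/
theorem result {F : Type*} [Field F] [Fintype F] {p : ℕ} [Fact p.Prime] [CharP F p] {q : ℕ} (hq : Fintype.card F = q) (hqodd : Odd q)
    (d m : ℕ) (hd : 3 ≤ d) (hm : 1 ≤ m) (hmd : m ≤ d)
    (r : ℕ) [Fact r.Prime]
    (hrΩ : r ∣ Nat.card {W : Submodule F (Unit ⊕ (Fin d ⊕ Fin d) → F) // Module.finrank F ↥W = m ∧ (∀ w ∈ W, Cfsg.quadFormOdd d F w = 0)})
    (i c : ℕ) (hi : i = orderOf (q : ZMod r)) (hc : c = if Even i then i else 2 * i) :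
    (∀ x : GL (Unit ⊕ (Fin d ⊕ Fin d)) F, x ∈ Cfsg.Geo.omegaGL (Cfsg.quadFormOdd d F) → orderOf x = r →
      ∃ W : Submodule F (Unit ⊕ (Fin d ⊕ Fin d) → F), Module.finrank F ↥W = m ∧ (∀ w ∈ W, Cfsg.quadFormOdd d F w = 0) ∧
        W.map (Matrix.toLin' (x : Matrix (Unit ⊕ (Fin d ⊕ Fin d)) (Unit ⊕ (Fin d ⊕ Fin d)) F)) ≤ W) ↔
    ((r = 2 ∧ (m < d ∨ q % 4 = 1)) ∨
     (r ≠ p ∧ 2 < r ∧ i ≤ m ∧ 2 * (m % i) < (2 * d + 1) % c ∧ (Odd i ∨ (r - 1) / i + 2 * (m / i) ≤ (2 * d + 1) / i))) := by
  classical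
  subst hq
  have hchar : ringChar F ≠ 2 := fun h => by
    have := FiniteField.even_card_of_char_two h
    rw [Nat.odd_iff] at hqodd
    omega
  have h2 : (2 : F) ≠ 0 := Ring.two_ne_zero hchar
  have hQc : Cfsg.quadFormOdd d F = ⇑(CfsgLib.Quad.oddQ (F := F) d) := (CfsgLib.Quad.oddQ_coe d).symm
  have hQ := CfsgLib.Quad.oddQ_nondeg h2 d
  have hn : finrank F (Unit ⊕ (Fin d ⊕ Fin d) → F) = 2 * d + 1 := by
    rw [finrank_fintype_fun_eq_card]; simp [two_mul]; ring
  have hgen : (∃ t : F, t ≠ 0 ∧ t ≠ 1) ∨ finrank F (Unit ⊕ (Fin d ⊕ Fin d) → F) ≠ 4 := Or.inr (by rw [hn]; omega)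
  rw [hQc] at hrΩ ⊢
  simp only [← and_assoc] at hrΩ ⊢
  rcases eq_or_ne r p with hrp | hrp
  · subst hrp
    exact absurd hrΩ (not_dvd_card_sing (p := r) (ndg_top_iff.2 hQ) (by rw [hn]; omega))
  rcases eq_or_ne r 2 with hr2 | hr2
  · subst hr2
    simp only [lt_irrefl, false_and, and_false, or_false, true_and]
    rw [← isSquare_neg_one_iff_mod hqodd]
    constructor
    · intro hall
      by_contra hcon
      push Not at hcon
      obtain ⟨g, hg, hgg, hns, hno⟩ := exists_involution_no_sing h2 hcon.2 hQ (by rw [hn]; omega)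
      obtain ⟨x, hx, hv, hk, hone⟩ := exists_matrix hg
      obtain ⟨W, ⟨hWd, hW0⟩, hle⟩ := hall x hx (orderOf_eq_prime (hk 2 (by rw [pow_two]; exact hgg)) fun e => by
        obtain ⟨v, hv'⟩ := hns 1
        exact hv' (by rw [hone e, one_smul]; rfl))
      rcases hno W ((map_le_iff hv W).1 hle) hW0 with h | ⟨h, -⟩ <;> omega
    · intro hR x hx ho
      obtain ⟨g, hg, hv⟩ := exists_elt hx
      obtain ⟨W, hWd, hW0, hinv⟩ := involution_sing_odd h2 hQ hgen hn hmd hR.symm hg (fun v => by
        rw [← hv, ← hv, Matrix.mulVec_mulVec, ← Units.val_mul,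
          show x * x = 1 by rw [← pow_two, ← ho]; exact pow_orderOf_eq_one x]
        exact Matrix.one_mulVec v)
      exact ⟨W, ⟨hWd, hW0⟩, (map_le_iff hv W).2 hinv⟩
  have hr3 : 2 < r := lt_of_le_of_ne (Fact.out : r.Prime).two_le (Ne.symm hr2)
  have hrF : (r : F) ≠ 0 := cast_ne_zero_of_ne (p := p) hrp
  have hi' : i = ordq F r := hi
  have hic : c = blockDim i := by rw [hc]; rfl
  have hall := all_fix_sing (m := m) hQ hrF hr2 hn (by omega) True
    (fun h => absurd h (Nat.not_even_iff_odd.2 ⟨d, rfl⟩)) hrΩ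
  rw [forall_order_iff hQ hgen hr2 fun W => finrank F W = m ∧ ∀ w ∈ W, (CfsgLib.Quad.oddQ (F := F) d) w = 0]
  rw [← hi'] at hall
  rw [hall]
  simp only [SingCrit, Room, ← hic]
  have hc0 : 0 < c := hic ▸ hi' ▸ blockDim_pos hrF
  have hc2 : c % 2 = 0 := Nat.even_iff.1 (hic ▸ blockDim_even i)
  have hne : r ≠ p ↔ True := iff_true_intro hrp
  simp only [hr2, hne, hr3, false_and, false_or, true_and]
  have hN0 := Nat.div_add_mod (2 * d + 1) c
  rw [Nat.mul_comm] at hN0
  have hN1 := Nat.mod_lt (2 * d + 1) hc0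
  have hk2 : (2 * d + 1) % c % 2 = (2 * d + 1) % 2 := Nat.mod_mod_of_dvd _ (Nat.dvd_of_mod_eq_zero hc2)
  rcases Nat.even_or_odd i with hi2 | hi2
  · have hci : c = i := by rw [hic, blockDim, if_pos hi2]
    subst hci
    obtain ⟨hd1, hd2⟩ := sing_data (2 * d + 1) m c ((r - 1) / c)
    obtain ⟨hlt, heq, hgt⟩ := mul_cases ((r - 1) / c + 2 * (m / c)) ((2 * d + 1) / c) c
    rw [hd1]
    have hl := Nat.mod_lt m hc0
    by_cases hbad : BadTop (2 * d + 1) c True
    · rw [topS, if_pos hbad]
      simp only [BadTop, ← hic, blkType, Nat.not_odd_iff_even.2 hi2, hi2, false_or, false_and, or_false, true_and, true_iff, false_iff,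
        Nat.not_even_iff, Nat.even_iff, Nat.odd_iff, imp_self, forall_const, and_true, true_implies] at hbad ⊢
      obtain ⟨N, hNe⟩ : ∃ N, (2 * d + 1) / c = N + 1 := ⟨(2 * d + 1) / c - 1, by
        rcases Nat.eq_zero_or_pos ((2 * d + 1) / c) with e | e
        · rw [e] at hN0; omega
        · omega⟩
      obtain ⟨hlt', heq', hgt'⟩ := mul_cases ((r - 1) / c + 2 * (m / c)) N c
      simp only [hNe, Nat.add_sub_cancel, Nat.add_mul, Nat.one_mul] at hN0 hd2 hlt heq hgt hlt' heq' hgt' hbad ⊢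
      omega
    · rw [topS, if_neg hbad]
      simp only [BadTop, ← hic, blkType, Nat.not_odd_iff_even.2 hi2, hi2, false_or, false_and, or_false, true_and, true_iff, false_iff,
        Nat.not_even_iff, Nat.even_iff, Nat.odd_iff, imp_self, forall_const, and_true, true_implies] at hbad ⊢
      omega
  · have hne2 : ¬ Even i := Nat.not_even_iff_odd.2 hi2
    have hl := Nat.mod_lt m (show 0 < i from hi' ▸ ordq_pos hrF)
    have hc2i : c = 2 * i := by rw [hic, blockDim, if_neg hne2]
    by_cases hbad : BadTop (2 * d + 1) i True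
    · rw [topS, if_pos hbad]
      simp only [BadTop, ← hic, blkType, hi2, hne2, true_or, false_and, or_false, false_or, true_and, and_true,
        true_iff, false_iff, iff_true, not_true, not_false_eq_true, and_false, false_implies, imp_true_iff] at hbad ⊢
      all_goals
        obtain ⟨N, hNe⟩ : ∃ N, (2 * d + 1) / c = N + 1 := ⟨(2 * d + 1) / c - 1, by
          rcases Nat.eq_zero_or_pos ((2 * d + 1) / c) with e | e
          · rw [e] at hN0; omega
          · omega⟩
        simp only [hNe, Nat.add_sub_cancel, Nat.add_mul, Nat.one_mul] at hN0 hbad ⊢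
        omega
    · rw [topS, if_neg hbad]
      simp only [BadTop, ← hic, blkType, hi2, hne2, true_or, false_and, or_false, false_or, true_and, and_true,
        true_iff, false_iff, iff_true, not_true, not_false_eq_true, and_false, false_implies, imp_true_iff] at hbad ⊢
      all_goals omega

end Cfsg.Agent.S5972
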