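import Cfsg.Statements.S5979
import Cfsg.Agent.Elusive.Construct
import Cfsg.Agent.Elusive.SympNormal
import Mathlib.LinearAlgebra.Matrix.Kronecker
import Cfsg.Agent.Geo.Basic

set_option autoImplicit false
open scoped MatrixGroups
open Cfsg

namespace Cfsg.Agent.S5979
open scoped Matrix Kronecker

set_option maxHeartbeats 2000000

/-- Elements of prime order of PSL_n(q) and the stabilizers of tensor decompositions with factors of different dimensions. Here `T = PSL_n(F)` for a field `F` with `q` elements and `n = a·b` with `2 ≤ a < b`; a tensor decomposition `F^n ≅ F^a ⊗ F^b` is given by a bijection `e` of index sets and a change of basis `P`, and `H` is the subgroup of matrices of determinant 1 in its stabilizer (the conjugate by `P` of the group of Kronecker products `g₁ ⊗ g₂`) — a subgroup of type GL_a(q) ⊗ GL_b(q) (maximality is not assumed); Ω is the set of cosets of `H` in `T`, so an element of `T` of prime order `r` (a matrix `x` of determinant 1 with `x^r` scalar, `x` not scalar) fixes a point of Ω exactly when some conjugate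 of `x` by a matrix of determinant 1 lies in `H`. Let `r` be a prime dividing the index of `H`. Then every element of `T` of order `r` fixes a point of Ω if and only if `r = 2`, `a = 2`, `q` is odd and `(q − 1)_2 ≤ (n)_2` (2-parts). -/
theorem result {F : Type*} [Field F] [Fintype F] {p : ℕ} [Fact p.Prime] [CharP F p] {q : ℕ} (hq : Fintype.card F = q)
    (n a b : ℕ) (hab : n = a * b) (ha : 2 ≤ a) (hlt : a < b) (e : Fin n ≃ Fin a × Fin b) (P : GL (Fin n) F)
    (r : ℕ) [Fact r.Prime]
    (hΩ : r ∣ (Cfsg.Geo.tensorProductSubgroup a b e P).relIndex (Cfsg.Geo.specialLinear (Fin n) F)) :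
    (∀ x ∈ Cfsg.Geo.specialLinear (Fin n) F, (∃ z : F, ((x ^ r : GL (Fin n) F) : Matrix (Fin n) (Fin n) F) = z • (1 : Matrix (Fin n) (Fin n) F)) →
      (∀ z : F, (x : Matrix (Fin n) (Fin n) F) ≠ z • (1 : Matrix (Fin n) (Fin n) F)) →
      ∃ g ∈ Cfsg.Geo.specialLinear (Fin n) F, g⁻¹ * x * g ∈ Cfsg.Geo.tensorProductSubgroup a b e P) ↔
    (r = 2 ∧ a = 2 ∧ Odd q ∧ padicValNat 2 (q - 1) ≤ padicValNat 2 n) := by
  classical
  subst hq
  subst hab
  have hrr : r.Prime := Fact.out
  have hpp : p.Prime := Fact.out
  have hn2 : 2 ≤ a * b := le_trans ha (Nat.le_mul_of_pos_right a (by omega))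
  have hmemK : ∀ y : GL (Fin (a * b)) F, y ∈ Cfsg.Geo.tensorProductSubgroup a b e P ↔
      ∃ (A : GL (Fin a) F) (B : GL (Fin b) F), (y : Matrix (Fin (a * b)) (Fin (a * b)) F) = (P : Matrix (Fin (a * b)) (Fin (a * b)) F) *
        ((A : Matrix (Fin a) (Fin a) F) ⊗ₖ (B : Matrix (Fin b) (Fin b) F)).submatrix e e * ((P⁻¹ : GL (Fin (a * b)) F) : Matrix (Fin (a * b)) (Fin (a * b)) F) := by
    intro y
    constructor
    · rintro ⟨_, ⟨k, ⟨A, B, hk⟩, rfl⟩, rfl⟩
      refine ⟨A, B, ?_⟩
      simp [Cfsg.Geo.glReindex, hk, Matrix.reindexAlgEquiv_apply]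
    · rintro ⟨A, B, hy⟩
      let k : GL (Fin a × Fin b) F :=
        ⟨(A : Matrix (Fin a) (Fin a) F) ⊗ₖ (B : Matrix (Fin b) (Fin b) F),
          ((A⁻¹ : GL (Fin a) F) : Matrix (Fin a) (Fin a) F) ⊗ₖ ((B⁻¹ : GL (Fin b) F) : Matrix (Fin b) (Fin b) F),
          by rw [← Matrix.mul_kronecker_mul, Units.mul_inv, Units.mul_inv, Matrix.one_kronecker_one],
          by rw [← Matrix.mul_kronecker_mul, Units.inv_mul, Units.inv_mul, Matrix.one_kronecker_one]⟩
      refine ⟨_, ⟨k, ⟨A, B, rfl⟩, rfl⟩, Units.ext ?_⟩
      rw [hy]
      simp [Cfsg.Geo.glReindex, k, Matrix.reindexAlgEquiv_apply]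
  constructor
  · intro hall
    -- conjugates of tensor products
    have hwit : ∀ x : GL (Fin (a * b)) F, (∃ g ∈ Cfsg.Geo.specialLinear (Fin (a * b)) F, g⁻¹ * x * g ∈ Cfsg.Geo.tensorProductSubgroup a b e P) →
        ∃ (A : GL (Fin a) F) (B : GL (Fin b) F) (E : (Fin (a * b) → F) ≃ₗ[F] Matrix (Fin a) (Fin b) F),
          ∀ v, E ((x : Matrix (Fin (a * b)) (Fin (a * b)) F) *ᵥ v) = (A : Matrix (Fin a) (Fin a) F) * E v * (B : Matrix (Fin b) (Fin b) F).transpose := by
      rintro x ⟨g, -, hg⟩
      obtain ⟨A, B, hy⟩ := (hmemK _).1 hg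
      set Q := g * P with hQ
      have hx : (x : Matrix (Fin (a * b)) (Fin (a * b)) F) = (Q : Matrix (Fin (a * b)) (Fin (a * b)) F) *
          ((A : Matrix (Fin a) (Fin a) F) ⊗ₖ (B : Matrix (Fin b) (Fin b) F)).submatrix e e * ((Q⁻¹ : GL (Fin (a * b)) F) : Matrix (Fin (a * b)) (Fin (a * b)) F) := by
        have h1 : x = g * (g⁻¹ * x * g) * g⁻¹ := by group
        rw [h1, Units.val_mul, Units.val_mul _ (g⁻¹ * x * g), hy, hQ, mul_inv_rev, Units.val_mul, Units.val_mul]
        simp only [Matrix.mul_assoc]
      let L : (Fin (a * b) → F) →ₗ[F] Matrix (Fin a) (Fin b) F :=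
        { toFun := fun v => Matrix.of fun s i => (((Q⁻¹ : GL (Fin (a * b)) F) : Matrix (Fin (a * b)) (Fin (a * b)) F) *ᵥ v) (e.symm (s, i))
          map_add' := fun u v => by ext s i; simp [Matrix.mulVec_add]
          map_smul' := fun c v => by ext s i; simp [Matrix.mulVec_smul] }
      have hinj : Function.Injective L := fun u v huv => by
        have h1 : ((Q⁻¹ : GL (Fin (a * b)) F) : Matrix (Fin (a * b)) (Fin (a * b)) F) *ᵥ u = ((Q⁻¹ : GL (Fin (a * b)) F) : Matrix (Fin (a * b)) (Fin (a * b)) F) *ᵥ v :=
          funext fun j => by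
            have := congrFun (congrFun huv (e j).1) (e j).2
            simpa [L] using this
        have h2 := congrArg (fun w => (Q : Matrix (Fin (a * b)) (Fin (a * b)) F) *ᵥ w) h1
        simpa [Matrix.mulVec_mulVec] using h2
      refine ⟨A, B, LinearEquiv.ofBijective L ⟨hinj, ?_⟩, fun v => ?_⟩
      · refine (LinearMap.injective_iff_surjective_of_finrank_eq_finrank ?_).1 hinj
        rw [Module.finrank_fin_fun, Module.finrank_matrix, Fintype.card_fin, Fintype.card_fin, Module.finrank_self, mul_one]
      · ext s i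
        show (((Q⁻¹ : GL (Fin (a * b)) F) : Matrix (Fin (a * b)) (Fin (a * b)) F) *ᵥ ((x : Matrix (Fin (a * b)) (Fin (a * b)) F) *ᵥ v)) (e.symm (s, i)) =
          ((A : Matrix (Fin a) (Fin a) F) * L v * (B : Matrix (Fin b) (Fin b) F).transpose) s i
        rw [hx, Matrix.mulVec_mulVec, ← Matrix.mul_assoc, ← Matrix.mul_assoc, Units.inv_mul, Matrix.one_mul, ← Matrix.mulVec_mulVec,
          Matrix.submatrix_mulVec_equiv, Function.comp_apply, Equiv.apply_symm_apply, Matrix.mulVec, dotProduct,
          Fintype.sum_prod_type, Matrix.mul_apply]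
        simp only [Matrix.mul_apply, Matrix.transpose_apply, Matrix.kroneckerMap_apply, Function.comp_apply, Finset.sum_mul, L,
          LinearMap.coe_mk, AddHom.coe_mk, Matrix.of_apply]
        rw [Finset.sum_comm]
        refine Finset.sum_congr rfl fun i' _ => Finset.sum_congr rfl fun s' _ => ?_
        ring
    -- the eigenspaces of a tensor product
    let S : Matrix (Fin a) (Fin a) F → Matrix (Fin b) (Fin b) F → F → Submodule F (Matrix (Fin a) (Fin b) F) := fun A B lam =>
      LinearMap.ker ({ toFun := fun Y => A * Y * B.transpose - lam • Y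
                       map_add' := fun Y Z => by rw [Matrix.mul_add, Matrix.add_mul, smul_add]; abel
                       map_smul' := fun c Y => by
                         rw [Matrix.mul_smul, Matrix.smul_mul, RingHom.id_apply, smul_comm lam c, smul_sub] } :
        Matrix (Fin a) (Fin b) F →ₗ[F] Matrix (Fin a) (Fin b) F)
    have hS : ∀ A B lam Y, Y ∈ S A B lam ↔ A * Y * B.transpose = lam • Y := fun A B lam Y => by
      simp [S, sub_eq_zero]
    have hbig : ∀ (A : Matrix (Fin a) (Fin a) F) (B : Matrix (Fin b) (Fin b) F) (lam : F), lam ≠ 0 →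
        (∀ c : F, A ≠ c • 1) → Module.finrank F (S A B lam) + b ≤ a * b := by
      intro A B lam hlam hA
      obtain ⟨u, hu⟩ : ∃ u : Fin a → F, LinearIndependent F ![u, u ᵥ* A] := by
        by_contra hcon
        push Not at hcon
        have key : ∀ u : Fin a → F, u ≠ 0 → ∃ c : F, c • u = u ᵥ* A := fun u hu => by
          have h := hcon u
          rw [LinearIndependent.pair_iff' hu] at h
          push Not at h
          exact h
        have hs : ∀ s : Fin a, (Pi.single s (1 : F) : Fin a → F) ≠ 0 := fun s h => by simpa using congrFun h s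
        choose c hc using fun s => key _ (hs s)
        have hrow : ∀ s t, A s t = if s = t then c s else 0 := fun s t => by
          have h := congrFun (hc s) t
          rw [Matrix.single_one_vecMul, Pi.smul_apply, Pi.single_apply, smul_eq_mul, mul_ite, mul_one, mul_zero] at h
          rw [Matrix.row] at h
          rw [← h]
          by_cases hst : s = t
          · subst hst; simp
          · simp [hst, Ne.symm hst]
        refine hA (c ⟨0, by omega⟩) (Matrix.ext fun s t => ?_)
        rw [hrow, Matrix.smul_apply, Matrix.one_apply, smul_eq_mul, mul_ite, mul_one, mul_zero]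
        by_cases hst : s = t
        · subst hst
          rw [if_pos rfl, if_pos rfl]
          set s₀ : Fin a := ⟨0, by omega⟩
          by_cases hs0 : s = s₀
          · rw [hs0]
          · have hne : (Pi.single s (1 : F) : Fin a → F) + Pi.single s₀ 1 ≠ 0 := fun h => by
              simpa [hs0, Ne.symm hs0] using congrFun h s
            obtain ⟨d, hd⟩ := key _ hne
            rw [Matrix.add_vecMul, ← hc, ← hc] at hd
            have h1 := congrFun hd s
            have h2 := congrFun hd s₀
            simp [hs0, Ne.symm hs0] at h1 h2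
            rw [← h1, ← h2]
        · rw [if_neg hst, if_neg hst]
      let L : Matrix (Fin a) (Fin b) F →ₗ[F] (Fin b → F) × (Fin b → F) :=
        { toFun := fun Y => (u ᵥ* Y, (u ᵥ* A) ᵥ* Y)
          map_add' := fun Y Z => by simp [Matrix.vecMul_add]
          map_smul' := fun c Y => by simp [Matrix.vecMul_smul] }
      have hZ : Function.Surjective (Matrix.mulVecLin (Matrix.of ![u, u ᵥ* A])) := by
        rw [← LinearMap.range_eq_top]
        refine Submodule.eq_top_of_finrank_eq ?_
        rw [Module.finrank_fin_fun]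
        exact ((show (Matrix.of ![u, u ᵥ* A]).rank = _ from rfl).symm.trans (LinearIndependent.rank_matrix (by exact hu))).trans (Fintype.card_fin 2)
      have hsurj : Function.Surjective L := by
        rintro ⟨p₁, p₂⟩
        choose y hy using fun i : Fin b => hZ ![p₁ i, p₂ i]
        refine ⟨Matrix.of fun s i => y i s, Prod.ext (funext fun i => ?_) (funext fun i => ?_)⟩
        · have h := congrFun (hy i) 0
          simpa [Matrix.mulVec, Matrix.vecMul, dotProduct, L] using h
        · have h := congrFun (hy i) 1
          simpa [Matrix.mulVec, Matrix.vecMul, dotProduct, L, -Matrix.vecMul_vecMul] using h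
      have h1 := LinearMap.finrank_range_add_finrank_ker L
      rw [LinearMap.range_eq_top.2 hsurj, finrank_top, Module.finrank_prod, Module.finrank_fin_fun, Module.finrank_matrix,
        Fintype.card_fin, Fintype.card_fin, Module.finrank_self, mul_one] at h1
      have h2 := LinearMap.finrank_range_add_finrank_ker (L.domRestrict (S A B lam))
      have h3 : Module.finrank F (LinearMap.ker (L.domRestrict (S A B lam))) ≤ Module.finrank F (LinearMap.ker L) := by
        rw [← Submodule.finrank_map_subtype_eq (S A B lam) (LinearMap.ker _)]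
        refine Submodule.finrank_mono ?_
        rintro _ ⟨Y, hY, rfl⟩
        exact hY
      have h4 : Module.finrank F (LinearMap.range (L.domRestrict (S A B lam))) ≤ b := by
        have hker : LinearMap.ker ((LinearMap.snd F (Fin b → F) (Fin b → F)).domRestrict (LinearMap.range (L.domRestrict (S A B lam)))) = ⊥ := by
          rw [Submodule.eq_bot_iff]
          rintro ⟨_, ⟨Y, hY⟩, rfl⟩ hz
          have hz' : (u ᵥ* A) ᵥ* Y = 0 := hz
          have h5 : lam • (u ᵥ* Y) = ((u ᵥ* A) ᵥ* Y) ᵥ* B.transpose := by
            rw [← Matrix.vecMul_smul, ← (hS A B lam Y).1 hY, Matrix.vecMul_vecMul, Matrix.vecMul_vecMul, Matrix.mul_assoc]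
          rw [hz', Matrix.zero_vecMul, smul_eq_zero] at h5
          exact Subtype.ext (Prod.ext (h5.resolve_left hlam) hz')
        have := LinearMap.finrank_le_finrank_of_injective (LinearMap.ker_eq_bot.1 hker)
        rwa [Module.finrank_fin_fun] at this
      omega
    have hscal : ∀ (A : Matrix (Fin a) (Fin a) F) (B : Matrix (Fin b) (Fin b) F) (c lam : F), A = c • 1 →
        Module.finrank F (S A B lam) = a * Module.finrank F (LinearMap.ker (Matrix.toLin' (c • B) - lam • LinearMap.id)) := by
      intro A B c lam hA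
      set K := LinearMap.ker (Matrix.toLin' (c • B) - lam • LinearMap.id) with hK
      have hmem : ∀ Y : Matrix (Fin a) (Fin b) F, Y ∈ S A B lam ↔ ∀ s, Y s ∈ K := by
        intro Y
        rw [hS, hA, Matrix.smul_mul, Matrix.one_mul, Matrix.smul_mul, ← Matrix.ext_iff]
        refine forall_congr' fun s => ?_
        rw [hK, LinearMap.mem_ker, LinearMap.sub_apply, Matrix.toLin'_apply, LinearMap.smul_apply, LinearMap.id_apply,
          sub_eq_zero, funext_iff]
        refine forall_congr' fun i => ?_
        simp only [Matrix.smul_apply, Matrix.mul_apply, Matrix.transpose_apply, Matrix.mulVec, dotProduct, Pi.smul_apply,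
          smul_eq_mul, Finset.mul_sum]
        rw [Finset.sum_congr rfl fun j _ => show c * (Y s j * B i j) = c * B i j * Y s j by ring]
      let E : S A B lam ≃ₗ[F] (Fin a → K) :=
        { toFun := fun Y s => ⟨(Y : Matrix (Fin a) (Fin b) F) s, (hmem _).1 Y.2 s⟩
          map_add' := fun _ _ => rfl
          map_smul' := fun _ _ => rfl
          invFun := fun y => ⟨Matrix.of fun s => (y s : Fin b → F), (hmem _).2 fun s => (y s).2⟩
          left_inv := fun _ => rfl
          right_inv := fun _ => rfl }
      rw [E.finrank_eq, Module.finrank_pi_fintype, Finset.sum_const, Finset.card_univ, Fintype.card_fin, smul_eq_mul]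
    have htrans : ∀ (x : GL (Fin (a * b)) F) (A : GL (Fin a) F) (B : GL (Fin b) F) (E : (Fin (a * b) → F) ≃ₗ[F] Matrix (Fin a) (Fin b) F),
        (∀ v, E ((x : Matrix (Fin (a * b)) (Fin (a * b)) F) *ᵥ v) = (A : Matrix (Fin a) (Fin a) F) * E v * (B : Matrix (Fin b) (Fin b) F).transpose) →
        ∀ lam, Module.finrank F (LinearMap.ker (Matrix.toLin' (x : Matrix (Fin (a * b)) (Fin (a * b)) F) - lam • LinearMap.id)) =
          Module.finrank F (S (A : Matrix (Fin a) (Fin a) F) (B : Matrix (Fin b) (Fin b) F) lam) := by
      intro x A B E hE lam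
      have heq : (LinearMap.ker (Matrix.toLin' (x : Matrix (Fin (a * b)) (Fin (a * b)) F) - lam • LinearMap.id)).map (E : (Fin (a * b) → F) →ₗ[F] Matrix (Fin a) (Fin b) F) =
          S (A : Matrix (Fin a) (Fin a) F) (B : Matrix (Fin b) (Fin b) F) lam := ?_
      · rw [← heq, LinearEquiv.finrank_map_eq]
      ext Y
      rw [Submodule.mem_map_equiv, LinearMap.mem_ker, LinearMap.sub_apply, Matrix.toLin'_apply, LinearMap.smul_apply,
        LinearMap.id_apply, ← E.map_eq_zero_iff, map_sub, map_smul, hE, E.apply_symm_apply, sub_eq_zero, hS]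
    -- a small moved space is a multiple of `a`
    have hbad : ∀ x ∈ Cfsg.Geo.specialLinear (Fin (a * b)) F,
        (∃ z : F, ((x ^ r : GL (Fin (a * b)) F) : Matrix (Fin (a * b)) (Fin (a * b)) F) = z • (1 : Matrix (Fin (a * b)) (Fin (a * b)) F)) →
        ∀ lam : F, lam ≠ 0 →
        a * b - b < Module.finrank F (LinearMap.ker (Matrix.toLin' (x : Matrix (Fin (a * b)) (Fin (a * b)) F) - lam • LinearMap.id)) →
        Module.finrank F (LinearMap.ker (Matrix.toLin' (x : Matrix (Fin (a * b)) (Fin (a * b)) F) - lam • LinearMap.id)) < a * b →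
        ∀ μ : F, a ∣ Module.finrank F (LinearMap.ker (Matrix.toLin' (x : Matrix (Fin (a * b)) (Fin (a * b)) F) - μ • LinearMap.id)) := by
      intro x hx hxz lam hlam h1 h2 μ
      have hns : ∀ z : F, (x : Matrix (Fin (a * b)) (Fin (a * b)) F) ≠ z • (1 : Matrix (Fin (a * b)) (Fin (a * b)) F) := by
        intro z hz
        rw [hz, map_smul, Matrix.toLin'_one, show z • (LinearMap.id : (Fin (a * b) → F) →ₗ[F] (Fin (a * b) → F)) - lam • LinearMap.id =
            (z - lam) • LinearMap.id from (sub_smul z lam _).symm] at h1 h2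
        rcases eq_or_ne z lam with rfl | hne
        · rw [sub_self, zero_smul, LinearMap.ker_zero, finrank_top, Module.finrank_fin_fun] at h2
          omega
        · rw [LinearMap.ker_smul _ _ (sub_ne_zero.2 hne), LinearMap.ker_id, finrank_bot] at h1
          omega
      obtain ⟨A, B, E, hE⟩ := hwit x (hall x hx hxz hns)
      by_cases hA : ∃ c : F, (A : Matrix (Fin a) (Fin a) F) = c • 1
      · obtain ⟨c, hc⟩ := hA
        rw [htrans x A B E hE, hscal _ _ c μ hc]
        exact dvd_mul_right _ _
      · push Not at hA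
        have := hbig _ (B : Matrix (Fin b) (Fin b) F) lam hlam hA
        rw [← htrans x A B E hE lam] at this
        omega
    -- diagonal elements
    have hdiag : ∀ δ : Fin (a * b) → F, (∀ i, δ i ≠ 0) → ∏ i, δ i = 1 → (∃ z : F, ∀ i, δ i ^ r = z) →
        ∀ lam : F, lam ≠ 0 → a * b - b < (Finset.univ.filter fun i => δ i = lam).card →
        (Finset.univ.filter fun i => δ i = lam).card < a * b →
        ∀ μ : F, a ∣ (Finset.univ.filter fun i => δ i = μ).card := by
      intro δ hδ hprod hz lam hlam h1 h2 μ
      let x : GL (Fin (a * b)) F :=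
        ⟨Matrix.diagonal δ, Matrix.diagonal fun i => (δ i)⁻¹,
          by rw [Matrix.diagonal_mul_diagonal, ← Matrix.diagonal_one]; congr 1; funext i; exact mul_inv_cancel₀ (hδ i),
          by rw [Matrix.diagonal_mul_diagonal, ← Matrix.diagonal_one]; congr 1; funext i; exact inv_mul_cancel₀ (hδ i)⟩
      have hmul : ∀ v i, Matrix.toLin' (x : Matrix (Fin (a * b)) (Fin (a * b)) F) v i = δ i * v i := fun v i => by
        rw [Matrix.toLin'_apply]; exact Matrix.mulVec_diagonal δ v i
      have hd : ∀ ν : F, Module.finrank F (LinearMap.ker (Matrix.toLin' (x : Matrix (Fin (a * b)) (Fin (a * b)) F) - ν • LinearMap.id)) =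
          (Finset.univ.filter fun i => δ i = ν).card := by
        intro ν
        have hmem : ∀ v, v ∈ LinearMap.ker (Matrix.toLin' (x : Matrix (Fin (a * b)) (Fin (a * b)) F) - ν • LinearMap.id) ↔
            ∀ i, δ i ≠ ν → v i = 0 := fun v => by
          rw [LinearMap.mem_ker, funext_iff]
          refine forall_congr' fun i => ?_
          rw [LinearMap.sub_apply, Pi.sub_apply, hmul, LinearMap.smul_apply, LinearMap.id_apply, Pi.smul_apply,
            smul_eq_mul, Pi.zero_apply, ← sub_mul, mul_eq_zero, sub_eq_zero, or_iff_not_imp_left]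
        let e : LinearMap.ker (Matrix.toLin' (x : Matrix (Fin (a * b)) (Fin (a * b)) F) - ν • LinearMap.id) ≃ₗ[F]
            ({i // δ i = ν} → F) :=
          { toFun := fun v i => (v : Fin (a * b) → F) i.1
            map_add' := fun _ _ => rfl
            map_smul' := fun _ _ => rfl
            invFun := fun w => ⟨fun i => if h : δ i = ν then w ⟨i, h⟩ else 0, (hmem _).2 fun i hi => dif_neg hi⟩
            left_inv := fun v => Subtype.ext (funext fun i => by
              show (if h : δ i = ν then (v : Fin (a * b) → F) i else 0) = _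
              split
              · rfl
              · exact ((hmem _).1 v.2 i ‹_›).symm)
            right_inv := fun w => funext fun i => by
              show (if h : δ i.1 = ν then w ⟨i.1, h⟩ else 0) = _
              rw [dif_pos i.2] }
        rw [e.finrank_eq, Module.finrank_fintype_fun_eq_card, Fintype.card_subtype]
      obtain ⟨z, hz⟩ := hz
      rw [← hd] at h1 h2 ⊢
      refine hbad x (CfsgLib.Geo.mem_specialLinear.2 ?_) ⟨z, ?_⟩ lam hlam h1 h2 μ
      · show (Matrix.diagonal δ).det = 1
        rw [Matrix.det_diagonal, hprod]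
      · show Matrix.diagonal δ ^ r = _
        rw [Matrix.diagonal_pow, ← Matrix.diagonal_one, ← Matrix.diagonal_smul]
        congr 1
        funext i
        simpa using hz i
    have hab' : a + b ≤ a * b := Nat.add_le_mul ha (by omega)
    have hndvd : ¬ a ∣ a * b - 1 := fun h => by
      have h1 : a ∣ a * b - (a * b - 1) := Nat.dvd_sub (dvd_mul_right a b) h
      rw [show a * b - (a * b - 1) = 1 by omega] at h1
      have := Nat.le_of_dvd one_pos h1
      omega
    let i₀ : Fin (a * b) := ⟨0, by omega⟩
    let i₁ : Fin (a * b) := ⟨1, by omega⟩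
    have h01 : i₀ ≠ i₁ := fun h => by simpa [i₀, i₁] using congrArg Fin.val h
    by_cases hrp : r = p
    · -- a transvection
      exfalso
      set M := Matrix.transvection i₀ i₁ (1 : F) with hM
      have hdet : M.det = 1 := Matrix.det_transvection_of_ne i₀ i₁ h01 1
      let x : GL (Fin (a * b)) F := Matrix.GeneralLinearGroup.mkOfDetNeZero M (by rw [hdet]; exact one_ne_zero)
      have hpow : ∀ k : ℕ, M ^ k = Matrix.transvection i₀ i₁ (k : F) := by
        intro k
        induction k with
        | zero => simp
        | succ k ih => rw [pow_succ, ih, hM, Matrix.transvection_mul_transvection_same _ _ h01, Nat.cast_succ]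
      have hmul : ∀ v, Matrix.toLin' (x : Matrix (Fin (a * b)) (Fin (a * b)) F) v - v = v i₁ • Pi.single i₀ 1 := by
        intro v
        rw [Matrix.toLin'_apply]
        show M *ᵥ v - v = _
        rw [hM, Matrix.transvection, Matrix.add_mulVec, Matrix.one_mulVec, add_sub_cancel_left]
        funext k
        simp [Matrix.single_mulVec, Pi.single_apply, Function.update_apply, mul_comm]
      have hker : LinearMap.ker (Matrix.toLin' (x : Matrix (Fin (a * b)) (Fin (a * b)) F) - (1 : F) • LinearMap.id) =
          LinearMap.ker (LinearMap.proj i₁ : (Fin (a * b) → F) →ₗ[F] F) := by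
        ext v
        rw [LinearMap.mem_ker, LinearMap.sub_apply, one_smul, LinearMap.id_apply, hmul, LinearMap.mem_ker, LinearMap.proj_apply,
          smul_eq_zero, or_iff_left (fun h => by simpa using congrFun h i₀)]
      have hk := LinearMap.finrank_range_add_finrank_ker (LinearMap.proj i₁ : (Fin (a * b) → F) →ₗ[F] F)
      rw [LinearMap.range_eq_top.2 (LinearMap.proj_surjective i₁), finrank_top, Module.finrank_self, Module.finrank_fin_fun,
        ← hker] at hk
      have := hbad x (CfsgLib.Geo.mem_specialLinear.2 hdet) ⟨1, by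
          rw [one_smul, Units.val_pow_eq_pow_val]
          show M ^ r = 1
          rw [hpow, hrp, CharP.cast_eq_zero, Matrix.transvection_zero]⟩
        1 one_ne_zero (by omega) (by omega) 1
      rw [show Module.finrank F (LinearMap.ker (Matrix.toLin' (x : Matrix (Fin (a * b)) (Fin (a * b)) F) - (1 : F) • LinearMap.id)) = a * b - 1 by omega] at this
      exact hndvd this
    by_cases hr2 : r = 2
    · subst hr2
      have hchar : ringChar F ≠ 2 := by rw [ringChar.eq F p]; exact Ne.symm hrp
      have h2F : (2 : F) ≠ 0 := Ring.two_ne_zero hchar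
      have hodd : Odd (Fintype.card F) := Nat.odd_iff.2 (FiniteField.odd_card_of_char_ne_two hchar)
      have hneg : (-1 : F) ≠ 1 := fun h => h2F (by linear_combination -h)
      refine ⟨rfl, ?_, hodd, ?_⟩
      · -- two eigenvalues minus one
        by_contra ha2
        have hcard : (Finset.univ.filter fun i => (if i = i₀ ∨ i = i₁ then (-1 : F) else 1) = 1).card = a * b - 2 := by
          rw [show (Finset.univ.filter fun i => (if i = i₀ ∨ i = i₁ then (-1 : F) else 1) = 1) = (Finset.univ.erase i₀).erase i₁ by
            ext i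
            by_cases h : i = i₀ <;> by_cases h' : i = i₁ <;> simp [h, h', hneg],
            Finset.card_erase_of_mem (Finset.mem_erase.2 ⟨h01.symm, Finset.mem_univ _⟩),
            Finset.card_erase_of_mem (Finset.mem_univ _), Finset.card_univ, Fintype.card_fin]
          omega
        have := hdiag (fun i => if i = i₀ ∨ i = i₁ then (-1 : F) else 1)
          (fun i => by split <;> simp)
          (by rw [Finset.prod_eq_mul i₀ i₁ h01 (fun i _ hi => if_neg (by tauto))
                (fun h => absurd (Finset.mem_univ _) h) (fun h => absurd (Finset.mem_univ _) h)]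
              simp)
          ⟨1, fun i => by split <;> simp⟩ 1 one_ne_zero (by rw [hcard]; omega) (by rw [hcard]; omega) 1
        rw [hcard] at this
        have h1 : a ∣ a * b - (a * b - 2) := Nat.dvd_sub (dvd_mul_right a b) this
        rw [show a * b - (a * b - 2) = 2 by omega] at h1
        have := Nat.le_of_dvd two_pos h1
        omega
      · -- one exceptional eigenvalue
        by_contra hlt
        push Not at hlt
        set t₀ := padicValNat 2 (a * b) with ht₀
        obtain ⟨g₀, hg₀⟩ := IsCyclic.exists_ofOrder_eq_natCard (α := Fˣ)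
        obtain ⟨s, hs⟩ : 2 ^ (t₀ + 1) ∣ Fintype.card Fˣ := by
          rw [Fintype.card_units]
          exact (pow_dvd_pow 2 hlt).trans pow_padicValNat_dvd
        set lam := ((g₀ ^ s : Fˣ) : F) with hlamdef
        have hlam : lam ^ (2 ^ t₀) = -1 := by
          have hord : (g₀ ^ s) ^ (2 ^ (t₀ + 1)) = 1 := by
            rw [← pow_mul, mul_comm, ← hs, ← Nat.card_eq_fintype_card, ← hg₀, pow_orderOf_eq_one]
          have hne : (g₀ ^ s) ^ (2 ^ t₀) ≠ 1 := by
            rw [← pow_mul, Ne, ← orderOf_dvd_iff_pow_eq_one, hg₀, Nat.card_eq_fintype_card, hs]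
            intro h
            have hs0 : 0 < s := Nat.pos_of_ne_zero fun h0 => by
              rw [h0, mul_zero] at hs
              exact Fintype.card_ne_zero hs
            have h' := Nat.le_of_dvd (Nat.mul_pos hs0 (Nat.two_pow_pos t₀)) h
            have := Nat.mul_pos hs0 (Nat.two_pow_pos t₀)
            rw [pow_succ] at h'
            nlinarith
          have h2 : lam ^ (2 ^ t₀) * lam ^ (2 ^ t₀) = 1 := by
            rw [← pow_add, show 2 ^ t₀ + 2 ^ t₀ = 2 ^ (t₀ + 1) by ring, hlamdef, ← Units.val_pow_eq_pow_val, hord, Units.val_one]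
          exact (mul_self_eq_one_iff.1 h2).resolve_left fun h => hne (Units.ext (by rwa [Units.val_pow_eq_pow_val]))
        obtain ⟨t, ht⟩ : 2 ^ t₀ ∣ a * b := pow_padicValNat_dvd
        have htodd : Odd t := by
          rw [← Nat.not_even_iff_odd]
          rintro ⟨u, rfl⟩
          have hd : 2 ^ (t₀ + 1) ∣ a * b := ⟨u, by rw [ht]; ring⟩
          have := (padicValNat_dvd_iff_le (by omega)).1 hd
          omega
        have hlamn : lam ^ (a * b) = -1 := by rw [ht, pow_mul, hlam, htodd.neg_one_pow]
        have hl0 : lam ≠ 0 := (g₀ ^ s).ne_zero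
        have hlne : -lam ≠ lam := fun h => by
          have h' : (2 : F) * lam = 0 := by linear_combination -h
          exact hl0 ((mul_eq_zero.1 h').resolve_left h2F)
        have hcard : (Finset.univ.filter fun i => (if i = i₀ then -lam else lam) = lam).card = a * b - 1 := by
          rw [show (Finset.univ.filter fun i => (if i = i₀ then -lam else lam) = lam) = Finset.univ.erase i₀ by
            ext i
            by_cases h : i = i₀ <;> simp [h, hlne], Finset.card_erase_of_mem (Finset.mem_univ _), Finset.card_univ,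
            Fintype.card_fin]
        have := hdiag (fun i => if i = i₀ then -lam else lam) (fun i => by split <;> simp [hl0])
          (by rw [← Finset.mul_prod_erase _ _ (Finset.mem_univ i₀), if_pos rfl,
                Finset.prod_congr rfl (g := fun _ => lam) (fun i hi => if_neg (Finset.ne_of_mem_erase hi)),
                Finset.prod_const, Finset.card_erase_of_mem (Finset.mem_univ _), Finset.card_univ, Fintype.card_fin,
                neg_mul, ← pow_succ', Nat.sub_add_cancel (by omega), hlamn, neg_neg])
          ⟨lam ^ 2, fun i => by split <;> ring⟩ lam hl0 (by rw [hcard]; omega) (by rw [hcard]; omega) lam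
        rw [hcard] at this
        exact hndvd this
    exfalso
    set j := orderOf (((Fintype.card F : ℕ) : ZMod r)) with hj
    by_cases hj1 : j = 1
    · -- a diagonal element
      have hdvd : r ∣ Fintype.card Fˣ := by
        rw [Fintype.card_units, CfsgLib.Elusive.dvd_card_sub_one_iff]
        exact orderOf_eq_one_iff.1 hj1
      obtain ⟨ζ, hζ⟩ := exists_prime_orderOf_dvd_card r hdvd
      have hζr : (ζ : F) ^ r = 1 := by rw [← Units.val_pow_eq_pow_val, ← hζ, pow_orderOf_eq_one, Units.val_one]
      have hζ1 : (ζ : F) ≠ 1 := fun h => by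
        rw [show ζ = 1 from Units.ext h, orderOf_one] at hζ
        exact hrr.one_lt.ne hζ
      have hζ2 : (ζ : F)⁻¹ ≠ ζ := fun h => by
        have h' : ζ ^ 2 = 1 := Units.ext (by
          rw [Units.val_pow_eq_pow_val, pow_two, Units.val_one]
          nth_rw 1 [← h]
          exact inv_mul_cancel₀ ζ.ne_zero)
        have h1 := Nat.le_of_dvd two_pos (hζ ▸ orderOf_dvd_of_pow_eq_one h')
        have := hrr.two_le
        omega
      let δ : Fin (a * b) → F := fun i => if i = i₀ then (ζ : F) else if i = i₁ then (ζ : F)⁻¹ else 1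
      have hcard : (Finset.univ.filter fun i => δ i = 1).card = a * b - 2 := by
        rw [show (Finset.univ.filter fun i => δ i = 1) = (Finset.univ.erase i₀).erase i₁ by
          ext i
          by_cases h : i = i₀ <;> by_cases h' : i = i₁ <;> simp [δ, h, h', hζ1, inv_eq_one, h01.symm],
          Finset.card_erase_of_mem (Finset.mem_erase.2 ⟨h01.symm, Finset.mem_univ _⟩),
          Finset.card_erase_of_mem (Finset.mem_univ _), Finset.card_univ, Fintype.card_fin]
        omega
      have hcard' : (Finset.univ.filter fun i => δ i = (ζ : F)).card = 1 := by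
        rw [show (Finset.univ.filter fun i => δ i = (ζ : F)) = {i₀} by
          ext i
          by_cases h : i = i₀ <;> by_cases h' : i = i₁ <;> simp [δ, h, h', hζ2, Ne.symm hζ1, h01.symm],
          Finset.card_singleton]
      have := hdiag δ (fun i => by simp only [δ]; split_ifs <;> simp)
        (by rw [Finset.prod_eq_mul i₀ i₁ h01 (fun i _ hi => by simp [δ, hi.1, hi.2])
              (fun h => absurd (Finset.mem_univ _) h) (fun h => absurd (Finset.mem_univ _) h)]
            simp [δ, h01.symm])
        ⟨1, fun i => by simp only [δ]; split_ifs <;> simp [hζr]⟩ 1 one_ne_zero (by rw [hcard]; omega)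
        (by rw [hcard]; omega) ζ
      rw [hcard'] at this
      have := Nat.le_of_dvd one_pos this
      omega
    -- an element with a small moved space
    have hr0 : (r : F) ≠ 0 := CfsgLib.Elusive.cast_ne_zero_of_ne (p := p) hrp
    have hj0 : 0 < j := CfsgLib.Elusive.orderOf_q_pos (CfsgLib.Elusive.card_ne_zero_mod (F := F) (p := p) hrp)
    obtain ⟨c, hc⟩ : ∃ c, a * b = 1 * j + c := by
      have h1 : r ∣ Nat.card (GL (Fin (a * b)) F) := by
        have h2 := hΩ.trans (Subgroup.relIndex_dvd_card _ _)
        exact h2.trans (Subgroup.card_subgroup_dvd_card _)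
      rw [Matrix.card_GL_field] at h1
      obtain ⟨i, -, hi⟩ := (hrr.prime.dvd_finsetProd_iff _).1 h1
      have h3 : r ∣ Fintype.card F ^ (i : ℕ) * (Fintype.card F ^ (a * b - i) - 1) := by
        rwa [Nat.mul_sub, mul_one, ← pow_add, Nat.add_sub_cancel' i.isLt.le]
      rcases hrr.dvd_mul.1 h3 with h | h
      · exact absurd ((ZMod.natCast_eq_zero_iff _ r).2 (hrr.dvd_of_dvd_pow h))
          (CfsgLib.Elusive.card_ne_zero_mod (F := F) (p := p) hrp)
      · have h4 : j ∣ a * b - i := orderOf_dvd_of_pow_eq_one (by
          have := (ZMod.natCast_eq_zero_iff _ r).2 h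
          rwa [Nat.cast_sub (Nat.one_le_pow _ _ Fintype.card_pos), Nat.cast_pow, Nat.cast_one, sub_eq_zero] at this)
        have := Nat.le_of_dvd (by omega) h4
        exact ⟨a * b - j, by omega⟩
    obtain ⟨f, hfr, hff⟩ := CfsgLib.Elusive.exists_min_fix (F := F) (r := r) hr0 hj hj0 hc
    have hfdet : (LinearMap.toMatrix' f).det = 1 := by
      refine CfsgLib.Elusive.eq_one_of_pow_of_order (r := r) hj1 ?_
      rw [← Matrix.det_pow, show LinearMap.toMatrix' f ^ r = LinearMap.toMatrixAlgEquiv' (f ^ r) from (map_pow LinearMap.toMatrixAlgEquiv' f r).symm,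
        hfr, map_one, Matrix.det_one]
    let x : GL (Fin (a * b)) F := Matrix.GeneralLinearGroup.mkOfDetNeZero (LinearMap.toMatrix' f) (by rw [hfdet]; exact one_ne_zero)
    have hxf : Matrix.toLin' (x : Matrix (Fin (a * b)) (Fin (a * b)) F) = f := Matrix.toLin'_toMatrix' f
    have hxr : (x : Matrix (Fin (a * b)) (Fin (a * b)) F) ^ r = 1 := by
      show LinearMap.toMatrixAlgEquiv' f ^ r = 1
      rw [← map_pow, hfr, map_one]
    have hxk : Module.finrank F (LinearMap.ker (Matrix.toLin' (x : Matrix (Fin (a * b)) (Fin (a * b)) F) - (1 : F) • LinearMap.id)) = c := by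
      rw [hxf, one_smul]; exact hff
    have hxns : ∀ z : F, (x : Matrix (Fin (a * b)) (Fin (a * b)) F) ≠ z • (1 : Matrix (Fin (a * b)) (Fin (a * b)) F) := by
      intro z hz
      have hz1 : z = 1 := CfsgLib.Elusive.eq_one_of_pow_of_order (r := r) hj1 (by
        have h := hxr
        rw [hz, smul_pow, one_pow] at h
        simpa using congrFun (congrFun h i₀) i₀)
      rw [hz, hz1, one_smul, one_smul, Matrix.toLin'_one, sub_self, LinearMap.ker_zero, finrank_top, Module.finrank_fin_fun] at hxk
      omega
    obtain ⟨A, B, E, hE⟩ := hwit x (hall x (CfsgLib.Geo.mem_specialLinear.2 hfdet) ⟨1, by rw [one_smul, Units.val_pow_eq_pow_val, hxr]⟩ hxns)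
    have hpowE : ∀ (k : ℕ) v, E (((x : Matrix (Fin (a * b)) (Fin (a * b)) F) ^ k) *ᵥ v) =
        (A : Matrix (Fin a) (Fin a) F) ^ k * E v * ((B : Matrix (Fin b) (Fin b) F).transpose) ^ k := by
      intro k
      induction k with
      | zero => intro v; simp
      | succ k ih =>
        intro v
        rw [pow_succ, ← Matrix.mulVec_mulVec, ih, hE, pow_succ, pow_succ']
        simp only [Matrix.mul_assoc]
    have hAB : ∀ s s' i i', ((A : Matrix (Fin a) (Fin a) F) ^ r) s s' * ((B : Matrix (Fin b) (Fin b) F) ^ r) i i' =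
        (1 : Matrix (Fin a) (Fin a) F) s s' * (1 : Matrix (Fin b) (Fin b) F) i i' := by
      intro s s' i i'
      have h := hpowE r (E.symm (Matrix.single s' i' 1))
      rw [hxr, Matrix.one_mulVec, E.apply_symm_apply, ← Matrix.transpose_pow] at h
      have h' := congrFun (congrFun h s) i
      simp [Matrix.mul_apply, Matrix.single_apply, Finset.sum_ite_eq, ite_and, Matrix.one_apply, eq_comm, -Matrix.transpose_pow] at h' ⊢
      rw [h']
      by_cases h1 : s = s' <;> by_cases h2 : i = i' <;> simp [h1, h2]
    -- the first factor is scalar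
    obtain ⟨d, hd⟩ : ∃ d : F, (A : Matrix (Fin a) (Fin a) F) = d • 1 := by
      let i' : Fin b := ⟨0, by omega⟩
      obtain ⟨c₀, hc₀⟩ : ∃ c₀ : F, (A : Matrix (Fin a) (Fin a) F) ^ r = c₀ • 1 := by
        have hne : ((B : Matrix (Fin b) (Fin b) F) ^ r) i' i' ≠ 0 := fun h => by
          have := hAB ⟨0, by omega⟩ ⟨0, by omega⟩ i' i'
          rw [h, mul_zero] at this
          simp at this
        refine ⟨(((B : Matrix (Fin b) (Fin b) F) ^ r) i' i')⁻¹, Matrix.ext fun s s' => ?_⟩
        have := hAB s s' i' i'
        rw [Matrix.one_apply_eq, mul_one] at this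
        rw [Matrix.smul_apply, smul_eq_mul, ← this]
        field_simp
      obtain ⟨d, hd⟩ := CfsgLib.Elusive.exists_root_of_order (r := r) hj1 c₀
      have hd0 : d ≠ 0 := fun h => by
        rw [h, zero_pow hrr.ne_zero] at hd
        rw [← hd, zero_smul] at hc₀
        have := congrArg Matrix.det hc₀
        haveI hnea : Nonempty (Fin a) := ⟨⟨0, by omega⟩⟩
        rw [Matrix.det_pow, Matrix.det_zero] at this
        exact pow_ne_zero r A.det_ne_zero this
      refine ⟨d, ?_⟩
      set T := Matrix.toLin' (d⁻¹ • (A : Matrix (Fin a) (Fin a) F)) with hT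
      have hTr : T ^ r = 1 := by
        show Matrix.toLinAlgEquiv' _ ^ r = 1
        rw [← map_pow, smul_pow, hc₀, ← hd, smul_smul, ← mul_pow, inv_mul_cancel₀ hd0, one_pow, one_smul, map_one]
      by_cases hja : j ≤ a
      · by_contra hne
        have hA : ∀ c' : F, (A : Matrix (Fin a) (Fin a) F) ≠ c' • 1 := by
          intro c' hc'
          refine hne ?_
          have h1 : (d⁻¹ * c') ^ r = 1 := by
            have h2 := congrArg (fun M : Matrix (Fin a) (Fin a) F => (d⁻¹ • M) ^ r) hc'
            simp only [smul_pow, hc₀, ← hd, smul_smul, ← mul_pow, inv_mul_cancel₀ hd0, one_pow, one_smul] at h2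
            simpa using (congrFun (congrFun h2 ⟨0, by omega⟩) ⟨0, by omega⟩).symm
          have h3 := CfsgLib.Elusive.eq_one_of_pow_of_order (r := r) hj1 h1
          rw [hc', show c' = d by field_simp at h3; exact h3]
        have := hbig _ (B : Matrix (Fin b) (Fin b) F) 1 one_ne_zero hA
        rw [← htrans x A B E hE, hxk] at this
        omega
      · have hmd := CfsgLib.Elusive.mov_dvd hTr hr0 (W := ⊤) (fun v _ => Submodule.mem_top)
        rw [Submodule.map_top, ← hj] at hmd
        have h0 : Module.finrank F (LinearMap.range (T - 1)) = 0 := by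
          have h1 := Submodule.finrank_le (LinearMap.range (T - 1))
          rw [Module.finrank_fin_fun] at h1
          rcases Nat.eq_zero_or_pos (Module.finrank F (LinearMap.range (T - 1))) with h | h
          · exact h
          · have := Nat.le_of_dvd h hmd; omega
        rw [Submodule.finrank_eq_zero, LinearMap.range_eq_bot, sub_eq_zero, hT] at h0
        have h1 : d⁻¹ • (A : Matrix (Fin a) (Fin a) F) = 1 :=
          Matrix.toLin'.injective (h0.trans Matrix.toLin'_one.symm)
        rw [← h1, smul_smul, mul_inv_cancel₀ hd0, one_smul]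
    set T := Matrix.toLin' (d • (B : Matrix (Fin b) (Fin b) F)) with hT
    have hTr : T ^ r = 1 := by
      show Matrix.toLinAlgEquiv' _ ^ r = 1
      rw [← map_pow]
      refine (congrArg _ ?_).trans (map_one _)
      ext i i'
      have := hAB ⟨0, by omega⟩ ⟨0, by omega⟩ i i'
      rw [hd, smul_pow, one_pow, Matrix.smul_apply, Matrix.one_apply_eq, smul_eq_mul, mul_one, one_mul] at this
      rw [smul_pow, Matrix.smul_apply, smul_eq_mul, this]
    have hmd := CfsgLib.Elusive.mov_dvd hTr hr0 (W := ⊤) (fun v _ => Submodule.mem_top)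
    rw [Submodule.map_top, ← hj] at hmd
    have h1 := LinearMap.finrank_range_add_finrank_ker (T - 1)
    rw [Module.finrank_fin_fun] at h1
    have h2 := htrans x A B E hE 1
    rw [hxk, hscal _ _ d 1 hd, ← hT, one_smul, ← Module.End.one_eq_id] at h2
    obtain ⟨k, hk⟩ := hmd
    have h3 : a * (j * k) = j * 1 := by
      rw [← hk, mul_one]
      have : a * b = a * Module.finrank F (LinearMap.range (T - 1)) + a * Module.finrank F (LinearMap.ker (T - 1)) := by
        rw [← Nat.mul_add, h1]
      omega
    rw [mul_left_comm] at h3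
    have h4 := Nat.eq_one_of_mul_eq_one_right (Nat.eq_of_mul_eq_mul_left hj0 h3)
    omega
  · rintro ⟨rfl, rfl, hodd, hcond⟩ x hx ⟨z, hz⟩ hns
    have h2F : (2 : F) ≠ 0 := fun h => by
      haveI := CharTwo.of_one_ne_zero_of_two_eq_zero (R := F) one_ne_zero h
      obtain ⟨k, -, hk⟩ := FiniteField.card F 2
      rw [hk] at hodd
      exact Nat.not_even_iff_odd.2 hodd (Nat.even_pow.2 ⟨even_two, k.ne_zero⟩)
    haveI : Nonempty (Fin (2 * b)) := ⟨⟨0, by omega⟩⟩
    set T : (Fin (2 * b) → F) →ₗ[F] (Fin (2 * b) → F) := Matrix.toLin' (x : Matrix (Fin (2 * b)) (Fin (2 * b)) F) with hT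
    have hTT : T * T = z • 1 := by
      show Matrix.toLinAlgEquiv' (x : Matrix (Fin (2 * b)) (Fin (2 * b)) F) * Matrix.toLinAlgEquiv' (x : Matrix (Fin (2 * b)) (Fin (2 * b)) F) = _
      rw [← map_mul, ← Units.val_mul, ← pow_two, hz, map_smul, map_one]
    have hxdet : (x : Matrix (Fin (2 * b)) (Fin (2 * b)) F).det = 1 := CfsgLib.Geo.mem_specialLinear.1 hx
    have hz0 : z ≠ 0 := fun h => by
      rw [h, zero_smul] at hz
      exact (x ^ 2).ne_zero hz
    -- a basis in block form
    obtain ⟨v, A, B, U, hv, hA, hB, hU⟩ : ∃ (v : Module.Basis (Fin 2 × Fin b) F (Fin (2 * b) → F)) (A : Matrix (Fin 2) (Fin 2) F)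
        (B : Fin b → F) (U : F → Matrix (Fin 2) (Fin 2) F),
        (∀ s i, T (v (s, i)) = ∑ t, (B i • A) t s • v (t, i)) ∧ A.det ≠ 0 ∧ (∀ i, B i ≠ 0) ∧
        (∀ c, c ≠ 0 → (U c).det = c ∧ U c * A = A * U c) := by
      by_cases hsq : ∃ lam, lam * lam = z
      · obtain ⟨lam, hlam⟩ := hsq
        have hl0 : lam ≠ 0 := fun h => hz0 (by rw [← hlam, h, mul_zero])
        set S := lam⁻¹ • T with hS
        have hSS : S * S = 1 := by
          rw [hS, smul_mul_smul_comm, hTT, smul_smul, ← hlam]
          field_simp
          rw [one_smul]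
        have hTS : T = lam • S := by rw [hS, smul_smul, mul_inv_cancel₀ hl0, one_smul]
        -- both eigenspaces have even dimension
        set K := LinearMap.ker (S - 1) with hK
        set K' := LinearMap.ker (S + 1) with hK'
        have hSS' : ∀ w, S (S w) = w := fun w => LinearMap.congr_fun hSS w
        have hc : IsCompl K K' := by
          refine ⟨Submodule.disjoint_def.2 fun w h1 h2 => ?_, codisjoint_iff.2 (eq_top_iff.2 fun w _ => ?_)⟩
          · have e1 : S w = w := sub_eq_zero.1 h1
            have e2 : S w = -w := eq_neg_of_add_eq_zero_left h2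
            have : (2 : F) • w = 0 := by rw [two_smul]; nth_rw 1 [← e1]; rw [e2, neg_add_cancel]
            exact (smul_eq_zero.1 this).resolve_left h2F
          · refine Submodule.mem_sup.2 ⟨(2 : F)⁻¹ • (w + S w), ?_, (2 : F)⁻¹ • (w - S w), ?_, ?_⟩
            · simp [hK, hSS']; abel
            · simp [hK', hSS']
            · rw [← smul_add, show w + S w + (w - S w) = (2 : F) • w by rw [two_smul]; abel, smul_smul,
                inv_mul_cancel₀ h2F, one_smul]
        have hdims := Submodule.finrank_add_eq_of_isCompl hc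
        rw [Module.finrank_fin_fun] at hdims
        have hdet : lam ^ (2 * b) * (-1 : F) ^ Module.finrank F K' = 1 := by
          set e' := Submodule.prodEquivOfIsCompl K K' hc
          have hSe : S = (e' : (K × K') →ₗ[F] (Fin (2 * b) → F)) ∘ₗ
              ((LinearMap.id : K →ₗ[F] K).prodMap ((-1 : F) • LinearMap.id : K' →ₗ[F] K')) ∘ₗ
              (e'.symm : (Fin (2 * b) → F) →ₗ[F] (K × K')) := by
            refine LinearMap.ext fun w => ?_
            obtain ⟨y, rfl⟩ := e'.surjective w
            have e1 : S (y.1 : Fin (2 * b) → F) = y.1 := sub_eq_zero.1 y.1.2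
            have e2 : S (y.2 : Fin (2 * b) → F) = -y.2 := eq_neg_of_add_eq_zero_left y.2.2
            simp [e', e1, e2]
          have h := congrArg LinearMap.det hTS
          rw [hT, LinearMap.det_toLin', hxdet, LinearMap.det_smul, hSe, LinearMap.det_conj, LinearMap.det_prodMap,
            LinearMap.det_smul, LinearMap.det_id, LinearMap.det_id, Module.finrank_fin_fun, one_mul, mul_one] at h
          exact h.symm
        have heven : Even (Module.finrank F K') := by
          by_contra hne
          rw [Nat.not_even_iff_odd] at hne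
          rw [hne.neg_one_pow] at hdet
          obtain ⟨t, ht⟩ : 2 ^ padicValNat 2 (Fintype.card F - 1) ∣ 2 * b := (pow_dvd_pow 2 hcond).trans pow_padicValNat_dvd
          obtain ⟨s, hs⟩ : 2 ^ padicValNat 2 (Fintype.card F - 1) ∣ Fintype.card F - 1 := pow_padicValNat_dvd
          have hq1 := Fintype.one_lt_card (α := F)
          have hsodd : Odd s := by
            rw [← Nat.not_even_iff_odd]
            rintro ⟨u, rfl⟩
            have hd : 2 ^ (padicValNat 2 (Fintype.card F - 1) + 1) ∣ Fintype.card F - 1 := by
              refine ⟨u, hs.trans ?_⟩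
              ring
            have := (padicValNat_dvd_iff_le (by omega)).1 hd
            omega
          have hone : (lam ^ (2 * b)) ^ s = 1 := by
            rw [← pow_mul, ht, mul_right_comm, ← hs, pow_mul, FiniteField.pow_card_sub_one_eq_one lam hl0, one_pow]
          rw [show lam ^ (2 * b) = -1 by linear_combination -hdet, hsodd.neg_one_pow] at hone
          exact h2F (by linear_combination -hone)
        obtain ⟨u, hu⟩ := heven
        obtain ⟨v, hv⟩ := CfsgLib.Elusive.exists_involution_basis hSS h2F (m := b) (k := b - u)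
          (Module.finrank_fin_fun F) (by rw [← hK]; omega)
        refine ⟨v, 1, fun i => lam * if (i : ℕ) < b - u then 1 else -1, fun c => Matrix.diagonal ![c, 1], fun s i => ?_,
          by simp, fun i => mul_ne_zero hl0 (by split <;> simp), fun c _ => ⟨by simp [Matrix.det_diagonal], by simp⟩⟩
        rw [hTS, LinearMap.smul_apply, hv, smul_smul, Fin.sum_univ_two]
        fin_cases s <;> simp
      · push Not at hsq
        obtain ⟨v, hv⟩ := CfsgLib.Elusive.exists_kummer_basis hTT (fun y => by rw [pow_two]; exact hsq y) (m := b)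
          (Module.finrank_fin_fun F)
        have hchar : ringChar F ≠ 2 := fun h => h2F (by
          haveI : CharP F 2 := ringChar.of_eq h
          exact CharP.cast_eq_zero F 2)
        have hnorm : ∀ c : F, ∃ u w : F, u * u - z * (w * w) = c := fun c => by
          obtain ⟨u, w, h⟩ := FiniteField.exists_root_sum_quadratic (R := F) (f := Polynomial.X ^ 2 - Polynomial.C c)
            (g := Polynomial.C (-z) * Polynomial.X ^ 2) (Polynomial.degree_X_pow_sub_C two_pos c)
            (Polynomial.degree_C_mul_X_pow 2 (neg_ne_zero.2 hz0)) (FiniteField.odd_card_of_char_ne_two hchar)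
          simp only [Polynomial.eval_sub, Polynomial.eval_pow, Polynomial.eval_X, Polynomial.eval_C, Polynomial.eval_mul] at h
          exact ⟨u, w, by linear_combination h⟩
        choose u w huw using hnorm
        refine ⟨v, !![0, z; 1, 0], fun _ => 1, fun c => !![u c, z * w c; w c, u c], fun s i => ?_, ?_, fun _ => one_ne_zero,
          fun c _ => ⟨?_, ?_⟩⟩
        · rw [one_smul, Fin.sum_univ_two]
          fin_cases s <;> simp [hv]
        · simp [Matrix.det_fin_two, hz0]
        · rw [Matrix.det_fin_two_of]; linear_combination huw c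
        · ext i j
          fin_cases i <;> fin_cases j <;> simp [Matrix.mul_apply, Fin.sum_univ_two] <;> ring
    -- adjust the determinant
    let M : Matrix (Fin (2 * b)) (Fin (2 * b)) F := Matrix.of fun l k => v (e k) l
    have hMdet : M.det ≠ 0 := by
      intro h
      obtain ⟨c, hc0, hc⟩ := Matrix.exists_mulVec_eq_zero_iff.2 h
      refine hc0 (funext fun k => ?_)
      have hsum : ∑ k, c k • v (e k) = 0 := by
        rw [← hc]
        funext l
        simp [M, Matrix.mulVec, dotProduct, mul_comm]
      exact Fintype.linearIndependent_iff.1 (v.linearIndependent.comp e e.injective) c hsum k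
    set K : Matrix (Fin 2 × Fin b) (Fin 2 × Fin b) F := A ⊗ₖ Matrix.diagonal B with hK
    have hKblock : K = Matrix.blockDiagonal fun i => B i • A := by
      ext ⟨s, i⟩ ⟨t, k⟩
      by_cases h : i = k
      · subst h; simp [hK, Matrix.blockDiagonal_apply, mul_comm]
      · simp [hK, Matrix.blockDiagonal_apply, h]
    have hxM : (x : Matrix (Fin (2 * b)) (Fin (2 * b)) F) * M = M * K.submatrix e e := by
      ext l k
      obtain ⟨⟨s, i⟩, rfl⟩ := e.symm.surjective k
      rw [Matrix.mul_apply, Matrix.mul_apply, ← e.symm.sum_comp fun y => M l y * K.submatrix e e y (e.symm (s, i)),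
        Fintype.sum_prod_type]
      have h := congrFun (hv s i) l
      rw [hT, Matrix.toLin'_apply, Matrix.mulVec, dotProduct] at h
      simp only [M, Matrix.of_apply, Equiv.apply_symm_apply, Matrix.submatrix_apply, hKblock, Matrix.blockDiagonal_apply,
        mul_ite, mul_zero, Finset.sum_ite_eq', Finset.mem_univ, if_true]
      rw [h, Finset.sum_apply]
      exact Finset.sum_congr rfl fun t _ => by rw [Pi.smul_apply, smul_eq_mul, mul_comm]
    obtain ⟨i', hi'⟩ : ∃ i' : Fin b, True := ⟨⟨0, by omega⟩, trivial⟩
    set c := (P : Matrix (Fin (2 * b)) (Fin (2 * b)) F).det / M.det with hcdef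
    obtain ⟨hUd, hUA⟩ := hU c (div_ne_zero P.det_ne_zero hMdet)
    set R := (Matrix.blockDiagonal (Function.update (fun _ => (1 : Matrix (Fin 2) (Fin 2) F)) i' (U c))).submatrix e e with hR
    have hRK : R * K.submatrix e e = K.submatrix e e * R := by
      rw [hR, Matrix.submatrix_mul_equiv, Matrix.submatrix_mul_equiv, hKblock, ← Matrix.blockDiagonal_mul, ← Matrix.blockDiagonal_mul]
      congr 2
      funext i
      by_cases h : i = i'
      · subst h
        simp [hUA]
      · simp [Function.update_of_ne h]
    have hRdet : R.det = c := by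
      rw [hR, Matrix.det_submatrix_equiv_self, Matrix.det_blockDiagonal, Finset.prod_eq_single i']
      · simp [hUd]
      · intro j _ hj; simp [Function.update_of_ne hj]
      · intro h; exact absurd (Finset.mem_univ _) h
    set G := M * R * ((P⁻¹ : GL (Fin (2 * b)) F) : Matrix (Fin (2 * b)) (Fin (2 * b)) F) with hG
    have hGdet : G.det = 1 := by
      rw [hG, Matrix.det_mul, Matrix.det_mul, hRdet, hcdef]
      have h1 : (P : Matrix (Fin (2 * b)) (Fin (2 * b)) F).det * ((P⁻¹ : GL (Fin (2 * b)) F) : Matrix (Fin (2 * b)) (Fin (2 * b)) F).det = 1 := by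
        rw [← Matrix.det_mul, Units.mul_inv, Matrix.det_one]
      field_simp
      linear_combination h1
    let g : GL (Fin (2 * b)) F := Matrix.GeneralLinearGroup.mkOfDetNeZero G (by rw [hGdet]; exact one_ne_zero)
    let A' : GL (Fin 2) F := Matrix.GeneralLinearGroup.mkOfDetNeZero A hA
    let B' : GL (Fin b) F := Matrix.GeneralLinearGroup.mkOfDetNeZero (Matrix.diagonal B)
      (by rw [Matrix.det_diagonal]; exact Finset.prod_ne_zero_iff.2 fun i _ => hB i)
    refine ⟨g, CfsgLib.Geo.mem_specialLinear.2 hGdet, (hmemK _).2 ⟨A', B', ?_⟩⟩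
    show _ = (P : Matrix (Fin (2 * b)) (Fin (2 * b)) F) * K.submatrix e e * _
    have key : (x : Matrix (Fin (2 * b)) (Fin (2 * b)) F) * G = G * ((P : Matrix (Fin (2 * b)) (Fin (2 * b)) F) * K.submatrix e e *
        ((P⁻¹ : GL (Fin (2 * b)) F) : Matrix (Fin (2 * b)) (Fin (2 * b)) F)) := by
      calc (x : Matrix (Fin (2 * b)) (Fin (2 * b)) F) * G = ((x : Matrix (Fin (2 * b)) (Fin (2 * b)) F) * M) * R * ((P⁻¹ : GL (Fin (2 * b)) F) : Matrix (Fin (2 * b)) (Fin (2 * b)) F) := by
            simp only [hG, Matrix.mul_assoc]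
        _ = M * (K.submatrix e e * R) * ((P⁻¹ : GL (Fin (2 * b)) F) : Matrix (Fin (2 * b)) (Fin (2 * b)) F) := by
            rw [hxM]; simp only [Matrix.mul_assoc]
        _ = M * R * (((P⁻¹ : GL (Fin (2 * b)) F) : Matrix (Fin (2 * b)) (Fin (2 * b)) F) * (P : Matrix (Fin (2 * b)) (Fin (2 * b)) F)) *
            K.submatrix e e * ((P⁻¹ : GL (Fin (2 * b)) F) : Matrix (Fin (2 * b)) (Fin (2 * b)) F) := by
            rw [← hRK, Units.inv_mul, Matrix.mul_one]; simp only [Matrix.mul_assoc]
        _ = _ := by simp only [hG, Matrix.mul_assoc]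
    rw [Units.val_mul, Units.val_mul, Matrix.mul_assoc, show (g : Matrix (Fin (2 * b)) (Fin (2 * b)) F) = G from rfl, key,
      ← Matrix.mul_assoc, show ((g⁻¹ : GL (Fin (2 * b)) F) : Matrix (Fin (2 * b)) (Fin (2 * b)) F) * G = 1 from g.inv_mul,
      Matrix.one_mul]

end Cfsg.Agent.S5979
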