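import Cfsg.Statements.S5980
import Cfsg.Agent.Elusive.Construct
import Cfsg.Agent.Elusive.TensorFix
import Cfsg.Agent.Classical.SymplecticBlocks


set_option autoImplicit false
open scoped MatrixGroups
open Cfsg

namespace Cfsg.Agent.S5980
open scoped Matrix Kronecker

set_option maxHeartbeats 4000000

/-- Elements of prime order of PSp_n(q), q odd, and the stabilizers of tensor decompositions Sp_a(q) ⊗ O_b(q). Here `T = PSp_{2d}(F)` for a field `F` with `q` elements, `q` odd, `d ≥ 2`, realised through the matrices preserving the standard alternating form `f`; `2d = a·b` with `a` even, `b ≥ 3`, and the bijection `e` and change of basis `P` exhibit `f` as a non-zero scalar multiple of the tensor product of a non-degenerate alternating form `f₁` on `F^a` and a non-degenerate symmetric bilinear form `f₂` on `F^b`; `H` is the subgroup of `T` stabilizing this tensor decomposition (the elements of `T` in the conjugate by `P` of the group of Kronecker products) — a subgroup of type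 Sp_a(q) ⊗ O^ε_b(q) (maximality is not assumed). Ω is the set of cosets of `H` in `T`, so an element of `T` of prime order `r` (`x ∈ T` with `x^r` scalar, `x` not scalar) fixes a point of Ω exactly when some `T`-conjugate of `x` lies in `H`. Let `r` be a prime dividing the index of `H`. Then every element of `T` of order `r` fixes a point of Ω if and only if `r = 2` and `a = 2`. -/
theorem result {F : Type*} [Field F] [Fintype F] {p : ℕ} [Fact p.Prime] [CharP F p] {q : ℕ} (hq : Fintype.card F = q)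
    (hodd : Odd q) (d : ℕ) (hd : 2 ≤ d) (a b : ℕ) (hab : 2 * d = a * b) (ha : Even a) (ha2 : 2 ≤ a) (hb : 3 ≤ b)
    (e : (Fin d ⊕ Fin d) ≃ Fin a × Fin b) (P : GL (Fin d ⊕ Fin d) F)
    (f₁ : (Fin a → F) → (Fin a → F) → F) (f₂ : (Fin b → F) → (Fin b → F) → F)
    (hf₁ : Cfsg.Geo.IsSymplecticForm f₁) (hf₂ : Cfsg.Geo.IsSymmetricForm f₂)
    (hS : Cfsg.Geo.IsTensorFormStructure id (Cfsg.sympForm d F) f₁ f₂ e P)
    (r : ℕ) [Fact r.Prime]
    (hΩ : r ∣ (Cfsg.Geo.tensorProductSubgroup a b e P).relIndex (Cfsg.spGL d F)) :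
    (∀ x ∈ Cfsg.spGL d F, (∃ z : F, ((x ^ r : GL (Fin d ⊕ Fin d) F) : Matrix (Fin d ⊕ Fin d) (Fin d ⊕ Fin d) F) = z • (1 : Matrix (Fin d ⊕ Fin d) (Fin d ⊕ Fin d) F)) →
      (∀ z : F, (x : Matrix (Fin d ⊕ Fin d) (Fin d ⊕ Fin d) F) ≠ z • (1 : Matrix (Fin d ⊕ Fin d) (Fin d ⊕ Fin d) F)) →
      ∃ g ∈ Cfsg.spGL d F, g⁻¹ * x * g ∈ Cfsg.Geo.tensorProductSubgroup a b e P) ↔ (r = 2 ∧ a = 2) := by
  classical
  subst hq
  have hrr : r.Prime := Fact.out
  have hpp : p.Prime := Fact.out
  have hchar : ringChar F ≠ 2 := fun h => by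
    haveI : CharP F 2 := ringChar.of_eq h
    obtain ⟨k, -, hk⟩ := FiniteField.card F 2
    rw [hk] at hodd
    exact Nat.not_even_iff_odd.2 hodd (Nat.even_pow.2 ⟨even_two, k.ne_zero⟩)
  have h2 : (2 : F) ≠ 0 := Ring.two_ne_zero hchar
  obtain ⟨κ, hκ, hSf⟩ := hS
  set G1 := Cfsg.Geo.gramMatrix f₁ with hG1
  set G2 := Cfsg.Geo.gramMatrix f₂ with hG2
  have hG1d : G1.det ≠ 0 := CfsgLib.Elusive.TensorFix.gram_det_ne_zero hf₁.bilinear hf₁.nondegenerate
  have hG2d : G2.det ≠ 0 := CfsgLib.Elusive.TensorFix.gram_det_ne_zero hf₂.bilinear hf₂.nondegenerate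
  have hf : ∀ x y : Fin a × Fin b → F, Cfsg.sympForm d F ((P : Matrix (Fin d ⊕ Fin d) (Fin d ⊕ Fin d) F) *ᵥ (x ∘ e))
      ((P : Matrix (Fin d ⊕ Fin d) (Fin d ⊕ Fin d) F) *ᵥ (y ∘ e)) = κ * (x ⬝ᵥ (G1 ⊗ₖ G2) *ᵥ y) := fun x y => by
    rw [hSf, CfsgLib.Elusive.TensorFix.formOfGram_eq]
  have hmemK : ∀ y : GL (Fin d ⊕ Fin d) F, y ∈ Cfsg.Geo.tensorProductSubgroup a b e P ↔
      ∃ (A : GL (Fin a) F) (B : GL (Fin b) F), (y : Matrix (Fin d ⊕ Fin d) (Fin d ⊕ Fin d) F) = (P : Matrix (Fin d ⊕ Fin d) (Fin d ⊕ Fin d) F) *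
        ((A : Matrix (Fin a) (Fin a) F) ⊗ₖ (B : Matrix (Fin b) (Fin b) F)).submatrix e e * ((P⁻¹ : GL (Fin d ⊕ Fin d) F) : Matrix (Fin d ⊕ Fin d) (Fin d ⊕ Fin d) F) := by
    intro y
    constructor
    · rintro ⟨_, ⟨k, ⟨A, B, hk⟩, rfl⟩, rfl⟩
      refine ⟨A, B, ?_⟩
      simp [Cfsg.Geo.glReindex, hk, Matrix.reindexAlgEquiv_apply]
    · rintro ⟨A, B, hy⟩
      let k : GL (Fin a × Fin b) F :=
        ⟨(A : Matrix (Fin a) (Fin a) F) ⊗ₖ (B : Matrix (Fin b) (Fin b) F),
          ((A⁻¹ : GL (Fin a) F) : Matrix (Fin a) (Fin a) F) ⊗ₖ ((B⁻¹ : GL (Fin b) F) : Matrix (Fin b) (Fin b) F),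
          by rw [← Matrix.mul_kronecker_mul, Units.mul_inv, Units.mul_inv, Matrix.one_kronecker_one],
          by rw [← Matrix.mul_kronecker_mul, Units.inv_mul, Units.inv_mul, Matrix.one_kronecker_one]⟩
      refine ⟨_, ⟨k, ⟨A, B, rfl⟩, rfl⟩, Units.ext ?_⟩
      rw [hy]
      simp [Cfsg.Geo.glReindex, k, Matrix.reindexAlgEquiv_apply]
  constructor
  · intro hall
    -- the shape of an element of the stabilizer
    have hwit : ∀ x : GL (Fin d ⊕ Fin d) F, x ∈ Cfsg.spGL d F →
        (∃ g ∈ Cfsg.spGL d F, g⁻¹ * x * g ∈ Cfsg.Geo.tensorProductSubgroup a b e P) →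
        ∃ (A : GL (Fin a) F) (B : GL (Fin b) F) (E : (Fin d ⊕ Fin d → F) ≃ₗ[F] Matrix (Fin a) (Fin b) F) (μ : F),
          (∀ v, E ((x : Matrix (Fin d ⊕ Fin d) (Fin d ⊕ Fin d) F) *ᵥ v) = (A : Matrix (Fin a) (Fin a) F) * E v * (B : Matrix (Fin b) (Fin b) F).transpose) ∧
          μ ≠ 0 ∧ (A : Matrix (Fin a) (Fin a) F).transpose * G1 * (A : Matrix (Fin a) (Fin a) F) = μ • G1 ∧
          (B : Matrix (Fin b) (Fin b) F).transpose * G2 * (B : Matrix (Fin b) (Fin b) F) = μ⁻¹ • G2 := by
      rintro x hxm ⟨g, hgm, hg⟩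
      obtain ⟨A, B, hy⟩ := (hmemK _).1 hg
      have hym : g⁻¹ * x * g ∈ Cfsg.spGL d F := mul_mem (mul_mem (inv_mem hgm) hxm) hgm
      set Q := g * P with hQ
      have hx : (x : Matrix (Fin d ⊕ Fin d) (Fin d ⊕ Fin d) F) = (Q : Matrix (Fin d ⊕ Fin d) (Fin d ⊕ Fin d) F) *
          ((A : Matrix (Fin a) (Fin a) F) ⊗ₖ (B : Matrix (Fin b) (Fin b) F)).submatrix e e * ((Q⁻¹ : GL (Fin d ⊕ Fin d) F) : Matrix (Fin d ⊕ Fin d) (Fin d ⊕ Fin d) F) := by
        have h1 : x = g * (g⁻¹ * x * g) * g⁻¹ := by group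
        rw [h1, Units.val_mul, Units.val_mul _ (g⁻¹ * x * g), hy, hQ, mul_inv_rev, Units.val_mul, Units.val_mul]
        simp only [Matrix.mul_assoc]
      let L : (Fin d ⊕ Fin d → F) →ₗ[F] Matrix (Fin a) (Fin b) F :=
        { toFun := fun v => Matrix.of fun s i => (((Q⁻¹ : GL (Fin d ⊕ Fin d) F) : Matrix (Fin d ⊕ Fin d) (Fin d ⊕ Fin d) F) *ᵥ v) (e.symm (s, i))
          map_add' := fun u v => by ext s i; simp [Matrix.mulVec_add]
          map_smul' := fun c v => by ext s i; simp [Matrix.mulVec_smul] }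
      have hinj : Function.Injective L := fun u v huv => by
        have h1 : ((Q⁻¹ : GL (Fin d ⊕ Fin d) F) : Matrix (Fin d ⊕ Fin d) (Fin d ⊕ Fin d) F) *ᵥ u = ((Q⁻¹ : GL (Fin d ⊕ Fin d) F) : Matrix (Fin d ⊕ Fin d) (Fin d ⊕ Fin d) F) *ᵥ v :=
          funext fun j => by
            have := congrFun (congrFun huv (e j).1) (e j).2
            simpa [L] using this
        have h2 := congrArg (fun w => (Q : Matrix (Fin d ⊕ Fin d) (Fin d ⊕ Fin d) F) *ᵥ w) h1
        simpa [Matrix.mulVec_mulVec] using h2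
      -- the multipliers
      set K := (A : Matrix (Fin a) (Fin a) F) ⊗ₖ (B : Matrix (Fin b) (Fin b) F) with hK
      have hKG : K.transpose * (G1 ⊗ₖ G2) * K = G1 ⊗ₖ G2 := by
        have hPx : ∀ w : Fin a × Fin b → F, ((g⁻¹ * x * g : GL (Fin d ⊕ Fin d) F) : Matrix (Fin d ⊕ Fin d) (Fin d ⊕ Fin d) F) *ᵥ
            ((P : Matrix (Fin d ⊕ Fin d) (Fin d ⊕ Fin d) F) *ᵥ (w ∘ e)) =
            (P : Matrix (Fin d ⊕ Fin d) (Fin d ⊕ Fin d) F) *ᵥ ((K *ᵥ w) ∘ e) := fun w => by
          rw [hy, ← Matrix.mulVec_mulVec, ← Matrix.mulVec_mulVec, Matrix.mulVec_mulVec _ _ (P : Matrix (Fin d ⊕ Fin d) (Fin d ⊕ Fin d) F),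
            Units.inv_mul, Matrix.one_mulVec, Matrix.submatrix_mulVec_equiv]
          simp [Function.comp_assoc]
        have hB : ∀ u v, u ⬝ᵥ (K.transpose * (G1 ⊗ₖ G2) * K) *ᵥ v = u ⬝ᵥ (G1 ⊗ₖ G2) *ᵥ v := fun u v => by
          have h1 := hf (K *ᵥ u) (K *ᵥ v)
          rw [← hPx, ← hPx] at h1
          rw [show Cfsg.sympForm d F (((g⁻¹ * x * g : GL (Fin d ⊕ Fin d) F) : Matrix (Fin d ⊕ Fin d) (Fin d ⊕ Fin d) F) *ᵥ
              ((P : Matrix (Fin d ⊕ Fin d) (Fin d ⊕ Fin d) F) *ᵥ (u ∘ e))) (((g⁻¹ * x * g : GL (Fin d ⊕ Fin d) F) : Matrix (Fin d ⊕ Fin d) (Fin d ⊕ Fin d) F) *ᵥ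
              ((P : Matrix (Fin d ⊕ Fin d) (Fin d ⊕ Fin d) F) *ᵥ (v ∘ e))) = Cfsg.sympForm d F ((P : Matrix (Fin d ⊕ Fin d) (Fin d ⊕ Fin d) F) *ᵥ (u ∘ e))
              ((P : Matrix (Fin d ⊕ Fin d) (Fin d ⊕ Fin d) F) *ᵥ (v ∘ e)) from hym _ _, hf] at h1
          rw [mul_right_inj' hκ] at h1
          rw [h1, ← Matrix.mulVec_mulVec, ← Matrix.mulVec_mulVec, Matrix.dotProduct_mulVec u K.transpose, Matrix.vecMul_transpose]
        ext i k
        have := hB (Pi.single i 1) (Pi.single k 1)
        rw [Matrix.mulVec_single_one, Matrix.mulVec_single_one, single_one_dotProduct, single_one_dotProduct] at this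
        exact this
      rw [hK, ← Matrix.kroneckerMap_transpose, ← Matrix.mul_kronecker_mul, ← Matrix.mul_kronecker_mul] at hKG
      set X1 := (A : Matrix (Fin a) (Fin a) F).transpose * G1 * (A : Matrix (Fin a) (Fin a) F) with hX1
      set X2 := (B : Matrix (Fin b) (Fin b) F).transpose * G2 * (B : Matrix (Fin b) (Fin b) F) with hX2
      have hent : ∀ s t i j, X1 s t * X2 i j = G1 s t * G2 i j := fun s t i j => congrFun (congrFun hKG (s, i)) (t, j)
      obtain ⟨i₀, j₀, hij⟩ : ∃ i₀ j₀, X2 i₀ j₀ ≠ 0 := by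
        by_contra h
        push Not at h
        haveI : Nonempty (Fin b) := ⟨⟨0, by omega⟩⟩
        have h' : X2 = 0 := Matrix.ext h
        have hd' := congrArg Matrix.det h'
        rw [hX2, Matrix.det_mul, Matrix.det_mul, Matrix.det_transpose, Matrix.det_zero] at hd'
        simp [hG2d, B.det_ne_zero] at hd'
      set μ := G2 i₀ j₀ / X2 i₀ j₀ with hμdef
      have hA' : X1 = μ • G1 := Matrix.ext fun s t => by
        rw [Matrix.smul_apply, smul_eq_mul, hμdef, div_mul_eq_mul_div, eq_div_iff hij, hent]; ring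
      have hμ0 : μ ≠ 0 := fun h => by
        haveI : Nonempty (Fin a) := ⟨⟨0, by omega⟩⟩
        rw [h, zero_smul] at hA'
        have hd' := congrArg Matrix.det hA'
        rw [hX1, Matrix.det_mul, Matrix.det_mul, Matrix.det_transpose, Matrix.det_zero] at hd'
        simp [hG1d, A.det_ne_zero] at hd'
      obtain ⟨s₀, t₀, hst⟩ : ∃ s₀ t₀, G1 s₀ t₀ ≠ 0 := by
        by_contra h
        push Not at h
        haveI : Nonempty (Fin a) := ⟨⟨0, by omega⟩⟩
        exact hG1d (by rw [show G1 = 0 from Matrix.ext h, Matrix.det_zero])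
      refine ⟨A, B, LinearEquiv.ofBijective L ⟨hinj, ?_⟩, μ, fun v => ?_, hμ0, hA', Matrix.ext fun i j => ?_⟩
      · refine (LinearMap.injective_iff_surjective_of_finrank_eq_finrank ?_).1 hinj
        rw [Module.finrank_fintype_fun_eq_card, Module.finrank_matrix, Fintype.card_fin, Fintype.card_fin, Module.finrank_self, mul_one,
          Fintype.card_congr e, Fintype.card_prod, Fintype.card_fin, Fintype.card_fin]
      · ext s i
        show (((Q⁻¹ : GL (Fin d ⊕ Fin d) F) : Matrix (Fin d ⊕ Fin d) (Fin d ⊕ Fin d) F) *ᵥ ((x : Matrix (Fin d ⊕ Fin d) (Fin d ⊕ Fin d) F) *ᵥ v)) (e.symm (s, i)) =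
          ((A : Matrix (Fin a) (Fin a) F) * L v * (B : Matrix (Fin b) (Fin b) F).transpose) s i
        rw [hx, Matrix.mulVec_mulVec, ← Matrix.mul_assoc, ← Matrix.mul_assoc, Units.inv_mul, Matrix.one_mul, ← Matrix.mulVec_mulVec,
          Matrix.submatrix_mulVec_equiv, Function.comp_apply, Equiv.apply_symm_apply, Matrix.mulVec, dotProduct,
          Fintype.sum_prod_type, Matrix.mul_apply]
        simp only [hK, Matrix.mul_apply, Matrix.transpose_apply, Matrix.kroneckerMap_apply, Function.comp_apply, Finset.sum_mul, L,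
          LinearMap.coe_mk, AddHom.coe_mk, Matrix.of_apply]
        rw [Finset.sum_comm]
        refine Finset.sum_congr rfl fun i' _ => Finset.sum_congr rfl fun s' _ => ?_
        ring
      · have h := hent s₀ t₀ i j
        rw [hA', Matrix.smul_apply, smul_eq_mul] at h
        rw [Matrix.smul_apply, smul_eq_mul]
        refine mul_left_cancel₀ (mul_ne_zero hμ0 hst) ?_
        rw [← mul_assoc, show μ * G1 s₀ t₀ * μ⁻¹ = G1 s₀ t₀ by field_simp]
        exact h
    -- eigenspaces
    have htrans : ∀ (x : GL (Fin d ⊕ Fin d) F) (A : GL (Fin a) F) (B : GL (Fin b) F) (E : (Fin d ⊕ Fin d → F) ≃ₗ[F] Matrix (Fin a) (Fin b) F),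
        (∀ v, E ((x : Matrix (Fin d ⊕ Fin d) (Fin d ⊕ Fin d) F) *ᵥ v) = (A : Matrix (Fin a) (Fin a) F) * E v * (B : Matrix (Fin b) (Fin b) F).transpose) →
        ∀ lam, Module.finrank F (LinearMap.ker (Matrix.toLin' (x : Matrix (Fin d ⊕ Fin d) (Fin d ⊕ Fin d) F) - lam • LinearMap.id)) =
          Module.finrank F (CfsgLib.Elusive.TensorFix.eig (A : Matrix (Fin a) (Fin a) F) (B : Matrix (Fin b) (Fin b) F) lam) := by
      intro x A B E hE lam
      have heq : (LinearMap.ker (Matrix.toLin' (x : Matrix (Fin d ⊕ Fin d) (Fin d ⊕ Fin d) F) - lam • LinearMap.id)).map (E : (Fin d ⊕ Fin d → F) →ₗ[F] Matrix (Fin a) (Fin b) F) =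
          CfsgLib.Elusive.TensorFix.eig (A : Matrix (Fin a) (Fin a) F) (B : Matrix (Fin b) (Fin b) F) lam := ?_
      · rw [← heq, LinearEquiv.finrank_map_eq]
      ext Y
      rw [Submodule.mem_map_equiv, LinearMap.mem_ker, LinearMap.sub_apply, Matrix.toLin'_apply, LinearMap.smul_apply,
        LinearMap.id_apply, ← E.map_eq_zero_iff, map_sub, map_smul, hE, E.apply_symm_apply, sub_eq_zero,
        CfsgLib.Elusive.TensorFix.mem_eig]
    have hcardI : Module.finrank F (Fin d ⊕ Fin d → F) = a * b := by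
      rw [Module.finrank_fintype_fun_eq_card, Fintype.card_sum, Fintype.card_fin, ← hab, two_mul]
    have hns1 : ∀ (x : GL (Fin d ⊕ Fin d) F) (lam : F),
        0 < Module.finrank F (LinearMap.ker (Matrix.toLin' (x : Matrix (Fin d ⊕ Fin d) (Fin d ⊕ Fin d) F) - lam • LinearMap.id)) →
        Module.finrank F (LinearMap.ker (Matrix.toLin' (x : Matrix (Fin d ⊕ Fin d) (Fin d ⊕ Fin d) F) - lam • LinearMap.id)) < a * b →
        ∀ z : F, (x : Matrix (Fin d ⊕ Fin d) (Fin d ⊕ Fin d) F) ≠ z • (1 : Matrix (Fin d ⊕ Fin d) (Fin d ⊕ Fin d) F) := by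
      intro x lam h1 h2 z hz
      rw [hz, map_smul, Matrix.toLin'_one, show z • (LinearMap.id : (Fin d ⊕ Fin d → F) →ₗ[F] (Fin d ⊕ Fin d → F)) - lam • LinearMap.id =
          (z - lam) • LinearMap.id from (sub_smul z lam _).symm] at h1 h2
      rcases eq_or_ne z lam with rfl | hne
      · rw [sub_self, zero_smul, LinearMap.ker_zero, finrank_top, hcardI] at h2
        omega
      · rw [LinearMap.ker_smul _ _ (sub_ne_zero.2 hne), LinearMap.ker_id, finrank_bot] at h1
        omega
    have hbad : ∀ x ∈ Cfsg.spGL d F,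
        (∃ z : F, ((x ^ r : GL (Fin d ⊕ Fin d) F) : Matrix (Fin d ⊕ Fin d) (Fin d ⊕ Fin d) F) = z • (1 : Matrix (Fin d ⊕ Fin d) (Fin d ⊕ Fin d) F)) →
        ∀ lam : F, a * b - b < Module.finrank F (LinearMap.ker (Matrix.toLin' (x : Matrix (Fin d ⊕ Fin d) (Fin d ⊕ Fin d) F) - lam • LinearMap.id)) →
        Module.finrank F (LinearMap.ker (Matrix.toLin' (x : Matrix (Fin d ⊕ Fin d) (Fin d ⊕ Fin d) F) - lam • LinearMap.id)) < a * b →
        ∀ μ : F, a ∣ Module.finrank F (LinearMap.ker (Matrix.toLin' (x : Matrix (Fin d ⊕ Fin d) (Fin d ⊕ Fin d) F) - μ • LinearMap.id)) := by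
      intro x hx hxz lam h1 h2' μ
      obtain ⟨A, B, E, -, hE, -, -, -⟩ := hwit x hx (hall x hx hxz (hns1 x lam (by omega) h2'))
      by_cases hA : ∃ c : F, (A : Matrix (Fin a) (Fin a) F) = c • 1
      · obtain ⟨c, hc⟩ := hA
        rw [htrans x A B E hE, hc, CfsgLib.Elusive.TensorFix.finrank_eig_scalar]
        exact dvd_mul_right _ _
      · push Not at hA
        have := CfsgLib.Elusive.TensorFix.finrank_eig_le_of_not_scalar (a := a) (b := b) (by omega) B.det_ne_zero lam hA
        rw [← htrans x A B E hE lam] at this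
        omega
    -- diagonal elements
    let s₁ : Fin d ⊕ Fin d := Sum.inl ⟨0, by omega⟩
    let s₂ : Fin d ⊕ Fin d := Sum.inr ⟨0, by omega⟩
    have hs12 : s₁ ≠ s₂ := Sum.inl_ne_inr
    have hdiag : ∀ η : F, η ≠ 0 → η ≠ 1 → η ^ r = 1 → a ∣ (if η = η⁻¹ then 2 else 1) := by
      intro η hη0 hη1 hηr
      set δ : Fin d ⊕ Fin d → F := fun k => if k = s₁ then η else if k = s₂ then η⁻¹ else 1 with hδ
      let x : GL (Fin d ⊕ Fin d) F :=
        ⟨Matrix.diagonal δ, Matrix.diagonal fun k => (δ k)⁻¹,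
          by rw [Matrix.diagonal_mul_diagonal, ← Matrix.diagonal_one]; congr 1; funext k; exact mul_inv_cancel₀ (by simp only [hδ]; split_ifs <;> simp [hη0]),
          by rw [Matrix.diagonal_mul_diagonal, ← Matrix.diagonal_one]; congr 1; funext k; exact inv_mul_cancel₀ (by simp only [hδ]; split_ifs <;> simp [hη0])⟩
      have hxm : x ∈ Cfsg.spGL d F := by
        have hpair : ∀ i : Fin d, δ (Sum.inl i) * δ (Sum.inr i) = 1 := fun i => by
          by_cases h : i = ⟨0, by omega⟩
          · subst h; simp [hδ, s₁, s₂, hη0]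
          · simp [hδ, s₁, s₂, h]
        have hsym : Matrix.diagonal δ ∈ Matrix.symplecticGroup (Fin d) F := by
          rw [SymplecticGroup.mem_iff, Matrix.diagonal_transpose]
          ext (i | i) (k | k) <;>
            simp [Matrix.mul_diagonal, Matrix.diagonal_mul, Matrix.J, Matrix.one_apply] <;>
            split_ifs with hik <;> first | rfl | (subst hik; linear_combination hpair i)
        exact fun u v => CfsgLib.Symp.form_smul_smul ⟨_, hsym⟩ u v
      have hmul : ∀ v k, Matrix.toLin' (x : Matrix (Fin d ⊕ Fin d) (Fin d ⊕ Fin d) F) v k = δ k * v k := fun v k => by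
        rw [Matrix.toLin'_apply]; exact Matrix.mulVec_diagonal δ v k
      have hd : ∀ ν : F, Module.finrank F (LinearMap.ker (Matrix.toLin' (x : Matrix (Fin d ⊕ Fin d) (Fin d ⊕ Fin d) F) - ν • LinearMap.id)) =
          (Finset.univ.filter fun k => δ k = ν).card := by
        intro ν
        have hmem : ∀ v, v ∈ LinearMap.ker (Matrix.toLin' (x : Matrix (Fin d ⊕ Fin d) (Fin d ⊕ Fin d) F) - ν • LinearMap.id) ↔
            ∀ k, δ k ≠ ν → v k = 0 := fun v => by
          rw [LinearMap.mem_ker, funext_iff]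
          refine forall_congr' fun k => ?_
          rw [LinearMap.sub_apply, Pi.sub_apply, hmul, LinearMap.smul_apply, LinearMap.id_apply, Pi.smul_apply,
            smul_eq_mul, Pi.zero_apply, ← sub_mul, mul_eq_zero, sub_eq_zero, or_iff_not_imp_left]
        let E : LinearMap.ker (Matrix.toLin' (x : Matrix (Fin d ⊕ Fin d) (Fin d ⊕ Fin d) F) - ν • LinearMap.id) ≃ₗ[F]
            ({k // δ k = ν} → F) :=
          { toFun := fun v k => (v : Fin d ⊕ Fin d → F) k.1
            map_add' := fun _ _ => rfl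
            map_smul' := fun _ _ => rfl
            invFun := fun w => ⟨fun k => if h : δ k = ν then w ⟨k, h⟩ else 0, (hmem _).2 fun k hk => dif_neg hk⟩
            left_inv := fun v => Subtype.ext (funext fun k => by
              show (if h : δ k = ν then (v : Fin d ⊕ Fin d → F) k else 0) = _
              split
              · rfl
              · exact ((hmem _).1 v.2 k ‹_›).symm)
            right_inv := fun w => funext fun k => by
              show (if h : δ k.1 = ν then w ⟨k.1, h⟩ else 0) = _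
              rw [dif_pos k.2] }
        rw [E.finrank_eq, Module.finrank_fintype_fun_eq_card, Fintype.card_subtype]
      have hη1' : η⁻¹ ≠ 1 := fun h => hη1 (inv_eq_one.1 h)
      have h1card : (Finset.univ.filter fun k => δ k = 1).card = a * b - 2 := by
        rw [show (Finset.univ.filter fun k => δ k = 1) = (Finset.univ.erase s₁).erase s₂ by
            ext k
            by_cases h : k = s₁ <;> by_cases h' : k = s₂ <;> simp [hδ, h, h', hη1, hη1', hs12.symm],
          Finset.card_erase_of_mem (Finset.mem_erase.2 ⟨hs12.symm, Finset.mem_univ _⟩),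
          Finset.card_erase_of_mem (Finset.mem_univ _), Finset.card_univ, Fintype.card_sum, Fintype.card_fin]
        omega
      have h := hbad x hxm ⟨1, by
          rw [one_smul, Units.val_pow_eq_pow_val]
          show Matrix.diagonal δ ^ r = 1
          rw [Matrix.diagonal_pow, ← Matrix.diagonal_one]
          congr 1
          funext k
          simp only [hδ, Pi.pow_apply]
          split_ifs <;> simp [hηr]⟩ 1 (by rw [hd, h1card]; omega) (by rw [hd, h1card]; omega) η
      rw [hd] at h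
      convert h using 2
      by_cases he' : η = η⁻¹
      · rw [if_pos he', show (Finset.univ.filter fun k => δ k = η) = {s₁, s₂} by
          ext k
          by_cases h : k = s₁ <;> by_cases h' : k = s₂ <;> simp [hδ, h, h', ← he', hη1.symm, hs12.symm], Finset.card_pair hs12]
      · rw [if_neg he', show (Finset.univ.filter fun k => δ k = η) = {s₁} by
          ext k
          by_cases h : k = s₁ <;> by_cases h' : k = s₂ <;> simp [hδ, h, h', hη1.symm, Ne.symm he', hs12.symm], Finset.card_singleton]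
    have ha1 : ¬ a ∣ 1 := fun h => by have := Nat.le_of_dvd one_pos h; omega
    by_cases hr2 : r = 2
    · subst hr2
      refine ⟨rfl, ?_⟩
      have h := hdiag (-1) (neg_ne_zero.2 one_ne_zero) (fun h => h2 (by linear_combination -h)) (by ring)
      rw [if_pos (by rw [inv_neg, inv_one])] at h
      have := Nat.le_of_dvd two_pos h
      omega
    exfalso
    have hrodd : Odd r := hrr.odd_of_ne_two hr2
    by_cases hrp : r = p
    · -- a transvection
      set w : Fin d ⊕ Fin d → F := Pi.single s₁ 1 with hw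
      set M : Matrix (Fin d ⊕ Fin d) (Fin d ⊕ Fin d) F := Matrix.transvection s₁ s₂ (1 : F) with hM
      have hsym : M ∈ Matrix.symplecticGroup (Fin d) F := by
        rw [SymplecticGroup.mem_iff, hM]
        ext (i | i) (k | k) <;>
          simp [Matrix.transvection, Matrix.mul_apply, Matrix.J, Matrix.one_apply, Matrix.single, s₁, s₂, add_mul, mul_add,
            Finset.sum_add_distrib, Fintype.sum_sum_type, ite_and, eq_comm]
        all_goals split_ifs <;> simp_all
      let x : GL (Fin d ⊕ Fin d) F := Matrix.GeneralLinearGroup.mkOfDetNeZero M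
        (by rw [hM, Matrix.det_transvection_of_ne _ _ hs12]; exact one_ne_zero)
      have hxm : x ∈ Cfsg.spGL d F := fun u v => CfsgLib.Symp.form_smul_smul ⟨_, hsym⟩ u v
      have hpow : ∀ k : ℕ, M ^ k = Matrix.transvection s₁ s₂ (k : F) := by
        intro k
        induction k with
        | zero => simp
        | succ k ih => rw [pow_succ, ih, hM, Matrix.transvection_mul_transvection_same _ _ hs12, Nat.cast_succ]
      have hmul : ∀ v, Matrix.toLin' (x : Matrix (Fin d ⊕ Fin d) (Fin d ⊕ Fin d) F) v - v = v s₂ • Pi.single s₁ 1 := by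
        intro v
        rw [Matrix.toLin'_apply]
        show M *ᵥ v - v = _
        rw [hM, Matrix.transvection, Matrix.add_mulVec, Matrix.one_mulVec, add_sub_cancel_left]
        funext k
        simp [Matrix.single_mulVec, Pi.single_apply, Function.update_apply, mul_comm]
      have hker : LinearMap.ker (Matrix.toLin' (x : Matrix (Fin d ⊕ Fin d) (Fin d ⊕ Fin d) F) - (1 : F) • LinearMap.id) =
          LinearMap.ker (LinearMap.proj s₂ : (Fin d ⊕ Fin d → F) →ₗ[F] F) := by
        ext v
        rw [LinearMap.mem_ker, LinearMap.sub_apply, one_smul, LinearMap.id_apply, hmul, LinearMap.mem_ker, LinearMap.proj_apply,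
          smul_eq_zero, or_iff_left (fun h => by simpa using congrFun h s₁)]
      have hk := LinearMap.finrank_range_add_finrank_ker (LinearMap.proj s₂ : (Fin d ⊕ Fin d → F) →ₗ[F] F)
      rw [LinearMap.range_eq_top.2 (LinearMap.proj_surjective s₂), finrank_top, Module.finrank_self, hcardI, ← hker] at hk
      have h := hbad x hxm ⟨1, by
          rw [one_smul, Units.val_pow_eq_pow_val]
          show M ^ r = 1
          rw [hpow, hrp, CharP.cast_eq_zero, Matrix.transvection_zero]⟩ 1 (by omega) (by omega) 1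
      rw [show Module.finrank F (LinearMap.ker (Matrix.toLin' (x : Matrix (Fin d ⊕ Fin d) (Fin d ⊕ Fin d) F) - (1 : F) • LinearMap.id)) = a * b - 1 by omega] at h
      exact ha1 (by
        have := Nat.dvd_sub (dvd_mul_right a b) h
        rwa [show a * b - (a * b - 1) = 1 by omega] at this)
    have hrF : (r : F) ≠ 0 := CfsgLib.Elusive.cast_ne_zero_of_ne hrp
    set j := orderOf (((Fintype.card F : ℕ) : ZMod r)) with hj
    have hj0 : 0 < j := CfsgLib.Elusive.orderOf_q_pos (CfsgLib.Elusive.card_ne_zero_mod hrp)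
    by_cases hj1 : j = 1
    · have hdvd : r ∣ Fintype.card Fˣ := by
        rw [Fintype.card_units, CfsgLib.Elusive.dvd_card_sub_one_iff]
        exact orderOf_eq_one_iff.1 hj1
      obtain ⟨ζ, hζ⟩ := exists_prime_orderOf_dvd_card r hdvd
      have h := hdiag (ζ : F) ζ.ne_zero (fun h => by
          rw [show ζ = 1 from Units.ext h, orderOf_one] at hζ
          exact hrr.one_lt.ne hζ)
        (by rw [← Units.val_pow_eq_pow_val, ← hζ, pow_orderOf_eq_one, Units.val_one])
      rw [if_neg (fun h => by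
          have h' : ζ ^ 2 = 1 := Units.ext (by
            rw [Units.val_pow_eq_pow_val, pow_two, Units.val_one]
            nth_rw 2 [h]
            exact mul_inv_cancel₀ ζ.ne_zero)
          have h1 := Nat.le_of_dvd two_pos (hζ ▸ orderOf_dvd_of_pow_eq_one h')
          have := hrr.two_le
          omega)] at h
      exact ha1 h
    -- an element with the least moved space
    have hjdvd : ∀ k, r ∣ Fintype.card F ^ k - 1 → j ∣ k := fun k hk => by
      rw [hj, orderOf_dvd_iff_pow_eq_one, ← sub_eq_zero]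
      rw [← ZMod.natCast_eq_zero_iff, Nat.cast_sub (Nat.one_le_pow _ _ Fintype.card_pos), Nat.cast_pow, Nat.cast_one] at hk
      exact hk
    obtain ⟨m, hm0, hjm, hmin⟩ : ∃ m, 0 < m ∧ j ∣ 2 * m ∧ ∀ k, j ∣ k → Even k → 2 * m ∣ k := by
      rcases Nat.even_or_odd j with ⟨t, ht⟩ | ho
      · exact ⟨t, by omega, by rw [two_mul, ← ht], fun k hk _ => by rw [two_mul, ← ht]; exact hk⟩
      · exact ⟨j, hj0, dvd_mul_left _ _, fun k hk hke =>
          (Nat.coprime_two_left.2 ho).mul_dvd_of_dvd_of_dvd hke.two_dvd hk⟩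
    have hmd : m ≤ d := by
      have h1 : r ∣ Nat.card (Cfsg.spGL d F) := hΩ.trans (Subgroup.relIndex_dvd_card _ _)
      have heq : Nat.card (Cfsg.spGL d F) = Nat.card (Matrix.symplecticGroup (Fin d) F) := by
        refine Nat.card_congr ⟨fun g => ⟨(g.1 : Matrix (Fin d ⊕ Fin d) (Fin d ⊕ Fin d) F), CfsgLib.Symp.mem_iff_form.2 fun u v => g.2 u v⟩,
          fun g => ⟨(Matrix.symplecticGroup (Fin d) F).subtype.toHomUnits g, fun u v => CfsgLib.Symp.form_smul_smul g u v⟩,
          fun g => Subtype.ext (Units.ext rfl), fun g => rfl⟩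
      rw [heq, CfsgLib.Symp.card_Sp, Nat.card_eq_fintype_card] at h1
      rcases hrr.dvd_mul.1 h1 with h | h
      · exact absurd ((ZMod.natCast_eq_zero_iff _ _).2 (hrr.dvd_of_dvd_pow h)) (CfsgLib.Elusive.card_ne_zero_mod (F := F) hrp)
      · obtain ⟨k, hk, hk'⟩ := (Prime.dvd_finsetProd_iff hrr.prime _).1 h
        rw [Finset.mem_range] at hk
        have := Nat.le_of_dvd (by omega) (hmin _ (hjdvd _ hk') (even_two_mul _))
        omega
    obtain ⟨s, hs⟩ : ∃ s : Matrix.symplecticGroup (Fin m) F, orderOf s = r := by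
      refine exists_prime_orderOf_dvd_card' r ?_
      rw [CfsgLib.Symp.card_Sp, Nat.card_eq_fintype_card]
      obtain ⟨m', rfl⟩ : ∃ m', m = m' + 1 := ⟨m - 1, by omega⟩
      refine (Dvd.dvd.trans ?_ (Finset.dvd_prod_of_mem _ (Finset.mem_range.2 (Nat.lt_succ_self m')))).mul_left _
      rw [← ZMod.natCast_eq_zero_iff, Nat.cast_sub (Nat.one_le_pow _ _ Fintype.card_pos), Nat.cast_pow, Nat.cast_one,
        sub_eq_zero, ← orderOf_dvd_iff_pow_eq_one]
      exact hjm
    have hsr : s ^ r = 1 := hs ▸ pow_orderOf_eq_one s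
    set S := Matrix.toLin' (s : Matrix (Fin m ⊕ Fin m) (Fin m ⊕ Fin m) F) with hSdef
    have hSr : S ^ r = 1 := by
      show Matrix.toLinAlgEquiv' (s : Matrix (Fin m ⊕ Fin m) (Fin m ⊕ Fin m) F) ^ r = 1
      rw [← map_pow, ← SubmonoidClass.coe_pow, hsr, OneMemClass.coe_one, map_one]
    have hSmov : Module.finrank F (CfsgLib.Elusive.movS S) = 2 * m := by
      have h1 := CfsgLib.Elusive.TensorFix.even_mov h2 hrF hrodd (b := CfsgLib.Elusive.sympBilin m F)
        (fun u hu => CfsgLib.Symp.eq_zero_of_form_eq_zero fun w => by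
          rw [CfsgLib.Symp.form_swap, show CfsgLib.Symp.form u w = 0 from hu w, neg_zero])
        hSr (fun u v => CfsgLib.Symp.form_smul_smul s u v)
      have h3 := CfsgLib.Elusive.mov_dvd hSr hrF (CfsgLib.Elusive.Inv.top S)
      rw [Submodule.map_top, ← hj] at h3
      obtain ⟨k, hk⟩ : 2 * m ∣ Module.finrank F (CfsgLib.Elusive.movS S) := hmin _ h3 h1
      have hle := Submodule.finrank_le (CfsgLib.Elusive.movS S)
      rw [Module.finrank_fintype_fun_eq_card, Fintype.card_sum, Fintype.card_fin] at hle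
      have hne : Module.finrank F (CfsgLib.Elusive.movS S) ≠ 0 := fun h => by
        have hb : CfsgLib.Elusive.movS S = ⊥ := Submodule.finrank_eq_zero.1 h
        have h4 : S = 1 := sub_eq_zero.1 (LinearMap.range_eq_bot.1 hb)
        have h5 : s = 1 := Subtype.ext (Matrix.toLin'.injective (h4.trans Matrix.toLin'_one.symm))
        rw [h5, orderOf_one] at hs
        exact hrr.one_lt.ne hs
      have hk2 : k < 2 := by
        by_contra h
        have := Nat.mul_le_mul_left (2 * m) (not_lt.1 h)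
        omega
      interval_cases k <;> omega
    obtain ⟨l, hl⟩ : ∃ l, d = m + l := ⟨d - m, by omega⟩
    obtain ⟨x₀, hx₀r, hx₀k⟩ := CfsgLib.Elusive.TensorFix.exists_embed hl s hsr (fun v hv => by
      have h := CfsgLib.Elusive.fix_add_mov (f := S)
      rw [hSmov, Module.finrank_fintype_fun_eq_card, Fintype.card_sum, Fintype.card_fin] at h
      have hf0 : CfsgLib.Elusive.fixS S = ⊥ := Submodule.finrank_eq_zero.1 (by omega)
      have hv' : v ∈ CfsgLib.Elusive.fixS S := CfsgLib.Elusive.mem_fixS.2 hv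
      rwa [hf0, Submodule.mem_bot] at hv')
    set x : GL (Fin d ⊕ Fin d) F := (Matrix.symplecticGroup (Fin d) F).subtype.toHomUnits x₀ with hxdef
    have hxm : x ∈ Cfsg.spGL d F := fun u v => CfsgLib.Symp.form_smul_smul x₀ u v
    have hxr : (x : Matrix (Fin d ⊕ Fin d) (Fin d ⊕ Fin d) F) ^ r = 1 := by
      show (x₀ : Matrix (Fin d ⊕ Fin d) (Fin d ⊕ Fin d) F) ^ r = 1
      rw [← SubmonoidClass.coe_pow, hx₀r]; rfl
    have hxk : Module.finrank F (LinearMap.ker (Matrix.toLin' (x : Matrix (Fin d ⊕ Fin d) (Fin d ⊕ Fin d) F) - (1 : F) • LinearMap.id)) = a * b - 2 * m := by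
      rw [one_smul]
      exact hx₀k.trans (by omega)
    have hxns : ∀ z : F, (x : Matrix (Fin d ⊕ Fin d) (Fin d ⊕ Fin d) F) ≠ z • (1 : Matrix (Fin d ⊕ Fin d) (Fin d ⊕ Fin d) F) := by
      intro z hz
      have hr1 : z ^ r = 1 := by
        have h := congrFun (congrFun hxr s₁) s₁
        rw [hz, smul_pow, one_pow] at h
        simpa using h
      have hz1 : z = 1 := CfsgLib.Elusive.eq_one_of_pow_of_order hj1 hr1
      rw [hz, hz1, one_smul, one_smul, Matrix.toLin'_one, sub_self, LinearMap.ker_zero, finrank_top, hcardI] at hxk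
      omega
    obtain ⟨A, B, E, μ, hE, hμ0, hA, hB⟩ := hwit x hxm (hall x hxm ⟨1, by rw [Units.val_pow_eq_pow_val, hxr, one_smul]⟩ hxns)
    set An := (A : Matrix (Fin a) (Fin a) F) with hAn
    set Bn := (B : Matrix (Fin b) (Fin b) F) with hBn
    -- normalise the factors
    have hpowE : ∀ (k : ℕ) v, E (((x : Matrix (Fin d ⊕ Fin d) (Fin d ⊕ Fin d) F) ^ k) *ᵥ v) = An ^ k * E v * (Bn ^ k).transpose := by
      intro k
      induction k with
      | zero => intro v; simp
      | succ k ih =>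
        intro v
        rw [pow_succ', ← Matrix.mulVec_mulVec, hE, ih, pow_succ', pow_succ, Matrix.transpose_mul]
        simp only [Matrix.mul_assoc]
        rw [← Matrix.transpose_mul, ← Matrix.transpose_mul, ← pow_succ', ← pow_succ]
    have hAB : ∀ s s' i i', (An ^ r) s s' * (Bn ^ r) i i' = (1 : Matrix (Fin a) (Fin a) F) s s' * (1 : Matrix (Fin b) (Fin b) F) i i' := by
      intro s s' i i'
      have h := hpowE r (E.symm (Matrix.single s' i' 1))
      rw [hxr, Matrix.one_mulVec, E.apply_symm_apply] at h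
      have h' := congrFun (congrFun h s) i
      simp [Matrix.mul_apply, Matrix.single_apply, Finset.sum_ite_eq, ite_and, Matrix.one_apply, eq_comm, -Matrix.transpose_pow] at h' ⊢
      rw [h']
      by_cases h1 : s = s' <;> by_cases h2 : i = i' <;> simp [h1, h2]
    let i' : Fin b := ⟨0, by omega⟩
    have hne : (Bn ^ r) i' i' ≠ 0 := fun h => by
      have := hAB ⟨0, by omega⟩ ⟨0, by omega⟩ i' i'
      rw [h, mul_zero] at this
      simp at this
    obtain ⟨δ, hδ⟩ := CfsgLib.Elusive.exists_root_of_order (r := r) hj1 ((Bn ^ r) i' i')⁻¹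
    have hδ0 : δ ≠ 0 := fun h => by
      rw [h, zero_pow hrr.ne_zero] at hδ
      exact hne (inv_eq_zero.1 hδ.symm)
    set A' := δ⁻¹ • An with hA'def
    set B' := δ • Bn with hB'def
    have hAr : A' ^ r = 1 := by
      rw [hA'def, smul_pow, inv_pow, hδ, inv_inv]
      ext s s'
      have := hAB s s' i' i'
      rw [Matrix.one_apply_eq i', mul_one] at this
      rw [Matrix.smul_apply, smul_eq_mul, mul_comm, this]
    have hBr : B' ^ r = 1 := by
      rw [hB'def, smul_pow]
      ext i k
      have h := hAB ⟨0, by omega⟩ ⟨0, by omega⟩ i k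
      have h' := congrFun (congrFun hAr ⟨0, by omega⟩) ⟨0, by omega⟩
      rw [hA'def, smul_pow, Matrix.smul_apply, smul_eq_mul, inv_pow] at h'
      rw [Matrix.one_apply_eq, one_mul] at h
      rw [Matrix.one_apply_eq] at h'
      rw [Matrix.smul_apply, smul_eq_mul, show (δ ^ r) = (An ^ r) ⟨0, by omega⟩ ⟨0, by omega⟩ from
        (mul_one _).symm.trans ((inv_mul_eq_iff_eq_mul₀ (pow_ne_zero _ hδ0)).1 h').symm, h]
    have heig : ∀ lam : F, CfsgLib.Elusive.TensorFix.eig An Bn lam = CfsgLib.Elusive.TensorFix.eig A' B' lam := fun lam => by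
      ext Y
      rw [CfsgLib.Elusive.TensorFix.mem_eig, CfsgLib.Elusive.TensorFix.mem_eig, hA'def, hB'def, Matrix.transpose_smul,
        Matrix.smul_mul, Matrix.smul_mul, Matrix.mul_smul, smul_smul, inv_mul_cancel₀ hδ0, one_smul]
    have hA'G : A'.transpose * G1 * A' = G1 ∧ B'.transpose * G2 * B' = G2 := by
      have h1 : A'.transpose * G1 * A' = (μ / δ ^ 2) • G1 := by
        rw [hA'def, Matrix.transpose_smul, Matrix.smul_mul, Matrix.smul_mul, Matrix.mul_smul, smul_smul, hA, smul_smul]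
        congr 1; field_simp
      have h3 : B'.transpose * G2 * B' = (μ / δ ^ 2)⁻¹ • G2 := by
        rw [hB'def, Matrix.transpose_smul, Matrix.smul_mul, Matrix.smul_mul, Matrix.mul_smul, smul_smul, hB, smul_smul]
        congr 1; field_simp
      set ν := μ / δ ^ 2
      have hk : ∀ k : ℕ, (A' ^ k).transpose * G1 * A' ^ k = ν ^ k • G1 := by
        intro k
        induction k with
        | zero => simp
        | succ k ih =>
          rw [pow_succ', Matrix.transpose_mul, Matrix.mul_assoc (A' ^ k).transpose, Matrix.mul_assoc (A' ^ k).transpose,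
            ← Matrix.mul_assoc (A'.transpose * G1), h1, Matrix.smul_mul, Matrix.mul_smul, ← Matrix.mul_assoc, ih, smul_smul, ← pow_succ']
      have h := hk r
      rw [hAr, Matrix.transpose_one, Matrix.one_mul, Matrix.mul_one] at h
      obtain ⟨s₀, t₀, hst⟩ : ∃ s₀ t₀, G1 s₀ t₀ ≠ 0 := by
        by_contra h
        push Not at h
        haveI : Nonempty (Fin a) := ⟨⟨0, by omega⟩⟩
        exact hG1d (by rw [show G1 = 0 from Matrix.ext h, Matrix.det_zero])
      have hν : ν = 1 := CfsgLib.Elusive.eq_one_of_pow_of_order hj1 (mul_right_cancel₀ hst (by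
        have := congrFun (congrFun h s₀) t₀
        rw [Matrix.smul_apply, smul_eq_mul] at this
        rw [one_mul, ← this]))
      rw [h1, h3, hν, inv_one, one_smul, one_smul]
      exact ⟨rfl, rfl⟩
    -- moved spaces of the factors
    have hmov : ∀ {k : ℕ} (C G : Matrix (Fin k) (Fin k) F), C ^ r = 1 → G.det ≠ 0 → C.transpose * G * C = G →
        2 * m ∣ Module.finrank F (CfsgLib.Elusive.movS (Matrix.toLin' C)) ∧
        (C ≠ 1 → 2 * m ≤ Module.finrank F (CfsgLib.Elusive.movS (Matrix.toLin' C))) := by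
      intro k C G hC hG hCG
      have hCr : Matrix.toLin' C ^ r = 1 := by
        show Matrix.toLinAlgEquiv' C ^ r = 1
        rw [← map_pow, hC, map_one]
      have h1 := CfsgLib.Elusive.TensorFix.even_mov h2 hrF hrodd (b := Matrix.toLinearMap₂' F G)
        (fun u hu => Matrix.eq_zero_of_vecMul_eq_zero hG (funext fun i => by
          have := hu (Pi.single i 1)
          rw [Matrix.toLinearMap₂'_apply', Matrix.dotProduct_mulVec] at this
          simpa using this))
        hCr (fun u v => by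
          rw [Matrix.toLinearMap₂'_apply', Matrix.toLinearMap₂'_apply', Matrix.toLin'_apply, Matrix.toLin'_apply,
            Matrix.mulVec_mulVec, Matrix.dotProduct_mulVec, ← Matrix.vecMul_transpose, Matrix.vecMul_vecMul, ← Matrix.dotProduct_mulVec,
            ← Matrix.mul_assoc, hCG])
      have h3 := CfsgLib.Elusive.mov_dvd hCr hrF (CfsgLib.Elusive.Inv.top (Matrix.toLin' C))
      rw [Submodule.map_top, ← hj] at h3
      refine ⟨hmin _ h3 h1, fun hC1 => Nat.le_of_dvd (Nat.pos_of_ne_zero fun h => hC1 ?_) (hmin _ h3 h1)⟩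
      have hb : CfsgLib.Elusive.movS (Matrix.toLin' C) = ⊥ := Submodule.finrank_eq_zero.1 h
      exact Matrix.toLin'.injective ((sub_eq_zero.1 (LinearMap.range_eq_bot.1 hb)).trans Matrix.toLin'_one.symm)
    obtain ⟨hAdvd, hAle⟩ := hmov A' G1 hAr hG1d hA'G.1
    obtain ⟨hBdvd, hBle⟩ := hmov B' G2 hBr hG2d hA'G.2
    have hfix := htrans x A B E hE 1
    rw [hxk, ← hAn, ← hBn, heig] at hfix
    have hdet : ∀ {k : ℕ} (C : Matrix (Fin k) (Fin k) F), C ^ r = 1 → C.det ≠ 0 := fun C hC h => by
      have := congrArg Matrix.det hC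
      rw [Matrix.det_pow, h, zero_pow hrr.ne_zero, Matrix.det_one] at this
      exact zero_ne_one this
    have hscalar : ∀ {k : ℕ} (C : Matrix (Fin k) (Fin k) F), C ^ r = 1 → 0 < k → C ≠ 1 → ∀ c : F, C ≠ c • 1 := by
      intro k C hC hk hC1 c hc
      refine hC1 ?_
      have h := congrFun (congrFun hC ⟨0, hk⟩) ⟨0, hk⟩
      rw [hc, smul_pow, one_pow] at h
      rw [hc, show c = 1 from CfsgLib.Elusive.eq_one_of_pow_of_order hj1 (by simpa using h), one_smul]
    have h2md : 2 * m ≤ a * b := by omega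
    have hone : ∀ {k k' : ℕ} (C : Matrix (Fin k') (Fin k') F), 2 ≤ k → 2 * m ∣ Module.finrank F (CfsgLib.Elusive.movS (Matrix.toLin' C)) →
        k * k' = a * b →
        k * Module.finrank F (LinearMap.ker (Matrix.toLin' ((1 : F) • C) - (1 : F) • LinearMap.id)) ≠ a * b - 2 * m := by
      intro k k' C hk ⟨w, hw⟩ hkk h
      rw [one_smul, one_smul] at h
      have hsum := CfsgLib.Elusive.fix_add_mov (f := Matrix.toLin' C)
      rw [Module.finrank_fin_fun, hw] at hsum
      rw [show CfsgLib.Elusive.fixS (Matrix.toLin' C) = LinearMap.ker (Matrix.toLin' C - LinearMap.id) from rfl] at hsum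
      have h5 := congrArg (fun y => k * y) hsum
      simp only [Nat.mul_add] at h5
      have h' : k * (2 * m * w) = 2 * m := by omega
      rcases Nat.eq_zero_or_pos w with rfl | hw0
      · simp at h'; omega
      · have : 2 * (2 * m * 1) ≤ k * (2 * m * w) := Nat.mul_le_mul hk (Nat.mul_le_mul le_rfl hw0)
        omega
    by_cases hA1 : A' = 1
    · have h := CfsgLib.Elusive.TensorFix.finrank_eig_scalar (a := a) B' 1 1
      rw [one_smul, ← hA1, ← hfix] at h
      exact hone B' ha2 hBdvd rfl h.symm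
    by_cases hB1 : B' = 1
    · rw [CfsgLib.Elusive.TensorFix.finrank_eig_comm] at hfix
      have h := CfsgLib.Elusive.TensorFix.finrank_eig_scalar (a := b) A' 1 1
      rw [one_smul, ← hB1, ← hfix] at h
      exact hone A' (by omega) hAdvd (mul_comm b a) h.symm
    have hlA := hAle hA1
    have hlB := hBle hB1
    have hleA := Submodule.finrank_le (CfsgLib.Elusive.movS (Matrix.toLin' A'))
    have hleB := Submodule.finrank_le (CfsgLib.Elusive.movS (Matrix.toLin' B'))
    rw [Module.finrank_fin_fun] at hleA hleB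
    have hb1 := CfsgLib.Elusive.TensorFix.finrank_eig_le_of_not_scalar (a := a) (by omega) (hdet B' hBr) 1 (hscalar A' hAr (by omega) hA1)
    have hb2 := CfsgLib.Elusive.TensorFix.finrank_eig_le_of_not_scalar (a := b) (by omega) (hdet A' hAr) 1 (hscalar B' hBr (by omega) hB1)
    rw [CfsgLib.Elusive.TensorFix.finrank_eig_comm, mul_comm b a] at hb2
    rw [← hfix] at hb1 hb2
    -- the remaining case: no fixed points on either factor
    have hma : 2 * m = a := by omega
    have hmb : 2 * m = b := by omega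
    set C := Matrix.toLin' A'.transpose with hC
    have hCr : C ^ r = 1 := by
      show Matrix.toLinAlgEquiv' A'.transpose ^ r = 1
      rw [← map_pow, ← Matrix.transpose_pow, hAr, Matrix.transpose_one, map_one]
    have hCfix : ∀ v, C v = v → v = 0 := by
      intro v hv
      by_contra hv0
      have h0 : (A'.transpose - 1).det = 0 := Matrix.exists_mulVec_eq_zero_iff.1 ⟨v, hv0, by
        rw [Matrix.sub_mulVec, Matrix.one_mulVec, sub_eq_zero, ← Matrix.toLin'_apply]; exact hv⟩
      rw [show A'.transpose - 1 = (A' - 1).transpose by rw [Matrix.transpose_sub, Matrix.transpose_one], Matrix.det_transpose] at h0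
      obtain ⟨w, hw0, hw⟩ := Matrix.exists_mulVec_eq_zero_iff.2 h0
      have hfix0 : CfsgLib.Elusive.fixS (Matrix.toLin' A') = ⊥ := Submodule.finrank_eq_zero.1 (by
        have := CfsgLib.Elusive.fix_add_mov (f := Matrix.toLin' A')
        rw [Module.finrank_fin_fun] at this
        omega)
      have hwf : w ∈ CfsgLib.Elusive.fixS (Matrix.toLin' A') := CfsgLib.Elusive.mem_fixS.2 (by
        rw [Matrix.toLin'_apply, ← sub_eq_zero]
        rwa [Matrix.sub_mulVec, Matrix.one_mulVec] at hw)
      rw [hfix0, Submodule.mem_bot] at hwf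
      exact hw0 hwf
    have hj3 : 3 ≤ j := by
      by_contra hj3
      have hj2 : j = 2 := by omega
      have := Nat.le_of_dvd two_pos (hmin 2 (by rw [hj2]) even_two)
      omega
    obtain ⟨u, hu⟩ := CfsgLib.Elusive.TensorFix.exists_pair_indep (by omega) (hscalar A' hAr (by omega) hA1)
    have hu3 : LinearIndependent F (Fin.snoc ![u, u ᵥ* A'] (u ᵥ* A' ^ 2) : Fin 3 → Fin a → F) := by
      rw [linearIndependent_finSnoc]
      refine ⟨hu, fun hmem => ?_⟩
      set W := Submodule.span F (Set.range ![u, u ᵥ* A']) with hW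
      have hu0 : u ∈ W := Submodule.subset_span ⟨0, rfl⟩
      have hu1 : u ᵥ* A' ∈ W := Submodule.subset_span ⟨1, rfl⟩
      have hinv : CfsgLib.Elusive.Inv C W := by
        intro v hv
        obtain ⟨c, rfl⟩ := (Submodule.mem_span_range_iff_exists_fun F).1 hv
        simp only [Fin.sum_univ_two, map_add, map_smul, hC, Matrix.toLin'_apply, Matrix.mulVec_transpose,
          Matrix.cons_val_zero, Matrix.cons_val_one, Matrix.cons_val_fin_one]
        refine W.add_mem (W.smul_mem _ hu1) (W.smul_mem _ ?_)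
        rw [Matrix.vecMul_vecMul, ← pow_two]
        exact hmem
      have h := CfsgLib.Elusive.fpf_dvd hCr hinv (by
        rw [Submodule.eq_bot_iff]
        rintro v ⟨-, hv⟩
        exact hCfix v (CfsgLib.Elusive.mem_fixS.1 hv))
      rw [← hj, hW, finrank_span_eq_card hu, Fintype.card_fin] at h
      have := Nat.le_of_dvd two_pos h
      omega
    have hb3 := CfsgLib.Elusive.TensorFix.finrank_eig_le (b := b) (A := A') (hdet B' hBr) 1 u (k := 3) (by norm_num) (by
      rw [show (fun l : Fin 3 => u ᵥ* A' ^ (l : ℕ)) = Fin.snoc ![u, u ᵥ* A'] (u ᵥ* A' ^ 2) from funext fun l => by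
        fin_cases l <;> simp [Fin.snoc]]
      exact hu3)
    rw [← hfix] at hb3
    have : 2 * (2 * m) ≤ a * b := Nat.mul_le_mul (by omega) hmb.le
    omega
  · rintro ⟨rfl, rfl⟩ x hx ⟨z, hz⟩ hns
    -- an orthogonal basis of the second factor
    let B₂ : LinearMap.BilinForm F (Fin b → F) := Matrix.toLinearMap₂' F G2
    have hG2s : G2.transpose = G2 := Matrix.ext fun i j => hf₂.symm _ _
    haveI : Invertible (2 : F) := invertibleOfNonzero h2
    obtain ⟨v, hv⟩ := LinearMap.BilinForm.exists_orthogonal_basis (B := B₂) ⟨fun u w => by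
      show B₂ u w = B₂ w u
      rw [Matrix.toLinearMap₂'_apply', Matrix.toLinearMap₂'_apply', Matrix.dotProduct_mulVec, dotProduct_comm,
        ← Matrix.mulVec_transpose, hG2s]⟩
    let v' := v.reindex (finCongr (Module.finrank_fin_fun F))
    set U : Matrix (Fin b) (Fin b) F := Matrix.of fun l i => v' i l with hU
    have hUv : ∀ i, U *ᵥ Pi.single i 1 = v' i := fun i => by rw [Matrix.mulVec_single_one]; rfl
    have hUd : U.det ≠ 0 := by
      intro h
      obtain ⟨c, hc0, hc⟩ := Matrix.exists_mulVec_eq_zero_iff.2 h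
      refine hc0 (funext fun k => ?_)
      have hsum : ∑ k, c k • v' k = 0 := by
        rw [← hc]
        funext l
        simp [U, Matrix.mulVec, dotProduct, mul_comm]
      exact Fintype.linearIndependent_iff.1 v'.linearIndependent c hsum k
    set cf : Fin b → F := fun i => (U.transpose * G2 * U) i i with hcf
    have hUG : U.transpose * G2 * U = Matrix.diagonal cf := by
      ext i k
      by_cases h : i = k
      · subst h; rw [Matrix.diagonal_apply_eq]
      · rw [Matrix.diagonal_apply_ne _ h]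
        have h' : B₂ (v' i) (v' k) = 0 := by
          simp only [v', Module.Basis.reindex_apply]
          exact hv fun e' => h ((finCongr (Module.finrank_fin_fun F)).symm.injective e')
        rw [← hUv, ← hUv, Matrix.toLinearMap₂'_apply', Matrix.mulVec_mulVec, Matrix.dotProduct_mulVec, ← Matrix.vecMul_transpose,
          Matrix.vecMul_vecMul, ← Matrix.mul_assoc, ← Matrix.dotProduct_mulVec, Matrix.mulVec_single_one, single_one_dotProduct] at h'
        exact h'
    have hcf0 : ∀ i, cf i ≠ 0 := by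
      have h : (Matrix.diagonal cf).det ≠ 0 := by
        rw [← hUG, Matrix.det_mul, Matrix.det_mul, Matrix.det_transpose]
        exact mul_ne_zero (mul_ne_zero hUd hG2d) hUd
      rw [Matrix.det_diagonal, Finset.prod_ne_zero_iff] at h
      exact fun i => h i (Finset.mem_univ i)
    set γ := G1 0 1 with hγ
    have hG1e : G1 = !![0, γ; -γ, 0] := by
      ext i j
      fin_cases i <;> fin_cases j <;> simp [hG1, hγ, Cfsg.Geo.gramMatrix, hf₁.alternating]
      exact hf₁.skew _ _
    have hγ0 : γ ≠ 0 := fun h => hG1d (by rw [hG1e, h]; simp [Matrix.det_fin_two])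
    -- the planes of `x`
    set x₀ : Matrix.symplecticGroup (Fin d) F :=
      ⟨(x : Matrix (Fin d ⊕ Fin d) (Fin d ⊕ Fin d) F), CfsgLib.Symp.mem_iff_form.2 fun u w => hx u w⟩ with hx₀
    obtain ⟨u, w, ⟨huu, hww, huw, hne, hact⟩, -⟩ := CfsgLib.Elusive.exists_planes_symp (by omega) h2 (x := x₀) (z := z) (by
      rw [SubmonoidClass.coe_pow]
      show (x : Matrix (Fin d ⊕ Fin d) (Fin d ⊕ Fin d) F) ^ 2 = _
      rw [← Units.val_pow_eq_pow_val, hz])
    have hdb : d = b := by omega
    subst hdb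
    set T := Matrix.toLin' (x : Matrix (Fin d ⊕ Fin d) (Fin d ⊕ Fin d) F) with hT
    change (z = 1 ∧ ∀ i, ∃ s : F, s ^ 2 = 1 ∧ T (u i) = s • u i ∧ T (w i) = s • w i) ∨
      (z = -1 ∧ ∀ i, T (u i) = w i ∧ T (w i) = -u i) at hact
    -- rescale
    obtain ⟨u', w', A, β, huu', hww', huw', hne', hA, hβ, hTu, hTw⟩ : ∃ (u' w' : Fin d → (Fin d ⊕ Fin d → F)) (A : Matrix (Fin 2) (Fin 2) F) (β : Fin d → F),
        (∀ i j, Cfsg.sympForm d F (u' i) (u' j) = 0) ∧ (∀ i j, Cfsg.sympForm d F (w' i) (w' j) = 0) ∧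
        (∀ i j, i ≠ j → Cfsg.sympForm d F (u' i) (w' j) = 0) ∧ (∀ i, Cfsg.sympForm d F (u' i) (w' i) = κ * γ * cf i) ∧
        A.det ≠ 0 ∧ (∀ i, β i ≠ 0) ∧ (∀ i, T (u' i) = (β i * A 0 0) • u' i + (β i * A 1 0) • w' i) ∧
        (∀ i, T (w' i) = (β i * A 0 1) • u' i + (β i * A 1 1) • w' i) := by
      set tgt : Fin d → F := fun i => κ * γ * cf i / CfsgLib.Elusive.sympBilin d F (u i) (w i) with htgt
      rcases hact with ⟨-, h⟩ | ⟨-, h⟩
      · choose s hs hsu hsw using h
        refine ⟨u, fun i => tgt i • w i, 1, s, huu, fun i j => ?_, fun i j hij => ?_, fun i => ?_, by simp, fun i hi => ?_, fun i => ?_, fun i => ?_⟩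
        · rw [← CfsgLib.Elusive.sympBilin_apply, map_smul, map_smul, LinearMap.smul_apply, hww, smul_zero, smul_zero]
        · rw [← CfsgLib.Elusive.sympBilin_apply, map_smul, huw i j hij, smul_zero]
        · rw [← CfsgLib.Elusive.sympBilin_apply, map_smul, smul_eq_mul, htgt, div_mul_cancel₀ _ (hne i)]
        · have := hs i
          rw [hi, zero_pow two_ne_zero] at this
          exact zero_ne_one this
        · simp [hsu]
        · simp [hsw, smul_smul, mul_comm]
      · have hsum : ∀ i, ∃ s t : F, s ^ 2 + t ^ 2 = tgt i := fun i => by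
          obtain ⟨s, t, hst⟩ := FiniteField.exists_root_sum_quadratic (R := F) (f := Polynomial.X ^ 2 - Polynomial.C (tgt i))
            (g := (Polynomial.X : Polynomial F) ^ 2) (Polynomial.degree_X_pow_sub_C two_pos _) (Polynomial.degree_X_pow 2)
            (FiniteField.odd_card_of_char_ne_two hchar)
          simp only [Polynomial.eval_sub, Polynomial.eval_pow, Polynomial.eval_X, Polynomial.eval_C] at hst
          exact ⟨s, t, by linear_combination hst⟩
        choose s t hst using hsum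
        set B := CfsgLib.Elusive.sympBilin d F with hBdef
        have hskew : ∀ p q, B q p = -B p q := fun p q => by
          show Cfsg.sympForm d F q p = -Cfsg.sympForm d F p q
          exact CfsgLib.Symp.form_swap _ _
        refine ⟨fun i => s i • u i + t i • w i, fun i => s i • w i - t i • u i, !![0, -1; 1, 0], fun _ => 1,
          fun i j => ?_, fun i j => ?_, fun i j hij => ?_, fun i => ?_, by simp [Matrix.det_fin_two], fun _ => one_ne_zero,
          fun i => ?_, fun i => ?_⟩
        · rw [← CfsgLib.Elusive.sympBilin_apply]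
          by_cases hij : i = j
          · subst hij; simp [← hBdef, huu, hww, hskew (u i) (w i)]; ring
          · simp [← hBdef, huu, hww, huw i j hij, hskew (u j) (w i), huw j i (Ne.symm hij)]
        · rw [← CfsgLib.Elusive.sympBilin_apply]
          by_cases hij : i = j
          · subst hij; simp [← hBdef, huu, hww, hskew (u i) (w i)]; ring
          · simp [← hBdef, huu, hww, huw i j hij, hskew (u j) (w i), huw j i (Ne.symm hij)]
        · rw [← CfsgLib.Elusive.sympBilin_apply]
          simp [← hBdef, huu, hww, huw i j hij, hskew (u j) (w i), huw j i (Ne.symm hij)]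
        · rw [← CfsgLib.Elusive.sympBilin_apply, ← hBdef, show κ * γ * cf i = tgt i * B (u i) (w i) by
            rw [htgt]; exact (div_mul_cancel₀ _ (hne i)).symm, ← hst i]
          simp [huu, hww, hskew (u i) (w i)]; ring
        · simp [(h i).1, (h i).2]; abel
        · simp [(h i).1, (h i).2]; abel
    -- the two bases
    set K := A ⊗ₖ Matrix.diagonal β with hK
    set WM : Matrix (Fin d ⊕ Fin d) (Fin d ⊕ Fin d) F := Matrix.of fun l k => (if (e k).1 = 0 then u' (e k).2 else w' (e k).2) l with hWM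
    set RM : Matrix (Fin d ⊕ Fin d) (Fin d ⊕ Fin d) F :=
      (P : Matrix (Fin d ⊕ Fin d) (Fin d ⊕ Fin d) F) * ((1 : Matrix (Fin 2) (Fin 2) F) ⊗ₖ U).submatrix e e with hRM
    have hRd : RM.det ≠ 0 := by
      rw [hRM, Matrix.det_mul, Matrix.det_submatrix_equiv_self, Matrix.det_kronecker]
      simp [hUd, P.det_ne_zero]
    set Gr := κ • (G1 ⊗ₖ Matrix.diagonal cf) with hGr
    have hRg : ∀ k l, Cfsg.sympForm d F (RM *ᵥ Pi.single k 1) (RM *ᵥ Pi.single l 1) = Gr (e k) (e l) := by
      intro k l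
      have hs : ∀ k, (Pi.single k (1 : F) : Fin d ⊕ Fin d → F) = (Pi.single (e k) (1 : F) : Fin 2 × Fin d → F) ∘ e := fun k => by
        funext m; simp [Pi.single_apply]
      have hsub : ∀ w : Fin 2 × Fin d → F, (((1 : Matrix (Fin 2) (Fin 2) F) ⊗ₖ U).submatrix e e) *ᵥ (w ∘ e) =
          (((1 : Matrix (Fin 2) (Fin 2) F) ⊗ₖ U) *ᵥ w) ∘ e := fun w => by
        rw [Matrix.submatrix_mulVec_equiv]; simp [Function.comp_assoc]
      rw [hRM, ← Matrix.mulVec_mulVec, ← Matrix.mulVec_mulVec, hs, hs, hsub, hsub, hf, Matrix.mulVec_mulVec,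
        Matrix.dotProduct_mulVec, ← Matrix.vecMul_transpose, Matrix.vecMul_vecMul, ← Matrix.dotProduct_mulVec, ← Matrix.mul_assoc,
        ← Matrix.kroneckerMap_transpose, ← Matrix.mul_kronecker_mul, ← Matrix.mul_kronecker_mul, hUG, Matrix.transpose_one,
        Matrix.one_mul, Matrix.mul_one, Matrix.mulVec_single_one, single_one_dotProduct, hGr, Matrix.smul_apply, smul_eq_mul]
      rfl
    have hWg : ∀ k l, Cfsg.sympForm d F (WM *ᵥ Pi.single k 1) (WM *ᵥ Pi.single l 1) = Gr (e k) (e l) := by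
      intro k l
      have hcol : ∀ k, WM *ᵥ Pi.single k 1 = if (e k).1 = 0 then u' (e k).2 else w' (e k).2 := fun k => by
        rw [Matrix.mulVec_single_one]; rfl
      have hskew : ∀ p q, Cfsg.sympForm d F q p = -Cfsg.sympForm d F p q := fun p q => CfsgLib.Symp.form_swap _ _
      rw [hcol, hcol, hGr, Matrix.smul_apply, Matrix.kroneckerMap_apply, hG1e]
      generalize e k = p
      generalize e l = p'
      obtain ⟨s, i⟩ := p
      obtain ⟨t, j⟩ := p'
      by_cases hij : i = j
      · subst hij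
        fin_cases s <;> fin_cases t <;> simp [huu', hww', hne', hskew (u' i) (w' i)] <;> ring
      · fin_cases s <;> fin_cases t <;> simp [huu', hww', huw' i j hij, hskew (u' j) (w' i), huw' j i (Ne.symm hij), hij]
    have hli : ∀ M : Matrix (Fin d ⊕ Fin d) (Fin d ⊕ Fin d) F,
        (∀ k l, Cfsg.sympForm d F (M *ᵥ Pi.single k 1) (M *ᵥ Pi.single l 1) = Gr (e k) (e l)) →
        LinearIndependent F (fun k => M *ᵥ Pi.single k 1) := by
      intro M hM
      rw [Fintype.linearIndependent_iff]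
      intro c hc
      have hGd : (Gr.submatrix e e).det ≠ 0 := by
        rw [Matrix.det_submatrix_equiv_self, hGr, Matrix.det_smul, Matrix.det_kronecker, Matrix.det_diagonal]
        exact mul_ne_zero (pow_ne_zero _ hκ) (mul_ne_zero (pow_ne_zero _ hG1d)
          (pow_ne_zero _ (Finset.prod_ne_zero_iff.2 fun i _ => hcf0 i)))
      refine congrFun (Matrix.eq_zero_of_vecMul_eq_zero hGd (funext fun l => ?_))
      have h := congrArg (fun y => CfsgLib.Elusive.sympBilin d F y (M *ᵥ Pi.single l 1)) hc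
      simp only [map_sum, map_smul, LinearMap.sum_apply, LinearMap.smul_apply, map_zero, LinearMap.zero_apply,
        CfsgLib.Elusive.sympBilin_apply, hM, smul_eq_mul] at h
      simpa [Matrix.vecMul, dotProduct] using h
    let ei : Fin (d + d) ≃ Fin d ⊕ Fin d := finSumFinEquiv.symm
    obtain ⟨s, hs⟩ := CfsgLib.Symp.Geometry.exists_sp_family (l := Fin d) ((fun k => RM *ᵥ Pi.single k 1) ∘ ei)
      ((fun k => WM *ᵥ Pi.single k 1) ∘ ei) ((hli RM hRg).comp _ ei.injective) ((hli WM hWg).comp _ ei.injective)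
      (fun i j => (hRg (ei i) (ei j)).trans (hWg (ei i) (ei j)).symm)
    set g : GL (Fin d ⊕ Fin d) F := (Matrix.symplecticGroup (Fin d) F).subtype.toHomUnits s with hg
    have hgR : (g : Matrix (Fin d ⊕ Fin d) (Fin d ⊕ Fin d) F) * RM = WM := by
      ext l k
      have h := congrFun (hs (ei.symm k)) l
      simp only [Function.comp_apply, Equiv.apply_symm_apply] at h
      rw [show ((g : Matrix (Fin d ⊕ Fin d) (Fin d ⊕ Fin d) F) * RM) l k =
        ((g : Matrix (Fin d ⊕ Fin d) (Fin d ⊕ Fin d) F) *ᵥ (RM *ᵥ Pi.single k 1)) l by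
        rw [Matrix.mulVec_mulVec, Matrix.mulVec_single_one]; rfl]
      refine h.trans ?_
      rw [Matrix.mulVec_single_one]; rfl
    have hxW : (x : Matrix (Fin d ⊕ Fin d) (Fin d ⊕ Fin d) F) * WM = WM * K.submatrix e e := by
      ext l k
      rw [show ((x : Matrix (Fin d ⊕ Fin d) (Fin d ⊕ Fin d) F) * WM) l k = T (if (e k).1 = 0 then u' (e k).2 else w' (e k).2) l by
        rw [hT, Matrix.toLin'_apply]; rfl]
      rw [Matrix.mul_apply, ← e.symm.sum_comp fun y => WM l y * K.submatrix e e y k, Fintype.sum_prod_type, Fin.sum_univ_two]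
      simp only [hWM, Matrix.of_apply, Equiv.apply_symm_apply, Matrix.submatrix_apply, hK, Matrix.kroneckerMap_apply,
        if_true, show ((1 : Fin 2) = 0) = False from eq_false (by decide), if_false, Matrix.diagonal_apply, mul_ite, mul_zero,
        Finset.sum_ite_eq', Finset.mem_univ]
      generalize e k = p
      obtain ⟨t, i⟩ := p
      fin_cases t
      · simp [hTu i]; ring
      · simp [hTw i]; ring
    have hyR : ((g⁻¹ * x * g : GL (Fin d ⊕ Fin d) F) : Matrix (Fin d ⊕ Fin d) (Fin d ⊕ Fin d) F) * RM = RM * K.submatrix e e := by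
      rw [Units.val_mul, Units.val_mul, Matrix.mul_assoc, hgR, Matrix.mul_assoc, hxW, ← hgR, Matrix.mul_assoc, ← Matrix.mul_assoc,
        Units.inv_mul, Matrix.one_mul]
    let A₀ : GL (Fin 2) F := Matrix.GeneralLinearGroup.mkOfDetNeZero A hA
    let B₀ : GL (Fin d) F := Matrix.GeneralLinearGroup.mkOfDetNeZero (U * Matrix.diagonal β * U⁻¹) (by
      rw [Matrix.det_mul, Matrix.det_mul, Matrix.det_diagonal, Matrix.det_nonsing_inv, Ring.inverse_eq_inv']
      exact mul_ne_zero (mul_ne_zero hUd (Finset.prod_ne_zero_iff.2 fun i _ => hβ i)) (inv_ne_zero hUd))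
    refine ⟨g, fun p q => CfsgLib.Symp.form_smul_smul s p q, (hmemK _).2 ⟨A₀, B₀, ?_⟩⟩
    refine (Matrix.isUnit_iff_isUnit_det RM |>.2 (isUnit_iff_ne_zero.2 hRd)).mul_left_injective ?_
    beta_reduce
    rw [hyR, hRM]
    show _ = (P : Matrix (Fin d ⊕ Fin d) (Fin d ⊕ Fin d) F) * (A ⊗ₖ (U * Matrix.diagonal β * U⁻¹)).submatrix e e * _ * _
    rw [Matrix.mul_assoc _ ((P⁻¹ : GL (Fin d ⊕ Fin d) F) : Matrix (Fin d ⊕ Fin d) (Fin d ⊕ Fin d) F), ← Matrix.mul_assoc ((P⁻¹ : GL (Fin d ⊕ Fin d) F) : Matrix (Fin d ⊕ Fin d) (Fin d ⊕ Fin d) F),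
      Units.inv_mul, Matrix.one_mul, Matrix.mul_assoc, Matrix.mul_assoc, Matrix.submatrix_mul_equiv, Matrix.submatrix_mul_equiv,
      hK, ← Matrix.mul_kronecker_mul, ← Matrix.mul_kronecker_mul, Matrix.one_mul, Matrix.mul_one,
      Matrix.mul_assoc (U * Matrix.diagonal β), Matrix.nonsing_inv_mul _ (isUnit_iff_ne_zero.2 hUd), Matrix.mul_one]

end Cfsg.Agent.S5980
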