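import Cfsg.Statements.S5981
import Cfsg.Agent.Elusive.OrthSimil
import Cfsg.Agent.Geo.OrthSiegel


set_option autoImplicit false
open scoped MatrixGroups
open Cfsg

namespace Cfsg.Agent.S5981
open scoped Matrix

set_option maxHeartbeats 2000000

/-- Elements of prime order of PSL_n(q), q odd, and the subgroups of orthogonal type. Here `T = PSL_n(F)` for a field `F` with `q` elements, `q` odd, `n ≥ 3`; `Q` is a non-degenerate quadratic form on `F^n` (of either type when `n` is even) and `H` is the subgroup of matrices of determinant 1 that preserve `Q` up to a scalar — a subgroup of type O^ε_n(q) (maximality is not assumed); Ω is the set of cosets of `H` in `T`, so an element of `T` of prime order `r` (a matrix `x` of determinant 1 with `x^r` scalar, `x` not scalar) fixes a point of Ω exactly when some conjugate of `x` by a matrix of determinant 1 preserves `Q` up to a scalar. Let `r` be a prime dividing the index of `H`, with `(n, r) ≠ (6, 3)`. Then every element of `T` of order `r` fixes a point of Ω if and only if `r = 2`, or `r ∈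 {3, 5}`, `n = r` and `(q − 1)_r = r` (the `r`-part of `q − 1` is exactly `r`). The case `(n, r) = (6, 3)` is not covered by this statement. -/
theorem result {F : Type*} [Field F] [Fintype F] {p : ℕ} [Fact p.Prime] [CharP F p] {q : ℕ} (hq : Fintype.card F = q)
    (hodd : Odd q) (n : ℕ) (hn : 3 ≤ n) (Q : (Fin n → F) → F) (hQ : Cfsg.Geo.IsNondegenerateQuadraticForm Q)
    (r : ℕ) [Fact r.Prime] (hgap : ¬ (n = 6 ∧ r = 3))
    (hΩ : r ∣ (Cfsg.Geo.quadSimilarityGroup Q).relIndex (Cfsg.Geo.specialLinear (Fin n) F)) :
    (∀ x ∈ Cfsg.Geo.specialLinear (Fin n) F, (∃ z : F, ((x ^ r : GL (Fin n) F) : Matrix (Fin n) (Fin n) F) = z • (1 : Matrix (Fin n) (Fin n) F)) →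
      (∀ z : F, (x : Matrix (Fin n) (Fin n) F) ≠ z • (1 : Matrix (Fin n) (Fin n) F)) →
      ∃ g ∈ Cfsg.Geo.specialLinear (Fin n) F, g⁻¹ * x * g ∈ Cfsg.Geo.quadSimilarityGroup Q) ↔
    (r = 2 ∨ ((r = 3 ∨ r = 5) ∧ n = r ∧ padicValNat r (q - 1) = 1)) := by
  classical
  subst hq
  have hrr : r.Prime := Fact.out
  have hpp : p.Prime := Fact.out
  have hn0 : 0 < n := by omega
  have hchar : ringChar F ≠ 2 := fun h => by
    haveI : CharP F 2 := ringChar.of_eq h
    obtain ⟨k, -, hk⟩ := FiniteField.card F 2
    rw [hk] at hodd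
    exact Nat.not_even_iff_odd.2 hodd (Nat.even_pow.2 ⟨even_two, k.ne_zero⟩)
  have h2 : (2 : F) ≠ 0 := Ring.two_ne_zero hchar
  obtain ⟨Q', hQQ, hQ'⟩ := CfsgLib.Geo.OS.exists_quadraticForm hQ
  subst hQQ
  set D := (CfsgLib.QuadStd.gram Q' (Pi.basisFun F (Fin n))).det with hDdef
  have hD : D ≠ 0 := CfsgLib.QuadStd.det_gram_ne_zero hQ' _
  have hpow : ∀ (x : GL (Fin n) F) (z : F), ((x ^ r : GL (Fin n) F) : Matrix (Fin n) (Fin n) F) = z • (1 : Matrix (Fin n) (Fin n) F) →
      Matrix.toLin' (x : Matrix (Fin n) (Fin n) F) ^ r = z • 1 := by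
    intro x z hz
    rw [Units.val_pow_eq_pow_val] at hz
    show Matrix.toLinAlgEquiv' (x : Matrix (Fin n) (Fin n) F) ^ r = z • 1
    rw [← map_pow, hz, map_smul, map_one]
  constructor
  · intro hall
    by_cases hr2 : r = 2
    · exact Or.inl hr2
    refine Or.inr ?_
    have hrodd : Odd r := hrr.odd_of_ne_two hr2
    have hr3 : 3 ≤ r := by have := hrr.two_le; omega
    -- the element given by a linear map
    have hwit : ∀ (f : (Fin n → F) →ₗ[F] (Fin n → F)), LinearMap.det f = 1 → f ^ r = 1 → f ≠ 1 →
        ∃ (T : (Fin n → F) →ₗ[F] (Fin n → F)) (μ : F) (e : (Fin n → F) ≃ₗ[F] (Fin n → F)),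
          (∀ v, T (e v) = e (f v)) ∧ T ^ r = 1 ∧ μ ^ r = 1 ∧ ∀ v, Q' (T v) = μ * Q' v := by
      intro f hd hfr hf1
      obtain ⟨x0, hx0⟩ := CfsgLib.Elusive.exists_sl hd
      set x : GL (Fin n) F := Matrix.SpecialLinearGroup.toGL x0 with hxdef
      have hxf : Matrix.toLin' (x : Matrix (Fin n) (Fin n) F) = f := hx0
      have hxr : (x : Matrix (Fin n) (Fin n) F) ^ r = 1 := Matrix.toLinAlgEquiv'.injective (by
        rw [map_pow, map_one]
        show Matrix.toLin' (x : Matrix (Fin n) (Fin n) F) ^ r = 1
        rw [hxf, hfr])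
      by_cases hsc : ∃ z : F, (x : Matrix (Fin n) (Fin n) F) = z • (1 : Matrix (Fin n) (Fin n) F)
      · obtain ⟨z, hz⟩ := hsc
        have hf : f = z • 1 := hxf ▸ CfsgLib.Elusive.scalar_toLin hz
        refine ⟨f, z ^ 2, LinearEquiv.refl F _, fun v => rfl, hfr, ?_, fun v => ?_⟩
        · have h := LinearMap.congr_fun hfr (Pi.single ⟨0, hn0⟩ 1)
          rw [hf, smul_pow, one_pow, LinearMap.smul_apply, Module.End.one_apply] at h
          have h' := congrFun h ⟨0, hn0⟩
          simp at h'
          rw [← pow_mul, mul_comm, pow_mul, h', one_pow]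
        · rw [hf, LinearMap.smul_apply, Module.End.one_apply, QuadraticMap.map_smul, smul_eq_mul, pow_two]
      push Not at hsc
      obtain ⟨g, -, μ, hμ⟩ := hall x (CfsgLib.Geo.mem_specialLinear.2 x0.2)
        ⟨1, by rw [Units.val_pow_eq_pow_val, hxr, one_smul]⟩ hsc
      set y := g⁻¹ * x * g with hy
      have hy' : (y : Matrix (Fin n) (Fin n) F) ^ r = 1 := by
        have h : y ^ r = 1 := by
          rw [hy, show g⁻¹ * x * g = g⁻¹ * x * (g⁻¹)⁻¹ by rw [inv_inv], conj_pow,
            show x ^ r = 1 from Units.ext (by rw [Units.val_pow_eq_pow_val, hxr]; rfl), mul_one, mul_inv_cancel]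
        rw [← Units.val_pow_eq_pow_val, h, Units.val_one]
      let e : (Fin n → F) ≃ₗ[F] (Fin n → F) :=
        { Matrix.toLin' ((g⁻¹ : GL (Fin n) F) : Matrix (Fin n) (Fin n) F) with
          invFun := fun v => (g : Matrix (Fin n) (Fin n) F) *ᵥ v
          left_inv := fun v => by simp [Matrix.mulVec_mulVec]
          right_inv := fun v => by simp [Matrix.mulVec_mulVec] }
      refine ⟨Matrix.toLin' (y : Matrix (Fin n) (Fin n) F), μ, e, fun v => ?_, ?_, ?_, fun v => ?_⟩
      · rw [← hxf]
        simp [e, hy, Matrix.mulVec_mulVec, mul_assoc]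
      · show Matrix.toLinAlgEquiv' (y : Matrix (Fin n) (Fin n) F) ^ r = 1
        rw [← map_pow, hy', map_one]
      · obtain ⟨v, hv⟩ := CfsgLib.Elusive.exists_ne_zero_value hQ' hn0
        have hk : ∀ k : ℕ, Q' (((y : Matrix (Fin n) (Fin n) F) ^ k) *ᵥ v) = (μ : F) ^ k * Q' v := by
          intro k
          induction k with
          | zero => simp
          | succ k ih => rw [pow_succ', ← Matrix.mulVec_mulVec, hμ, ih]; ring
        have h := hk r
        rw [hy', Matrix.one_mulVec] at h
        exact mul_right_cancel₀ hv (by rw [← h, one_mul])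
      · rw [Matrix.toLin'_apply, hμ]
    have hbil : ∀ (T : (Fin n → F) →ₗ[F] (Fin n → F)) (μ : F), (∀ v, Q' (T v) = μ * Q' v) →
        ∀ u v, QuadraticMap.polarBilin Q' (T u) (T v) = μ * QuadraticMap.polarBilin Q' u v := fun T μ h u v => by
      simp only [QuadraticMap.polarBilin_apply_apply, QuadraticMap.polar, ← map_add, h]
      ring
    -- transvections
    have hrp : r ≠ p := by
      intro hrp
      let i₀ : Fin n := ⟨0, hn0⟩
      let i₁ : Fin n := ⟨1, by omega⟩
      have h01 : i₀ ≠ i₁ := fun h => by simpa [i₀, i₁] using congrArg Fin.val h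
      set M := Matrix.transvection i₀ i₁ (1 : F) with hM
      have hpowM : ∀ k : ℕ, M ^ k = Matrix.transvection i₀ i₁ (k : F) := by
        intro k
        induction k with
        | zero => simp
        | succ k ih => rw [pow_succ, ih, hM, Matrix.transvection_mul_transvection_same _ _ h01, Nat.cast_succ]
      have hM1 : ∀ v, Matrix.toLin' M v = v + v i₁ • (Pi.single i₀ 1 : Fin n → F) := by
        intro v
        rw [Matrix.toLin'_apply, hM, Matrix.transvection, Matrix.add_mulVec, Matrix.one_mulVec]
        congr 1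
        funext k
        simp [Matrix.single_mulVec, Pi.single_apply, Function.update_apply, mul_comm]
      obtain ⟨T, μ, e, hTe, -, hμr, hTQ⟩ := hwit (Matrix.toLin' M)
        (by rw [LinearMap.det_toLin', hM, Matrix.det_transvection_of_ne i₀ i₁ h01])
        (by show Matrix.toLinAlgEquiv' M ^ r = 1
            rw [← map_pow, hpowM, hrp, CharP.cast_eq_zero, Matrix.transvection_zero, map_one])
        (fun h => by simpa using congrFun ((hM1 (Pi.single i₁ 1)).symm.trans (LinearMap.congr_fun h _)) i₀)
      have hμ1 : μ = 1 := by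
        rw [hrp] at hμr
        refine sub_eq_zero.1 (pow_eq_zero_iff (n := p) hpp.ne_zero |>.1 ?_)
        rw [sub_pow_char, hμr, one_pow, sub_self]
      have h := hbil T μ hTQ
      set w := e (Pi.single i₀ 1) with hw
      have hT : ∀ v, T (e v) = e v + v i₁ • w := fun v => by rw [hTe, hM1, map_add, map_smul]
      set B := QuadraticMap.polarBilin Q' with hBdef
      have key : ∀ u v, u i₁ * B w (e v) + v i₁ * B (e u) w + u i₁ * v i₁ * B w w = 0 := fun u v => by
        have h' := h (e u) (e v)
        rw [hT, hT, hμ1, one_mul] at h'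
        simp only [map_add, map_smul, LinearMap.add_apply, LinearMap.smul_apply, smul_eq_mul] at h'
        linear_combination h'
      have hww : B w w = 0 := by
        have h' := key (Pi.single i₁ 1) (Pi.single i₀ 1)
        simpa [← hw, h01.symm, h01] using h'
      have hwv : ∀ v, B w (e v) = 0 := fun v => by
        have hs : ∀ a c, B a c = B c a := fun a c => QuadraticMap.polar_comm _ _ _
        have h1 := key (Pi.single i₁ 1) (Pi.single i₁ 1)
        have h3 := key (Pi.single i₁ 1) v
        rw [hww, hs (e (Pi.single i₁ 1)) w] at h1 h3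
        simp only [Pi.single_eq_same, one_mul, mul_zero, add_zero] at h1 h3
        have h4 : (2 : F) * B w (e (Pi.single i₁ 1)) = 0 := by linear_combination h1
        rw [(mul_eq_zero.1 h4).resolve_left h2, mul_zero, add_zero] at h3
        exact h3
      have hw0 : w = 0 := hQ'.1 w fun v => by rw [← e.apply_symm_apply v]; exact hwv _
      rw [hw, LinearEquiv.map_eq_zero_iff] at hw0
      simpa using congrFun hw0 i₀
    have hrF : (r : F) ≠ 0 := CfsgLib.Elusive.cast_ne_zero_of_ne hrp
    set j := orderOf (((Fintype.card F : ℕ) : ZMod r)) with hj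
    have hj0 : 0 < j := CfsgLib.Elusive.orderOf_q_pos (CfsgLib.Elusive.card_ne_zero_mod hrp)
    have hidx := CfsgLib.Elusive.index_cases hrp h2 hQ' hn0 hΩ
    have hjodd : ∀ k, r ∣ Fintype.card F ^ k - 1 → j ∣ k := fun k hk => by
      rw [hj, orderOf_dvd_iff_pow_eq_one, ← sub_eq_zero]
      rw [← ZMod.natCast_eq_zero_iff, Nat.cast_sub (Nat.one_le_pow _ _ Fintype.card_pos), Nat.cast_pow, Nat.cast_one] at hk
      exact hk
    have hj1 : j = 1 := by
      by_contra hj1
      rcases Nat.even_or_odd j with hje | hjo
      · -- no fixed points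
        rcases hidx with ⟨k, hk, -, hkd⟩ | ⟨m, hnm, hqm, hz⟩
        · exact Nat.not_even_iff_odd.2 (hk.of_dvd_nat (hjodd k hkd)) hje
        obtain ⟨s, hs⟩ : j ∣ n := by rw [hnm, hj, orderOf_dvd_iff_pow_eq_one]; exact hqm
        obtain ⟨f, hfr, hff⟩ := CfsgLib.Elusive.exists_min_fix hrF (i := j) hj hj0 (n := n) (s := s) (e := 0)
          (by rw [hs]; ring)
        have hf0 : ∀ v, f v = v → v = 0 := fun v hv => by
          have := Submodule.finrank_eq_zero.1 hff
          have hv' : v ∈ CfsgLib.Elusive.fixS f := CfsgLib.Elusive.mem_fixS.2 hv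
          rwa [this, Submodule.mem_bot] at hv'
        obtain ⟨T, μ, e, hTe, hTr, -, hTQ⟩ := hwit f (CfsgLib.Elusive.det_eq_one hj1 hfr) hfr (fun h => by
          have := hf0 (Pi.single ⟨0, hn0⟩ 1) (by rw [h, Module.End.one_apply])
          simpa using congrFun this ⟨0, hn0⟩)
        rw [CfsgLib.Elusive.card_zeros_modEq (Q := Q') hTr (fun v hv => by
            obtain ⟨w, rfl⟩ := e.surjective v
            rw [hTe] at hv
            rw [hf0 w (e.injective hv), map_zero])
          (fun v hv => by rw [hTQ, hv, mul_zero]), mul_one] at hz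
        have h' : (2 : ZMod r) * (((Fintype.card F : ℕ) : ZMod r) - 1) = 0 := by linear_combination hz
        have h2r : (2 : ZMod r) ≠ 0 := fun h => by
          rw [show (2 : ZMod r) = ((2 : ℕ) : ZMod r) by norm_num, ZMod.natCast_eq_zero_iff] at h
          exact hr2 ((Nat.prime_dvd_prime_iff_eq hrr Nat.prime_two).1 h)
        exact hj1 (orderOf_eq_one_iff.2 (sub_eq_zero.1 ((mul_eq_zero.1 h').resolve_left h2r)))
      · -- a moved space of odd dimension
        have hjn : j ≤ n := by
          rcases hidx with ⟨k, hk, hkn, hkd⟩ | ⟨m, hnm, hqm, -⟩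
          · exact (Nat.le_of_dvd hk.pos (hjodd k hkd)).trans hkn
          · exact Nat.le_of_dvd hn0 (by rw [hnm, hj, orderOf_dvd_iff_pow_eq_one]; exact hqm)
        obtain ⟨f, hfr, hff⟩ := CfsgLib.Elusive.exists_min_fix hrF (i := j) hj hj0 (n := n) (s := 1) (e := n - j)
          (by omega)
        obtain ⟨T, μ, e, hTe, hTr, hμr, hTQ⟩ := hwit f (CfsgLib.Elusive.det_eq_one hj1 hfr) hfr (fun h => by
          rw [h, CfsgLib.Elusive.fixS, sub_self, LinearMap.ker_zero, finrank_top, Module.finrank_fin_fun] at hff
          omega)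
        have hμ1 : μ = 1 := CfsgLib.Elusive.eq_one_of_pow_of_order hj1 hμr
        subst hμ1
        have hB := hbil T 1 hTQ
        set B := QuadraticMap.polarBilin Q' with hBdef
        set A := CfsgLib.Elusive.fixS T with hA
        set W := CfsgLib.Elusive.movS T with hW
        have hfixA : A = (CfsgLib.Elusive.fixS f).map (e : (Fin n → F) →ₗ[F] (Fin n → F)) := by
          ext v
          rw [Submodule.mem_map_equiv, hA, CfsgLib.Elusive.mem_fixS, CfsgLib.Elusive.mem_fixS]
          conv_lhs => rw [← e.apply_symm_apply v, hTe, e.injective.eq_iff]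
        have hdimW : Module.finrank F W = j := by
          have h := CfsgLib.Elusive.fix_add_mov (f := T)
          rw [← hA, hfixA, LinearEquiv.finrank_map_eq, hff, ← hW, Module.finrank_fin_fun] at h
          omega
        have hdis : Disjoint A W := Submodule.disjoint_def.2 fun v h1 h2' =>
          CfsgLib.Elusive.disjoint_fix_mov hTr hrF h1 h2'
        have htop : A ⊔ W = ⊤ := by
          refine Submodule.eq_top_of_finrank_eq ?_
          have h1 := Submodule.finrank_sup_add_finrank_inf_eq A W
          rw [disjoint_iff.1 hdis, finrank_bot] at h1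
          have := CfsgLib.Elusive.fix_add_mov (f := T)
          rw [← hA, ← hW] at this
          omega
        have hWinv : ∀ v ∈ W, T v ∈ W := by
          rintro _ ⟨u, rfl⟩
          exact ⟨T u, by simp⟩
        have hrest : ∀ (k : ℕ) (v : W), ((T.restrict hWinv ^ k) v : Fin n → F) = (T ^ k) v := by
          intro k
          induction k with
          | zero => intro v; rfl
          | succ k ih => intro v; rw [pow_succ', pow_succ', Module.End.mul_apply, Module.End.mul_apply, ← ih]; rfl
        refine CfsgLib.Elusive.no_fpf_isometry_odd (V := W) h2 hrodd (T := T.restrict hWinv) ?_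
          (B.compl₁₂ W.subtype W.subtype) ?_ ?_ (hdimW ▸ hjo) ?_
        · exact LinearMap.ext fun v => Subtype.ext (by rw [hrest, hTr]; rfl)
        · rintro ⟨u, hu⟩ huv
          refine Subtype.ext (hQ'.1 u fun v => ?_)
          obtain ⟨a, ha, c, hc, rfl⟩ := Submodule.mem_sup.1 (htop ▸ Submodule.mem_top : v ∈ A ⊔ W)
          obtain ⟨u', hu'⟩ := hu
          rw [map_add]
          have h1 : B u a = 0 := by
            rw [← hu', LinearMap.sub_apply, Module.End.one_apply, map_sub, LinearMap.sub_apply, sub_eq_zero]
            have := hB u' a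
            rwa [CfsgLib.Elusive.mem_fixS.1 ha, one_mul] at this
          rw [h1, zero_add]
          exact huv ⟨c, hc⟩
        · exact fun u v => (hB u v).trans (one_mul _)
        · intro v hv
          exact Subtype.ext (Submodule.disjoint_def.1 hdis v (CfsgLib.Elusive.mem_fixS.2 (congrArg Subtype.val hv)) v.2)
    have hdvd : r ∣ Fintype.card F - 1 := CfsgLib.Elusive.dvd_card_sub_one_iff.2 (orderOf_eq_one_iff.1 hj1)
    -- diagonal elements
    have hdiag : ∀ δ : Fin n → F, (∀ i, δ i ≠ 0) → ∏ i, δ i = 1 → (∃ z : F, ∀ i, δ i ^ r = z) →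
        (∃ i k, δ i ≠ δ k) → ∃ μ : F, μ ≠ 0 ∧ ∀ ν : F, ν ≠ 0 → (Finset.univ.filter fun i => δ i = ν).card =
          (Finset.univ.filter fun i => δ i = μ / ν).card := by
      intro δ hδ hprod ⟨z, hz⟩ ⟨i, k, hik⟩
      let x : GL (Fin n) F := Matrix.GeneralLinearGroup.mkOfDetNeZero (Matrix.diagonal δ)
        (by rw [Matrix.det_diagonal, hprod]; exact one_ne_zero)
      obtain ⟨g, -, hg⟩ := hall x (CfsgLib.Geo.mem_specialLinear.2 (by
          show (Matrix.diagonal δ).det = 1
          rw [Matrix.det_diagonal, hprod]))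
        ⟨z, by
          rw [Units.val_pow_eq_pow_val]
          show Matrix.diagonal δ ^ r = _
          rw [Matrix.diagonal_pow, ← Matrix.diagonal_one, ← Matrix.diagonal_smul]
          congr 1
          funext i
          simpa using hz i⟩
        (fun c hc => hik (by
          have h1 := congrFun (congrFun hc i) i
          have h3 := congrFun (congrFun hc k) k
          simp [x] at h1 h3
          rw [h1, h3]))
      exact CfsgLib.Elusive.diag_similitude_symm hQ' (δ := δ) rfl hg
    obtain ⟨ζ, hζ⟩ : ∃ ζ : F, IsPrimitiveRoot ζ r := by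
      obtain ⟨u, hu⟩ := exists_prime_orderOf_dvd_card (G := Fˣ) r (by rw [Fintype.card_units]; exact hdvd)
      exact ⟨u, IsPrimitiveRoot.coe_units_iff.2 (hu ▸ IsPrimitiveRoot.orderOf u)⟩
    have hζ0 : ζ ≠ 0 := hζ.ne_zero hrr.ne_zero
    let i₀ : Fin n := ⟨0, hn0⟩
    let i₁ : Fin n := ⟨1, by omega⟩
    let i₂ : Fin n := ⟨2, by omega⟩
    have hne : ∀ k, 0 < k → k < r → ζ ^ k ≠ 1 := fun k h1 h3 h => by
      have := Nat.le_of_dvd h1 (hζ.dvd_of_pow_eq_one k h)
      omega
    have h01 : i₀ ≠ i₁ := fun h => by simpa [i₀, i₁] using congrArg Fin.val h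
    have h02 : i₀ ≠ i₂ := fun h => by simpa [i₀, i₂] using congrArg Fin.val h
    have h12 : i₁ ≠ i₂ := fun h => by simpa [i₁, i₂] using congrArg Fin.val h
    have hshape : (r = 3 ∨ r = 5) ∧ n = r := by
      by_contra hsh
      set η := (ζ ^ 2)⁻¹ with hη
      set δ : Fin n → F := fun i => if i = i₀ ∨ i = i₁ then ζ else if i = i₂ then η else 1 with hδdef
      have hη0 : η ≠ 0 := inv_ne_zero (pow_ne_zero 2 hζ0)
      have hη1 : η ≠ 1 := fun h => hne 2 two_pos (by omega) (inv_eq_one.1 h)
      have hζ1 : ζ ≠ 1 := fun h => hne 1 one_pos (by omega) (by rw [pow_one, h])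
      obtain ⟨μ, hμ0, hμ⟩ := hdiag δ (fun i => by simp only [hδdef]; split_ifs <;> simp [hζ0, hη0])
        (by
          rw [← Finset.prod_subset (Finset.subset_univ ({i₀, i₁, i₂} : Finset (Fin n))) (fun i _ hi => by
            simp only [Finset.mem_insert, Finset.mem_singleton, not_or] at hi
            simp [hδdef, hi.1, hi.2.1, hi.2.2])]
          rw [Finset.prod_insert (by simp [h01, h02]), Finset.prod_insert (by simp [h12]), Finset.prod_singleton]
          simp [hδdef, h02.symm, h12.symm]
          rw [hη]
          field_simp)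
        ⟨1, fun i => by
          simp only [hδdef]
          split_ifs
          · exact hζ.pow_eq_one
          · rw [hη, inv_pow, ← pow_mul, mul_comm, pow_mul, hζ.pow_eq_one, one_pow, inv_one]
          · exact one_pow _⟩
        (by
          by_cases h : η = ζ
          · refine ⟨i₀, ⟨3, ?_⟩, ?_⟩
            · have : r = 3 := by
                by_contra h3
                refine hne 3 (by omega) (by omega) ?_
                rw [hη, inv_eq_iff_eq_inv, ← mul_eq_one_iff_eq_inv₀ hζ0] at h
                rw [← h]; ring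
              by_contra h4
              exact hsh ⟨Or.inl this, by omega⟩
            · simp [hδdef, i₀, i₁, i₂, hζ1]
          · exact ⟨i₀, i₂, by simpa [hδdef, h02.symm, h12.symm] using fun e => h e.symm⟩)
      have hcnt : ∀ ν : F, (Finset.univ.filter fun i => δ i = ν).card =
          (if ν = ζ then 2 else 0) + (if ν = η then 1 else 0) + if ν = 1 then n - 3 else 0 := by
        intro ν
        rw [Finset.card_filter, ← Finset.sum_sdiff (Finset.subset_univ ({i₀, i₁, i₂} : Finset (Fin n))),
          Finset.sum_congr rfl (g := fun _ => if ν = 1 then 1 else 0) (fun i hi => by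
            simp only [Finset.mem_sdiff, Finset.mem_insert, Finset.mem_singleton, not_or] at hi
            simp [hδdef, hi.2.1, hi.2.2.1, hi.2.2.2, eq_comm]),
          Finset.sum_const, Finset.card_sdiff, Finset.inter_univ, Finset.card_univ, Fintype.card_fin,
          show ({i₀, i₁, i₂} : Finset (Fin n)).card = 3 by simp [h01, h02, h12],
          Finset.sum_insert (by simp [h01, h02]), Finset.sum_insert (by simp [h12]), Finset.sum_singleton]
        simp [hδdef, h02.symm, h12.symm, eq_comm]
        split_ifs <;> omega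
      have hA := hμ ζ hζ0
      have hB := hμ η hη0
      rw [hcnt, hcnt] at hA hB
      by_cases hr3' : r = 3
      · have hηζ : η = ζ := by
          rw [hη]; exact inv_eq_of_mul_eq_one_right (by rw [← pow_succ, show 2 + 1 = r by omega, hζ.pow_eq_one])
        have hn4 : n ≠ 3 := fun h => hsh ⟨Or.inl hr3', by omega⟩
        have hn6 : n ≠ 6 := fun h => hgap ⟨h, hr3'⟩
        simp only [hηζ, hζ1, if_true, if_false] at hA
        by_cases h1 : μ / ζ = ζ
        · have hC := hμ 1 one_ne_zero
          rw [div_one, hcnt, hcnt] at hC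
          simp only [hηζ, hζ1.symm, if_true, if_false] at hC
          have hμ' : μ = ζ ^ 2 := by rw [div_eq_iff hζ0] at h1; rw [h1, pow_two]
          simp only [hμ', show ζ ^ 2 ≠ ζ from fun e => hζ1 (mul_left_cancel₀ hζ0 (by rw [← pow_two, e, mul_one])),
            hne 2 two_pos (by omega), if_false] at hC
          omega
        · rw [if_neg h1, if_neg h1] at hA
          by_cases h1' : μ / ζ = 1
          · rw [if_pos h1'] at hA; omega
          · rw [if_neg h1'] at hA; omega
      · have hr5 : 5 ≤ r := by
          rcases hrodd with ⟨t, ht⟩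
          omega
        have hζη : ζ ≠ η := fun h => hne 3 (by omega) (by omega) (by
          rw [hη, ← mul_eq_one_iff_eq_inv₀ (pow_ne_zero 2 hζ0)] at h
          rw [← h]; ring)
        simp only [hζη, hζ1, if_true, if_false] at hA
        simp only [hζη.symm, hη1, if_true, if_false] at hB
        by_cases h1 : μ / ζ = ζ
        · rw [div_eq_iff hζ0] at h1
          have hμη : μ / η = ζ ^ 4 := by rw [h1, hη, div_inv_eq_mul]; ring
          rw [hμη] at hB
          have e1 : ζ ^ 4 ≠ ζ := fun e => hne 3 (by omega) (by omega) (mul_left_cancel₀ hζ0 (by linear_combination e))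
          have e2 : ζ ^ 4 ≠ 1 := hne 4 (by omega) (by omega)
          have e3 : ζ ^ 4 ≠ η := fun e => by
            rw [hη, ← mul_eq_one_iff_eq_inv₀ (pow_ne_zero 2 hζ0), ← pow_add] at e
            have h6 := hζ.dvd_of_pow_eq_one _ e
            rcases hrr.dvd_mul.1 (show r ∣ 2 * 3 from h6) with h | h <;>
              [have := Nat.le_of_dvd two_pos h; have := Nat.le_of_dvd (by norm_num) h] <;> omega
          rw [if_neg e1, if_neg e2, if_neg e3] at hB
          omega
        by_cases h2' : μ / ζ = η
        · simp only [h2', hζη.symm, hη1, if_true, if_false] at hA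
          omega
        rw [if_neg h1, if_neg h2'] at hA
        by_cases h3 : μ / ζ = 1
        · rw [if_pos h3] at hA
          have hn5 : n = 5 := by omega
          rw [div_eq_one_iff_eq hζ0] at h3
          have hμη : μ / η = ζ ^ 3 := by rw [h3, hη, div_inv_eq_mul]; ring
          rw [hμη] at hB
          have e1 : ζ ^ 3 ≠ ζ := fun e => hne 2 (by omega) (by omega) (mul_left_cancel₀ hζ0 (by linear_combination e))
          have e2 : ζ ^ 3 ≠ 1 := hne 3 (by omega) (by omega)
          have e3 : ζ ^ 3 ≠ η := fun e => by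
            rw [hη, ← mul_eq_one_iff_eq_inv₀ (pow_ne_zero 2 hζ0), ← pow_add] at e
            have h5 := Nat.le_of_dvd (by omega) (hζ.dvd_of_pow_eq_one _ e)
            exact hsh ⟨Or.inr (by omega), by omega⟩
          rw [if_neg e1, if_neg e2, if_neg e3] at hB
          omega
        · rw [if_neg h3] at hA
          omega
    obtain ⟨hr35, hnr⟩ := hshape
    refine ⟨hr35, hnr, ?_⟩
    by_contra hv
    have hv2 : r ^ 2 ∣ Fintype.card F - 1 := by
      have h0 : Fintype.card F - 1 ≠ 0 := by have := Fintype.one_lt_card (α := F); omega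
      refine (pow_dvd_pow r ?_).trans pow_padicValNat_dvd
      have : 1 ≤ padicValNat r (Fintype.card F - 1) := one_le_padicValNat_of_dvd h0 hdvd
      omega
    obtain ⟨g₀, hg₀⟩ := IsCyclic.exists_ofOrder_eq_natCard (α := Fˣ)
    obtain ⟨u, hu⟩ : ∃ u : Fˣ, orderOf u = r ^ 2 := ⟨g₀ ^ ((Fintype.card F - 1) / r ^ 2), by
      rw [orderOf_pow' _ (Nat.div_pos (Nat.le_of_dvd (by have := Fintype.one_lt_card (α := F); omega) hv2)
        (pow_pos hrr.pos 2)).ne', hg₀, Nat.card_eq_fintype_card, Fintype.card_units,
        Nat.gcd_eq_right (Nat.div_dvd_of_dvd hv2), Nat.div_div_self hv2 (by have := Fintype.one_lt_card (α := F); omega)]⟩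
    have hun : ∀ k, (u : F) ^ k = 1 → r ^ 2 ∣ k := fun k hk => by
      rw [← hu]; exact orderOf_dvd_of_pow_eq_one (Units.ext (by rw [Units.val_pow_eq_pow_val, hk, Units.val_one]))
    have hu1 : (u : F) ^ (r ^ 2) = 1 := by
      rw [← Units.val_pow_eq_pow_val, ← hu, pow_orderOf_eq_one, Units.val_one]
    set lam := (u : F) with hlam
    have hl0 : lam ≠ 0 := u.ne_zero
    set a := (lam ^ (n - 1))⁻¹ with ha
    have ha0 : a ≠ 0 := inv_ne_zero (pow_ne_zero _ hl0)
    have hla : lam ≠ a := fun e => by
      rw [ha, ← mul_eq_one_iff_eq_inv₀ (pow_ne_zero _ hl0), ← pow_succ'] at e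
      have := Nat.le_of_dvd (by omega) (hun _ e)
      rw [show n - 1 + 1 = r by omega, pow_two] at this
      nlinarith
    obtain ⟨μ, hμ0, hμ⟩ := hdiag (fun i => if i = i₀ then a else lam)
      (fun i => by split_ifs <;> simp [ha0, hl0])
      (by rw [← Finset.mul_prod_erase _ _ (Finset.mem_univ i₀), if_pos rfl,
            Finset.prod_congr rfl (g := fun _ => lam) (fun i hi => if_neg (Finset.ne_of_mem_erase hi)),
            Finset.prod_const, Finset.card_erase_of_mem (Finset.mem_univ _), Finset.card_univ, Fintype.card_fin, ha,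
            inv_mul_cancel₀ (pow_ne_zero _ hl0)])
      ⟨lam ^ r, fun i => by
        split_ifs
        · rw [ha, inv_pow, ← pow_mul, inv_eq_of_mul_eq_one_right]
          rw [← pow_add, show (n - 1) * r + r = r ^ 2 by rw [← Nat.succ_mul, hnr, Nat.succ_eq_add_one, Nat.sub_add_cancel hrr.one_le, pow_two]]
          exact hu1
        · rfl⟩
      ⟨i₀, i₁, by simpa [h01.symm] using fun e => hla e.symm⟩
    have hcnt : ∀ ν : F, (Finset.univ.filter fun i => (if i = i₀ then a else lam) = ν).card =
        (if ν = a then 1 else 0) + if ν = lam then n - 1 else 0 := by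
      intro ν
      rw [Finset.card_filter, ← Finset.add_sum_erase _ _ (Finset.mem_univ i₀), if_pos rfl,
        Finset.sum_congr rfl (g := fun _ => if ν = lam then 1 else 0) (fun i hi => by
          simp [Finset.ne_of_mem_erase hi, eq_comm]),
        Finset.sum_const, Finset.card_erase_of_mem (Finset.mem_univ _), Finset.card_univ, Fintype.card_fin]
      simp [eq_comm]
    have hA := hμ lam hl0
    have hB := hμ a ha0
    rw [hcnt, hcnt] at hA hB
    simp only [hla, if_true, if_false] at hA
    simp only [hla.symm, if_true, if_false] at hB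
    by_cases h1 : μ / lam = lam
    · rw [div_eq_iff hl0] at h1
      by_cases h2' : μ / a = a
      · rw [h1, ha, div_inv_eq_mul, ← mul_eq_one_iff_eq_inv₀ (pow_ne_zero _ hl0), ← pow_two, ← pow_add, ← pow_add] at h2'
        have h5 := hun _ h2'
        rw [show 2 + (n - 1) + (n - 1) = r * 2 by omega, pow_two] at h5
        exact hr2 ((Nat.prime_dvd_prime_iff_eq hrr Nat.prime_two).1 (Nat.dvd_of_mul_dvd_mul_left hrr.pos h5))
      · rw [if_neg h2'] at hB
        split_ifs at hB <;> omega
    · rw [if_neg h1] at hA
      split_ifs at hA <;> omega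
  · rintro hcases x hx ⟨z, hz⟩ hns
    set T := Matrix.toLin' (x : Matrix (Fin n) (Fin n) F) with hT
    have hTr : T ^ r = z • 1 := hpow x z hz
    have hxdet : (x : Matrix (Fin n) (Fin n) F).det = 1 := CfsgLib.Geo.mem_specialLinear.1 hx
    have hz0 : z ≠ 0 := fun h => by
      rw [h, zero_smul] at hz
      haveI : Nonempty (Fin n) := ⟨⟨0, hn0⟩⟩
      exact (x ^ r).ne_zero hz
    -- finish from a basis and a form
    have hfin : ∀ (b : Module.Basis (Fin n) F (Fin n → F)) (K : Matrix (Fin n) (Fin n) F),
        (∀ i, T (b i) = ∑ k, K k i • b k) → ∀ μ : F, μ ≠ 0 →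
        (∀ c : F, c ≠ 0 → ∃ G : Matrix (Fin n) (Fin n) F, G.transpose = G ∧ K.transpose * G * K = μ • G ∧ G.det = c) →
        ∃ g ∈ Cfsg.Geo.specialLinear (Fin n) F, g⁻¹ * x * g ∈ Cfsg.Geo.quadSimilarityGroup ⇑Q' := by
      intro b K hbK μ hμ hG
      set M : Matrix (Fin n) (Fin n) F := Matrix.of fun l k => b k l with hM
      have hMdet : M.det ≠ 0 := by
        intro h
        obtain ⟨c, hc0, hc⟩ := Matrix.exists_mulVec_eq_zero_iff.2 h
        refine hc0 (funext fun k => ?_)
        have hsum : ∑ k, c k • b k = 0 := by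
          rw [← hc]
          funext l
          simp [M, Matrix.mulVec, dotProduct, mul_comm]
        exact Fintype.linearIndependent_iff.1 b.linearIndependent c hsum k
      obtain ⟨G, h1, h3, h4⟩ := hG (M.det ^ 2 * D / 2 ^ n)
        (div_ne_zero (mul_ne_zero (pow_ne_zero 2 hMdet) hD) (pow_ne_zero n h2))
      refine CfsgLib.Elusive.exists_sl_conj_similitude h2 hn0 hQ' hμ (M := M) (K := K) (G := G) ?_ h3 h1 hMdet ?_
      · ext l i
        have h := congrFun (hbK i) l
        rw [hT, Matrix.toLin'_apply] at h
        rw [Matrix.mul_apply, Matrix.mul_apply]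
        refine (show _ = _ from h).trans ?_
        rw [Finset.sum_apply]
        exact Finset.sum_congr rfl fun k _ => by rw [Pi.smul_apply, smul_eq_mul, mul_comm]; rfl
      · rw [Matrix.det_smul, Fintype.card_fin, h4]
        field_simp
        rfl
    -- diagonal form
    have hdia : ∀ (b : Module.Basis (Fin n) F (Fin n → F)) (d : Fin n → F) (σ : Equiv.Perm (Fin n)),
        (∀ i, T (b i) = d i • b i) → Function.Involutive σ → (∃ i, σ i = i) → ∀ μ : F, μ ≠ 0 → (∀ i, d i * d (σ i) = μ) →
        ∃ g ∈ Cfsg.Geo.specialLinear (Fin n) F, g⁻¹ * x * g ∈ Cfsg.Geo.quadSimilarityGroup ⇑Q' := by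
      intro b d σ hb hσ ⟨i', hi'⟩ μ hμ hd
      refine hfin b (Matrix.diagonal d) (fun i => ?_) μ hμ fun c hc => ?_
      · rw [hb, Finset.sum_eq_single i (fun k _ hk => by rw [Matrix.diagonal_apply_ne _ hk, zero_smul])
          (fun h => absurd (Finset.mem_univ _) h), Matrix.diagonal_apply_eq]
      set s : F := ((Equiv.Perm.sign σ : ℤ) : F) with hs
      have hss : s * s = 1 := by
        rw [hs, ← Int.cast_mul, Int.units_coe_mul_self]
        exact Int.cast_one
      set w := Function.update (fun _ => (1 : F)) i' (s * c) with hw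
      have hwσ : ∀ i, w (σ i) = w i := fun i => by
        by_cases h : i = i'
        · subst h; rw [hi']
        · rw [hw, Function.update_of_ne h, Function.update_of_ne (fun e => h (by rw [← hσ i, e, hi']))]
      have hG : ∀ i k, (Matrix.diagonal w * σ.permMatrix F) i k = if σ i = k then w i else 0 := fun i k => by
        rw [Matrix.diagonal_mul, Equiv.Perm.permMatrix, PEquiv.toMatrix_apply]
        simp
      refine ⟨Matrix.diagonal w * σ.permMatrix F, ?_, ?_, ?_⟩
      · ext i k
        rw [Matrix.transpose_apply, hG, hG]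
        by_cases h : σ i = k
        · subst h; rw [hσ i, if_pos rfl, if_pos rfl, hwσ]
        · rw [if_neg h, if_neg (fun e => h (by rw [← e, hσ]))]
      · ext i k
        rw [Matrix.diagonal_transpose, Matrix.mul_diagonal, Matrix.diagonal_mul, Matrix.smul_apply, hG, smul_eq_mul]
        split_ifs with h
        · subst h; linear_combination (w i) * hd i
        · ring
      · rw [Matrix.det_mul, Matrix.det_diagonal, Matrix.det_permutation, hw,
          Finset.prod_update_of_mem (Finset.mem_univ _), Finset.prod_const_one, mul_one]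
        show s * c * s = c
        linear_combination c * hss
    rcases hcases with hr2 | ⟨hr35, hnr, hv⟩
    · subst hr2
      have hTT : T * T = z • 1 := by rw [← pow_two]; exact hTr
      by_cases hsq : ∃ lam : F, lam ^ 2 = z
      · obtain ⟨lam, hlam⟩ := hsq
        have hl0 : lam ≠ 0 := fun h => hz0 (by rw [← hlam, h, zero_pow two_ne_zero])
        have hpc : IsPrimitiveRoot (-1 : F) 2 := IsPrimitiveRoot.neg_one p (fun h => hchar (by rw [ringChar.eq F p, h]))
        obtain ⟨b, hb⟩ := CfsgLib.Elusive.exists_diag_basis (n := n) (S := lam⁻¹ • T) (Module.finrank_fin_fun F)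
          (by rw [smul_pow, hTr, smul_smul, inv_pow, hlam, inv_mul_cancel₀ hz0, one_smul]) hpc
          (by simpa using h2)
        choose k hk using hb
        refine hdia b (fun i => lam * (-1) ^ k i) 1 (fun i => ?_) (fun i => rfl) ⟨⟨0, hn0⟩, rfl⟩ z hz0 fun i => ?_
        · have := hk i
          rw [LinearMap.smul_apply, inv_smul_eq_iff₀ hl0] at this
          rw [this, smul_smul]
        · rw [Equiv.Perm.one_apply, show lam * (-1) ^ k i * (lam * (-1) ^ k i) = lam ^ 2 * ((-1) ^ k i * (-1) ^ k i) by ring,
            ← mul_pow, neg_one_mul, neg_neg, one_pow, mul_one, hlam]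
      · push Not at hsq
        obtain ⟨m, hm⟩ := CfsgLib.Elusive.even_finrank_of_sq hsq
          (T := T) (fun v => LinearMap.congr_fun hTT v)
        rw [Module.finrank_fin_fun] at hm
        obtain ⟨b, hb⟩ := CfsgLib.Elusive.exists_kummer_basis hTT hsq (m := m)
          ((Module.finrank_fin_fun F).trans (by omega))
        let e : Fin n ≃ Fin 2 × Fin m := (finCongr (show n = 2 * m by omega)).trans finProdFinEquiv.symm
        let K : Matrix (Fin 2 × Fin m) (Fin 2 × Fin m) F := Matrix.blockDiagonal fun _ => !![0, z; 1, 0]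
        refine hfin (b.reindex e.symm) (K.submatrix e e) (fun i => ?_) z hz0 fun c hc => ?_
        · rw [← e.symm.sum_comp, Fintype.sum_prod_type, Fin.sum_univ_two]
          obtain ⟨⟨s, t⟩, rfl⟩ := e.symm.surjective i
          have h := hb t
          fin_cases s <;> simp [K, Matrix.blockDiagonal_apply, h.1, h.2, ite_smul]
        let i₁ : Fin m := ⟨0, by omega⟩
        obtain ⟨α, β, hαβ⟩ : ∃ α β : F, z * α ^ 2 - β ^ 2 = c / z ^ (m - 1) := by
          obtain ⟨α, β, h⟩ := FiniteField.exists_root_sum_quadratic (R := F)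
            (f := Polynomial.C z * Polynomial.X ^ 2)
            (g := Polynomial.C (-1) * Polynomial.X ^ 2 + Polynomial.C (-(c / z ^ (m - 1))))
            (Polynomial.degree_C_mul_X_pow 2 hz0)
            (by rw [Polynomial.degree_add_C (by rw [Polynomial.degree_C_mul_X_pow 2 (neg_ne_zero.2 one_ne_zero)]; norm_num),
                  Polynomial.degree_C_mul_X_pow 2 (neg_ne_zero.2 one_ne_zero)]; norm_num)
            (FiniteField.odd_card_of_char_ne_two hchar)
          simp only [Polynomial.eval_add, Polynomial.eval_mul, Polynomial.eval_pow, Polynomial.eval_X, Polynomial.eval_C] at h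
          exact ⟨α, β, by linear_combination h⟩
        let U : Fin m → Matrix (Fin 2) (Fin 2) F :=
          Function.update (fun _ => !![1, 0; 0, z]) i₁ !![α, β; β, z * α]
        have hU : ∀ t, (U t).transpose = U t ∧ !![0, z; 1, 0].transpose * U t * !![0, z; 1, 0] = z • U t := fun t => by
          have hU1 : ∀ a b : F, (!![a, b; b, z * a]).transpose = !![a, b; b, z * a] ∧
              !![0, z; 1, 0].transpose * !![a, b; b, z * a] * !![0, z; 1, 0] = z • !![a, b; b, z * a] := fun a b => by
            constructor <;> ext i k <;> fin_cases i <;> fin_cases k <;>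
              simp [Matrix.mul_apply, Fin.sum_univ_two] <;> ring
          by_cases h : t = i₁
          · subst h; simp only [U, Function.update_self]; exact hU1 α β
          · have := hU1 1 0
            rw [mul_one] at this
            simp only [U, Function.update_of_ne h]; exact this
        refine ⟨(Matrix.blockDiagonal U).submatrix e e, ?_, ?_, ?_⟩
        · rw [Matrix.transpose_submatrix, Matrix.blockDiagonal_transpose]
          congr 2
          exact funext fun t => (hU t).1
        · rw [Matrix.transpose_submatrix, Matrix.submatrix_mul_equiv, Matrix.submatrix_mul_equiv,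
            Matrix.blockDiagonal_transpose, ← Matrix.blockDiagonal_mul, ← Matrix.blockDiagonal_mul]
          show _ = (z • Matrix.blockDiagonal U).submatrix e e
          rw [← Matrix.blockDiagonal_smul]
          congr 2
          exact funext fun t => (hU t).2
        · rw [Matrix.det_submatrix_equiv_self, Matrix.det_blockDiagonal,
            ← Finset.mul_prod_erase _ _ (Finset.mem_univ i₁),
            Finset.prod_congr rfl (g := fun _ => z) (fun t ht => by
              simp [U, Function.update_of_ne (Finset.ne_of_mem_erase ht)]),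
            Finset.prod_const, Finset.card_erase_of_mem (Finset.mem_univ _), Finset.card_univ, Fintype.card_fin,
            show U i₁ = !![α, β; β, z * α] from Function.update_self _ _ _, Matrix.det_fin_two_of,
            show α * (z * α) - β * β = c / z ^ (m - 1) by linear_combination hαβ,
            div_mul_cancel₀ _ (pow_ne_zero _ hz0)]
    · subst n
      have hr2 : r ≠ 2 := by omega
      have hrodd : Odd r := hrr.odd_of_ne_two hr2
      have hdvd : r ∣ Fintype.card F - 1 := dvd_of_one_le_padicValNat hv.ge
      have hrF : (r : F) ≠ 0 := CfsgLib.Elusive.cast_ne_zero_of_ne (p := p) fun hrp => by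
        obtain ⟨k, -, hk⟩ := FiniteField.card F p
        have h1 : r ∣ Fintype.card F := by rw [hk, hrp]; exact dvd_pow_self p k.ne_zero
        have h2' : r ∣ Fintype.card F - (Fintype.card F - 1) := Nat.dvd_sub h1 hdvd
        rw [show Fintype.card F - (Fintype.card F - 1) = 1 by have := Fintype.card_pos (α := F); omega] at h2'
        exact hrr.not_dvd_one h2'
      have hzr : z ^ r = 1 := by
        have h := congrArg Matrix.det hz
        rwa [Units.val_pow_eq_pow_val, Matrix.det_pow, hxdet, one_pow, Matrix.det_smul, Matrix.det_one, mul_one,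
          Fintype.card_fin, eq_comm] at h
      have hz1 : z = 1 := by
        by_contra hz1
        have hnot : ∀ y : F, y ^ r ≠ z := by
          intro y hy
          have hy0 : y ≠ 0 := fun h => hz0 (by rw [← hy, h, zero_pow hrr.ne_zero])
          set u := Units.mk0 y hy0
          have ho : orderOf u = r ^ 2 := by
            refine orderOf_eq_prime_pow (n := 1) ?_ ?_
            · rw [pow_one]
              exact fun h => hz1 (by rw [← hy]; exact congrArg Units.val h)
            · exact Units.ext (by rw [Units.val_pow_eq_pow_val, Units.val_mk0, pow_two, pow_mul, hy, hzr, Units.val_one])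
          have h1 : r ^ 2 ∣ Fintype.card F - 1 := by
            rw [← ho, ← Fintype.card_units]
            exact orderOf_dvd_card
          have h3 := (padicValNat_dvd_iff_le (by have := Fintype.one_lt_card (α := F); omega)).1 h1
          omega
        have h := CfsgLib.Elusive.det_block hTr hnot (Module.finrank_fin_fun F)
        rw [hT, LinearMap.det_toLin', hxdet, (hrodd.add_one).neg_one_pow, one_mul] at h
        exact hz1 h.symm
      rw [hz1, one_smul] at hTr
      obtain ⟨ζ, hζ⟩ : ∃ ζ : F, IsPrimitiveRoot ζ r := by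
        obtain ⟨u, hu⟩ := exists_prime_orderOf_dvd_card (G := Fˣ) r (by rw [Fintype.card_units]; exact hdvd)
        exact ⟨u, IsPrimitiveRoot.coe_units_iff.2 (hu ▸ IsPrimitiveRoot.orderOf u)⟩
      obtain ⟨b, hb⟩ := CfsgLib.Elusive.exists_diag_basis (Module.finrank_fin_fun F) hTr hζ hrF
      choose k hk using hb
      haveI : NeZero r := ⟨hrr.ne_zero⟩
      let ψ := AddChar.zmodChar r hζ.pow_eq_one
      have hψ : ∀ i, T (b i) = ψ (k i) • b i := fun i => by
        rw [hk, AddChar.zmodChar_apply' hζ.pow_eq_one]
      let K := Matrix.diagonal fun i => ψ (k i)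
      have hsum : ∑ i, ((k i : ℕ) : ZMod r) = 0 := by
        have h : LinearMap.det T = ∏ i, ψ (k i) := by
          rw [← LinearMap.det_toMatrix b, ← Matrix.det_diagonal]
          congr 1
          ext i l
          rw [LinearMap.toMatrix_apply, hψ, map_smul, b.repr_self, Finsupp.smul_single, smul_eq_mul, mul_one,
            Finsupp.single_apply, Matrix.diagonal_apply]
          by_cases h : i = l
          · subst h; simp
          · simp [h, Ne.symm h]
        rw [hT, LinearMap.det_toLin', hxdet] at h
        have h' : ∏ i, ψ (k i) = ζ ^ (∑ i, k i) := by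
          rw [← Finset.prod_pow_eq_pow_sum]
          exact Finset.prod_congr rfl fun i _ => AddChar.zmodChar_apply' hζ.pow_eq_one _
        rw [← Nat.cast_sum, ZMod.natCast_eq_zero_iff]
        exact hζ.dvd_of_pow_eq_one _ (h'.symm.trans h.symm)
      obtain ⟨c, hc⟩ : ∃ c : ZMod r, ∀ v, (Finset.univ.filter fun i => ((k i : ℕ) : ZMod r) = c - v).card =
          (Finset.univ.filter fun i => ((k i : ℕ) : ZMod r) = v).card := by
        have key : ∀ e : Fin r → ZMod r, ∑ i, e i = 0 → ∃ c : ZMod r, ∀ v,
            (Finset.univ.filter fun i => e i = c - v).card = (Finset.univ.filter fun i => e i = v).card := by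
          rcases hr35 with rfl | rfl
          · convert CfsgLib.Elusive.symm_colouring_three
          · convert CfsgLib.Elusive.symm_colouring_five
        exact key _ hsum
      obtain ⟨σ, hσ, hσc⟩ := CfsgLib.Elusive.exists_pairing hc
      have hfix : ∃ i, σ i = i := by
        by_contra h
        push Not at h
        have := Equiv.Perm.card_fixedPoints_modEq (p := 2) (n := 1) (f := (σ : Fin r → Fin r))
          (funext fun i => hσ i)
        rw [Fintype.card_fin, Fintype.card_eq_zero_iff.2 ⟨fun ⟨i, hi⟩ => h i hi⟩] at this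
        exact Nat.not_even_iff_odd.2 hrodd (Nat.even_iff.2 this)
      refine hdia b (fun i => ψ (k i)) σ hψ hσ hfix (ψ c) ?_ fun i => ?_
      · rw [AddChar.zmodChar_apply]; exact pow_ne_zero _ (hζ.ne_zero hrr.ne_zero)
      · rw [← AddChar.map_add_eq_mul, hσc]

end Cfsg.Agent.S5981
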