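import Cfsg.Statements.S5982
import Cfsg.Agent.Elusive.UnitSimil


set_option autoImplicit false
open scoped MatrixGroups
open Cfsg

namespace Cfsg.Agent.S5982
open scoped Matrix

set_option maxHeartbeats 3000000

/-- Elements of prime order of PSL_n(q), q = q₀², and the subgroups of unitary type. Here `T = PSL_n(F)` for a field `F` with `q = q₀²` elements (`n ≥ 3`), `f` is a non-degenerate unitary form on `F^n` for the involutory automorphism `x ↦ x^{q₀}`, and `H` is the subgroup of matrices of determinant 1 that preserve `f` up to a scalar — a subgroup of type GU_n(q₀) (maximality is not assumed); Ω is the set of cosets of `H` in `T`, so an element of `T` of prime order `r` (a matrix `x` of determinant 1 with `x^r` scalar, `x` not scalar) fixes a point of Ω exactly when some conjugate of `x` by a matrix of determinant 1 preserves `f` up to a scalar. Let `r` be a prime dividing the index of `H`, with `r = 2` or `r` different from the characteristic `p`, and with `(n, r) ≠ (6, 3)`. Then every element of `T` of order `r` fixes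 a point of Ω if and only if either `r = 2` and (`p = 2` or `(n)_2 ≤ (q − 1)_2`), or `r ∈ {3, 5}`, `n = r` and `(q₀ − 1)_r = r`. (Odd `r = p` and the case `(n, r) = (6, 3)` are not covered by this statement.) -/
theorem result {F : Type*} [Field F] [Fintype F] {p : ℕ} [Fact p.Prime] [CharP F p] {q : ℕ} (hq : Fintype.card F = q)
    (q₀ : ℕ) (hq₀ : q = q₀ ^ 2) (n : ℕ) (hn : 3 ≤ n) (f : (Fin n → F) → (Fin n → F) → F) (hf : Cfsg.Geo.IsUnitaryFormPow q₀ f)
    (r : ℕ) [Fact r.Prime] (hr : r = 2 ∨ r ≠ p) (hgap : ¬ (n = 6 ∧ r = 3))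
    (hΩ : r ∣ (Cfsg.Geo.similarityGroup f).relIndex (Cfsg.Geo.specialLinear (Fin n) F)) :
    (∀ x ∈ Cfsg.Geo.specialLinear (Fin n) F, (∃ z : F, ((x ^ r : GL (Fin n) F) : Matrix (Fin n) (Fin n) F) = z • (1 : Matrix (Fin n) (Fin n) F)) →
      (∀ z : F, (x : Matrix (Fin n) (Fin n) F) ≠ z • (1 : Matrix (Fin n) (Fin n) F)) →
      ∃ g ∈ Cfsg.Geo.specialLinear (Fin n) F, g⁻¹ * x * g ∈ Cfsg.Geo.similarityGroup f) ↔
    ((r = 2 ∧ (p = 2 ∨ padicValNat 2 n ≤ padicValNat 2 (q - 1))) ∨ ((r = 3 ∨ r = 5) ∧ n = r ∧ padicValNat r (q₀ - 1) = 1)) := by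
  classical
  subst hq
  have hrr : r.Prime := Fact.out
  have hpp : p.Prime := Fact.out
  have hn0 : 0 < n := by omega
  have hF : Nat.card F = q₀ ^ 2 := by rw [Nat.card_eq_fintype_card, hq₀]
  have hq2 : 2 ≤ q₀ := CfsgLib.Forms.two_le_q hF
  have hFc : (Fintype.card F - 1) = (q₀ + 1) * (q₀ - 1) := by rw [hq₀, ← Nat.sq_sub_sq, one_pow]
  have hq0dvd : q₀ - 1 ∣ Fintype.card F - 1 := hFc ▸ dvd_mul_left _ _
  obtain ⟨P, hP⟩ := CfsgLib.Elusive.UnitSimil.exists_std hF hf
  -- a vector of length one
  obtain ⟨v₁, hv₁⟩ : ∃ v, f v v = 1 := ⟨(P : Matrix (Fin n) (Fin n) F) *ᵥ Pi.single ⟨0, hn0⟩ 1, by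
    rw [hP, CfsgLib.Unitary.herm_single_left, Pi.single_eq_same, one_pow]⟩
  have hself : ∀ v, f v v ^ q₀ = f v v := fun v => (hf.herm v v).symm
  have hq0F : ∀ a : F, (a ^ q₀) ^ q₀ = a := CfsgLib.Forms.pow_q_q hF
  have hpow : ∀ (x : GL (Fin n) F) (z : F), ((x ^ r : GL (Fin n) F) : Matrix (Fin n) (Fin n) F) = z • (1 : Matrix (Fin n) (Fin n) F) →
      Matrix.toLin' (x : Matrix (Fin n) (Fin n) F) ^ r = z • 1 := by
    intro x z hz
    rw [Units.val_pow_eq_pow_val] at hz
    show Matrix.toLinAlgEquiv' (x : Matrix (Fin n) (Fin n) F) ^ r = z • 1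
    rw [← map_pow, hz, map_smul, map_one]
  have hp2F : p = 2 ↔ (2 : F) = 0 := by
    constructor
    · intro h; subst h; exact CharP.cast_eq_zero F 2
    · intro h
      exact ((Nat.prime_dvd_prime_iff_eq hpp Nat.prime_two).1 ((CharP.cast_eq_zero_iff F p 2).1 (by exact_mod_cast h)))
  constructor
  · intro hall
    by_cases hr2 : r = 2
    · subst hr2
      refine Or.inl ⟨rfl, ?_⟩
      by_contra hcon
      push Not at hcon
      obtain ⟨hp2, hv⟩ := hcon
      have h2 : (2 : F) ≠ 0 := fun h => hp2 (hp2F.2 h)
      have hchar : ringChar F ≠ 2 := by rw [ringChar.eq F p]; exact hp2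
      have hodd : Odd (Fintype.card F) := Nat.odd_iff.2 (FiniteField.odd_card_of_char_ne_two hchar)
      have hodd0 : Odd q₀ := (Nat.odd_mul.1 (by rw [← pow_two, ← hq₀]; exact hodd)).1
      have hn2 : 2 ∣ n := by
        by_contra h
        rw [padicValNat.eq_zero_of_not_dvd h] at hv
        exact Nat.not_lt_zero _ hv
      have hdvd2 : 2 ∣ Fintype.card F - 1 := by rw [Nat.odd_iff] at hodd; omega
      obtain ⟨c, hc, hcd⟩ := (CfsgLib.Elusive.exists_nonpow_iff (F := F) hdvd2 hn2 (by omega)).2
        (fun h => absurd h.1 (not_le.2 hv))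
      obtain ⟨g, hgr⟩ := CfsgLib.Elusive.kum_build (r := 2) hc hn2
      obtain ⟨s, hs⟩ := hn2
      have hgd : LinearMap.det g = 1 := by
        rw [CfsgLib.Elusive.kum_det s _ g hgr hc (by rw [Module.finrank_fin_fun, hs, mul_comm])]
        rwa [hs, Nat.mul_div_cancel_left _ two_pos] at hcd
      obtain ⟨x0, hx0⟩ := CfsgLib.Elusive.exists_sl hgd
      set x : GL (Fin n) F := Matrix.SpecialLinearGroup.toGL x0 with hxdef
      have hx2 : (x : Matrix (Fin n) (Fin n) F) ^ 2 = c • 1 := Matrix.toLinAlgEquiv'.injective (by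
        rw [map_pow, map_smul, map_one]
        show Matrix.toLin' (x : Matrix (Fin n) (Fin n) F) ^ 2 = c • 1
        rw [show Matrix.toLin' (x : Matrix (Fin n) (Fin n) F) = g from hx0, hgr])
      obtain ⟨h, -, μ, hμ⟩ := hall x (CfsgLib.Geo.mem_specialLinear.2 x0.2) ⟨c, by rw [Units.val_pow_eq_pow_val, hx2]⟩
        (fun z hz => hc z (by
          rw [hz, smul_pow, one_pow] at hx2
          simpa using congrFun (congrFun hx2 ⟨0, hn0⟩) ⟨0, hn0⟩))
      set y := h⁻¹ * x * h with hy
      have hy2 : (y : Matrix (Fin n) (Fin n) F) * (y : Matrix (Fin n) (Fin n) F) = c • 1 := by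
        rw [← Units.val_mul, hy, show h⁻¹ * x * h * (h⁻¹ * x * h) = h⁻¹ * (x * x) * h by group, Units.val_mul, Units.val_mul,
          Units.val_mul x x, ← pow_two, hx2, Matrix.mul_smul, Matrix.mul_one, Matrix.smul_mul, Units.inv_mul]
      have h1 := hμ ((y : Matrix (Fin n) (Fin n) F) *ᵥ v₁) ((y : Matrix (Fin n) (Fin n) F) *ᵥ v₁)
      rw [hμ v₁ v₁, Matrix.mulVec_mulVec, hy2, Matrix.smul_mulVec, Matrix.one_mulVec, hf.smul_left,
        CfsgLib.Elusive.UnitSimil.smul_right hF hf, hv₁, mul_one, mul_one] at h1
      have hμq : (μ : F) ^ q₀ = μ := by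
        have h3 := hμ v₁ v₁
        rw [hv₁, mul_one] at h3
        rw [← h3]
        exact hself _
      have hc0 : c ≠ 0 := fun h => hc 0 (by rw [h, zero_pow two_ne_zero])
      have hsq : IsSquare c := by
        rw [FiniteField.isSquare_iff hchar hc0]
        obtain ⟨w, hw⟩ := hodd0
        have hhalf : Fintype.card F / 2 = (q₀ + 1) * w := by
          rw [hq₀, hw]
          have : (2 * w + 1) ^ 2 = 2 * ((2 * w + 1 + 1) * w) + 1 := by ring
          omega
        rw [hhalf, pow_mul, pow_succ', h1, ← pow_two, ← pow_mul]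
        have h4 : (μ : F) ^ (2 * w) * μ = μ := by rw [← pow_succ, ← hw]; exact hμq
        exact mul_right_cancel₀ μ.ne_zero (by rw [h4, one_mul])
      obtain ⟨y', hy'⟩ := hsq
      exact hc y' (by rw [pow_two, ← hy'])
    refine Or.inr ?_
    have hrp : r ≠ p := hr.resolve_left hr2
    have hrodd : Odd r := hrr.odd_of_ne_two hr2
    have hr3 : 3 ≤ r := by have := hrr.two_le; omega
    have hrF : (r : F) ≠ 0 := CfsgLib.Elusive.cast_ne_zero_of_ne hrp
    set j := orderOf (((Fintype.card F : ℕ) : ZMod r)) with hj
    have hj0 : 0 < j := CfsgLib.Elusive.orderOf_q_pos (CfsgLib.Elusive.card_ne_zero_mod hrp)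
    obtain ⟨i, hin, hi0, hi⟩ := CfsgLib.Elusive.UnitSimil.index_cases hF hf hrp hn0 hΩ
    have hneg : (-1 : ZMod r) ≠ 1 := fun h => by
      have h' : ((2 : ℕ) : ZMod r) = 0 := by push_cast; linear_combination -h
      rw [ZMod.natCast_eq_zero_iff] at h'
      exact hr2 ((Nat.prime_dvd_prime_iff_eq hrr Nat.prime_two).1 h')
    have hjdef : j = orderOf ((-(q₀ : ZMod r)) ^ 2) := by rw [hj, hq₀, Nat.cast_pow, neg_sq]
    have hji : j ∣ i := by
      rw [hjdef, orderOf_dvd_iff_pow_eq_one, ← pow_mul, mul_comm, pow_mul, hi, neg_one_sq]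
    have hjn : j ≤ n := (Nat.le_of_dvd hi0 hji).trans hin
    have haj : (-(q₀ : ZMod r)) ^ j = -1 := by
      have h1 : ((-(q₀ : ZMod r)) ^ j) ^ 2 = 1 := by rw [← pow_mul, mul_comm, pow_mul, hjdef, pow_orderOf_eq_one]
      rcases sq_eq_one_iff.1 h1 with h | h
      · obtain ⟨w, hw⟩ := hji
        rw [hw, pow_mul, h, one_pow] at hi
        exact absurd hi hneg.symm
      · exact h
    have hj1 : j = 1 := by
      by_contra hj1
      obtain ⟨F₀, hfr, hff⟩ := CfsgLib.Elusive.exists_min_fix hrF (i := j) hj hj0 (n := n) (s := 1) (e := n - j)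
        (by omega)
      obtain ⟨x0, hx0⟩ := CfsgLib.Elusive.exists_sl (CfsgLib.Elusive.det_eq_one hj1 hfr)
      set x : GL (Fin n) F := Matrix.SpecialLinearGroup.toGL x0 with hxdef
      have hxf : Matrix.toLin' (x : Matrix (Fin n) (Fin n) F) = F₀ := hx0
      have hxr : (x : Matrix (Fin n) (Fin n) F) ^ r = 1 := Matrix.toLinAlgEquiv'.injective (by
        rw [map_pow, map_one]
        show Matrix.toLin' (x : Matrix (Fin n) (Fin n) F) ^ r = 1
        rw [hxf, hfr])
      obtain ⟨g, -, μ, hμ⟩ := hall x (CfsgLib.Geo.mem_specialLinear.2 x0.2)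
        ⟨1, by rw [Units.val_pow_eq_pow_val, hxr, one_smul]⟩ (fun z hz => by
          have hFz : F₀ = z • 1 := hxf ▸ CfsgLib.Elusive.scalar_toLin hz
          have hz1 : z = 1 := CfsgLib.Elusive.eq_one_of_pow_of_order hj1 (by
            have h := congrFun (congrFun hxr ⟨0, hn0⟩) ⟨0, hn0⟩
            rw [hz, smul_pow, one_pow] at h
            simpa using h)
          rw [hFz, hz1, one_smul, CfsgLib.Elusive.fixS, sub_self, LinearMap.ker_zero, finrank_top, Module.finrank_fin_fun] at hff
          omega)
      set y := g⁻¹ * x * g with hy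
      set T := Matrix.toLin' (y : Matrix (Fin n) (Fin n) F) with hT
      have hy' : (y : Matrix (Fin n) (Fin n) F) ^ r = 1 := by
        have h : y ^ r = 1 := by
          rw [hy, show g⁻¹ * x * g = g⁻¹ * x * (g⁻¹)⁻¹ by rw [inv_inv], conj_pow,
            show x ^ r = 1 from Units.ext (by rw [Units.val_pow_eq_pow_val, hxr]; rfl), mul_one, mul_inv_cancel]
        rw [← Units.val_pow_eq_pow_val, h, Units.val_one]
      have hTr : T ^ r = 1 := by
        show Matrix.toLinAlgEquiv' (y : Matrix (Fin n) (Fin n) F) ^ r = 1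
        rw [← map_pow, hy', map_one]
      have hTf : ∀ u v, f (T u) (T v) = f u v := by
        have hk : ∀ k : ℕ, f (((y : Matrix (Fin n) (Fin n) F) ^ k) *ᵥ v₁) (((y : Matrix (Fin n) (Fin n) F) ^ k) *ᵥ v₁) = (μ : F) ^ k := by
          intro k
          induction k with
          | zero => simp [hv₁]
          | succ k ih => rw [pow_succ', ← Matrix.mulVec_mulVec, hμ, ih]; ring
        have h := hk r
        rw [hy', Matrix.one_mulVec, hv₁] at h
        have hμ1 := CfsgLib.Elusive.eq_one_of_pow_of_order hj1 h.symm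
        intro u v
        rw [hT, Matrix.toLin'_apply, Matrix.toLin'_apply, hμ, hμ1, one_mul]
      let e : (Fin n → F) ≃ₗ[F] (Fin n → F) :=
        { Matrix.toLin' ((g⁻¹ : GL (Fin n) F) : Matrix (Fin n) (Fin n) F) with
          invFun := fun v => (g : Matrix (Fin n) (Fin n) F) *ᵥ v
          left_inv := fun v => by simp [Matrix.mulVec_mulVec]
          right_inv := fun v => by simp [Matrix.mulVec_mulVec] }
      have hTe : ∀ v, T (e v) = e (F₀ v) := fun v => by
        rw [← hxf]
        simp [e, hy, hT, Matrix.mulVec_mulVec, mul_assoc]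
      set A := CfsgLib.Elusive.fixS T with hA
      set W := CfsgLib.Elusive.movS T with hW
      have hfixA : A = (CfsgLib.Elusive.fixS F₀).map (e : (Fin n → F) →ₗ[F] (Fin n → F)) := by
        ext v
        rw [Submodule.mem_map_equiv, hA, CfsgLib.Elusive.mem_fixS, CfsgLib.Elusive.mem_fixS]
        conv_lhs => rw [← e.apply_symm_apply v, hTe, e.injective.eq_iff]
      have hdimW : Module.finrank F W = j := by
        have h := CfsgLib.Elusive.fix_add_mov (f := T)
        rw [← hA, hfixA, LinearEquiv.finrank_map_eq, hff, ← hW, Module.finrank_fin_fun] at h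
        omega
      have hdis : Disjoint A W := Submodule.disjoint_def.2 fun v h1 h2' =>
        CfsgLib.Elusive.disjoint_fix_mov hTr hrF h1 h2'
      have htop : A ⊔ W = ⊤ := by
        refine Submodule.eq_top_of_finrank_eq ?_
        have h1 := Submodule.finrank_sup_add_finrank_inf_eq A W
        rw [disjoint_iff.1 hdis, finrank_bot] at h1
        have := CfsgLib.Elusive.fix_add_mov (f := T)
        rw [← hA, ← hW] at this
        omega
      refine CfsgLib.Elusive.UnitSimil.no_fpf hF hf hr2 haj ?_ hdimW ?_ hTr ?_ hTf ?_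
      · intro h1
        refine hj1 ?_
        rw [hjdef, h1, neg_one_sq, orderOf_one]
      · rintro u ⟨u', hu'⟩ huv
        by_contra hu0
        obtain ⟨-, w, hw⟩ := hf.nondegenerate u hu0
        obtain ⟨a, ha, c, hc, rfl⟩ := Submodule.mem_sup.1 (htop ▸ Submodule.mem_top : w ∈ A ⊔ W)
        refine hw ?_
        rw [CfsgLib.Elusive.UnitSimil.add_right hF hf, huv c hc, add_zero, ← hu', LinearMap.sub_apply, Module.End.one_apply,
          sub_eq_add_neg, hf.add_left, ← neg_one_smul F u', hf.smul_left]
        have := hTf u' a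
        rw [CfsgLib.Elusive.mem_fixS.1 ha] at this
        rw [this]; ring
      · rintro _ ⟨u, rfl⟩
        exact ⟨T u, by simp⟩
      · intro v hv hTv
        exact Submodule.disjoint_def.1 hdis v (CfsgLib.Elusive.mem_fixS.2 hTv) hv
    have hdvd0 : r ∣ q₀ - 1 := by
      rw [hj1, pow_one, neg_inj] at haj
      rw [← ZMod.natCast_eq_zero_iff, Nat.cast_sub (by omega), Nat.cast_one, haj, sub_self]
    have hdvd : r ∣ Fintype.card F - 1 := hdvd0.trans hq0dvd
    -- diagonal elements
    have hdiag : ∀ δ : Fin n → F, (∀ i, δ i ≠ 0) → ∏ i, δ i = 1 → (∃ z : F, ∀ i, δ i ^ r = z) → (∀ i, δ i ^ q₀ = δ i) →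
        (∃ i k, δ i ≠ δ k) → ∃ μ : F, μ ≠ 0 ∧ ∀ ν : F, ν ≠ 0 → (Finset.univ.filter fun i => δ i = ν).card =
          (Finset.univ.filter fun i => δ i = μ / ν).card := by
      intro δ hδ hprod ⟨z, hz⟩ hδq ⟨i, k, hik⟩
      let x : GL (Fin n) F := Matrix.GeneralLinearGroup.mkOfDetNeZero (Matrix.diagonal δ)
        (by rw [Matrix.det_diagonal, hprod]; exact one_ne_zero)
      obtain ⟨g, -, hg⟩ := hall x (CfsgLib.Geo.mem_specialLinear.2 (by
          show (Matrix.diagonal δ).det = 1
          rw [Matrix.det_diagonal, hprod]))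
        ⟨z, by
          rw [Units.val_pow_eq_pow_val]
          show Matrix.diagonal δ ^ r = _
          rw [Matrix.diagonal_pow, ← Matrix.diagonal_one, ← Matrix.diagonal_smul]
          congr 1
          funext i
          simpa using hz i⟩
        (fun c hc => hik (by
          have h1 := congrFun (congrFun hc i) i
          have h3 := congrFun (congrFun hc k) k
          simp [x] at h1 h3
          rw [h1, h3]))
      exact CfsgLib.Elusive.UnitSimil.diag_similitude_symm hF hf (δ := δ) hδq rfl hg
    obtain ⟨ζ, hζ⟩ : ∃ ζ : F, IsPrimitiveRoot ζ r := by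
      obtain ⟨u, hu⟩ := exists_prime_orderOf_dvd_card (G := Fˣ) r (by rw [Fintype.card_units]; exact hdvd)
      exact ⟨u, IsPrimitiveRoot.coe_units_iff.2 (hu ▸ IsPrimitiveRoot.orderOf u)⟩
    have hζ0 : ζ ≠ 0 := hζ.ne_zero hrr.ne_zero
    have hζq : ζ ^ q₀ = ζ := by
      obtain ⟨w, hw⟩ := hdvd0
      rw [show q₀ = r * w + 1 by omega, pow_succ, pow_mul, hζ.pow_eq_one, one_pow, one_mul]
    let i₀ : Fin n := ⟨0, hn0⟩
    let i₁ : Fin n := ⟨1, by omega⟩
    let i₂ : Fin n := ⟨2, by omega⟩
    have hne : ∀ k, 0 < k → k < r → ζ ^ k ≠ 1 := fun k h1 h3 h => by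
      have := Nat.le_of_dvd h1 (hζ.dvd_of_pow_eq_one k h)
      omega
    have h01 : i₀ ≠ i₁ := fun h => by simpa [i₀, i₁] using congrArg Fin.val h
    have h02 : i₀ ≠ i₂ := fun h => by simpa [i₀, i₂] using congrArg Fin.val h
    have h12 : i₁ ≠ i₂ := fun h => by simpa [i₁, i₂] using congrArg Fin.val h
    have hshape : (r = 3 ∨ r = 5) ∧ n = r := by
      by_contra hsh
      set η := (ζ ^ 2)⁻¹ with hη
      set δ : Fin n → F := fun i => if i = i₀ ∨ i = i₁ then ζ else if i = i₂ then η else 1 with hδdef
      have hη0 : η ≠ 0 := inv_ne_zero (pow_ne_zero 2 hζ0)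
      have hη1 : η ≠ 1 := fun h => hne 2 two_pos (by omega) (inv_eq_one.1 h)
      have hζ1 : ζ ≠ 1 := fun h => hne 1 one_pos (by omega) (by rw [pow_one, h])
      obtain ⟨μ, hμ0, hμ⟩ := hdiag δ (fun i => by simp only [hδdef]; split_ifs <;> simp [hζ0, hη0])
        (by
          rw [← Finset.prod_subset (Finset.subset_univ ({i₀, i₁, i₂} : Finset (Fin n))) (fun i _ hi => by
            simp only [Finset.mem_insert, Finset.mem_singleton, not_or] at hi
            simp [hδdef, hi.1, hi.2.1, hi.2.2])]
          rw [Finset.prod_insert (by simp [h01, h02]), Finset.prod_insert (by simp [h12]), Finset.prod_singleton]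
          simp [hδdef, h02.symm, h12.symm]
          rw [hη]
          field_simp)
        ⟨1, fun i => by
          simp only [hδdef]
          split_ifs
          · exact hζ.pow_eq_one
          · rw [hη, inv_pow, ← pow_mul, mul_comm, pow_mul, hζ.pow_eq_one, one_pow, inv_one]
          · exact one_pow _⟩
        (fun i => by
          simp only [hδdef]
          split_ifs
          · exact hζq
          · rw [hη, inv_pow, ← pow_mul, mul_comm, pow_mul, hζq]
          · exact one_pow _)
        (by
          by_cases h : η = ζ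
          · refine ⟨i₀, ⟨3, ?_⟩, ?_⟩
            · have : r = 3 := by
                by_contra h3
                refine hne 3 (by omega) (by omega) ?_
                rw [hη, inv_eq_iff_eq_inv, ← mul_eq_one_iff_eq_inv₀ hζ0] at h
                rw [← h]; ring
              by_contra h4
              exact hsh ⟨Or.inl this, by omega⟩
            · simp [hδdef, i₀, i₁, i₂, hζ1]
          · exact ⟨i₀, i₂, by simpa [hδdef, h02.symm, h12.symm] using fun e => h e.symm⟩)
      have hcnt : ∀ ν : F, (Finset.univ.filter fun i => δ i = ν).card =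
          (if ν = ζ then 2 else 0) + (if ν = η then 1 else 0) + if ν = 1 then n - 3 else 0 := by
        intro ν
        rw [Finset.card_filter, ← Finset.sum_sdiff (Finset.subset_univ ({i₀, i₁, i₂} : Finset (Fin n))),
          Finset.sum_congr rfl (g := fun _ => if ν = 1 then 1 else 0) (fun i hi => by
            simp only [Finset.mem_sdiff, Finset.mem_insert, Finset.mem_singleton, not_or] at hi
            simp [hδdef, hi.2.1, hi.2.2.1, hi.2.2.2, eq_comm]),
          Finset.sum_const, Finset.card_sdiff, Finset.inter_univ, Finset.card_univ, Fintype.card_fin,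
          show ({i₀, i₁, i₂} : Finset (Fin n)).card = 3 by simp [h01, h02, h12],
          Finset.sum_insert (by simp [h01, h02]), Finset.sum_insert (by simp [h12]), Finset.sum_singleton]
        simp [hδdef, h02.symm, h12.symm, eq_comm]
        split_ifs <;> omega
      have hA := hμ ζ hζ0
      have hB := hμ η hη0
      rw [hcnt, hcnt] at hA hB
      by_cases hr3' : r = 3
      · have hηζ : η = ζ := by
          rw [hη]; exact inv_eq_of_mul_eq_one_right (by rw [← pow_succ, show 2 + 1 = r by omega, hζ.pow_eq_one])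
        have hn4 : n ≠ 3 := fun h => hsh ⟨Or.inl hr3', by omega⟩
        have hn6 : n ≠ 6 := fun h => hgap ⟨h, hr3'⟩
        simp only [hηζ, hζ1, if_true, if_false] at hA
        by_cases h1 : μ / ζ = ζ
        · have hC := hμ 1 one_ne_zero
          rw [div_one, hcnt, hcnt] at hC
          simp only [hηζ, hζ1.symm, if_true, if_false] at hC
          have hμ' : μ = ζ ^ 2 := by rw [div_eq_iff hζ0] at h1; rw [h1, pow_two]
          simp only [hμ', show ζ ^ 2 ≠ ζ from fun e => hζ1 (mul_left_cancel₀ hζ0 (by rw [← pow_two, e, mul_one])),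
            hne 2 two_pos (by omega), if_false] at hC
          omega
        · rw [if_neg h1, if_neg h1] at hA
          by_cases h1' : μ / ζ = 1
          · rw [if_pos h1'] at hA; omega
          · rw [if_neg h1'] at hA; omega
      · have hr5 : 5 ≤ r := by
          rcases hrodd with ⟨t, ht⟩
          omega
        have hζη : ζ ≠ η := fun h => hne 3 (by omega) (by omega) (by
          rw [hη, ← mul_eq_one_iff_eq_inv₀ (pow_ne_zero 2 hζ0)] at h
          rw [← h]; ring)
        simp only [hζη, hζ1, if_true, if_false] at hA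
        simp only [hζη.symm, hη1, if_true, if_false] at hB
        by_cases h1 : μ / ζ = ζ
        · rw [div_eq_iff hζ0] at h1
          have hμη : μ / η = ζ ^ 4 := by rw [h1, hη, div_inv_eq_mul]; ring
          rw [hμη] at hB
          have e1 : ζ ^ 4 ≠ ζ := fun e => hne 3 (by omega) (by omega) (mul_left_cancel₀ hζ0 (by linear_combination e))
          have e2 : ζ ^ 4 ≠ 1 := hne 4 (by omega) (by omega)
          have e3 : ζ ^ 4 ≠ η := fun e => by
            rw [hη, ← mul_eq_one_iff_eq_inv₀ (pow_ne_zero 2 hζ0), ← pow_add] at e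
            have h6 := hζ.dvd_of_pow_eq_one _ e
            rcases hrr.dvd_mul.1 (show r ∣ 2 * 3 from h6) with h | h <;>
              [have := Nat.le_of_dvd two_pos h; have := Nat.le_of_dvd (by norm_num) h] <;> omega
          rw [if_neg e1, if_neg e2, if_neg e3] at hB
          omega
        by_cases h2' : μ / ζ = η
        · simp only [h2', hζη.symm, hη1, if_true, if_false] at hA
          omega
        rw [if_neg h1, if_neg h2'] at hA
        by_cases h3 : μ / ζ = 1
        · rw [if_pos h3] at hA
          have hn5 : n = 5 := by omega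
          rw [div_eq_one_iff_eq hζ0] at h3
          have hμη : μ / η = ζ ^ 3 := by rw [h3, hη, div_inv_eq_mul]; ring
          rw [hμη] at hB
          have e1 : ζ ^ 3 ≠ ζ := fun e => hne 2 (by omega) (by omega) (mul_left_cancel₀ hζ0 (by linear_combination e))
          have e2 : ζ ^ 3 ≠ 1 := hne 3 (by omega) (by omega)
          have e3 : ζ ^ 3 ≠ η := fun e => by
            rw [hη, ← mul_eq_one_iff_eq_inv₀ (pow_ne_zero 2 hζ0), ← pow_add] at e
            have h5 := Nat.le_of_dvd (by omega) (hζ.dvd_of_pow_eq_one _ e)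
            exact hsh ⟨Or.inr (by omega), by omega⟩
          rw [if_neg e1, if_neg e2, if_neg e3] at hB
          omega
        · rw [if_neg h3] at hA
          omega
    obtain ⟨hr35, hnr⟩ := hshape
    refine ⟨hr35, hnr, ?_⟩
    by_contra hv
    have hv20 : r ^ 2 ∣ q₀ - 1 := by
      refine (pow_dvd_pow r ?_).trans pow_padicValNat_dvd
      have : 1 ≤ padicValNat r (q₀ - 1) := one_le_padicValNat_of_dvd (by omega) hdvd0
      omega
    have hv2 : r ^ 2 ∣ Fintype.card F - 1 := hv20.trans hq0dvd
    obtain ⟨g₀, hg₀⟩ := IsCyclic.exists_ofOrder_eq_natCard (α := Fˣ)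
    obtain ⟨u, hu⟩ : ∃ u : Fˣ, orderOf u = r ^ 2 := ⟨g₀ ^ ((Fintype.card F - 1) / r ^ 2), by
      rw [orderOf_pow' _ (Nat.div_pos (Nat.le_of_dvd (by have := Fintype.one_lt_card (α := F); omega) hv2)
        (pow_pos hrr.pos 2)).ne', hg₀, Nat.card_eq_fintype_card, Fintype.card_units,
        Nat.gcd_eq_right (Nat.div_dvd_of_dvd hv2), Nat.div_div_self hv2 (by have := Fintype.one_lt_card (α := F); omega)]⟩
    have hun : ∀ k, (u : F) ^ k = 1 → r ^ 2 ∣ k := fun k hk => by
      rw [← hu]; exact orderOf_dvd_of_pow_eq_one (Units.ext (by rw [Units.val_pow_eq_pow_val, hk, Units.val_one]))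
    have hu1 : (u : F) ^ (r ^ 2) = 1 := by
      rw [← Units.val_pow_eq_pow_val, ← hu, pow_orderOf_eq_one, Units.val_one]
    set lam := (u : F) with hlam
    have hl0 : lam ≠ 0 := u.ne_zero
    set a := (lam ^ (n - 1))⁻¹ with ha
    have ha0 : a ≠ 0 := inv_ne_zero (pow_ne_zero _ hl0)
    have hla : lam ≠ a := fun e => by
      rw [ha, ← mul_eq_one_iff_eq_inv₀ (pow_ne_zero _ hl0), ← pow_succ'] at e
      have := Nat.le_of_dvd (by omega) (hun _ e)
      rw [show n - 1 + 1 = r by omega, pow_two] at this
      nlinarith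
    obtain ⟨μ, hμ0, hμ⟩ := hdiag (fun i => if i = i₀ then a else lam)
      (fun i => by split_ifs <;> simp [ha0, hl0])
      (by rw [← Finset.mul_prod_erase _ _ (Finset.mem_univ i₀), if_pos rfl,
            Finset.prod_congr rfl (g := fun _ => lam) (fun i hi => if_neg (Finset.ne_of_mem_erase hi)),
            Finset.prod_const, Finset.card_erase_of_mem (Finset.mem_univ _), Finset.card_univ, Fintype.card_fin, ha,
            inv_mul_cancel₀ (pow_ne_zero _ hl0)])
      ⟨lam ^ r, fun i => by
        split_ifs
        · rw [ha, inv_pow, ← pow_mul, inv_eq_of_mul_eq_one_right]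
          rw [← pow_add, show (n - 1) * r + r = r ^ 2 by rw [← Nat.succ_mul, hnr, Nat.succ_eq_add_one, Nat.sub_add_cancel hrr.one_le, pow_two]]
          exact hu1
        · rfl⟩
      (fun i => by
        obtain ⟨w, hw⟩ := hv20
        have hlq : lam ^ q₀ = lam := by
          rw [show q₀ = r ^ 2 * w + 1 by omega, pow_succ, pow_mul, hu1, one_pow, one_mul]
        split_ifs
        · rw [ha, inv_pow, ← pow_mul, mul_comm, pow_mul, hlq]
        · exact hlq)
      ⟨i₀, i₁, by simpa [h01.symm] using fun e => hla e.symm⟩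
    have hcnt : ∀ ν : F, (Finset.univ.filter fun i => (if i = i₀ then a else lam) = ν).card =
        (if ν = a then 1 else 0) + if ν = lam then n - 1 else 0 := by
      intro ν
      rw [Finset.card_filter, ← Finset.add_sum_erase _ _ (Finset.mem_univ i₀), if_pos rfl,
        Finset.sum_congr rfl (g := fun _ => if ν = lam then 1 else 0) (fun i hi => by
          simp [Finset.ne_of_mem_erase hi, eq_comm]),
        Finset.sum_const, Finset.card_erase_of_mem (Finset.mem_univ _), Finset.card_univ, Fintype.card_fin]
      simp [eq_comm]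
    have hA := hμ lam hl0
    have hB := hμ a ha0
    rw [hcnt, hcnt] at hA hB
    simp only [hla, if_true, if_false] at hA
    simp only [hla.symm, if_true, if_false] at hB
    by_cases h1 : μ / lam = lam
    · rw [div_eq_iff hl0] at h1
      by_cases h2' : μ / a = a
      · rw [h1, ha, div_inv_eq_mul, ← mul_eq_one_iff_eq_inv₀ (pow_ne_zero _ hl0), ← pow_two, ← pow_add, ← pow_add] at h2'
        have h5 := hun _ h2'
        rw [show 2 + (n - 1) + (n - 1) = r * 2 by omega, pow_two] at h5
        exact hr2 ((Nat.prime_dvd_prime_iff_eq hrr Nat.prime_two).1 (Nat.dvd_of_mul_dvd_mul_left hrr.pos h5))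
      · rw [if_neg h2'] at hB
        split_ifs at hB <;> omega
    · rw [if_neg h1] at hA
      split_ifs at hA <;> omega
  · rintro hcases x hx ⟨z, hz⟩ hns
    set T := Matrix.toLin' (x : Matrix (Fin n) (Fin n) F) with hT
    have hTr : T ^ r = z • 1 := hpow x z hz
    have hxdet : (x : Matrix (Fin n) (Fin n) F).det = 1 := CfsgLib.Geo.mem_specialLinear.1 hx
    have hz0 : z ≠ 0 := fun h => by
      rw [h, zero_smul] at hz
      haveI : Nonempty (Fin n) := ⟨⟨0, hn0⟩⟩
      exact (x ^ r).ne_zero hz
    -- finish from a basis and a form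
    have hfin : ∀ (b : Module.Basis (Fin n) F (Fin n → F)) (K : Matrix (Fin n) (Fin n) F),
        (∀ i, T (b i) = ∑ k, K k i • b k) → ∀ μ : F, μ ≠ 0 →
        (∀ c : F, c ^ q₀ = c → c ≠ 0 → ∃ G : Matrix (Fin n) (Fin n) F, G.transpose = G.map (· ^ q₀) ∧
          K.transpose * G * K.map (· ^ q₀) = μ • G ∧ G.det = c) →
        ∃ g ∈ Cfsg.Geo.specialLinear (Fin n) F, g⁻¹ * x * g ∈ Cfsg.Geo.similarityGroup f := by
      intro b K hbK μ hμ hG
      set M : Matrix (Fin n) (Fin n) F := Matrix.of fun l k => b k l with hM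
      have hMdet : M.det ≠ 0 := by
        intro h
        obtain ⟨c, hc0, hc⟩ := Matrix.exists_mulVec_eq_zero_iff.2 h
        refine hc0 (funext fun k => ?_)
        have hsum : ∑ k, c k • b k = 0 := by
          rw [← hc]
          funext l
          simp [M, Matrix.mulVec, dotProduct, mul_comm]
        exact Fintype.linearIndependent_iff.1 b.linearIndependent c hsum k
      refine CfsgLib.Elusive.UnitSimil.exists_sl_conj_similitude hF hf hn0 hμ (M := M) (K := K) ?_ hMdet hG
      ext l i
      have h := congrFun (hbK i) l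
      rw [hT, Matrix.toLin'_apply] at h
      rw [Matrix.mul_apply, Matrix.mul_apply]
      refine (show _ = _ from h).trans ?_
      rw [Finset.sum_apply]
      exact Finset.sum_congr rfl fun k _ => by rw [Pi.smul_apply, smul_eq_mul, mul_comm]; rfl
    -- diagonal form
    have hdia : ∀ (b : Module.Basis (Fin n) F (Fin n → F)) (d : Fin n → F) (σ : Equiv.Perm (Fin n)),
        (∀ i, T (b i) = d i • b i) → Function.Involutive σ → (∃ i, σ i = i) → ∀ μ : F, μ ≠ 0 →
        (∀ i, d i * d (σ i) ^ q₀ = μ) →
        ∃ g ∈ Cfsg.Geo.specialLinear (Fin n) F, g⁻¹ * x * g ∈ Cfsg.Geo.similarityGroup f := by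
      intro b d σ hb hσ ⟨i', hi'⟩ μ hμ hd
      refine hfin b (Matrix.diagonal d) (fun i => ?_) μ hμ fun c hcq hc => ?_
      · rw [hb, Finset.sum_eq_single i (fun k _ hk => by rw [Matrix.diagonal_apply_ne _ hk, zero_smul])
          (fun h => absurd (Finset.mem_univ _) h), Matrix.diagonal_apply_eq]
      set s : F := ((Equiv.Perm.sign σ : ℤ) : F) with hs
      have hss : s * s = 1 := by
        rw [hs, ← Int.cast_mul, Int.units_coe_mul_self]
        exact Int.cast_one
      have hsq : s ^ q₀ = s := by rw [← CfsgLib.Forms.frobQ_apply hF, hs, map_intCast]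
      set w := Function.update (fun _ => (1 : F)) i' (s * c) with hw
      have hwσ : ∀ i, w (σ i) = w i ^ q₀ := fun i => by
        by_cases h : i = i'
        · subst h; rw [hi', hw, Function.update_self, mul_pow, hsq, hcq]
        · rw [hw, Function.update_of_ne h, Function.update_of_ne (fun e => h (by rw [← hσ i, e, hi'])), one_pow]
      have hG : ∀ i k, (Matrix.diagonal w * σ.permMatrix F) i k = if σ i = k then w i else 0 := fun i k => by
        rw [Matrix.diagonal_mul, Equiv.Perm.permMatrix, PEquiv.toMatrix_apply]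
        simp
      refine ⟨Matrix.diagonal w * σ.permMatrix F, ?_, ?_, ?_⟩
      · ext i k
        rw [Matrix.transpose_apply, Matrix.map_apply, hG, hG]
        by_cases h : σ i = k
        · subst h; rw [hσ i, if_pos rfl, if_pos rfl, hwσ]
        · rw [if_neg h, if_neg (fun e => h (by rw [← e, hσ])), zero_pow (by omega)]
      · ext i k
        rw [Matrix.diagonal_transpose, Matrix.diagonal_map (f := fun x : F => x ^ q₀) (zero_pow (by omega)), Matrix.mul_diagonal, Matrix.diagonal_mul,
          Matrix.smul_apply, hG, smul_eq_mul]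
        split_ifs with h
        · subst h; show d i * w i * d (σ i) ^ q₀ = _; linear_combination (w i) * hd i
        · ring
      · rw [Matrix.det_mul, Matrix.det_diagonal, Matrix.det_permutation, hw,
          Finset.prod_update_of_mem (Finset.mem_univ _), Finset.prod_const_one, mul_one]
        show s * c * s = c
        linear_combination c * hss
    rcases hcases with ⟨hr2, hcond⟩ | ⟨hr35, hnr, hv⟩
    · subst hr2
      have hTT : T * T = z • 1 := by rw [← pow_two]; exact hTr
      by_cases hp2 : p = 2
      · -- an involution in characteristic two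
        subst hp2
        have h2 : (2 : F) = 0 := CharP.cast_eq_zero F 2
        have hroot : ∀ a : F, ∃ s : F, s ^ 2 = a := fun a => by
          obtain ⟨s, hs⟩ := FiniteField.isSquare_of_char_two (ringChar.eq F 2) a
          exact ⟨s, by rw [hs, pow_two]⟩
        obtain ⟨lam, hlam⟩ := hroot z
        have hl0 : lam ≠ 0 := fun h => hz0 (by rw [← hlam, h, zero_pow two_ne_zero])
        set S := lam⁻¹ • T with hS
        have hSS : S * S = 1 := by
          rw [hS, smul_mul_smul_comm, hTT, smul_smul, ← hlam]
          field_simp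
          rw [one_smul]
        obtain ⟨b, σ, P, hPd, hσ, hP2, hb⟩ := CfsgLib.Elusive.UnitSimil.exists_unipotent_pairs (Module.finrank_fin_fun F) h2 hSS
        have hbK : ∀ i, T (b i) = ∑ k, (lam • (1 + Matrix.of fun k i => if P i ∧ σ i = k then (1 : F) else 0)) k i • b k := by
          intro i
          have h1 := hb i
          rw [hS, LinearMap.smul_apply, inv_smul_eq_iff₀ hl0] at h1
          rw [h1]
          simp only [Matrix.smul_apply, Matrix.add_apply, Matrix.of_apply, smul_add, smul_eq_mul, mul_add, add_smul,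
            Finset.sum_add_distrib, Matrix.one_apply, mul_ite, mul_one, mul_zero, ite_smul, zero_smul]
          by_cases h : P i <;> simp [h, eq_comm]
        by_cases hne : ∀ i, ¬ P i
        · exfalso
          refine hns lam (Matrix.toLin'.injective ?_)
          rw [map_smul, Matrix.toLin'_one]
          refine b.ext fun i => ?_
          rw [hbK i]
          simp [hne, Matrix.one_apply, mul_ite, ite_smul]
        push Not at hne
        obtain ⟨i', hi'⟩ := hne
        refine hfin b _ hbK (lam ^ (q₀ + 1)) (pow_ne_zero _ hl0) fun c hcq hc => ?_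
        obtain ⟨s, hs⟩ := hroot c
        have hsq : s ^ q₀ = s := by
          haveI : CharP F 2 := inferInstance
          have h1 : (s ^ q₀ - s) ^ 2 = 0 := by
            have h0 : (s ^ q₀) ^ 2 = s ^ 2 := by rw [← pow_mul, mul_comm, pow_mul, hs, hcq]
            linear_combination h0 + (s ^ 2 - s ^ q₀ * s) * h2
          exact sub_eq_zero.1 (pow_eq_zero_iff two_ne_zero |>.1 h1)
        set w : Fin n → F := fun i => if i = i' ∨ i = σ i' then s else 1 with hw
        have hii : σ i' ≠ i' := fun h => hP2 i' hi' (by rw [h]; exact hi')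
        have hwσ : ∀ i, w (σ i) = w i := fun i => by
          have e1 : σ i = i' ↔ i = σ i' := ⟨fun h => by rw [← h, hσ], fun h => by rw [h, hσ]⟩
          simp only [hw, σ.injective.eq_iff, e1, or_comm]
        have hwq : ∀ i, w i ^ q₀ = w i := fun i => by simp only [hw]; split_ifs <;> simp [hsq]
        set G := Matrix.diagonal w * σ.permMatrix F with hGdef
        have hG : ∀ i k, G i k = if σ i = k then w i else 0 := fun i k => by
          rw [hGdef, Matrix.diagonal_mul, Equiv.Perm.permMatrix, PEquiv.toMatrix_apply]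
          simp
        set E : Matrix (Fin n) (Fin n) F := Matrix.of fun k i => if P i ∧ σ i = k then (1 : F) else 0 with hE
        have hG' : E.transpose * G + G * E + E.transpose * G * E = 0 := by
          ext i k
          have e1 : ∀ a b, (E.transpose * G) a b = if P a ∧ a = b then w a else 0 := fun a b => by
            rw [Matrix.mul_apply, Finset.sum_eq_single (σ a)]
            · rw [hG, hσ, Matrix.transpose_apply, hE, Matrix.of_apply, hwσ]
              by_cases h : P a <;> simp [h]
            · intro l _ hl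
              simp [hE, Ne.symm hl]
            · intro h; exact absurd (Finset.mem_univ _) h
          have e2 : (G * E) i k = if P k ∧ i = k then w i else 0 := by
            rw [Matrix.mul_apply, Finset.sum_eq_single (σ k)]
            · rw [hG, hE, Matrix.of_apply]
              by_cases h : P k <;> simp [h, σ.injective.eq_iff]
            · intro l _ hl
              simp [hE, Ne.symm hl]
            · intro h; exact absurd (Finset.mem_univ _) h
          have e3 : (E.transpose * G * E) i k = 0 := by
            rw [Matrix.mul_apply]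
            refine Finset.sum_eq_zero fun l _ => ?_
            rw [e1, hE, Matrix.of_apply]
            split_ifs with h1 h3 <;> simp
            exact absurd (h3.2 ▸ h1.2 ▸ h1.1) (hP2 k h3.1)
          rw [Matrix.add_apply, Matrix.add_apply, Matrix.zero_apply, e1, e2, e3, add_zero]
          by_cases h : i = k
          · subst h
            split_ifs <;> first | ring1 | linear_combination (w i) * h2
          · simp [h]
        refine ⟨G, ?_, ?_, ?_⟩
        · ext i k
          rw [Matrix.transpose_apply, Matrix.map_apply, hG, hG]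
          by_cases h : σ i = k
          · subst h; rw [hσ i, if_pos rfl, if_pos rfl, hwσ, hwq]
          · rw [if_neg h, if_neg (fun e => h (by rw [← e, hσ])), zero_pow (by omega)]
        · have hmap : (lam • (1 + E)).map (· ^ q₀) = lam ^ q₀ • (1 + E) := by
            ext i k
            simp only [Matrix.map_apply, Matrix.smul_apply, Matrix.add_apply, smul_eq_mul, mul_pow, hE, Matrix.of_apply,
              Matrix.one_apply, ← CfsgLib.Forms.frobQ_apply hF, map_add, map_mul, apply_ite (CfsgLib.Forms.frobQ hF), map_one, map_zero]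
          rw [hmap, Matrix.transpose_smul, Matrix.transpose_add, Matrix.transpose_one, Matrix.smul_mul, Matrix.smul_mul,
            Matrix.mul_smul, smul_smul, ← pow_succ']
          congr 1
          rw [Matrix.add_mul, Matrix.one_mul, Matrix.mul_add, Matrix.mul_one, Matrix.add_mul]
          calc _ = G + (E.transpose * G + G * E + E.transpose * G * E) := by abel
            _ = G := by rw [hG', add_zero]
        · rw [hGdef, Matrix.det_mul, Matrix.det_diagonal, Matrix.det_permutation,
            ← Finset.prod_subset (Finset.subset_univ ({i', σ i'} : Finset (Fin n))) (fun i _ hi => by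
              simp only [Finset.mem_insert, Finset.mem_singleton, not_or] at hi
              simp [hw, hi.1, hi.2]),
            Finset.prod_pair hii.symm]
          simp only [hw, true_or, or_true, if_true]
          rcases Int.units_eq_one_or (Equiv.Perm.sign σ) with h | h <;> rw [h] <;> push_cast
          · linear_combination hs
          · linear_combination hs - s * s * h2
      · have h2F : (2 : F) ≠ 0 := fun h => hp2 (hp2F.2 h)
        have hchar : ringChar F ≠ 2 := by rw [ringChar.eq F p]; exact hp2
        have hv := hcond.resolve_left hp2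
        by_cases hsq : ∃ lam : F, lam ^ 2 = z
        · obtain ⟨lam, hlam⟩ := hsq
          have hl0 : lam ≠ 0 := fun h => hz0 (by rw [← hlam, h, zero_pow two_ne_zero])
          have hpc : IsPrimitiveRoot (-1 : F) 2 := IsPrimitiveRoot.neg_one p hp2
          obtain ⟨b, hb⟩ := CfsgLib.Elusive.exists_diag_basis (n := n) (S := lam⁻¹ • T) (Module.finrank_fin_fun F)
            (by rw [smul_pow, hTr, smul_smul, inv_pow, hlam, inv_mul_cancel₀ hz0, one_smul]) hpc
            (by simpa using h2F)
          choose k hk using hb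
          refine hdia b (fun i => lam * (-1) ^ k i) 1 (fun i => ?_) (fun i => rfl) ⟨⟨0, hn0⟩, rfl⟩ (lam ^ (q₀ + 1))
            (pow_ne_zero _ hl0) fun i => ?_
          · have := hk i
            rw [LinearMap.smul_apply, inv_smul_eq_iff₀ hl0] at this
            rw [this, smul_smul]
          · have hone : ((-1 : F) ^ k i) ^ q₀ = (-1) ^ k i := by
              rw [← CfsgLib.Forms.frobQ_apply hF, map_pow, map_neg, map_one]
            rw [Equiv.Perm.one_apply, mul_pow, hone, show lam * (-1) ^ k i * (lam ^ q₀ * (-1) ^ k i) =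
              lam * lam ^ q₀ * ((-1) ^ k i * (-1) ^ k i) by ring, ← mul_pow, neg_one_mul, neg_neg, one_pow, mul_one, ← pow_succ']
        · exfalso
          push Not at hsq
          obtain ⟨m, hm⟩ := CfsgLib.Elusive.even_finrank_of_sq hsq
            (T := T) (fun v => LinearMap.congr_fun hTT v)
          rw [Module.finrank_fin_fun] at hm
          have hdet := CfsgLib.Elusive.kum_det m _ T hTr hsq ((Module.finrank_fin_fun F).trans (by omega))
          rw [hT, LinearMap.det_toLin', hxdet] at hdet
          have hoddc : Odd (Fintype.card F) := Nat.odd_iff.2 (FiniteField.odd_card_of_char_ne_two hchar)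
          refine (CfsgLib.Elusive.exists_nonpow_iff (F := F) (r := 2) (n := n)
            (by rw [Nat.odd_iff] at hoddc; omega) ⟨m, by omega⟩ (by omega)).1
            ⟨z, hsq, by rw [show n / 2 = m by omega]; exact hdet.symm⟩ ⟨hv, fun _ _ => ?_⟩
          obtain ⟨w, hw⟩ := (Nat.odd_mul.1 (show Odd (q₀ * q₀) by rw [← pow_two, ← hq₀]; exact hoddc)).1
          rw [hq₀, hw, show (2 * w + 1) ^ 2 = 4 * (w * w + w) + 1 by ring]
          omega
    · subst n
      have hr2 : r ≠ 2 := by omega
      have hrodd : Odd r := hrr.odd_of_ne_two hr2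
      have hdvd0 : r ∣ q₀ - 1 := dvd_of_one_le_padicValNat hv.ge
      have hdvd : r ∣ Fintype.card F - 1 := hdvd0.trans hq0dvd
      have hrF : (r : F) ≠ 0 := CfsgLib.Elusive.cast_ne_zero_of_ne (p := p) (hr.resolve_left hr2)
      have hzr : z ^ r = 1 := by
        have h := congrArg Matrix.det hz
        rwa [Units.val_pow_eq_pow_val, Matrix.det_pow, hxdet, one_pow, Matrix.det_smul, Matrix.det_one, mul_one,
          Fintype.card_fin, eq_comm] at h
      have hz1 : z = 1 := by
        by_contra hz1
        have hnot : ∀ y : F, y ^ r ≠ z := by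
          intro y hy
          have hy0 : y ≠ 0 := fun h => hz0 (by rw [← hy, h, zero_pow hrr.ne_zero])
          set u := Units.mk0 y hy0
          have ho : orderOf u = r ^ 2 := by
            refine orderOf_eq_prime_pow (n := 1) ?_ ?_
            · rw [pow_one]
              exact fun h => hz1 (by rw [← hy]; exact congrArg Units.val h)
            · exact Units.ext (by rw [Units.val_pow_eq_pow_val, Units.val_mk0, pow_two, pow_mul, hy, hzr, Units.val_one])
          have h1 : r ^ 2 ∣ (q₀ + 1) * (q₀ - 1) := by
            rw [← hFc, ← ho, ← Fintype.card_units]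
            exact orderOf_dvd_card
          have hcop : Nat.Coprime r (q₀ + 1) := hrr.coprime_iff_not_dvd.2 fun h => by
            have h2' : r ∣ (q₀ + 1) - (q₀ - 1) := Nat.dvd_sub h hdvd0
            rw [show q₀ + 1 - (q₀ - 1) = 2 by omega] at h2'
            exact hr2 ((Nat.prime_dvd_prime_iff_eq hrr Nat.prime_two).1 h2')
          have h3 := (padicValNat_dvd_iff_le (show q₀ - 1 ≠ 0 by omega)).1 ((Nat.Coprime.pow_left 2 hcop).dvd_of_dvd_mul_left h1)
          omega
        have h := CfsgLib.Elusive.det_block hTr hnot (Module.finrank_fin_fun F)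
        rw [hT, LinearMap.det_toLin', hxdet, (hrodd.add_one).neg_one_pow, one_mul] at h
        exact hz1 h.symm
      rw [hz1, one_smul] at hTr
      obtain ⟨ζ, hζ⟩ : ∃ ζ : F, IsPrimitiveRoot ζ r := by
        obtain ⟨u, hu⟩ := exists_prime_orderOf_dvd_card (G := Fˣ) r (by rw [Fintype.card_units]; exact hdvd)
        exact ⟨u, IsPrimitiveRoot.coe_units_iff.2 (hu ▸ IsPrimitiveRoot.orderOf u)⟩
      obtain ⟨b, hb⟩ := CfsgLib.Elusive.exists_diag_basis (Module.finrank_fin_fun F) hTr hζ hrF
      choose k hk using hb
      haveI : NeZero r := ⟨hrr.ne_zero⟩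
      let ψ := AddChar.zmodChar r hζ.pow_eq_one
      have hψq : ∀ a, ψ a ^ q₀ = ψ a := fun a => by
        obtain ⟨w, hw⟩ := hdvd0
        rw [AddChar.zmodChar_apply, ← pow_mul, show a.val * q₀ = r * (w * a.val) + a.val by
          rw [show q₀ = r * w + 1 by omega]; ring, pow_add, pow_mul, hζ.pow_eq_one, one_pow, one_mul]
      have hψ : ∀ i, T (b i) = ψ (k i) • b i := fun i => by
        rw [hk, AddChar.zmodChar_apply' hζ.pow_eq_one]
      have hsum : ∑ i, ((k i : ℕ) : ZMod r) = 0 := by
        have h : LinearMap.det T = ∏ i, ψ (k i) := by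
          rw [← LinearMap.det_toMatrix b, ← Matrix.det_diagonal]
          congr 1
          ext i l
          rw [LinearMap.toMatrix_apply, hψ, map_smul, b.repr_self, Finsupp.smul_single, smul_eq_mul, mul_one,
            Finsupp.single_apply, Matrix.diagonal_apply]
          by_cases h : i = l
          · subst h; simp
          · simp [h, Ne.symm h]
        rw [hT, LinearMap.det_toLin', hxdet] at h
        have h' : ∏ i, ψ (k i) = ζ ^ (∑ i, k i) := by
          rw [← Finset.prod_pow_eq_pow_sum]
          exact Finset.prod_congr rfl fun i _ => AddChar.zmodChar_apply' hζ.pow_eq_one _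
        rw [← Nat.cast_sum, ZMod.natCast_eq_zero_iff]
        exact hζ.dvd_of_pow_eq_one _ (h'.symm.trans h.symm)
      obtain ⟨c, hc⟩ : ∃ c : ZMod r, ∀ v, (Finset.univ.filter fun i => ((k i : ℕ) : ZMod r) = c - v).card =
          (Finset.univ.filter fun i => ((k i : ℕ) : ZMod r) = v).card := by
        have key : ∀ e : Fin r → ZMod r, ∑ i, e i = 0 → ∃ c : ZMod r, ∀ v,
            (Finset.univ.filter fun i => e i = c - v).card = (Finset.univ.filter fun i => e i = v).card := by
          rcases hr35 with rfl | rfl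
          · convert CfsgLib.Elusive.symm_colouring_three
          · convert CfsgLib.Elusive.symm_colouring_five
        exact key _ hsum
      obtain ⟨σ, hσ, hσc⟩ := CfsgLib.Elusive.exists_pairing hc
      have hfix : ∃ i, σ i = i := by
        by_contra h
        push Not at h
        have := Equiv.Perm.card_fixedPoints_modEq (p := 2) (n := 1) (f := (σ : Fin r → Fin r))
          (funext fun i => hσ i)
        rw [Fintype.card_fin, Fintype.card_eq_zero_iff.2 ⟨fun ⟨i, hi⟩ => h i hi⟩] at this
        exact Nat.not_even_iff_odd.2 hrodd (Nat.even_iff.2 this)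
      refine hdia b (fun i => ψ (k i)) σ hψ hσ hfix (ψ c) ?_ fun i => ?_
      · rw [AddChar.zmodChar_apply]; exact pow_ne_zero _ (hζ.ne_zero hrr.ne_zero)
      · rw [hψq, ← AddChar.map_add_eq_mul, hσc]

end Cfsg.Agent.S5982
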