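import Cfsg.Statements.S5983
import Cfsg.Agent.Elusive.SympQuad
import Cfsg.Agent.Quad.PlusLevi
import Cfsg.Agent.QuadStd.Std

set_option autoImplicit false
open scoped MatrixGroups
open Cfsg

namespace Cfsg.Agent.S5983
open scoped Matrix

set_option maxHeartbeats 1000000

/-- Elements of prime order of PSp_n(q), q even, and the subgroups of orthogonal type. Here `T = Sp_{2d}(F)` for a field `F` of characteristic 2 with `q` elements (`d ≥ 2`, `(d, q) ≠ (2, 2)`), realised as the invertible matrices preserving the standard alternating form; `Q` is a non-degenerate quadratic form on `F^{2d}` whose polar form is that alternating form, and `H` is the subgroup of `T` preserving `Q` up to a scalar (equivalently preserving `Q`) — a subgroup of type O^±_{2d}(q) (maximality is not assumed); `Q` is of plus type when `F^{2d}` contains a `d`-dimensional subspace on which `Q` vanishes, of minus type otherwise. Ω is the set of cosets of `H` in `T`, so an element of `T` of prime order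 `r` (`x ∈ T` with `x^r` scalar, `x` not scalar) fixes a point of Ω exactly when some `T`-conjugate of `x` preserves `Q`. Let `r` be a prime dividing the index of `H`. Then every element of `T` of order `r` fixes a point of Ω if and only if `r = 2` and either `Q` is of plus type or `d` is odd. -/
theorem result {F : Type*} [Field F] [Fintype F] {p : ℕ} [Fact p.Prime] [CharP F p] {q : ℕ} (hq : Fintype.card F = q)
    (hp : p = 2) (d : ℕ) (hd : 2 ≤ d) (hT : (d, q) ≠ (2, 2)) (Q : (Fin d ⊕ Fin d → F) → F) (hQ : Cfsg.Geo.IsNondegenerateQuadraticForm Q)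
    (hQf : ∀ u v, QuadraticMap.polar Q u v = Cfsg.sympForm d F u v)
    (r : ℕ) [Fact r.Prime]
    (hΩ : r ∣ (Cfsg.Geo.quadSimilarityGroup Q).relIndex (Cfsg.spGL d F)) :
    (∀ x ∈ Cfsg.spGL d F, (∃ z : F, ((x ^ r : GL (Fin d ⊕ Fin d) F) : Matrix (Fin d ⊕ Fin d) (Fin d ⊕ Fin d) F) = z • (1 : Matrix (Fin d ⊕ Fin d) (Fin d ⊕ Fin d) F)) →
      (∀ z : F, (x : Matrix (Fin d ⊕ Fin d) (Fin d ⊕ Fin d) F) ≠ z • (1 : Matrix (Fin d ⊕ Fin d) (Fin d ⊕ Fin d) F)) →
      ∃ g ∈ Cfsg.spGL d F, g⁻¹ * x * g ∈ Cfsg.Geo.quadSimilarityGroup Q) ↔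
    (r = 2 ∧ (Cfsg.Geo.IsPlusTypeOn Q ⊤ ∨ Odd d)) := by
  classical
  subst hp
  subst hq
  let Qm : QuadraticForm F (Fin d ⊕ Fin d → F) := QuadraticMap.ofPolar Q
    (fun c v => by rw [hQ.smul, pow_two, smul_eq_mul])
    hQ.polar_bilinear.add_left hQ.polar_bilinear.smul_left
  have hQc : ⇑Qm = Q := rfl
  have hf : ∀ u v, QuadraticMap.polar Qm u v = Cfsg.sympForm d F u v := hQf
  have hd1 : 1 ≤ d := by omega
  have hnd : (QuadraticMap.polarBilin Qm).Nondegenerate := CfsgLib.Elusive.nondeg_of_polar hf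
  have h2 : (2 : F) = 0 := CharTwo.two_eq_zero
  have hfb : ∀ u v, Cfsg.sympForm d F u v = QuadraticMap.polarBilin (CfsgLib.Quad.plusQ (F := F) d) u v := fun u v => by
    rw [QuadraticMap.polarBilin_apply_apply, QuadraticMap.polar, CfsgLib.Quad.CharTwoOdd.polar_plus_eq]
    show u ⬝ᵥ _ = _
    ring
  have hplusf : ∀ u v, QuadraticMap.polar (CfsgLib.Quad.plusQ (F := F) d) u v = Cfsg.sympForm d F u v :=
    fun u v => (hfb u v).symm
  -- similitudes inside the symplectic group are isometries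
  have hsim : ∀ g ∈ Cfsg.spGL d F, g ∈ Cfsg.Geo.quadSimilarityGroup Q →
      ∀ v, Q ((g : Matrix (Fin d ⊕ Fin d) (Fin d ⊕ Fin d) F) *ᵥ v) = Q v := by
    rintro g hg ⟨c, hc⟩
    set u : Fin d ⊕ Fin d → F := Pi.single (Sum.inl ⟨0, by omega⟩) 1
    set w : Fin d ⊕ Fin d → F := Pi.single (Sum.inr ⟨0, by omega⟩) 1
    have huw : Cfsg.sympForm d F u w = 1 := by
      simp [Cfsg.sympForm, u, w, Matrix.J, Matrix.fromBlocks_mulVec, Fintype.sum_sum_type, dotProduct, Pi.single_apply,
        Matrix.mulVec, CharTwo.neg_eq, Matrix.one_apply]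
    have h := hg u w
    change Cfsg.sympForm d F ((g : Matrix _ _ F) *ᵥ u) ((g : Matrix _ _ F) *ᵥ w) = _ at h
    rw [← hf u w, ← hf, QuadraticMap.polar, QuadraticMap.polar, hQc, ← Matrix.mulVec_add, hc, hc, hc, ← mul_sub, ← mul_sub] at h
    rw [show Q (u + w) - Q u - Q w = 1 from (hf u w).trans huw, mul_one] at h
    intro v
    rw [hc, h, one_mul]
  -- transport a witness to a preserved conjugate form
  have hwit : ∀ x g : GL (Fin d ⊕ Fin d) F, x ∈ Cfsg.spGL d F → g ∈ Cfsg.spGL d F →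
      g⁻¹ * x * g ∈ Cfsg.Geo.quadSimilarityGroup Q →
      ∃ Q' : QuadraticForm F (Fin d ⊕ Fin d → F), (∀ u v, QuadraticMap.polar Q' u v = Cfsg.sympForm d F u v) ∧
        (∀ v, Q' ((x : Matrix (Fin d ⊕ Fin d) (Fin d ⊕ Fin d) F) *ᵥ v) = Q' v) ∧
        (∀ T : Submodule F (Fin d ⊕ Fin d → F), (∀ v ∈ T, Q' v = 0) →
          ∃ T' : Submodule F (Fin d ⊕ Fin d → F), (∀ v ∈ T', Qm v = 0) ∧ Module.finrank F T' = Module.finrank F T) ∧
        (∀ T : Submodule F (Fin d ⊕ Fin d → F), (∀ v ∈ T, Qm v = 0) →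
          ∃ T' : Submodule F (Fin d ⊕ Fin d → F), (∀ v ∈ T', Q' v = 0) ∧ Module.finrank F T' = Module.finrank F T) := by
    intro x g hx hg hm
    let G : (Fin d ⊕ Fin d → F) ≃ₗ[F] (Fin d ⊕ Fin d → F) := LinearEquiv.ofLinear
      (Matrix.mulVecLin ((g⁻¹ : GL (Fin d ⊕ Fin d) F) : Matrix (Fin d ⊕ Fin d) (Fin d ⊕ Fin d) F))
      (Matrix.mulVecLin (g : Matrix (Fin d ⊕ Fin d) (Fin d ⊕ Fin d) F))
      (by rw [← Matrix.mulVecLin_mul, ← Units.val_mul, inv_mul_cancel, Units.val_one, Matrix.mulVecLin_one])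
      (by rw [← Matrix.mulVecLin_mul, ← Units.val_mul, mul_inv_cancel, Units.val_one, Matrix.mulVecLin_one])
    have hG : ∀ v, G v = ((g⁻¹ : GL (Fin d ⊕ Fin d) F) : Matrix (Fin d ⊕ Fin d) (Fin d ⊕ Fin d) F) *ᵥ v := fun v => rfl
    refine ⟨Qm.comp G.toLinearMap, fun u v => ?_, fun v => ?_, fun T hT => ?_, fun T hT => ?_⟩
    · rw [← (inv_mem hg : g⁻¹ ∈ Cfsg.spGL d F) u v, ← hf]
      show QuadraticMap.polar (Qm.comp G.toLinearMap) u v = QuadraticMap.polar Qm (G u) (G v)
      simp only [QuadraticMap.polar, QuadraticMap.comp_apply, LinearEquiv.coe_coe, map_add]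
    · have h := hsim _ (mul_mem (mul_mem (inv_mem hg) hx) hg) hm (G v)
      simp only [hG, Units.val_mul, Matrix.mulVec_mulVec, Matrix.mul_assoc, Units.mul_inv, Matrix.mul_one] at h
      show Qm (G _) = Qm (G v)
      rw [hG, hG, Matrix.mulVec_mulVec]
      exact h
    · refine ⟨T.map G.toLinearMap, ?_, G.finrank_map_eq T⟩
      rintro _ ⟨v, hv, rfl⟩
      exact hT v hv
    · refine ⟨T.map G.symm.toLinearMap, ?_, G.symm.finrank_map_eq T⟩
      rintro _ ⟨v, hv, rfl⟩
      show Qm (G (G.symm v)) = 0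
      rw [G.apply_symm_apply]
      exact hT v hv
  -- a fixed-point-free element determines the form
  have huniq : ∀ (x : GL (Fin d ⊕ Fin d) F) (P P' : QuadraticForm F (Fin d ⊕ Fin d → F)),
      (∀ u v, QuadraticMap.polar P u v = QuadraticMap.polar P' u v) →
      (∀ v, P ((x : Matrix (Fin d ⊕ Fin d) (Fin d ⊕ Fin d) F) *ᵥ v) = P v) → (∀ v, P' ((x : Matrix (Fin d ⊕ Fin d) (Fin d ⊕ Fin d) F) *ᵥ v) = P' v) →
      (∀ v, (x : Matrix (Fin d ⊕ Fin d) (Fin d ⊕ Fin d) F) *ᵥ v = v → v = 0) → ∀ v, P v = P' v := by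
    intro x P P' hp hP hP' hfix v
    let D : (Fin d ⊕ Fin d → F) →ₗ[F] (Fin d ⊕ Fin d → F) :=
      Matrix.mulVecLin (x : Matrix (Fin d ⊕ Fin d) (Fin d ⊕ Fin d) F) - LinearMap.id
    have hsur : Function.Surjective D := LinearMap.injective_iff_surjective.1
      ((injective_iff_map_eq_zero D).2 fun u hu => hfix u (sub_eq_zero.1 hu))
    obtain ⟨u, hu⟩ := hsur v
    have hadd : ∀ a b, P (a + b) - P' (a + b) = (P a - P' a) + (P b - P' b) := fun a b => by
      have := hp a b
      simp only [QuadraticMap.polar] at this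
      linear_combination this
    have h1 := hadd (D u) u
    rw [show D u + u = (x : Matrix (Fin d ⊕ Fin d) (Fin d ⊕ Fin d) F) *ᵥ u from sub_add_cancel _ _, hP, hP', hu] at h1
    linear_combination -h1
  have hP1 : Cfsg.Geo.IsPlusTypeOn Q ⊤ ↔
      ∃ φ : (Fin d ⊕ Fin d → F) ≃ₗ[F] (Fin d ⊕ Fin d → F), ∀ v, Qm v = CfsgLib.Quad.plusQ d (φ v) :=
    hQc ▸ CfsgLib.Elusive.plus_iff hd1 hnd
  have hhalf : ∀ v ∈ CfsgLib.AutPOm.plusHalf F d, CfsgLib.Quad.plusQ (F := F) d v = 0 := fun v hv => by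
    rw [CfsgLib.Quad.plusQ_coe]
    exact Finset.sum_eq_zero fun i _ => by
      rw [show v (Sum.inr i) = 0 from congrFun (LinearMap.mem_ker.1 hv) i, mul_zero]
  constructor
  · intro hall
    have hall' : ∀ x ∈ Cfsg.spGL d F, (x : Matrix (Fin d ⊕ Fin d) (Fin d ⊕ Fin d) F) ^ r = 1 → x ≠ 1 →
        ∃ g ∈ Cfsg.spGL d F, g⁻¹ * x * g ∈ Cfsg.Geo.quadSimilarityGroup Q := by
      intro x hx hxr hx1
      refine hall x hx ⟨1, by rw [Units.val_pow_eq_pow_val, hxr, one_smul]⟩ fun z hz => hx1 ?_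
      set u : Fin d ⊕ Fin d → F := Pi.single (Sum.inl ⟨0, by omega⟩) 1
      set w : Fin d ⊕ Fin d → F := Pi.single (Sum.inr ⟨0, by omega⟩) 1
      have huw : Cfsg.sympForm d F u w = 1 := by
        simp [Cfsg.sympForm, u, w, Matrix.J, Matrix.fromBlocks_mulVec, Fintype.sum_sum_type, dotProduct, Pi.single_apply,
          Matrix.mulVec, CharTwo.neg_eq, Matrix.one_apply]
      have h := hx u w
      change Cfsg.sympForm d F ((x : Matrix (Fin d ⊕ Fin d) (Fin d ⊕ Fin d) F) *ᵥ u) ((x : Matrix (Fin d ⊕ Fin d) (Fin d ⊕ Fin d) F) *ᵥ w) = _ at h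
      rw [hz, Matrix.smul_mulVec, Matrix.smul_mulVec, Matrix.one_mulVec, Matrix.one_mulVec, huw] at h
      have h' : z * z * Cfsg.sympForm d F u w = 1 := by
        rw [← h]; simp [Cfsg.sympForm, Matrix.mulVec_smul, mul_assoc]
      rw [huw, mul_one] at h'
      have hz1 : z = 1 := by
        rcases mul_self_eq_one_iff.1 h' with e | e
        · exact e
        · rw [e, CharTwo.neg_eq]
      exact Units.ext (by rw [hz, hz1, one_smul]; rfl)
    by_cases hr2 : r = 2
    · subst hr2
      refine ⟨rfl, or_iff_not_imp_left.2 fun hnp => Nat.not_even_iff_odd.1 fun ⟨m, hm⟩ => ?_⟩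
      subst hm
      let A : Matrix (Fin (m + m)) (Fin (m + m)) F :=
        (Matrix.fromBlocks 0 (1 : Matrix (Fin m) (Fin m) F) 1 0).submatrix finSumFinEquiv.symm finSumFinEquiv.symm
      let L : (Fin (m + m) ⊕ Fin (m + m) → F) →ₗ[F] (Fin (m + m) ⊕ Fin (m + m) → F) :=
        Matrix.mulVecLin (Matrix.fromBlocks 1 A 0 1)
      have hAA : ∀ w, A *ᵥ (A *ᵥ w) = w := fun w => by
        rw [Matrix.mulVec_mulVec, Matrix.submatrix_mul_equiv, Matrix.fromBlocks_multiply]
        simp [Matrix.fromBlocks_one, Matrix.submatrix_one_equiv]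
      have hAq : ∀ w, (A *ᵥ w) ⬝ᵥ w = 0 := fun w => by
        have h1 : ∀ u : Fin m ⊕ Fin m → F, (Matrix.fromBlocks 0 (1 : Matrix (Fin m) (Fin m) F) 1 0 *ᵥ u) ⬝ᵥ u = 0 :=
          fun u => by
          simp only [dotProduct, Fintype.sum_sum_type, Matrix.fromBlocks_mulVec, Matrix.zero_mulVec, Matrix.one_mulVec,
            zero_add, add_zero, Sum.elim_inl, Sum.elim_inr, Function.comp_apply]
          rw [← Finset.sum_add_distrib]
          exact Finset.sum_eq_zero fun i _ => by linear_combination (u (Sum.inl i) * u (Sum.inr i)) * h2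
        simp only [dotProduct, A, Matrix.submatrix_mulVec_equiv, Equiv.symm_symm]
        rw [← finSumFinEquiv.sum_comp]
        refine (Finset.sum_congr rfl fun s _ => ?_).trans (h1 (w ∘ finSumFinEquiv))
        simp only [Function.comp_apply, Equiv.symm_apply_apply]
      have hL : ∀ v, L v = Sum.elim ((v ∘ Sum.inl) + A *ᵥ (v ∘ Sum.inr)) (v ∘ Sum.inr) := fun v => by
        simp [L, Matrix.fromBlocks_mulVec]
      have hLL : ∀ v, L (L v) = v := fun v => by
        rw [hL, hL]
        funext s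
        rcases s with i | i <;> simp
        have : ∀ a b : F, a + b + b = a := fun a b => by linear_combination b * h2
        exact this _ _
      have hQL : ∀ v, CfsgLib.Quad.plusQ (m + m) (L v) = CfsgLib.Quad.plusQ (m + m) v := fun v => by
        rw [CfsgLib.Quad.plusQ_coe, hL]
        simp only [Cfsg.quadFormPlus, Sum.elim_inl, Sum.elim_inr, Pi.add_apply, add_mul, Finset.sum_add_distrib]
        have := hAq (v ∘ Sum.inr)
        simp only [dotProduct, Function.comp_apply] at this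
        rw [show (∑ x, v (Sum.inl x) * v (Sum.inr x)) = ∑ x, v (Sum.inl x) * v (Sum.inr x) + 0 from (add_zero _).symm]
        simp only [Function.comp_apply, this]
      obtain ⟨x, hx, hxv⟩ := CfsgLib.Elusive.exists_spGL
        (LinearEquiv.ofLinear L L (LinearMap.ext hLL) (LinearMap.ext hLL)) fun u v => by
          show Cfsg.sympForm (m + m) F (L u) (L v) = _
          rw [← hplusf, ← hplusf, QuadraticMap.polar, QuadraticMap.polar, ← L.map_add, hQL, hQL, hQL]
      have hxL : ∀ v, (x : Matrix (Fin (m + m) ⊕ Fin (m + m)) (Fin (m + m) ⊕ Fin (m + m)) F) *ᵥ v = L v := hxv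
      obtain ⟨g, hg, hgm⟩ := hall' x hx (Matrix.toLin'.injective (LinearMap.ext fun v => by
        rw [Matrix.toLin'_apply, pow_two, ← Matrix.mulVec_mulVec, hxL, hxL, hLL, Matrix.toLin'_one]; rfl)) fun e => by
        have h := hxL (Pi.single (Sum.inr ⟨0, by omega⟩) 1)
        rw [e, Units.val_one, Matrix.one_mulVec, hL] at h
        have h3 := hAA ((Pi.single (Sum.inr ⟨0, by omega⟩) (1 : F) : Fin (m + m) ⊕ Fin (m + m) → F) ∘ Sum.inr)
        have h4 : A *ᵥ ((Pi.single (Sum.inr ⟨0, by omega⟩) (1 : F) : Fin (m + m) ⊕ Fin (m + m) → F) ∘ Sum.inr) = 0 :=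
          funext fun i => by simpa using congrFun h.symm (Sum.inl i)
        rw [h4, Matrix.mulVec_zero] at h3
        simpa using congrFun h3 ⟨0, by omega⟩
      obtain ⟨Q', hf', hQ'x, hts, -⟩ := hwit x g hx hg hgm
      obtain ⟨T', hT', hdim⟩ := hts (CfsgLib.AutPOm.plusHalf F (m + m)) fun u hu => by
        have hu0 : ∀ i, u (Sum.inr i) = 0 := fun i => congrFun (LinearMap.mem_ker.1 hu) i
        set v : Fin (m + m) ⊕ Fin (m + m) → F := Sum.elim 0 (A *ᵥ (u ∘ Sum.inl)) with hv
        have hLv : L v = v + u := by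
          rw [hL]; funext s; rcases s with i | i
          · simp [hv, hAA]
          · simp [hv, hu0]
        have h := hQ'x v
        rw [hxL, hLv, QuadraticMap.map_add Q' v u, hf', ← hplusf] at h
        have hp0 : QuadraticMap.polar (CfsgLib.Quad.plusQ (F := F) (m + m)) v u = 0 := by
          have h' := hQL v
          rw [hLv, QuadraticMap.map_add (CfsgLib.Quad.plusQ (F := F) (m + m)) v u, hhalf u hu, add_zero] at h'
          exact (add_eq_left.1 h')
        rw [hp0, add_zero] at h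
        exact add_eq_left.1 h
      rw [CfsgLib.AutPOm.finrank_plusHalf] at hdim
      exact hnp (hP1.2 (CfsgLib.Elusive.plus_of_singular hd1 hnd hT' hdim.ge))
    · exfalso
      have hrr := (Fact.out : r.Prime)
      have hr0 : (r : F) ≠ 0 := CfsgLib.Elusive.cast_ne_zero_of_ne (p := 2) hr2
      obtain ⟨k, rfl⟩ : ∃ k, d = k + 1 := ⟨d - 1, by omega⟩
      have hker : ∀ v, (v ∈ Cfsg.spGL (k + 1) F ⊓ Cfsg.Geo.quadSimilarityGroup Q) ↔ v ∈ Cfsg.isometryGroup F ⇑Qm := fun g => by
        refine ⟨fun h v _ => hsim g h.1 h.2 v, fun h => ⟨fun u v => ?_, ⟨1, fun v => ?_⟩⟩⟩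
        · show Cfsg.sympForm (k + 1) F ((g : Matrix _ _ F) *ᵥ u) ((g : Matrix _ _ F) *ᵥ v) = _
          rw [← hf, ← hf, QuadraticMap.polar, QuadraticMap.polar, ← Matrix.mulVec_add]
          have h' : ∀ a, Qm ((g : Matrix _ _ F) *ᵥ a) = Qm a := fun a => h a 0
          rw [h', h', h']
        · rw [Units.val_one, one_mul]; exact h v 0
      have hidx : (Cfsg.Geo.quadSimilarityGroup Q).relIndex (Cfsg.spGL (k + 1) F) *
          Nat.card (CfsgLib.Quad.oGroup Qm) = Nat.card (Cfsg.spGL (k + 1) F) := by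
        rw [← Nat.card_congr (CfsgLib.Quad.isoGroupEquiv Qm).toEquiv, ← SetLike.ext hker, ← Subgroup.relIndex_bot_left,
          ← Subgroup.relIndex_bot_left (Cfsg.spGL (k + 1) F), ← Subgroup.inf_relIndex_right, inf_comm, mul_comm,
          Subgroup.relIndex_mul_relIndex _ _ _ bot_le inf_le_left]
      have hsp : Nat.card (Cfsg.spGL (k + 1) F) = Nat.card (Matrix.symplecticGroup (Fin (k + 1)) F) :=
        Nat.card_congr <| Equiv.ofBijective (fun g => ⟨(g.1 : Matrix (Fin (k + 1) ⊕ Fin (k + 1)) (Fin (k + 1) ⊕ Fin (k + 1)) F), CfsgLib.Symp.mem_iff_form.2 g.2⟩)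
          ⟨fun a b e => Subtype.ext (Units.ext (congrArg Subtype.val e)), fun g =>
            ⟨⟨(Matrix.symplecticGroup (Fin (k + 1)) F).subtype.toHomUnits g, fun u v =>
              CfsgLib.Symp.form_smul_smul g u v⟩, Subtype.ext rfl⟩⟩
      have hsp' : (Nat.card (Cfsg.spGL (k + 1) F) : ℤ) = (Fintype.card F : ℤ) ^ ((k + 1) ^ 2) *
          (∏ i ∈ Finset.range k, ((Fintype.card F : ℤ) ^ (2 * (i + 1)) - 1)) * ((Fintype.card F : ℤ) ^ (2 * (k + 1)) - 1) := by
        rw [hsp, CfsgLib.Symp.card_Sp, Finset.prod_range_succ, Nat.card_eq_fintype_card]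
        push_cast [Nat.one_le_pow _ _ (Fintype.card_pos (α := F))]
        ring
      have hP0 : (∏ i ∈ Finset.range k, ((Fintype.card F : ℤ) ^ (2 * (i + 1)) - 1)) ≠ 0 :=
        Finset.prod_ne_zero_iff.2 fun i _ => by
          have := Nat.le_self_pow (show 2 * (i + 1) ≠ 0 by omega) (Fintype.card F)
          have := Fintype.one_lt_card (α := F)
          have : (Fintype.card F : ℤ) ^ (2 * (i + 1)) ≥ 2 := by exact_mod_cast (by omega : Fintype.card F ^ (2 * (i + 1)) ≥ 2)
          omega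
      have hq0 : (Fintype.card F : ℤ) ^ ((k + 1) * k) ≠ 0 := pow_ne_zero _ (by exact_mod_cast Fintype.card_ne_zero)
      have hr2' : ∀ e : ℤ, (r : ℤ) ∣ (Fintype.card F : ℤ) ^ (k + 1) * e → (r : ℤ) ∣ e := fun e h => by
        refine ((Nat.prime_iff_prime_int.1 hrr).dvd_mul.1 h).resolve_left fun h' => ?_
        have h'' := (Nat.prime_iff_prime_int.1 hrr).dvd_of_dvd_pow h'
        exact absurd ((ZMod.natCast_eq_zero_iff _ _).2 (Int.natCast_dvd_natCast.1 h''))
          (CfsgLib.Elusive.card_ne_zero_mod (F := F) (p := 2) hr2)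
      rcases CfsgLib.Elusive.type_cases hnd with ⟨φ, hφ⟩ | ⟨-, hbound, a, b, φ, hab, hφ⟩
      · have hN : ((Cfsg.Geo.quadSimilarityGroup Q).relIndex (Cfsg.spGL (k + 1) F) : ℤ) * 2 =
            (Fintype.card F : ℤ) ^ (k + 1) * ((Fintype.card F : ℤ) ^ (k + 1) + 1) := by
          have h : _ = (Nat.card (Cfsg.spGL (k + 1) F) : ℤ) := congrArg (Nat.cast (R := ℤ)) hidx
          rw [Nat.cast_mul, hsp', Nat.card_congr (CfsgLib.Quad.oGroupCongr φ fun v => (hφ v).symm).toEquiv,
            CfsgLib.Quad.card_oGroup_plus Nat.card_eq_fintype_card k] at h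
          have hm1 : (Fintype.card F : ℤ) ^ (k + 1) - 1 ≠ 0 := by
            have := Nat.le_self_pow (show k + 1 ≠ 0 by omega) (Fintype.card F)
            have := Fintype.one_lt_card (α := F)
            have : (Fintype.card F : ℤ) ^ (k + 1) ≥ 2 := by exact_mod_cast (by omega : Fintype.card F ^ (k + 1) ≥ 2)
            omega
          refine mul_left_cancel₀ (mul_ne_zero (mul_ne_zero hq0 hP0) hm1) ?_
          rw [show (k + 1) ^ 2 = (k + 1) * k + (k + 1) by ring, pow_add] at h
          linear_combination h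
        have hrd : r ∣ Fintype.card F ^ (k + 1) + 1 := by
          rw [← Int.natCast_dvd_natCast]; push_cast
          exact hr2' _ (hN ▸ dvd_mul_of_dvd_left (Int.natCast_dvd_natCast.2 hΩ) _)
        obtain ⟨a, b, hab⟩ := CfsgLib.AutPOm.exists_aniso_pair F
        obtain ⟨e, her, he1, he0⟩ := CfsgLib.Elusive.exists_minus_fpf (p := 2) hr2 hr2 hab k hrd
        have ha : a ≠ 0 := fun h => by
          obtain ⟨s, hs⟩ := CfsgLib.Quad.isSquare_char_two (F := F) b
          exact one_ne_zero (hab s 1 (by rw [h, hs]; linear_combination (s * s) * h2)).2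
        let ψ : (Fin (k + 1) ⊕ Fin (k + 1) → F) ≃ₗ[F] ((Fin k ⊕ Fin k) ⊕ Fin 2 → F) :=
          { toFun := fun v => Sum.elim (Sum.elim (fun i => v (Sum.inl i.castSucc)) (fun i => v (Sum.inr i.castSucc)))
              ![v (Sum.inl (Fin.last k)), a⁻¹ * v (Sum.inr (Fin.last k))]
            map_add' := fun u v => by
              funext s; rcases s with (i | i) | i
              · rfl
              · rfl
              · fin_cases i <;> simp [mul_add]
            map_smul' := fun c v => by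
              funext s; rcases s with (i | i) | i
              · rfl
              · rfl
              · fin_cases i <;> simp [mul_left_comm]
            invFun := fun w => Sum.elim (Fin.snoc (fun i => w (Sum.inl (Sum.inl i))) (w (Sum.inr 0)))
              (Fin.snoc (fun i => w (Sum.inl (Sum.inr i))) (a * w (Sum.inr 1)))
            left_inv := fun v => by
              funext s; rcases s with i | i <;> induction i using Fin.lastCases <;> simp [mul_inv_cancel_left₀ ha]
            right_inv := fun w => by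
              funext s; rcases s with (i | i) | i
              · simp
              · simp
              · fin_cases i <;> simp [inv_mul_cancel_left₀ ha] }
        let P : QuadraticForm F (Fin (k + 1) ⊕ Fin (k + 1) → F) := (CfsgLib.Quad.minusQ k a b).comp ψ.toLinearMap
        have hPf : ∀ u v, QuadraticMap.polar P u v = Cfsg.sympForm (k + 1) F u v := fun u v => by
          rw [← hplusf, CfsgLib.Quad.plusQ_coe, CfsgLib.QuadStd.plus_polar, QuadraticMap.polar]
          simp only [P, QuadraticMap.comp_apply, LinearEquiv.coe_coe, map_add]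
          rw [← QuadraticMap.polar, CfsgLib.Quad.minusQ_coe, CfsgLib.QuadStd.minus_polar, Fin.sum_univ_castSucc]
          congr 1
          simp [ψ, h2]
          field_simp
        let e' := CfsgLib.Quad.oGroupCongr (Q := CfsgLib.Quad.minusQ k a b) (Q' := P) ψ.symm
          (fun v => congrArg (⇑(CfsgLib.Quad.minusQ k a b)) (ψ.apply_symm_apply v)) e
        obtain ⟨x, hx, hxv⟩ := CfsgLib.Elusive.exists_spGL e'.1 fun u v => by
          rw [← hPf, ← hPf, QuadraticMap.polar, QuadraticMap.polar, ← map_add, e'.2, e'.2, e'.2]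
        have hfix : ∀ v, (x : Matrix (Fin (k + 1) ⊕ Fin (k + 1)) (Fin (k + 1) ⊕ Fin (k + 1)) F) *ᵥ v = v → v = 0 := fun v hv => by
          rw [hxv] at hv
          have h := he0 (ψ v) (ψ.symm.injective (hv.trans (ψ.symm_apply_apply v).symm))
          exact ψ.map_eq_zero_iff.1 h
        have hpow : ∀ n v, ((x : Matrix (Fin (k + 1) ⊕ Fin (k + 1)) (Fin (k + 1) ⊕ Fin (k + 1)) F) ^ n) *ᵥ v = (e' ^ n).1 v := by
          intro n
          induction n with
          | zero => intro v; simp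
          | succ n ih => intro v; rw [pow_succ, ← Matrix.mulVec_mulVec, hxv, ih, pow_succ]; rfl
        obtain ⟨g, hg, hgm⟩ := hall' x hx (Matrix.toLin'.injective (LinearMap.ext fun v => by
          rw [Matrix.toLin'_apply, hpow, ← map_pow, her, map_one, Matrix.toLin'_one]; rfl)) fun h => by
          have := hfix (Pi.single (Sum.inl 0) 1) (by rw [h, Units.val_one, Matrix.one_mulVec])
          simp at this
        obtain ⟨Q', hf', hQ'x, -, hts⟩ := hwit x g hx hg hgm
        obtain ⟨T, hT, hdim⟩ := hts ((CfsgLib.AutPOm.plusHalf F (k + 1)).map φ.symm.toLinearMap) (by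
          rintro _ ⟨v, hv, rfl⟩
          rw [hφ, LinearEquiv.coe_coe, φ.apply_symm_apply, hhalf v hv])
        have heq := huniq x P Q' (fun u v => (hPf u v).trans (hf' u v).symm)
          (fun v => by rw [hxv, e'.2]) hQ'x hfix
        have := CfsgLib.AutPOm.ts_bound_minusQ hab k (T.map ψ.toLinearMap) (by
          rintro _ ⟨v, hv, rfl⟩
          exact (heq v).trans (hT v hv))
        rw [LinearEquiv.finrank_map_eq, hdim, LinearEquiv.finrank_map_eq, CfsgLib.AutPOm.finrank_plusHalf] at this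
        omega
      · have hN : ((Cfsg.Geo.quadSimilarityGroup Q).relIndex (Cfsg.spGL (k + 1) F) : ℤ) * 2 =
            (Fintype.card F : ℤ) ^ (k + 1) * ((Fintype.card F : ℤ) ^ (k + 1) - 1) := by
          have h : _ = (Nat.card (Cfsg.spGL (k + 1) F) : ℤ) := congrArg (Nat.cast (R := ℤ)) hidx
          rw [Nat.cast_mul, hsp', Nat.card_congr (CfsgLib.Quad.oGroupCongr φ fun v => (hφ v).symm).toEquiv,
            CfsgLib.Quad.card_oGroup_minus Nat.card_eq_fintype_card hab (k + 1 - 1)] at h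
          simp only [Nat.add_sub_cancel] at h
          have hm1 : (Fintype.card F : ℤ) ^ (k + 1) + 1 ≠ 0 := by positivity
          refine mul_left_cancel₀ (mul_ne_zero (mul_ne_zero hq0 hP0) hm1) ?_
          rw [show (k + 1) ^ 2 = (k + 1) * k + (k + 1) by ring, pow_add] at h
          linear_combination h
        have hrd : r ∣ Fintype.card F ^ (k + 1) - 1 := by
          rw [← Int.natCast_dvd_natCast, Nat.cast_sub (Nat.one_le_pow _ _ Fintype.card_pos)]; push_cast
          exact hr2' _ (hN ▸ dvd_mul_of_dvd_left (Int.natCast_dvd_natCast.2 hΩ) _)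
        set i := orderOf ((Fintype.card F : ℕ) : ZMod r) with hi
        have hi0 : 0 < i := CfsgLib.Elusive.orderOf_q_pos (CfsgLib.Elusive.card_ne_zero_mod (F := F) (p := 2) hr2)
        obtain ⟨s, hs⟩ : i ∣ k + 1 := by
          refine orderOf_dvd_of_pow_eq_one ?_
          have := (ZMod.natCast_eq_zero_iff _ r).2 hrd
          rwa [Nat.cast_sub (Nat.one_le_pow _ _ Fintype.card_pos), Nat.cast_pow, Nat.cast_one, sub_eq_zero] at this
        obtain ⟨f, hfr', hff⟩ := CfsgLib.Elusive.exists_min_fix (F := F) (r := r) hr0 hi hi0 (n := k + 1) (s := s) (e := 0)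
          (by rw [hs, Nat.mul_comm]; rfl)
        have hfr : LinearMap.toMatrix' f ^ r = 1 := by
          show LinearMap.toMatrixAlgEquiv' f ^ r = 1
          rw [← map_pow, hfr', map_one]
        have hr1 : r - 1 + 1 = r := by have := hrr.one_lt; omega
        let A : GL (Fin (k + 1)) F := ⟨LinearMap.toMatrix' f, LinearMap.toMatrix' f ^ (r - 1),
          by rw [← pow_succ', hr1, hfr], by rw [← pow_succ, hr1, hfr]⟩
        have hAf : ∀ w, (A : Matrix (Fin (k + 1)) (Fin (k + 1)) F) *ᵥ w = w → w = 0 := fun w hw => by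
          have h1 : w ∈ CfsgLib.Elusive.fixS f := CfsgLib.Elusive.mem_fixS.2 ((LinearMap.toMatrix'_mulVec f w).symm.trans hw)
          rw [Submodule.finrank_eq_zero.1 hff] at h1
          exact h1
        set e' := CfsgLib.Quad.levi (k + 1) A with he'
        obtain ⟨x, hx, hxv⟩ := CfsgLib.Elusive.exists_spGL e'.1 fun u v => by
          rw [← hplusf, ← hplusf, QuadraticMap.polar, QuadraticMap.polar, ← map_add, e'.2, e'.2, e'.2]
        have hfix : ∀ v, (x : Matrix (Fin (k + 1) ⊕ Fin (k + 1)) (Fin (k + 1) ⊕ Fin (k + 1)) F) *ᵥ v = v → v = 0 := fun v hv => by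
          have hv' : e'.1 v = v := (hxv v).symm.trans hv
          have hl : ∀ i, v (Sum.inl i) = 0 := fun i => by
            rw [he', CfsgLib.Quad.levi_apply] at hv'
            exact congrFun (hAf (v ∘ Sum.inl) (funext fun j => congrFun hv' (Sum.inl j))) i
          funext s
          rcases s with i | i
          · exact hl i
          obtain ⟨w, hw⟩ : ∃ w, (A : Matrix (Fin (k + 1)) (Fin (k + 1)) F) *ᵥ w - w = Pi.single i 1 :=
            (LinearMap.injective_iff_surjective
              (f := Matrix.mulVecLin (A : Matrix (Fin (k + 1)) (Fin (k + 1)) F) - LinearMap.id)).1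
              ((injective_iff_map_eq_zero _).2 fun u hu => hAf u (sub_eq_zero.1 hu)) (Pi.single i 1)
          have h := hx v (Sum.elim w 0)
          change Cfsg.sympForm (k + 1) F ((x : Matrix (Fin (k + 1) ⊕ Fin (k + 1)) (Fin (k + 1) ⊕ Fin (k + 1)) F) *ᵥ v) ((x : Matrix (Fin (k + 1) ⊕ Fin (k + 1)) (Fin (k + 1) ⊕ Fin (k + 1)) F) *ᵥ Sum.elim w 0) = _ at h
          rw [hv, hxv, he', CfsgLib.Quad.levi_apply, ← hplusf, ← hplusf, CfsgLib.Quad.plusQ_coe,
            CfsgLib.QuadStd.plus_polar, CfsgLib.QuadStd.plus_polar] at h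
          simp only [hl, Sum.elim_inl, Sum.elim_inr, zero_mul, zero_add, Sum.elim_comp_inl, Sum.elim_comp_inr,
            Matrix.mulVec_zero, Pi.zero_apply, mul_zero, add_zero] at h
          have h' : ∑ j, ((A : Matrix (Fin (k + 1)) (Fin (k + 1)) F) *ᵥ w - w) j * v (Sum.inr j) = 0 := by
            simp only [Pi.sub_apply, sub_mul, Finset.sum_sub_distrib]
            exact sub_eq_zero.2 h
          rw [hw] at h'
          simpa [Pi.single_apply] using h'
        have hpow : ∀ n v, ((x : Matrix (Fin (k + 1) ⊕ Fin (k + 1)) (Fin (k + 1) ⊕ Fin (k + 1)) F) ^ n) *ᵥ v = (e' ^ n).1 v := by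
          intro n
          induction n with
          | zero => intro v; simp
          | succ n ih => intro v; rw [pow_succ, ← Matrix.mulVec_mulVec, hxv, ih, pow_succ]; rfl
        obtain ⟨g, hg, hgm⟩ := hall' x hx (Matrix.toLin'.injective (LinearMap.ext fun v => by
          rw [Matrix.toLin'_apply, hpow, he', ← map_pow, show A ^ r = 1 from Units.ext hfr, map_one, Matrix.toLin'_one]; rfl))
          fun h => by
          have := hfix (Pi.single (Sum.inl 0) 1) (by rw [h, Units.val_one, Matrix.one_mulVec])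
          simp at this
        obtain ⟨Q', hf', hQ'x, hts, -⟩ := hwit x g hx hg hgm
        have heq := huniq x (CfsgLib.Quad.plusQ (k + 1)) Q' (fun u v => (hplusf u v).trans (hf' u v).symm)
          (fun v => by rw [hxv, e'.2]) hQ'x hfix
        obtain ⟨T, hT, hdim⟩ := hts (CfsgLib.AutPOm.plusHalf F (k + 1)) fun v hv => (heq v).symm.trans (hhalf v hv)
        have := hbound T hT
        rw [hdim, CfsgLib.AutPOm.finrank_plusHalf] at this
        omega
  · rintro ⟨rfl, hcase⟩ x hx ⟨z, hz⟩ -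
    have hx2 : ∀ v, (x : Matrix (Fin d ⊕ Fin d) (Fin d ⊕ Fin d) F) *ᵥ ((x : Matrix (Fin d ⊕ Fin d) (Fin d ⊕ Fin d) F) *ᵥ v) = v := by
      have hmul : ∀ v, (x : Matrix (Fin d ⊕ Fin d) (Fin d ⊕ Fin d) F) *ᵥ ((x : Matrix (Fin d ⊕ Fin d) (Fin d ⊕ Fin d) F) *ᵥ v) = z • v := fun v => by
        rw [Matrix.mulVec_mulVec, ← Units.val_mul, ← pow_two, hz, Matrix.smul_mulVec, Matrix.one_mulVec]
      set u : Fin d ⊕ Fin d → F := Pi.single (Sum.inl ⟨0, by omega⟩) 1
      set w : Fin d ⊕ Fin d → F := Pi.single (Sum.inr ⟨0, by omega⟩) 1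
      have huw : Cfsg.sympForm d F u w = 1 := by
        simp [Cfsg.sympForm, u, w, Matrix.J, Matrix.fromBlocks_mulVec, Fintype.sum_sum_type, dotProduct, Pi.single_apply,
          Matrix.mulVec, CharTwo.neg_eq, Matrix.one_apply]
      have h := (hx _ _).trans (hx u w)
      change Cfsg.sympForm d F ((x : Matrix (Fin d ⊕ Fin d) (Fin d ⊕ Fin d) F) *ᵥ ((x : Matrix (Fin d ⊕ Fin d) (Fin d ⊕ Fin d) F) *ᵥ u))
        ((x : Matrix (Fin d ⊕ Fin d) (Fin d ⊕ Fin d) F) *ᵥ ((x : Matrix (Fin d ⊕ Fin d) (Fin d ⊕ Fin d) F) *ᵥ w)) = _ at h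
      rw [hmul, hmul, huw] at h
      have h' : z * z * Cfsg.sympForm d F u w = 1 := by
        rw [← h]; simp [Cfsg.sympForm, Matrix.mulVec_smul, mul_assoc]
      rw [huw, mul_one] at h'
      intro v
      rw [hmul]
      rcases mul_self_eq_one_iff.1 h' with e | e
      · rw [e, one_smul]
      · rw [e, CharTwo.neg_eq, one_smul]
    obtain ⟨g, hg, hgx⟩ := CfsgLib.Elusive.exists_conj_preserving hd1 hf (hcase.imp hP1.1 id) hx hx2
    refine ⟨g⁻¹, inv_mem hg, 1, fun v => ?_⟩
    rw [inv_inv, Units.val_one, one_mul]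
    exact hgx v

end Cfsg.Agent.S5983
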