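import Cfsg.Statements.S5984
import Cfsg.Agent.Elusive.UnitPairs

set_option autoImplicit false
open scoped MatrixGroups
open Cfsg

namespace Cfsg.Agent.S5984
open scoped Matrix

set_option maxHeartbeats 2000000

/-- Elements of prime order of PSU_n(q) and the stabilizers of pairs of complementary totally singular subspaces. Here `T = PSU_n(q)` is realised through `SU_n(q)`, the matrices of determinant 1 over the field `F` with `q²` elements preserving the hermitian form `Σ uᵢ vᵢ^q`, with `n ≥ 4` even; `D` is a pair of complementary subspaces of dimension `n/2` on each of which the form vanishes identically, and `H` is the subgroup of `SU_n(q)` fixing or interchanging the two members — a subgroup of type GL_{n/2}(q²).2 (maximality is not assumed). Ω is the set of cosets of `H`, so an element of `T` of prime order `r` (`x ∈ SU_n(q)` with `x^r` scalar, `x` not scalar) fixes a point of Ω exactly when some `SU_n(q)`-conjugate of `x` lies in `H`. Let `r` be a prime dividing the index of `H`. Then every element of `T` of order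 `r` fixes a point of Ω if and only if `r = 2`, `q` is odd and `(q + 1)_2 ≤ (n)_2` (2-parts). -/
theorem result {F : Type*} [Field F] [Fintype F] {p : ℕ} [Fact p.Prime] [CharP F p] {q : ℕ} (hq : Fintype.card F = q ^ 2)
    (n : ℕ) (hn : 4 ≤ n) (he : Even n) (D : Fin 2 → Submodule F (Fin n → F)) (hD : Cfsg.Geo.IsMDecomposition (n / 2) D)
    (hDs : ∀ i, Cfsg.Geo.IsTotallySingularFor (Cfsg.hermForm n F q) (D i))
    (r : ℕ) [Fact r.Prime]
    (hΩ : r ∣ (Cfsg.Geo.decompositionStabilizer D).relIndex (Cfsg.GU n F q ⊓ Cfsg.Geo.specialLinear (Fin n) F)) :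
    (∀ x ∈ Cfsg.GU n F q ⊓ Cfsg.Geo.specialLinear (Fin n) F, (∃ z : F, ((x ^ r : GL (Fin n) F) : Matrix (Fin n) (Fin n) F) = z • (1 : Matrix (Fin n) (Fin n) F)) →
      (∀ z : F, (x : Matrix (Fin n) (Fin n) F) ≠ z • (1 : Matrix (Fin n) (Fin n) F)) →
      ∃ g ∈ Cfsg.GU n F q ⊓ Cfsg.Geo.specialLinear (Fin n) F, g⁻¹ * x * g ∈ Cfsg.Geo.decompositionStabilizer D) ↔
    (r = 2 ∧ Odd q ∧ padicValNat 2 (q + 1) ≤ padicValNat 2 n) := by
  classical
  obtain ⟨m, rfl⟩ := he
  have hm : 2 ≤ m := by omega
  rw [show (m + m) / 2 = m by omega] at hD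
  have hF : Nat.card F = q ^ 2 := by rw [Nat.card_eq_fintype_card, hq]
  have hq2 : 2 ≤ q := CfsgLib.Forms.two_le_q hF
  have hrr : r.Prime := Fact.out
  have hpp : p.Prime := Fact.out
  have hP : CfsgLib.Elusive.UnitPairs.IsPair q (D 0) (D 1) :=
    CfsgLib.Elusive.UnitPairs.mk_pair hF (hDs 0) (hDs 1) (eq_top_iff.2 (hD.iSup_eq_top ▸ iSup_le fun i => by
      fin_cases i
      · exact le_sup_left
      · exact le_sup_right))
  have hD01 : D 0 ≠ D 1 := fun e => by
    have h := hP.compl.inf_eq_bot
    rw [e, inf_idem] at h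
    have h1 := hP.rankW
    rw [h, finrank_bot] at h1
    omega
  -- moving the pair
  have hwit : ∀ x g : GL (Fin (m + m)) F, g ∈ Cfsg.GU (m + m) F q →
      g⁻¹ * x * g ∈ Cfsg.Geo.decompositionStabilizer D →
      ∃ U W : Submodule F (Fin (m + m) → F), CfsgLib.Elusive.UnitPairs.IsPair q U W ∧
        ((U.map (Matrix.toLin' (x : Matrix (Fin (m + m)) (Fin (m + m)) F)) = U ∧
          W.map (Matrix.toLin' (x : Matrix (Fin (m + m)) (Fin (m + m)) F)) = W) ∨
         (U.map (Matrix.toLin' (x : Matrix (Fin (m + m)) (Fin (m + m)) F)) = W ∧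
          W.map (Matrix.toLin' (x : Matrix (Fin (m + m)) (Fin (m + m)) F)) = U)) := by
    rintro x g hg ⟨σ, hσ⟩
    set G := Matrix.toLin' (g : Matrix (Fin (m + m)) (Fin (m + m)) F) with hG
    have hinj : Function.Injective G := fun u v e => by
      have := congrArg (fun w => ((g⁻¹ : GL (Fin (m + m)) F) : Matrix (Fin (m + m)) (Fin (m + m)) F) *ᵥ w) e
      simpa [hG, Matrix.mulVec_mulVec] using this
    have hx : ∀ i, ((D i).map G).map (Matrix.toLin' (x : Matrix (Fin (m + m)) (Fin (m + m)) F)) = (D (σ i)).map G := by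
      intro i
      have h := congrArg (Submodule.map G) (hσ i)
      rw [← h, ← Submodule.map_comp, ← Submodule.map_comp, hG, ← Matrix.toLin'_mul, ← Matrix.toLin'_mul,
        ← Units.val_mul, ← Units.val_mul, show g * (g⁻¹ * x * g) = x * g by group]
    have hP' : CfsgLib.Elusive.UnitPairs.IsPair q ((D 0).map G) ((D 1).map G) := by
      refine CfsgLib.Elusive.UnitPairs.mk_pair hF ?_ ?_ ?_
      · rintro _ ⟨u, hu, rfl⟩ _ ⟨v, hv, rfl⟩
        exact (hg u v).trans (hP.singU u hu v hv)
      · rintro _ ⟨u, hu, rfl⟩ _ ⟨v, hv, rfl⟩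
        exact (hg u v).trans (hP.singW u hu v hv)
      · rw [← Submodule.map_sup, hP.compl.sup_eq_top, Submodule.map_top,
          LinearMap.range_eq_top.2 (LinearMap.injective_iff_surjective.1 hinj)]
    refine ⟨_, _, hP', ?_⟩
    rcases Fin.exists_fin_two.1 ⟨σ 0, rfl⟩ with h0 | h0
    · have h1 : σ 1 = 1 := by
        rcases Fin.exists_fin_two.1 ⟨σ 1, rfl⟩ with h1 | h1
        · exact absurd (σ.injective (h1.trans h0.symm)) (by decide)
        · exact h1
      exact Or.inl ⟨(hx 0).trans (by rw [h0]), (hx 1).trans (by rw [h1])⟩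
    · have h1 : σ 1 = 0 := by
        rcases Fin.exists_fin_two.1 ⟨σ 1, rfl⟩ with h1 | h1
        · exact h1
        · exact absurd (σ.injective (h1.trans h0.symm)) (by decide)
      exact Or.inr ⟨(hx 0).trans (by rw [h0]), (hx 1).trans (by rw [h1])⟩
  constructor
  · intro hall
    -- elements with an eigenspace of odd dimension
    have hbad : ∀ x ∈ Cfsg.GU (m + m) F q ⊓ Cfsg.Geo.specialLinear (Fin (m + m)) F,
        (∃ z : F, ((x ^ r : GL (Fin (m + m)) F) : Matrix (Fin (m + m)) (Fin (m + m)) F) = z • (1 : Matrix (Fin (m + m)) (Fin (m + m)) F)) →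
        ∀ lam : F, lam ^ (q + 1) = 1 →
        Odd (Module.finrank F (LinearMap.ker (Matrix.toLin' (x : Matrix (Fin (m + m)) (Fin (m + m)) F) - lam • LinearMap.id))) →
        (Odd r ∨ m < Module.finrank F (LinearMap.ker (Matrix.toLin' (x : Matrix (Fin (m + m)) (Fin (m + m)) F) - lam • LinearMap.id))) →
        False := by
      intro x hx hxz lam hlam hodd hor
      have hns : ∀ z : F, (x : Matrix (Fin (m + m)) (Fin (m + m)) F) ≠ z • (1 : Matrix (Fin (m + m)) (Fin (m + m)) F) := by
        intro z hz
        rw [hz, map_smul, Matrix.toLin'_one, show z • (LinearMap.id : (Fin (m + m) → F) →ₗ[F] (Fin (m + m) → F)) - lam • LinearMap.id =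
            (z - lam) • LinearMap.id from (sub_smul z lam _).symm] at hodd
        rcases eq_or_ne z lam with rfl | hne
        · rw [sub_self, zero_smul, LinearMap.ker_zero, finrank_top, Module.finrank_fin_fun] at hodd
          exact Nat.not_even_iff_odd.2 hodd ⟨m, rfl⟩
        · rw [LinearMap.ker_smul _ _ (sub_ne_zero.2 hne), LinearMap.ker_id, finrank_bot] at hodd
          exact Nat.not_even_iff_odd.2 hodd Even.zero
      obtain ⟨g, hg, hgm⟩ := hall x hx hxz hns
      obtain ⟨U, W, hUW, h | h⟩ := hwit x g hg.1 hgm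
      · exact Nat.not_even_iff_odd.2 hodd (CfsgLib.Elusive.UnitPairs.even_eigen hF hUW
          (fun u v => hx.1 u v) (fun u hu => h.1.le ⟨u, hu, rfl⟩) (fun u hu => h.2.le ⟨u, hu, rfl⟩) hlam)
      · rcases hor with hr | hr
        · obtain ⟨z, hz⟩ := hxz
          obtain ⟨k, hk⟩ := hr
          set T := Matrix.toLinAlgEquiv' (x : Matrix (Fin (m + m)) (Fin (m + m)) F) with hT
          have heven : ∀ k, U.map (T ^ (2 * k)) = U := by
            intro k
            induction k with
            | zero => simp [Module.End.one_eq_id]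
            | succ k ih =>
              rw [show 2 * (k + 1) = 1 + 1 + 2 * k by ring, pow_add, pow_add, pow_one, Module.End.mul_eq_comp,
                Module.End.mul_eq_comp, Submodule.map_comp, ih, Submodule.map_comp]
              exact (congrArg (Submodule.map T) h.1).trans h.2
          have h1 : U.map (T ^ r) = W := by
            rw [hk, pow_succ', Module.End.mul_eq_comp, Submodule.map_comp, heven]
            exact h.1
          have hle : W ≤ U := by
            rw [← h1]
            rintro _ ⟨u, hu, rfl⟩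
            rw [hT, ← map_pow, ← Units.val_pow_eq_pow_val, hz, map_smul, map_one]
            exact U.smul_mem z hu
          have := hUW.compl.inf_eq_bot
          rw [inf_eq_right.2 hle] at this
          have h2 := hUW.rankW
          rw [this, finrank_bot] at h2
          omega
        · exact absurd (CfsgLib.Elusive.UnitPairs.eigen_le_of_swap hF hUW h.1 lam) (not_le.2 hr)
    -- diagonal elements
    have hdiag : ∀ δ : Fin (m + m) → F, (∀ i, δ i ^ (q + 1) = 1) → ∏ i, δ i = 1 →
        (∃ z : F, ∀ i, δ i ^ r = z) → ∀ lam : F, lam ^ (q + 1) = 1 →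
        Odd (Finset.univ.filter fun i => δ i = lam).card →
        (Odd r ∨ m < (Finset.univ.filter fun i => δ i = lam).card) → False := by
      intro δ hδ hprod hz lam hlam hodd hor
      let u : Fin (m + m) → Fˣ := fun i => Units.mk0 (δ i) fun e => by
        have h := hδ i
        rw [e, zero_pow (Nat.succ_ne_zero q)] at h
        exact zero_ne_one h
      let x : GL (Fin (m + m)) F :=
        ⟨Matrix.diagonal δ, Matrix.diagonal fun i => ((u i)⁻¹ : Fˣ),
          by rw [Matrix.diagonal_mul_diagonal, ← Matrix.diagonal_one]; congr 1; funext i; exact (u i).mul_inv,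
          by rw [Matrix.diagonal_mul_diagonal, ← Matrix.diagonal_one]; congr 1; funext i; exact (u i).inv_mul⟩
      have hmul : ∀ v i, Matrix.toLin' (x : Matrix (Fin (m + m)) (Fin (m + m)) F) v i = δ i * v i := fun v i => by
        rw [Matrix.toLin'_apply]; exact Matrix.mulVec_diagonal δ v i
      have hd : Module.finrank F (LinearMap.ker (Matrix.toLin' (x : Matrix (Fin (m + m)) (Fin (m + m)) F) - lam • LinearMap.id)) =
          (Finset.univ.filter fun i => δ i = lam).card := by
        have hmem : ∀ v, v ∈ LinearMap.ker (Matrix.toLin' (x : Matrix (Fin (m + m)) (Fin (m + m)) F) - lam • LinearMap.id) ↔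
            ∀ i, δ i ≠ lam → v i = 0 := fun v => by
          rw [LinearMap.mem_ker, funext_iff]
          refine forall_congr' fun i => ?_
          rw [LinearMap.sub_apply, Pi.sub_apply, hmul, LinearMap.smul_apply, LinearMap.id_apply, Pi.smul_apply,
            smul_eq_mul, Pi.zero_apply, ← sub_mul, mul_eq_zero, sub_eq_zero, or_iff_not_imp_left]
        let e : LinearMap.ker (Matrix.toLin' (x : Matrix (Fin (m + m)) (Fin (m + m)) F) - lam • LinearMap.id) ≃ₗ[F]
            ({i // δ i = lam} → F) :=
          { toFun := fun v i => (v : Fin (m + m) → F) i.1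
            map_add' := fun _ _ => rfl
            map_smul' := fun _ _ => rfl
            invFun := fun w => ⟨fun i => if h : δ i = lam then w ⟨i, h⟩ else 0, (hmem _).2 fun i hi => dif_neg hi⟩
            left_inv := fun v => Subtype.ext (funext fun i => by
              show (if h : δ i = lam then (v : Fin (m + m) → F) i else 0) = _
              split
              · rfl
              · exact ((hmem _).1 v.2 i ‹_›).symm)
            right_inv := fun w => funext fun i => by
              show (if h : δ i.1 = lam then w ⟨i.1, h⟩ else 0) = _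
              rw [dif_pos i.2] }
        rw [e.finrank_eq, Module.finrank_fintype_fun_eq_card, Fintype.card_subtype]
      refine hbad x ⟨fun a b => ?_, ?_⟩ ?_ lam hlam (hd ▸ hodd) (hd ▸ hor)
      · show ∑ i, (Matrix.diagonal δ *ᵥ a) i * (Matrix.diagonal δ *ᵥ b) i ^ q = ∑ i, a i * b i ^ q
        refine Finset.sum_congr rfl fun i _ => ?_
        rw [Matrix.mulVec_diagonal, Matrix.mulVec_diagonal, mul_pow]
        linear_combination (a i * b i ^ q) * ((pow_succ' (δ i) q).symm.trans (hδ i))
      · refine CfsgLib.Geo.mem_specialLinear.2 ?_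
        show (Matrix.diagonal δ).det = 1
        rw [Matrix.det_diagonal, hprod]
      · obtain ⟨z, hz⟩ := hz
        refine ⟨z, ?_⟩
        show Matrix.diagonal δ ^ r = _
        rw [Matrix.diagonal_pow, ← Matrix.diagonal_one, ← Matrix.diagonal_smul]
        congr 1
        funext i
        simpa using hz i
    by_cases hrp : r = p
    · -- a transvection
      exfalso
      obtain ⟨a, ha⟩ := CfsgLib.Forms.finite_norm_surjective (CfsgLib.Forms.frobQ_ne_id hF)
        (CfsgLib.Forms.frobQ_invol hF) (-1 : F) (by simp) (by simp)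
      rw [CfsgLib.Forms.frobQ_apply] at ha
      obtain ⟨t, ht⟩ : ∃ t : F, t ^ q ≠ t := by
        by_contra hcon
        push Not at hcon
        exact CfsgLib.Forms.frobQ_ne_id hF (RingHom.ext fun t => (CfsgLib.Forms.frobQ_apply hF t).trans (hcon t))
      have hc : (t - t ^ q) + (t - t ^ q) ^ q = 0 := by
        have h1 : (t ^ q) ^ q = t := CfsgLib.Forms.pow_q_q hF t
        rw [← CfsgLib.Forms.frobQ_apply hF (t - t ^ q), map_sub, CfsgLib.Forms.frobQ_apply,
          CfsgLib.Forms.frobQ_apply, h1]
        ring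
      set c := t - t ^ q with hcdef
      have hc0 : c ≠ 0 := fun e => ht (sub_eq_zero.1 e).symm
      set i₀ : Fin (m + m) := ⟨0, by omega⟩
      set i₁ : Fin (m + m) := ⟨1, by omega⟩
      set v : Fin (m + m) → F := Pi.single i₀ 1 + a • Pi.single i₁ 1 with hv
      have h01 : i₀ ≠ i₁ := fun e => by simpa [i₀, i₁] using congrArg Fin.val e
      have hv0 : Cfsg.hermForm (m + m) F q v v = 0 := by
        rw [Cfsg.hermForm, Finset.sum_eq_add i₀ i₁ h01 (fun i _ hi => by simp [hv, hi.1, hi.2])
          (fun h => absurd (Finset.mem_univ _) h) (fun h => absurd (Finset.mem_univ _) h)]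
        simp [hv, h01, h01.symm]
        linear_combination ha
      have hvne : v ≠ 0 := fun e => by
        have := congrFun e i₀
        simp [hv, h01] at this
      let x : GL (Fin (m + m)) F := CfsgLib.Geo.UTv.suToGL (CfsgLib.Unitary.suTv (m + m) v c hv0 hc hF)
      have hmul : ∀ u, (x : Matrix (Fin (m + m)) (Fin (m + m)) F) *ᵥ u = u + (c * Cfsg.hermForm (m + m) F q u v) • v :=
        fun u => CfsgLib.Unitary.utv_mulVec v c u
      have hpow : ∀ (k : ℕ) u, ((x : Matrix (Fin (m + m)) (Fin (m + m)) F) ^ k) *ᵥ u =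
          u + ((k : F) * (c * Cfsg.hermForm (m + m) F q u v)) • v := by
        intro k
        induction k with
        | zero => intro u; simp
        | succ k ih =>
          intro u
          rw [pow_succ', ← Matrix.mulVec_mulVec, ih, hmul, CfsgLib.Unitary.herm_add_left,
            CfsgLib.Unitary.herm_smul_left, hv0, mul_zero, add_zero, Nat.cast_succ, add_assoc, ← add_smul]
          congr 2
          ring
      have hker : LinearMap.ker (Matrix.toLin' (x : Matrix (Fin (m + m)) (Fin (m + m)) F) - (1 : F) • LinearMap.id) =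
          CfsgLib.Geo.UTv.perp q (F ∙ v) := by
        ext u
        rw [LinearMap.mem_ker, LinearMap.sub_apply, Matrix.toLin'_apply, hmul, one_smul, LinearMap.id_apply,
          add_sub_cancel_left, smul_eq_zero, or_iff_left hvne, mul_eq_zero, or_iff_right hc0]
        constructor
        · intro h w hw
          obtain ⟨s, rfl⟩ := Submodule.mem_span_singleton.1 hw
          rw [CfsgLib.Elusive.UnitPairs.herm_smul_right hF, h, mul_zero]
        · intro h
          exact h v (Submodule.mem_span_singleton_self v)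
      have hdim := CfsgLib.Geo.UTv.finrank_perp hF (F ∙ v)
      rw [finrank_span_singleton hvne, ← hker] at hdim
      refine hbad x ⟨(CfsgLib.Geo.UTv.suToGL_mem _).1, (CfsgLib.Geo.UTv.suToGL_mem _).2⟩ ⟨1, ?_⟩ 1 (one_pow _)
        ⟨m - 1, by omega⟩ (Or.inr (by omega))
      rw [one_smul, Units.val_pow_eq_pow_val]
      refine Matrix.ext_iff_smul.mpr fun u => ?_
      rw [Matrix.smul_eq_mulVec, Matrix.smul_eq_mulVec, hpow, hrp, CharP.cast_eq_zero, zero_mul, zero_smul, add_zero,
        Matrix.one_mulVec]
    rcases hrr.eq_two_or_odd' with rfl | hrodd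
    · -- involutions
      obtain ⟨k, -, hk⟩ := FiniteField.card F p
      have hpodd : Odd p := hpp.odd_of_ne_two (Ne.symm hrp)
      have hqodd : Odd q := by
        have h : Odd (q ^ 2) := by rw [← hq, hk]; exact hpodd.pow
        exact (Nat.odd_pow_iff (by omega)).1 h
      refine ⟨rfl, hqodd, ?_⟩
      by_contra hlt
      push Not at hlt
      set a := padicValNat 2 (m + m) with ha
      have hdvd : 2 ^ (a + 1) ∣ q + 1 := (pow_dvd_pow 2 hlt).trans pow_padicValNat_dvd
      have hcardu : 2 ^ (a + 1) ∣ Fintype.card Fˣ := by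
        rw [Fintype.card_units, hq]
        refine hdvd.trans ⟨q - 1, ?_⟩
        rw [← Nat.sq_sub_sq q 1, one_pow]
      obtain ⟨g₀, hg₀⟩ := IsCyclic.exists_ofOrder_eq_natCard (α := Fˣ)
      obtain ⟨s, hs⟩ := hcardu
      have hlam : ((g₀ ^ s : Fˣ) : F) ^ (2 ^ a) = -1 := by
        have hord : (g₀ ^ s) ^ (2 ^ (a + 1)) = 1 := by
          rw [← pow_mul, mul_comm, ← hs, ← Nat.card_eq_fintype_card, ← hg₀, pow_orderOf_eq_one]
        have hne : (g₀ ^ s) ^ (2 ^ a) ≠ 1 := by
          rw [← pow_mul, Ne, ← orderOf_dvd_iff_pow_eq_one, hg₀, Nat.card_eq_fintype_card, hs]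
          intro h
          have hs0 : 0 < s := Nat.pos_of_ne_zero fun e => by
            rw [e, mul_zero] at hs
            exact Fintype.card_ne_zero hs
          have := Nat.le_of_dvd (Nat.mul_pos hs0 (Nat.two_pow_pos a)) h
          rw [pow_succ] at this
          have := Nat.mul_pos hs0 (Nat.two_pow_pos a)
          nlinarith
        have h2 : (((g₀ ^ s : Fˣ) : F) ^ (2 ^ a)) * (((g₀ ^ s : Fˣ) : F) ^ (2 ^ a)) = 1 := by
          rw [← pow_add, show 2 ^ a + 2 ^ a = 2 ^ (a + 1) by ring, ← Units.val_pow_eq_pow_val, hord, Units.val_one]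
        exact (mul_self_eq_one_iff.1 h2).resolve_left fun e => hne (Units.ext (by rwa [Units.val_pow_eq_pow_val]))
      set lam := ((g₀ ^ s : Fˣ) : F) with hlamdef
      obtain ⟨t, ht⟩ : 2 ^ a ∣ m + m := pow_padicValNat_dvd
      have htodd : Odd t := by
        rw [← Nat.not_even_iff_odd]
        rintro ⟨u, rfl⟩
        have hd : 2 ^ (a + 1) ∣ m + m := ⟨u, by rw [ht]; ring⟩
        have := (padicValNat_dvd_iff_le (by omega)).1 hd
        omega
      have hlamn : lam ^ (m + m) = -1 := by rw [ht, pow_mul, hlam, htodd.neg_one_pow]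
      have hlamq : lam ^ (q + 1) = 1 := by
        obtain ⟨u, hu⟩ := hdvd
        rw [hu, pow_succ, mul_assoc, pow_mul, hlam, pow_mul, neg_one_sq, one_pow]
      have h2F : (2 : F) ≠ 0 := Ring.two_ne_zero (by
        rw [ringChar.eq F p]; exact Ne.symm hrp)
      have hlamne : -lam ≠ lam := fun e => by
        have h : (2 : F) * lam = 0 := by linear_combination -e
        exact (g₀ ^ s).ne_zero ((mul_eq_zero.1 h).resolve_left h2F)
      let i₀ : Fin (m + m) := ⟨0, by omega⟩
      have hcard : (Finset.univ.filter fun i => (if i = i₀ then -lam else lam) = lam).card = m + m - 1 := by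
        rw [show (Finset.univ.filter fun i => (if i = i₀ then -lam else lam) = lam) = Finset.univ.erase i₀ by
          ext i
          by_cases h : i = i₀ <;> simp [h, hlamne], Finset.card_erase_of_mem (Finset.mem_univ _), Finset.card_univ,
          Fintype.card_fin]
      refine hdiag (fun i => if i = i₀ then -lam else lam) ?_ ?_ ⟨lam ^ 2, fun i => ?_⟩ lam hlamq
        (by rw [hcard]; exact ⟨m - 1, by omega⟩) (Or.inr (by rw [hcard]; omega))
      · intro i
        show (if i = i₀ then -lam else lam) ^ (q + 1) = 1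
        split
        · rw [neg_pow, hlamq, mul_one, (hqodd.add_one).neg_one_pow]
        · exact hlamq
      · rw [← Finset.mul_prod_erase _ _ (Finset.mem_univ i₀), if_pos rfl,
          Finset.prod_congr rfl (g := fun _ => lam) (fun i hi => if_neg (Finset.ne_of_mem_erase hi)),
          Finset.prod_const, Finset.card_erase_of_mem (Finset.mem_univ _), Finset.card_univ, Fintype.card_fin,
          neg_mul, ← pow_succ', Nat.sub_add_cancel (by omega), hlamn, neg_neg]
      · show (if i = i₀ then -lam else lam) ^ 2 = lam ^ 2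
        split <;> ring
    · exfalso
      -- the index
      obtain ⟨L, hL⟩ : ∃ L : Subgroup (Cfsg.GU (m + m) F q), ∀ g, g ∈ L ↔
          (D 0).map (Matrix.toLin' (g.1 : Matrix (Fin (m + m)) (Fin (m + m)) F)) = D 0 ∧
          (D 1).map (Matrix.toLin' (g.1 : Matrix (Fin (m + m)) (Fin (m + m)) F)) = D 1 := by
        have hone : ∀ S : Submodule F (Fin (m + m) → F),
            S.map (Matrix.toLin' (((1 : Cfsg.GU (m + m) F q).1 : GL (Fin (m + m)) F) : Matrix (Fin (m + m)) (Fin (m + m)) F)) = S :=
          fun S => by simp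
        have hmul : ∀ (S : Submodule F (Fin (m + m) → F)) (g g' : Cfsg.GU (m + m) F q),
            S.map (Matrix.toLin' (g.1 : Matrix (Fin (m + m)) (Fin (m + m)) F)) = S →
            S.map (Matrix.toLin' (g'.1 : Matrix (Fin (m + m)) (Fin (m + m)) F)) = S →
            S.map (Matrix.toLin' ((g * g').1 : Matrix (Fin (m + m)) (Fin (m + m)) F)) = S := fun S g g' h h' => by
          rw [Subgroup.coe_mul, Units.val_mul, Matrix.toLin'_mul, Submodule.map_comp, h', h]
        have hinv : ∀ (S : Submodule F (Fin (m + m) → F)) (g : Cfsg.GU (m + m) F q),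
            S.map (Matrix.toLin' (g.1 : Matrix (Fin (m + m)) (Fin (m + m)) F)) = S →
            S.map (Matrix.toLin' ((g⁻¹).1 : Matrix (Fin (m + m)) (Fin (m + m)) F)) = S := fun S g h => by
          conv_lhs => rw [← h]
          rw [← Submodule.map_comp, ← Matrix.toLin'_mul, InvMemClass.coe_inv, Units.inv_mul, Matrix.toLin'_one,
            Submodule.map_id]
        exact ⟨{
          carrier := {g | (D 0).map (Matrix.toLin' (g.1 : Matrix (Fin (m + m)) (Fin (m + m)) F)) = D 0 ∧
            (D 1).map (Matrix.toLin' (g.1 : Matrix (Fin (m + m)) (Fin (m + m)) F)) = D 1}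
          one_mem' := ⟨hone _, hone _⟩
          mul_mem' := fun {g g'} h h' => ⟨hmul _ g g' h.1 h'.1, hmul _ g g' h.2 h'.2⟩
          inv_mem' := fun {g} h => ⟨hinv _ g h.1, hinv _ g h.2⟩ }, fun g => Iff.rfl⟩
      let K : Subgroup (Cfsg.GU (m + m) F q) := (CfsgLib.Unitary.detGU (F := F) (q := q) (m + m)).ker
      have hK : K.map (Cfsg.GU (m + m) F q).subtype = Cfsg.GU (m + m) F q ⊓ Cfsg.Geo.specialLinear (Fin (m + m)) F := by
        ext g
        constructor
        · rintro ⟨g', hg', rfl⟩
          refine ⟨g'.2, CfsgLib.Geo.mem_specialLinear.2 ?_⟩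
          exact congrArg Units.val (MonoidHom.mem_ker.1 hg')
        · rintro ⟨hg, hg'⟩
          exact ⟨⟨g, hg⟩, MonoidHom.mem_ker.2 (Units.ext (CfsgLib.Geo.mem_specialLinear.1 hg')), rfl⟩
      have hr1 : r ∣ L.relIndex K := by
        refine hΩ.trans ?_
        rw [← hK, ← Subgroup.relIndex_map_map_of_injective L K (Cfsg.GU (m + m) F q).subtype_injective]
        refine Subgroup.relIndex_dvd_of_le_left _ ?_
        rintro _ ⟨g, hg, rfl⟩
        exact ⟨1, Fin.forall_fin_two.2 ((hL g).1 hg)⟩
      have hr2 : L.relIndex K ∣ L.index := by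
        have h1 := Subgroup.relIndex_mul_index (inf_le_right : L ⊓ K ≤ K)
        have h2 := Subgroup.relIndex_mul_index (inf_le_left : L ⊓ K ≤ L)
        rw [Subgroup.inf_relIndex_right] at h1
        rw [Subgroup.inf_relIndex_left] at h2
        have h3 : K.relIndex L ∣ K.index := Subgroup.relIndex_dvd_index_of_normal K L
        have h4 : L.relIndex K * K.index ∣ L.index * K.index := by
          rw [h1, ← h2, mul_comm L.index K.index]
          exact mul_dvd_mul_right h3 _
        exact Nat.dvd_of_mul_dvd_mul_right (Nat.pos_of_ne_zero Subgroup.index_ne_zero_of_finite) h4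
      have hr3 : r * Nat.card (GL (Fin m) F) ∣ Nat.card (Cfsg.GU (m + m) F q) := by
        rw [← L.index_mul_card]
        exact mul_dvd_mul (hr1.trans hr2) (CfsgLib.Elusive.UnitPairs.card_GL_dvd hF hP hL)
      have hGL : Nat.card (GL (Fin m) F) =
          (∏ i ∈ Finset.range m, (q ^ 2) ^ i) * ∏ i ∈ Finset.range m, (q ^ (2 * i + 1 + 1) - 1) := by
        rw [← Finset.prod_range_reflect (fun i => q ^ (2 * i + 1 + 1) - 1) m, ← Finset.prod_mul_distrib,
          Matrix.card_GL_field, ← Nat.card_eq_fintype_card, hF,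
          Fin.prod_univ_eq_prod_range (fun i => (q ^ 2) ^ m - (q ^ 2) ^ i)]
        refine Finset.prod_congr rfl fun i hi => ?_
        have hi' := Finset.mem_range.1 hi
        rw [Nat.mul_sub, mul_one, ← pow_mul, ← pow_mul, ← pow_add]
        congr 2
        omega
      have hsplit : ∀ k, ∏ i ∈ Finset.range (k + k), (if Even i then q ^ (i + 1) + 1 else q ^ (i + 1) - 1) =
          (∏ i ∈ Finset.range k, (q ^ (2 * i + 1) + 1)) * ∏ i ∈ Finset.range k, (q ^ (2 * i + 1 + 1) - 1) := by
        intro k
        induction k with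
        | zero => simp
        | succ k ih =>
          rw [show k + 1 + (k + 1) = k + k + 1 + 1 by omega, Finset.prod_range_succ, Finset.prod_range_succ, ih,
            Finset.prod_range_succ, Finset.prod_range_succ, if_pos ⟨k, rfl⟩,
            if_neg (Nat.not_even_iff_odd.2 ⟨k, by omega⟩), show k + k = 2 * k by omega]
          ring
      rw [hGL, CfsgLib.Unitary.card_GU hF, hsplit, ← mul_assoc, ← mul_assoc] at hr3
      have hpos : 0 < ∏ i ∈ Finset.range m, (q ^ (2 * i + 1 + 1) - 1) :=
        Finset.prod_pos fun i _ => Nat.sub_pos_of_lt (Nat.one_lt_pow (by omega) (by omega))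
      have hr4 := (dvd_mul_right r _).trans (Nat.dvd_of_mul_dvd_mul_right hpos hr3)
      have hrq : ¬ r ∣ q := fun h => by
        obtain ⟨k, -, hk⟩ := FiniteField.card F p
        have h1 : r ∣ p ^ (k : ℕ) := by rw [← hk, hq]; exact h.trans (dvd_pow_self q two_ne_zero)
        exact hrp ((Nat.prime_dvd_prime_iff_eq hrr hpp).1 (hrr.dvd_of_dvd_pow h1))
      obtain ⟨e, he, hre⟩ : ∃ e, e < m ∧ r ∣ q ^ (2 * e + 1) + 1 := by
        rcases hrr.dvd_mul.1 hr4 with h | h
        · exact absurd (hrr.dvd_of_dvd_pow h) hrq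
        · obtain ⟨e, he, hre⟩ := (hrr.prime.dvd_finsetProd_iff _).1 h
          exact ⟨e, Finset.mem_range.1 he, hre⟩
      set Q : ZMod r := ((q : ℕ) : ZMod r) with hQ
      have hQe : Q ^ (2 * e + 1) = -1 := by
        have h1 := (ZMod.natCast_eq_zero_iff _ r).2 hre
        push_cast at h1
        exact eq_neg_of_add_eq_zero_left h1
      set j := orderOf (((Fintype.card F : ℕ) : ZMod r)) with hj
      have hQ2 : ((Fintype.card F : ℕ) : ZMod r) = Q ^ 2 := by rw [hq, Nat.cast_pow]
      have hje : j ∣ 2 * e + 1 := orderOf_dvd_of_pow_eq_one (by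
        rw [hQ2, ← pow_mul, mul_comm, pow_mul, hQe, neg_one_sq])
      obtain ⟨j', hj'⟩ : Odd j := Odd.of_dvd_nat ⟨e, rfl⟩ hje
      have hjle : j ≤ 2 * e + 1 := Nat.le_of_dvd (by omega) hje
      have h2r : (2 : ZMod r) ≠ 0 := fun h => by
        have h' : ((2 : ℕ) : ZMod r) = 0 := h
        rw [ZMod.natCast_eq_zero_iff] at h'
        obtain ⟨c, hc⟩ := hrodd
        have := Nat.le_of_dvd (by omega) h'
        have := hrr.two_le
        omega
      have hQj : Q ^ j = -1 := by
        have h1 : Q ^ j * Q ^ j = 1 := by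
          rw [← mul_pow, ← pow_two, ← hQ2, hj, pow_orderOf_eq_one]
        refine (mul_self_eq_one_iff.1 h1).resolve_left fun h => h2r ?_
        obtain ⟨c, hc⟩ := hje
        rw [hc, pow_mul, h, one_pow] at hQe
        linear_combination hQe
      have hrj : r ∣ q ^ j + 1 := (ZMod.natCast_eq_zero_iff _ r).1 (by push_cast; rw [← hQ, hQj, neg_add_cancel])
      have hcardU : r ∣ Nat.card (Cfsg.GU j F q) := by
        rw [CfsgLib.Unitary.card_GU hF]
        refine dvd_mul_of_dvd_right (dvd_trans ?_ (Finset.dvd_prod_of_mem _ (Finset.mem_range.2 (show j - 1 < j by omega)))) _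
        rw [if_pos ⟨j', by omega⟩, Nat.sub_add_cancel (by omega)]
        exact hrj
      by_cases hj1 : j = 1
      · -- a diagonal element
        rw [hj1, pow_one] at hrj
        have hdvd : r ∣ Fintype.card Fˣ := by
          rw [Fintype.card_units, hq]
          exact hrj.trans ⟨q - 1, by rw [← Nat.sq_sub_sq q 1, one_pow]⟩
        obtain ⟨ζ, hζ⟩ := exists_prime_orderOf_dvd_card r hdvd
        have hζr : (ζ : F) ^ r = 1 := by rw [← Units.val_pow_eq_pow_val, ← hζ, pow_orderOf_eq_one, Units.val_one]
        obtain ⟨c, hc⟩ := hrj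
        have hζq : (ζ : F) ^ (q + 1) = 1 := by rw [hc, pow_mul, hζr, one_pow]
        have hζ1 : ((ζ⁻¹ : Fˣ) : F) ≠ ζ := fun e => by
          have h : ζ ^ 2 = 1 := by
            have := congrArg (ζ * ·) (Units.ext e : ζ⁻¹ = ζ)
            simp only [mul_inv_cancel] at this
            rw [pow_two, ← this]
          have h1 := Nat.le_of_dvd two_pos (hζ ▸ orderOf_dvd_of_pow_eq_one h)
          obtain ⟨c', hc'⟩ := hrodd
          have := hrr.two_le
          omega
        have hζone : (1 : F) ≠ ζ := fun e => by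
          rw [show ζ = 1 from Units.ext e.symm, orderOf_one] at hζ
          exact hrr.one_lt.ne hζ
        let i₀ : Fin (m + m) := ⟨0, by omega⟩
        let i₁ : Fin (m + m) := ⟨1, by omega⟩
        have h01 : i₀ ≠ i₁ := fun e => by simpa [i₀, i₁] using congrArg Fin.val e
        let δ : Fin (m + m) → F := fun i => if i = i₀ then (ζ : F) else if i = i₁ then ((ζ⁻¹ : Fˣ) : F) else 1
        refine hdiag δ ?_ ?_ ⟨1, ?_⟩ ζ hζq ?_ (Or.inl hrodd)
        · intro i
          show (if i = i₀ then (ζ : F) else if i = i₁ then ((ζ⁻¹ : Fˣ) : F) else 1) ^ (q + 1) = 1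
          split
          · exact hζq
          · split
            · rw [Units.val_inv_eq_inv_val, inv_pow, hζq, inv_one]
            · exact one_pow _
        · rw [Finset.prod_eq_mul i₀ i₁ h01 (fun i _ hi => by simp [δ, hi.1, hi.2])
            (fun h => absurd (Finset.mem_univ _) h) (fun h => absurd (Finset.mem_univ _) h)]
          simp [δ, h01.symm]
        · intro i
          show (if i = i₀ then (ζ : F) else if i = i₁ then ((ζ⁻¹ : Fˣ) : F) else 1) ^ r = 1
          split
          · exact hζr
          · split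
            · rw [Units.val_inv_eq_inv_val, inv_pow, hζr, inv_one]
            · exact one_pow _
        · rw [show (Finset.univ.filter fun i => δ i = (ζ : F)) = {i₀} by
            ext i
            by_cases h0 : i = i₀
            · simp [δ, h0]
            · by_cases h1 : i = i₁
              · subst h1
                rw [Finset.mem_filter, Finset.mem_singleton]
                simp only [δ, if_neg h0, if_pos, Finset.mem_univ, true_and, h0, iff_false]
                exact hζ1
              · simp [δ, h0, h1, hζone], Finset.card_singleton]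
          exact odd_one
      · -- a fixed-point-free element on a non-degenerate subspace
        obtain ⟨b, hb⟩ : ∃ b, m + m = j + b := ⟨m + m - j, by omega⟩
        obtain ⟨g, hg⟩ := exists_prime_orderOf_dvd_card' r hcardU
        have hgr : g ^ r = 1 := by rw [← hg, pow_orderOf_eq_one]
        have hdetg : Matrix.GeneralLinearGroup.det g.1 = 1 := by
          have h1 := CfsgLib.Unitary.det_GU hF g.2
          have h2 : Matrix.GeneralLinearGroup.det g.1 ^ r = 1 := by
            rw [← map_pow, ← SubmonoidClass.coe_pow, hgr, OneMemClass.coe_one, map_one]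
          have hco : Nat.Coprime r (q + 1) := (Nat.Prime.coprime_iff_not_dvd hrr).2 fun h => hj1 (by
            have h' := (ZMod.natCast_eq_zero_iff _ r).2 h
            push_cast at h'
            rw [hj, orderOf_eq_one_iff, hQ2, hQ, eq_neg_of_add_eq_zero_left h', neg_one_sq])
          have h3 := orderOf_dvd_of_pow_eq_one h1
          have h4 := orderOf_dvd_of_pow_eq_one h2
          exact orderOf_eq_one_iff.1 (Nat.eq_one_of_dvd_coprimes hco h4 h3)
        set f := Matrix.toLin' (g.1 : Matrix (Fin j) (Fin j) F) with hf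
        have hfr : f ^ r = 1 := by
          show Matrix.toLinAlgEquiv' (g.1 : Matrix (Fin j) (Fin j) F) ^ r = 1
          rw [← map_pow, ← Units.val_pow_eq_pow_val, ← SubmonoidClass.coe_pow, hgr, OneMemClass.coe_one, Units.val_one,
            map_one]
        have hr0 : (r : F) ≠ 0 := fun h => hrp ((Nat.prime_dvd_prime_iff_eq hpp hrr).1 ((CharP.cast_eq_zero_iff F p r).1 h)).symm
        have hmd := CfsgLib.Elusive.mov_dvd hfr hr0 (W := ⊤) (fun v _ => Submodule.mem_top)
        rw [Submodule.map_top, ← hj] at hmd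
        have hsum := CfsgLib.Elusive.fix_add_mov (f := f)
        rw [Module.finrank_fin_fun, CfsgLib.Elusive.movS] at hsum
        have hfix : CfsgLib.Elusive.fixS f = ⊥ := by
          rcases Nat.eq_zero_or_pos (Module.finrank F (LinearMap.range (f - 1))) with h0 | h0
          · exfalso
            rw [Submodule.finrank_eq_zero, LinearMap.range_eq_bot, sub_eq_zero] at h0
            have : g = 1 := Subtype.ext (Units.ext (Matrix.toLin'.injective (h0.trans Matrix.toLin'_one.symm)))
            rw [this, orderOf_one] at hg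
            exact hrr.one_lt.ne hg
          · have := Nat.le_of_dvd h0 hmd
            exact Submodule.finrank_eq_zero.1 (by omega)
        obtain ⟨x, hxU, hxd, hxr, hxk⟩ : ∃ x : GL (Fin (m + m)) F, x ∈ Cfsg.GU (m + m) F q ∧
            x ∈ Cfsg.Geo.specialLinear (Fin (m + m)) F ∧ x ^ r = 1 ∧
            Module.finrank F (LinearMap.ker (Matrix.toLin' (x : Matrix (Fin (m + m)) (Fin (m + m)) F) - (1 : F) • LinearMap.id)) = b := by
          rw [hb]
          let ψ := (CfsgLib.Unitary.blkHom (F := F) (q := q) (k := j) (m := b))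
          refine ⟨(ψ (g, 1)).1, (ψ (g, 1)).2, ?_, ?_, ?_⟩
          · rw [CfsgLib.Geo.mem_specialLinear]
            show (CfsgLib.Unitary.blkMat (g.1 : Matrix (Fin j) (Fin j) F) (1 : Matrix (Fin b) (Fin b) F)).det = 1
            rw [CfsgLib.Unitary.blkMat, Matrix.det_reindex_self, Matrix.det_fromBlocks_zero₂₁, Matrix.det_one, mul_one,
              ← Matrix.GeneralLinearGroup.val_det_apply, hdetg, Units.val_one]
          · rw [← SubmonoidClass.coe_pow, ← map_pow, Prod.pow_mk, hgr, one_pow, Prod.mk_one_one, map_one,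
              OneMemClass.coe_one]
          · have hmv := fun v => CfsgLib.Unitary.blkMat_mulVec (g.1 : Matrix (Fin j) (Fin j) F) (1 : Matrix (Fin b) (Fin b) F) v
            have hmem : ∀ v, v ∈ LinearMap.ker (Matrix.toLin' ((ψ (g, 1)).1 : Matrix (Fin (j + b)) (Fin (j + b)) F) - (1 : F) • LinearMap.id) ↔
                v ∘ Fin.castAdd b = 0 := by
              intro v
              rw [LinearMap.mem_ker, LinearMap.sub_apply, Matrix.toLin'_apply, one_smul, LinearMap.id_apply, sub_eq_zero]
              show CfsgLib.Unitary.blkMat (g.1 : Matrix (Fin j) (Fin j) F) (1 : Matrix (Fin b) (Fin b) F) *ᵥ v = v ↔ _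
              constructor
              · intro h
                have h1 := (hmv v).1
                rw [h] at h1
                have h2 : v ∘ Fin.castAdd b ∈ CfsgLib.Elusive.fixS f :=
                  CfsgLib.Elusive.mem_fixS.2 ((Matrix.toLin'_apply _ _).trans h1.symm)
                rwa [hfix, Submodule.mem_bot] at h2
              · intro h
                funext i
                induction i using Fin.addCases with
                | left i =>
                  have h1 := congrFun (hmv v).1 i
                  rw [h, Matrix.mulVec_zero] at h1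
                  exact h1.trans (congrFun h i).symm
                | right i =>
                  have h1 := congrFun (hmv v).2 i
                  rw [Matrix.one_mulVec] at h1
                  exact h1
            have hk : LinearMap.ker (Matrix.toLin' ((ψ (g, 1)).1 : Matrix (Fin (j + b)) (Fin (j + b)) F) - (1 : F) • LinearMap.id) =
                LinearMap.ker (LinearMap.funLeft F F (Fin.castAdd b : Fin j → Fin (j + b))) := by
              ext v
              exact hmem v
            rw [hk]
            have h1 := LinearMap.finrank_range_add_finrank_ker (LinearMap.funLeft F F (Fin.castAdd b : Fin j → Fin (j + b)))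
            rw [LinearMap.range_eq_top.2 (LinearMap.funLeft_surjective_of_injective F F _ (Fin.castAdd_injective j b)),
              finrank_top, Module.finrank_fin_fun, Module.finrank_fin_fun] at h1
            omega
        refine hbad x ⟨hxU, hxd⟩ ⟨1, by rw [hxr, one_smul, Units.val_one]⟩ 1 (one_pow _) ?_ (Or.inl hrodd)
        rw [hxk]
        exact ⟨m - 1 - j', by omega⟩
  · rintro ⟨rfl, hqodd, hcond⟩ x hx ⟨z, hz⟩ -
    have h2F : (2 : F) ≠ 0 := fun e => by
      haveI := CharTwo.of_one_ne_zero_of_two_eq_zero (R := F) one_ne_zero e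
      obtain ⟨k, -, hk⟩ := FiniteField.card F 2
      have h : Odd (q ^ 2) := hqodd.pow
      rw [← hq, hk] at h
      exact Nat.not_even_iff_odd.2 h (Nat.even_pow.2 ⟨even_two, k.ne_zero⟩)
    set T := Matrix.toLin' (x : Matrix (Fin (m + m)) (Fin (m + m)) F) with hT
    have hTT : ∀ v, T (T v) = z • v := fun v => by
      rw [hT, Matrix.toLin'_apply, Matrix.toLin'_apply, Matrix.mulVec_mulVec, ← Units.val_mul, ← pow_two, hz,
        Matrix.smul_mulVec, Matrix.one_mulVec]
    have hiso : ∀ u v, Cfsg.hermForm (m + m) F q (T u) (T v) = Cfsg.hermForm (m + m) F q u v := fun u v => hx.1 u v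
    have hsingle : Cfsg.hermForm (m + m) F q (Pi.single ⟨0, by omega⟩ 1) (Pi.single ⟨0, by omega⟩ 1) = 1 := by
      rw [CfsgLib.Unitary.herm_single_single, one_pow, mul_one]
    have hzq : z ^ (q + 1) = 1 := by
      have h := (hiso (T (Pi.single ⟨0, by omega⟩ 1)) (T (Pi.single ⟨0, by omega⟩ 1))).trans
        ((hiso (Pi.single ⟨0, by omega⟩ 1) (Pi.single ⟨0, by omega⟩ 1)).trans hsingle)
      rw [hTT, CfsgLib.Unitary.herm_smul_left, CfsgLib.Elusive.UnitPairs.herm_smul_right hF, hsingle, mul_one,
        ← pow_succ'] at h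
      exact h
    have hz0 : z ≠ 0 := fun e => by rw [e, zero_pow (Nat.succ_ne_zero q)] at hzq; exact zero_ne_one hzq
    obtain ⟨lam, hlam⟩ : IsSquare z := by
      obtain ⟨c, hc⟩ := hqodd
      refine (FiniteField.isSquare_iff (fun h => h2F (by
        haveI : CharP F 2 := ringChar.of_eq h
        exact CharP.cast_eq_zero F 2)) hz0).2 ?_
      rw [hq, hc, show (2 * c + 1) ^ 2 / 2 = (2 * c + 1 + 1) * c by
        rw [show (2 * c + 1) ^ 2 = 1 + 2 * ((2 * c + 1 + 1) * c) by ring]; omega, pow_mul, ← hc, hzq, one_pow]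
    have hl0 : lam ≠ 0 := fun e => hz0 (by rw [hlam, e, mul_zero])
    have h2q : (lam ^ (q + 1)) * (lam ^ (q + 1)) = 1 := by rw [← mul_pow, ← hlam, hzq]
    set Ep := LinearMap.ker (T - lam • LinearMap.id) with hEp
    set Em := LinearMap.ker (T + lam • LinearMap.id) with hEm
    have hmp : ∀ v, v ∈ Ep ↔ T v = lam • v := fun v => by
      rw [hEp, LinearMap.mem_ker, LinearMap.sub_apply, LinearMap.smul_apply, LinearMap.id_apply, sub_eq_zero]
    have hmm : ∀ v, v ∈ Em ↔ T v = -(lam • v) := fun v => by
      rw [hEm, LinearMap.mem_ker, LinearMap.add_apply, LinearMap.smul_apply, LinearMap.id_apply, eq_neg_iff_add_eq_zero]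
    have hc : IsCompl Ep Em := by
      refine ⟨Submodule.disjoint_def.2 fun v h1 h2 => ?_, codisjoint_iff.2 (eq_top_iff.2 fun v _ => ?_)⟩
      · have h3 := ((hmp v).1 h1).symm.trans ((hmm v).1 h2)
        have h4 : ((2 : F) * lam) • v = 0 := by rw [mul_smul, two_smul]; nth_rw 1 [h3]; rw [neg_add_cancel]
        exact (smul_eq_zero.1 h4).resolve_left (mul_ne_zero h2F hl0)
      · refine Submodule.mem_sup.2 ⟨((2 : F) * lam)⁻¹ • (lam • v + T v), ?_, ((2 : F) * lam)⁻¹ • (lam • v - T v), ?_, ?_⟩
        · rw [hmp, map_smul, map_add, map_smul, hTT, hlam]; module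
        · rw [hmm, map_smul, map_sub, map_smul, hTT, hlam]; module
        · rw [← smul_add, show lam • v + T v + (lam • v - T v) = ((2 : F) * lam) • v by module, smul_smul,
            inv_mul_cancel₀ (mul_ne_zero h2F hl0), one_smul]
    have hsd : ∀ {a b : F} {u v : Fin (m + m) → F}, T u = a • u → T v = b • v → a * b ^ q ≠ 1 →
        Cfsg.hermForm (m + m) F q u v = 0 := by
      intro a b u v hu hv hne
      have h := hiso u v
      rw [hu, hv, CfsgLib.Unitary.herm_smul_left, CfsgLib.Elusive.UnitPairs.herm_smul_right hF] at h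
      have h' : (a * b ^ q - 1) * Cfsg.hermForm (m + m) F q u v = 0 := by linear_combination h
      exact (mul_eq_zero.1 h').resolve_left (sub_ne_zero.2 hne)
    have hmm' : ∀ {v}, v ∈ Em → T v = (-lam) • v := fun {v} hv => ((hmm v).1 hv).trans (neg_smul lam v).symm
    have hnegq : (-lam) ^ q = -(lam ^ q) := hqodd.neg_pow lam
    obtain ⟨U, W, hUW, hUi, hWi⟩ : ∃ U W : Submodule F (Fin (m + m) → F), CfsgLib.Elusive.UnitPairs.IsPair q U W ∧
        (∀ u ∈ U, T u ∈ U) ∧ (∀ u ∈ W, T u ∈ W) := by
      rcases mul_self_eq_one_iff.1 h2q with hl | hl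
      · rw [pow_succ'] at hl
        have horth : ∀ u ∈ Ep, ∀ v ∈ Em, Cfsg.hermForm (m + m) F q u v = 0 := fun u hu v hv =>
          hsd ((hmp u).1 hu) (hmm' hv) (by
            rw [hnegq, mul_neg, hl]
            exact fun e => h2F (by linear_combination -e))
        have horth' : ∀ u ∈ Em, ∀ v ∈ Ep, Cfsg.hermForm (m + m) F q u v = 0 := fun u hu v hv =>
          hsd (hmm' hu) ((hmp v).1 hv) (by
            rw [neg_mul, hl]
            exact fun e => h2F (by linear_combination -e))
        have hnd : ∀ {A B : Submodule F (Fin (m + m) → F)}, IsCompl A B →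
            (∀ u ∈ A, ∀ v ∈ B, Cfsg.hermForm (m + m) F q u v = 0) →
            ∀ u ∈ A, (∀ v ∈ A, Cfsg.hermForm (m + m) F q u v = 0) → u = 0 := by
          intro A B hAB hor u hu h
          refine CfsgLib.Elusive.UnitPairs.eq_zero_of_perp hF fun y => ?_
          obtain ⟨a, ha, b, hb, rfl⟩ := Submodule.mem_sup.1 (hAB.sup_eq_top ▸ Submodule.mem_top : y ∈ A ⊔ B)
          refine ((CfsgLib.Unitary.uForm hF (m + m)).add_right u a b).trans ?_
          show Cfsg.hermForm (m + m) F q u a + Cfsg.hermForm (m + m) F q u b = 0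
          rw [h a ha, hor u hu b hb, add_zero]
        have hdims := Submodule.finrank_add_eq_of_isCompl hc
        rw [Module.finrank_fin_fun] at hdims
        have hdet : lam ^ (m + m) * (-1 : F) ^ Module.finrank F Em = 1 := by
          set e := Submodule.prodEquivOfIsCompl Ep Em hc
          have hTe : T = (e : (Ep × Em) →ₗ[F] (Fin (m + m) → F)) ∘ₗ
              ((lam • LinearMap.id : Ep →ₗ[F] Ep).prodMap ((-lam) • LinearMap.id : Em →ₗ[F] Em)) ∘ₗ
              (e.symm : (Fin (m + m) → F) →ₗ[F] (Ep × Em)) := by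
            refine LinearMap.ext fun v => ?_
            obtain ⟨w, rfl⟩ := e.surjective v
            simp [e, (hmp _).1 w.1.2, hmm' w.2.2]
          have h := congrArg LinearMap.det hTe
          rw [hT, LinearMap.det_toLin', CfsgLib.Geo.mem_specialLinear.1 hx.2, LinearMap.det_conj,
            LinearMap.det_prodMap, LinearMap.det_smul, LinearMap.det_smul, LinearMap.det_id, LinearMap.det_id,
            mul_one, mul_one, neg_pow] at h
          rw [show lam ^ (m + m) = lam ^ (Module.finrank F Ep + Module.finrank F Em) by rw [hdims], pow_add]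
          linear_combination -h
        have hfeven : Even (Module.finrank F Em) := by
          by_contra hodd
          rw [Nat.not_even_iff_odd] at hodd
          rw [hodd.neg_one_pow] at hdet
          obtain ⟨t, ht⟩ : 2 ^ (padicValNat 2 (q + 1)) ∣ m + m := (pow_dvd_pow 2 hcond).trans pow_padicValNat_dvd
          obtain ⟨s, hs⟩ : 2 ^ (padicValNat 2 (q + 1)) ∣ q + 1 := pow_padicValNat_dvd
          have hsodd : Odd s := by
            rw [← Nat.not_even_iff_odd]
            rintro ⟨u, rfl⟩
            have hd : 2 ^ (padicValNat 2 (q + 1) + 1) ∣ q + 1 := by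
              refine ⟨u, ?_⟩
              rw [pow_succ]
              linear_combination hs
            have := (padicValNat_dvd_iff_le (by omega)).1 hd
            omega
          have hone : (lam ^ (m + m)) ^ s = 1 := by
            rw [← pow_mul, ht, mul_right_comm, ← hs, pow_mul, pow_succ', hl, one_pow]
          have hm1 : lam ^ (m + m) = -1 := by linear_combination -hdet
          rw [hm1, hsodd.neg_one_pow] at hone
          exact h2F (by linear_combination -hone)
        obtain ⟨c₂, hc₂⟩ := hfeven
        obtain ⟨c₁, hc₁⟩ : Even (Module.finrank F Ep) := ⟨m - c₂, by omega⟩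
        obtain ⟨L₁, L₁', h1, h1', h1s, h1z, h1z'⟩ := CfsgLib.Elusive.UnitPairs.exists_halves hF h2F hc₁ (hnd hc horth)
        obtain ⟨L₂, L₂', h2, h2', h2s, h2z, h2z'⟩ := CfsgLib.Elusive.UnitPairs.exists_halves hF h2F hc₂ (hnd hc.symm horth')
        have hsing : ∀ {A B : Submodule F (Fin (m + m) → F)}, A ≤ Ep → B ≤ Em →
            (∀ u ∈ A, ∀ v ∈ A, Cfsg.hermForm (m + m) F q u v = 0) →
            (∀ u ∈ B, ∀ v ∈ B, Cfsg.hermForm (m + m) F q u v = 0) →
            ∀ u ∈ A ⊔ B, ∀ v ∈ A ⊔ B, Cfsg.hermForm (m + m) F q u v = 0 := by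
          intro A B hA hB hA0 hB0 u hu v hv
          obtain ⟨u₁, hu₁, u₂, hu₂, rfl⟩ := Submodule.mem_sup.1 hu
          obtain ⟨v₁, hv₁, v₂, hv₂, rfl⟩ := Submodule.mem_sup.1 hv
          have hadd := (CfsgLib.Unitary.uForm hF (m + m)).add_right
          simp only [CfsgLib.Unitary.uForm_h] at hadd
          rw [CfsgLib.Unitary.herm_add_left, hadd, hadd, hA0 u₁ hu₁ v₁ hv₁, hB0 u₂ hu₂ v₂ hv₂,
            horth u₁ (hA hu₁) v₂ (hB hv₂), horth' u₂ (hB hu₂) v₁ (hA hv₁)]
          ring
        have hinv : ∀ {A B : Submodule F (Fin (m + m) → F)}, A ≤ Ep → B ≤ Em → ∀ u ∈ A ⊔ B, T u ∈ A ⊔ B := by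
          intro A B hA hB u hu
          obtain ⟨u₁, hu₁, u₂, hu₂, rfl⟩ := Submodule.mem_sup.1 hu
          rw [map_add, (hmp u₁).1 (hA hu₁), hmm' (hB hu₂)]
          exact Submodule.add_mem_sup (A.smul_mem _ hu₁) (B.smul_mem _ hu₂)
        refine ⟨L₁ ⊔ L₂, L₁' ⊔ L₂', CfsgLib.Elusive.UnitPairs.mk_pair hF (hsing h1 h2 h1z h2z)
          (hsing h1' h2' h1z' h2z') ?_, hinv h1 h2, hinv h1' h2'⟩
        rw [sup_sup_sup_comm, h1s, h2s, hc.sup_eq_top]
      · rw [pow_succ'] at hl
        refine ⟨Ep, Em, CfsgLib.Elusive.UnitPairs.mk_pair hF (fun u hu v hv => hsd ((hmp u).1 hu) ((hmp v).1 hv) ?_)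
          (fun u hu v hv => hsd (hmm' hu) (hmm' hv) ?_) hc.sup_eq_top, ?_, ?_⟩
        · rw [hl]; exact fun e => h2F (by linear_combination -e)
        · rw [hnegq, neg_mul_neg, hl]; exact fun e => h2F (by linear_combination -e)
        · intro u hu; rw [(hmp u).1 hu]; exact Ep.smul_mem _ hu
        · intro u hu; rw [hmm' hu]; exact Em.smul_mem _ hu
    have hTi : Function.Injective T := fun u v e => by
      have := congrArg T e
      rw [hTT, hTT] at this
      exact smul_right_injective _ hz0 this
    have hmapeq : ∀ S : Submodule F (Fin (m + m) → F), (∀ u ∈ S, T u ∈ S) → S.map T = S := fun S hS =>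
      Submodule.eq_of_le_of_finrank_eq (by rintro _ ⟨u, hu, rfl⟩; exact hS u hu)
        (S.equivMapOfInjective T hTi).finrank_eq.symm
    obtain ⟨g, hgU, hgS, hg0, hg1⟩ := CfsgLib.Elusive.UnitPairs.exists_su_map hF (by omega) hP hUW
    refine ⟨g, ⟨hgU, hgS⟩, ⟨1, Fin.forall_fin_two.2 ?_⟩⟩
    have key : ∀ (S S' : Submodule F (Fin (m + m) → F)),
        S.map (Matrix.toLin' (g : Matrix (Fin (m + m)) (Fin (m + m)) F)) = S' → S'.map T = S' →
        S.map (Matrix.toLin' ((g⁻¹ * x * g : GL (Fin (m + m)) F) : Matrix (Fin (m + m)) (Fin (m + m)) F)) = S := by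
      intro S S' h1 h2
      rw [Units.val_mul, Units.val_mul, Matrix.toLin'_mul, Matrix.toLin'_mul, Submodule.map_comp, h1,
        Submodule.map_comp, ← hT, h2, ← h1, ← Submodule.map_comp, ← Matrix.toLin'_mul, Units.inv_mul,
        Matrix.toLin'_one, Submodule.map_id]
    exact ⟨key _ _ hg0 (hmapeq U hUi), key _ _ hg1 (hmapeq W hWi)⟩

end Cfsg.Agent.S5984
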