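import Cfsg.Statements.S5985
import Cfsg.Agent.Quad.PlusLevi
import Cfsg.Agent.Quad.Orders
import Cfsg.Agent.Elusive.Construct

set_option autoImplicit false
open scoped MatrixGroups
open Cfsg

namespace Cfsg.Agent.S5985
open scoped Matrix

/-- Elements of prime order of Ω⁺_n(q), q even, with no fixed nonsingular 1-space. Here `T = PΩ⁺_n(F)`, `n = 2d ≥ 8`, realised through `Ω⁺_n(q)`, the commutator subgroup of the isometry group of `Q = Σ xᵢyᵢ` over the field `F` with `q` elements; an element of `T` of prime order `r` is an element `x` of `Ω⁺_n(q)` with `x^r` scalar and `x` not scalar; `q` is even (so the centre is trivial). Let Ω be the set of 1-dimensional subspaces spanned by a vector `v` with `Q(v) ≠ 0`, and let `r` be a prime dividing their number. Then every element of `T` of order `r` fixes some nonsingular 1-space if and only if `r = 2` and `n ≡ 2 (mod 4)` (that is, `d` is odd). -/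
theorem result {F : Type*} [Field F] [Fintype F] {p : ℕ} [Fact p.Prime] [CharP F p] {q : ℕ} (hq : Fintype.card F = q)
    (hp : p = 2) (d : ℕ) (hd : 4 ≤ d) (r : ℕ) [Fact r.Prime]
    (hrΩ : r ∣ Nat.card {W : Submodule F (Fin d ⊕ Fin d → F) // Module.finrank F ↥W = 1 ∧ ∃ v ∈ W, Cfsg.quadFormPlus d F v ≠ 0}) :
    (∀ x : GL (Fin d ⊕ Fin d) F, x ∈ Cfsg.Geo.omegaGL (Cfsg.quadFormPlus d F) →
      (∃ z : F, ((x ^ r : GL (Fin d ⊕ Fin d) F) : Matrix (Fin d ⊕ Fin d) (Fin d ⊕ Fin d) F) = z • (1 : Matrix (Fin d ⊕ Fin d) (Fin d ⊕ Fin d) F)) →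
      (∀ z : F, (x : Matrix (Fin d ⊕ Fin d) (Fin d ⊕ Fin d) F) ≠ z • (1 : Matrix (Fin d ⊕ Fin d) (Fin d ⊕ Fin d) F)) →
      ∃ W : Submodule F (Fin d ⊕ Fin d → F), (Module.finrank F ↥W = 1 ∧ ∃ v ∈ W, Cfsg.quadFormPlus d F v ≠ 0) ∧ W.map (Matrix.toLin' (x : Matrix (Fin d ⊕ Fin d) (Fin d ⊕ Fin d) F)) ≤ W) ↔ (r = 2 ∧ Odd d) := by
  classical
  subst hp
  subst hq
  set Q := CfsgLib.Quad.plusQ (F := F) d with hQdef
  have hQc : Cfsg.quadFormPlus d F = ⇑Q := (CfsgLib.Quad.plusQ_coe d).symm
  rw [hQc] at hrΩ ⊢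
  have hQ : (QuadraticMap.polarBilin Q).Nondegenerate := CfsgLib.Quad.plusQ_nondeg d
  have hdim : Module.finrank F (Fin d ⊕ Fin d → F) = d + d := by
    rw [Module.finrank_fintype_fun_eq_card, Fintype.card_sum, Fintype.card_fin]
  have hgen : (∃ t : F, t ≠ 0 ∧ t ≠ 1) ∨ Module.finrank F (Fin d ⊕ Fin d → F) ≠ 4 := Or.inr (by omega)
  have h2 : (2 : F) = 0 := CharTwo.two_eq_zero
  -- totally singular subspaces
  have hts : ∀ T : Submodule F (Fin d ⊕ Fin d → F), (∀ v ∈ T, Q v = 0) → Module.finrank F T ≤ d := by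
    intro T hT
    have hle : T ≤ CfsgLib.Quad.perpS Q T := fun v hv a ha => by
      rw [QuadraticMap.polar, hT _ (T.add_mem ha hv), hT _ ha, hT _ hv, sub_self, sub_zero]
    have h1 := Submodule.finrank_mono hle
    have h3 := CfsgLib.Quad.finrank_perpS hQ T
    omega
  have hmemΩ : ∀ x : GL (Fin d ⊕ Fin d) F, x ∈ Cfsg.Geo.omegaGL ⇑Q → ∃ g : CfsgLib.Quad.oGroup Q,
      g ∈ commutator (CfsgLib.Quad.oGroup Q) ∧ ∀ v, g.1 v = (x : Matrix _ _ F) *ᵥ v := by
    rintro x ⟨y, hy, rfl⟩
    exact ⟨CfsgLib.Quad.isoGroupEquiv Q y, (CfsgLib.Quad.mem_omega_iff Q y).1 hy, fun v => rfl⟩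
  have hmkΩ : ∀ g : CfsgLib.Quad.oGroup Q, g ∈ commutator (CfsgLib.Quad.oGroup Q) →
      ∃ x : GL (Fin d ⊕ Fin d) F, x ∈ Cfsg.Geo.omegaGL ⇑Q ∧ ∀ v, (x : Matrix _ _ F) *ᵥ v = g.1 v := by
    intro g hg
    obtain ⟨y, rfl⟩ := (CfsgLib.Quad.isoGroupEquiv Q).surjective g
    exact ⟨_, ⟨y, (CfsgLib.Quad.mem_omega_iff Q y).2 hg, rfl⟩, fun v => rfl⟩
  -- scalars among isometries of prime order
  have hnonfix : ∀ (x : GL (Fin d ⊕ Fin d) F) (g : CfsgLib.Quad.oGroup Q), (∀ v, g.1 v = (x : Matrix _ _ F) *ᵥ v) →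
      g ≠ 1 → ∀ z : F, (x : Matrix (Fin d ⊕ Fin d) (Fin d ⊕ Fin d) F) ≠ z • 1 := by
    intro x g hg hg1 z hz
    refine hg1 (Subtype.ext (LinearEquiv.ext fun v => ?_))
    have hz1 : z = 1 := by
      have h := g.2 (Pi.single (Sum.inl ⟨0, by omega⟩) 1 + Pi.single (Sum.inr ⟨0, by omega⟩) 1)
      rw [hg, hz, Matrix.smul_mulVec, Matrix.one_mulVec, QuadraticMap.map_smul, smul_eq_mul] at h
      have hv : Q (Pi.single (Sum.inl ⟨0, by omega⟩) 1 + Pi.single (Sum.inr ⟨0, by omega⟩) 1) = 1 := by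
        rw [hQdef, CfsgLib.Quad.plusQ_coe]
        simp [Cfsg.quadFormPlus, Pi.single_apply]
      rw [hv, mul_one] at h
      rcases mul_self_eq_one_iff.1 h with e | e
      · exact e
      · rw [e, CharTwo.neg_eq]
    rw [hg, hz, hz1, one_smul, Matrix.one_mulVec]
    rfl
  -- an element whose fixed vectors are singular moves every nonsingular point
  have hbad : (∀ x : GL (Fin d ⊕ Fin d) F, x ∈ Cfsg.Geo.omegaGL ⇑Q →
      (∃ z : F, ((x ^ r : GL (Fin d ⊕ Fin d) F) : Matrix (Fin d ⊕ Fin d) (Fin d ⊕ Fin d) F) = z • 1) →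
      (∀ z : F, (x : Matrix (Fin d ⊕ Fin d) (Fin d ⊕ Fin d) F) ≠ z • 1) →
      ∃ W : Submodule F (Fin d ⊕ Fin d → F), (Module.finrank F ↥W = 1 ∧ ∃ v ∈ W, Q v ≠ 0) ∧
        W.map (Matrix.toLin' (x : Matrix (Fin d ⊕ Fin d) (Fin d ⊕ Fin d) F)) ≤ W) →
      ∀ g : CfsgLib.Quad.oGroup Q, g ∈ commutator (CfsgLib.Quad.oGroup Q) → g ^ r = 1 → g ≠ 1 →
        ∃ v, g.1 v = v ∧ Q v ≠ 0 := by
    intro hall g hg hgr hg1
    obtain ⟨x, hx, hxg⟩ := hmkΩ g hg
    have hxr : ((x ^ r : GL (Fin d ⊕ Fin d) F) : Matrix (Fin d ⊕ Fin d) (Fin d ⊕ Fin d) F) = (1 : F) • 1 := by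
      have hpow : ∀ k v, ((x ^ k : GL (Fin d ⊕ Fin d) F) : Matrix _ _ F) *ᵥ v = (g ^ k).1 v := by
        intro k
        induction k with
        | zero => intro v; simp
        | succ k ih =>
          intro v
          rw [pow_succ, Units.val_mul, ← Matrix.mulVec_mulVec, hxg, ih, pow_succ]
          rfl
      refine Matrix.toLin'.injective (LinearMap.ext fun v => ?_)
      rw [Matrix.toLin'_apply, hpow, hgr, one_smul, Matrix.toLin'_one]
      rfl
    obtain ⟨W, ⟨hW, v, hv, hQv⟩, hWx⟩ := hall x hx ⟨1, hxr⟩ (hnonfix x g (fun v => (hxg v).symm) hg1)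
    have hv0 : v ≠ 0 := fun e => hQv (by rw [e, QuadraticMap.map_zero])
    obtain ⟨c, hc⟩ : ∃ c : F, c • v = g.1 v := by
      have h1 : g.1 v ∈ W := hWx ⟨v, hv, by rw [Matrix.toLin'_apply, hxg]⟩
      have hWeq : (F ∙ v) = W := Submodule.eq_of_le_of_finrank_eq
        ((Submodule.span_singleton_le_iff_mem v W).2 hv) (by rw [finrank_span_singleton hv0, hW])
      rw [← hWeq] at h1
      exact Submodule.mem_span_singleton.1 h1
    refine ⟨v, ?_, hQv⟩
    have h := g.2 v
    rw [← hc, QuadraticMap.map_smul, smul_eq_mul] at h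
    have hc1 : c = 1 := by
      rcases mul_self_eq_one_iff.1 (mul_right_cancel₀ hQv (h.trans (one_mul _).symm)) with e | e
      · exact e
      · rw [e, CharTwo.neg_eq]
    rw [← hc, hc1, one_smul]
  constructor
  · intro hall
    by_cases hr2 : r = 2
    · subst hr2
      refine ⟨rfl, Nat.not_even_iff_odd.1 fun ⟨m, hm⟩ => ?_⟩
      -- a unipotent element with totally singular fixed space
      subst hm
      let A : Matrix (Fin (m + m)) (Fin (m + m)) F :=
        (Matrix.fromBlocks 0 (1 : Matrix (Fin m) (Fin m) F) 1 0).submatrix finSumFinEquiv.symm finSumFinEquiv.symm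
      let L : (Fin (m + m) ⊕ Fin (m + m) → F) →ₗ[F] (Fin (m + m) ⊕ Fin (m + m) → F) :=
        Matrix.mulVecLin (Matrix.fromBlocks 1 A 0 1)
      have hAA : ∀ w, A *ᵥ (A *ᵥ w) = w := fun w => by
        rw [Matrix.mulVec_mulVec, Matrix.submatrix_mul_equiv, Matrix.fromBlocks_multiply]
        simp [Matrix.fromBlocks_one, Matrix.submatrix_one_equiv]
      have hAq : ∀ w, (A *ᵥ w) ⬝ᵥ w = 0 := fun w => by
        have h1 : ∀ u : Fin m ⊕ Fin m → F, (Matrix.fromBlocks 0 (1 : Matrix (Fin m) (Fin m) F) 1 0 *ᵥ u) ⬝ᵥ u = 0 :=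
          fun u => by
          simp only [dotProduct, Fintype.sum_sum_type, Matrix.fromBlocks_mulVec, Matrix.zero_mulVec, Matrix.one_mulVec,
            zero_add, add_zero, Sum.elim_inl, Sum.elim_inr, Function.comp_apply]
          rw [← Finset.sum_add_distrib]
          exact Finset.sum_eq_zero fun i _ => by linear_combination (u (Sum.inl i) * u (Sum.inr i)) * h2
        simp only [dotProduct, A, Matrix.submatrix_mulVec_equiv, Equiv.symm_symm]
        rw [← finSumFinEquiv.sum_comp]
        refine (Finset.sum_congr rfl fun s _ => ?_).trans (h1 (w ∘ finSumFinEquiv))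
        simp only [Function.comp_apply, Equiv.symm_apply_apply]
      have hL : ∀ v, L v = Sum.elim ((v ∘ Sum.inl) + A *ᵥ (v ∘ Sum.inr)) (v ∘ Sum.inr) := fun v => by
        simp [L, Matrix.fromBlocks_mulVec]
      have hLL : L ∘ₗ L = LinearMap.id := LinearMap.ext fun v => by
        rw [LinearMap.comp_apply, hL, hL, LinearMap.id_apply]
        funext s
        rcases s with i | i <;> simp
        have : ∀ a b : F, a + b + b = a := fun a b => by linear_combination b * h2
        exact this _ _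
      have hQL : ∀ v, Q (L v) = Q v := fun v => by
        rw [hQdef, CfsgLib.Quad.plusQ_coe, hL]
        simp only [Cfsg.quadFormPlus, Sum.elim_inl, Sum.elim_inr, Pi.add_apply, add_mul, Finset.sum_add_distrib]
        have := hAq (v ∘ Sum.inr)
        simp only [dotProduct, Function.comp_apply] at this
        rw [show (∑ x, v (Sum.inl x) * v (Sum.inr x)) = ∑ x, v (Sum.inl x) * v (Sum.inr x) + 0 from (add_zero _).symm]
        simp only [Function.comp_apply, this]
      let g : CfsgLib.Quad.oGroup Q := ⟨LinearEquiv.ofLinear L L hLL hLL, hQL⟩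
      have hfix : ∀ v, g.1 v = v ↔ ∀ i, v (Sum.inr i) = 0 := fun v => by
        show L v = v ↔ _
        rw [hL]
        constructor
        · intro h i
          have h1 : A *ᵥ (v ∘ Sum.inr) = 0 := funext fun k => by
            have := congrFun h (Sum.inl k)
            simpa using this
          have h3 := hAA (v ∘ Sum.inr)
          rw [h1, Matrix.mulVec_zero] at h3
          exact (congrFun h3 i).symm
        · intro h
          rw [show v ∘ Sum.inr = 0 from funext h, Matrix.mulVec_zero, add_zero]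
          funext s; rcases s with i | i <;> simp [h]
      have hfixd : Module.finrank F (CfsgLib.Quad.fixSp g) = m + m := by
        have hker : CfsgLib.Quad.fixSp g = LinearMap.ker (LinearMap.funLeft F F
            (Sum.inr : Fin (m + m) → Fin (m + m) ⊕ Fin (m + m))) := by
          ext v
          rw [CfsgLib.Quad.mem_fixSp, hfix, LinearMap.mem_ker, funext_iff]
          rfl
        have h1 := LinearMap.finrank_range_add_finrank_ker (LinearMap.funLeft F F
            (Sum.inr : Fin (m + m) → Fin (m + m) ⊕ Fin (m + m)))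
        rw [LinearMap.range_eq_top.2 (LinearMap.funLeft_surjective_of_injective F F _ Sum.inr_injective),
          finrank_top, Module.finrank_fin_fun, hdim] at h1
        rw [hker]
        omega
      have hg : g ∈ commutator (CfsgLib.Quad.oGroup Q) := by
        rw [CfsgLib.Quad.mem_commutator_iff_fixSp hQ hgen, hdim, hfixd]
        exact ⟨(m + m) + m, by ring⟩
      have hg1 : g ≠ 1 := fun e => by
        have := (hfix (Pi.single (Sum.inr ⟨0, by omega⟩) 1)).1 (by rw [e]; rfl) ⟨0, by omega⟩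
        simp at this
      obtain ⟨v, hv, hQv⟩ := hbad hall g hg (by
        rw [pow_two]; exact Subtype.ext (LinearEquiv.ext fun v => LinearMap.congr_fun hLL v)) hg1
      refine hQv ?_
      rw [hQdef, CfsgLib.Quad.plusQ_coe]
      exact Finset.sum_eq_zero fun i _ => by rw [(hfix v).1 hv i, mul_zero]
    · exfalso
      have hrr := (Fact.out : r.Prime)
      -- count the points
      have : Finite (Submodule F (Fin d ⊕ Fin d → F)) :=
        Finite.of_injective (fun W => (W : Set (Fin d ⊕ Fin d → F))) SetLike.coe_injective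
      set Wt := {W : Submodule F (Fin d ⊕ Fin d → F) // Module.finrank F ↥W = 1 ∧ ∃ v ∈ W, Q v ≠ 0}
      have hsmul : ∀ (c : F) v, Q (c • v) = c * c * Q v := fun c v => by rw [QuadraticMap.map_smul, smul_eq_mul]
      let φ : {v // Q v ≠ 0} → Wt := fun v => ⟨F ∙ v.1,
        finrank_span_singleton (fun e => v.2 (by rw [e, QuadraticMap.map_zero])),
        v.1, Submodule.mem_span_singleton_self _, v.2⟩
      have hfib : ∀ W : Wt, Nat.card {v : {v // Q v ≠ 0} // φ v = W} = Fintype.card F - 1 := by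
        rintro ⟨W, hW, v0, hv0, hQ0⟩
        have hne : v0 ≠ 0 := fun e => hQ0 (by rw [e, QuadraticMap.map_zero])
        have hWeq : (F ∙ v0) = W := Submodule.eq_of_le_of_finrank_eq
          ((Submodule.span_singleton_le_iff_mem v0 W).2 hv0) (by rw [finrank_span_singleton hne, hW])
        rw [← Fintype.card_units, ← Nat.card_eq_fintype_card]
        refine Nat.card_congr (Equiv.ofBijective (fun c : Fˣ => (⟨⟨(c : F) • v0, by
          rw [hsmul]; exact mul_ne_zero (mul_ne_zero c.ne_zero c.ne_zero) hQ0⟩, Subtype.ext (by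
            show (F ∙ (c : F) • v0) = W
            rw [← hWeq]
            exact Submodule.span_singleton_smul_eq c.isUnit v0)⟩ : {v : {v // Q v ≠ 0} // φ v = ⟨W, hW, v0, hv0, hQ0⟩}))
          ⟨fun a b e => Units.ext (smul_left_injective F hne (congrArg (fun v => v.1.1) e)), fun ⟨⟨v, hv⟩, e⟩ => ?_⟩).symm
        have h1 : v ∈ W := by
          rw [← show (F ∙ v) = W from congrArg Subtype.val e]; exact Submodule.mem_span_singleton_self _
        rw [← hWeq] at h1
        obtain ⟨c, rfl⟩ := Submodule.mem_span_singleton.1 h1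
        exact ⟨Units.mk0 c fun e0 => hv (by rw [e0, zero_smul, QuadraticMap.map_zero]), rfl⟩
      have hN : Nat.card {v // Q v ≠ 0} = Nat.card Wt * (Fintype.card F - 1) := by
        have := Fintype.ofFinite Wt
        rw [Nat.card_congr (Equiv.sigmaFiberEquiv φ).symm, Nat.card_sigma, Finset.sum_congr rfl (fun W _ => hfib W),
          Finset.sum_const, smul_eq_mul, Finset.card_univ, ← Nat.card_eq_fintype_card]
      have hsplit : (Nat.card {v // Q v = 0} : ℤ) + Nat.card {v // Q v ≠ 0} = (Fintype.card F : ℤ) ^ (2 * d) := by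
        have h := Nat.card_congr (Equiv.sumCompl fun v : Fin d ⊕ Fin d → F => Q v = 0)
        rw [Nat.card_sum, Nat.card_fun, Nat.card_sum, Nat.card_fin, Nat.card_eq_fintype_card (α := F)] at h
        rw [show 2 * d = d + d by ring]
        exact_mod_cast h
      have hz := CfsgLib.Quad.zeros_plus (F := F) (q := Fintype.card F) Nat.card_eq_fintype_card d
      have hid : (Nat.card Wt : ℤ) * (Fintype.card F : ℤ) = (Fintype.card F : ℤ) ^ d * ((Fintype.card F : ℤ) ^ d - 1) := by
        have hq1 : (Fintype.card F : ℤ) - 1 ≠ 0 := by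
          have := Fintype.one_lt_card (α := F); omega
        refine mul_right_cancel₀ hq1 ?_
        rw [hN] at hsplit
        push_cast [Nat.cast_sub (Fintype.card_pos (α := F))] at hsplit
        linear_combination (Fintype.card F : ℤ) * hsplit - hz
      have hrd : r ∣ Fintype.card F ^ d - 1 := by
        have h1 : (r : ℤ) ∣ (Fintype.card F : ℤ) ^ d * ((Fintype.card F : ℤ) ^ d - 1) :=
          hid ▸ dvd_mul_of_dvd_left (Int.natCast_dvd_natCast.2 hrΩ) _
        rcases (Nat.prime_iff_prime_int.1 hrr).dvd_mul.1 h1 with h | h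
        · have h' := (Nat.prime_iff_prime_int.1 hrr).dvd_of_dvd_pow h
          exact absurd ((ZMod.natCast_eq_zero_iff _ _).2 (Int.natCast_dvd_natCast.1 h'))
            (CfsgLib.Elusive.card_ne_zero_mod (F := F) (p := 2) hr2)
        · rw [← Int.natCast_dvd_natCast, Nat.cast_sub (Nat.one_le_pow _ _ Fintype.card_pos)]
          push_cast
          exact h
      have hr0 : (r : F) ≠ 0 := CfsgLib.Elusive.cast_ne_zero_of_ne (p := 2) hr2
      set i := orderOf ((Fintype.card F : ℕ) : ZMod r) with hi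
      have hi0 : 0 < i := CfsgLib.Elusive.orderOf_q_pos (CfsgLib.Elusive.card_ne_zero_mod (F := F) (p := 2) hr2)
      obtain ⟨s, hs⟩ : i ∣ d := by
        refine orderOf_dvd_of_pow_eq_one ?_
        have := (ZMod.natCast_eq_zero_iff _ r).2 hrd
        rwa [Nat.cast_sub (Nat.one_le_pow _ _ Fintype.card_pos), Nat.cast_pow, Nat.cast_one, sub_eq_zero] at this
      obtain ⟨f, hf, hff⟩ := CfsgLib.Elusive.exists_min_fix (F := F) (r := r) hr0 hi hi0 (n := d) (s := s) (e := 0)
        (by rw [hs, Nat.mul_comm]; rfl)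
      have hfr : LinearMap.toMatrix' f ^ r = 1 := by
        show LinearMap.toMatrixAlgEquiv' f ^ r = 1
        rw [← map_pow, hf, map_one]
      have hr1 : r - 1 + 1 = r := by have := hrr.one_lt; omega
      let A : GL (Fin d) F := ⟨LinearMap.toMatrix' f, LinearMap.toMatrix' f ^ (r - 1),
        by rw [← pow_succ', hr1, hfr], by rw [← pow_succ, hr1, hfr]⟩
      have hAf : ∀ w, (A : Matrix (Fin d) (Fin d) F) *ᵥ w = w → w = 0 := fun w hw => by
        have h1 : w ∈ CfsgLib.Elusive.fixS f := CfsgLib.Elusive.mem_fixS.2 ((LinearMap.toMatrix'_mulVec f w).symm.trans hw)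
        rw [Submodule.finrank_eq_zero.1 hff] at h1
        exact h1
      have hfix : ∀ v, (CfsgLib.Quad.levi d A).1 v = v → ∀ i, v (Sum.inl i) = 0 := fun v hv i => by
        rw [CfsgLib.Quad.levi_apply] at hv
        exact congrFun (hAf (v ∘ Sum.inl) (funext fun k => congrFun hv (Sum.inl k))) i
      have hg : CfsgLib.Quad.levi d A ∈ commutator (CfsgLib.Quad.oGroup Q) := by
        rw [CfsgLib.Quad.levi_mem_iff (Or.inr (by omega))]
        exact CfsgLib.Quad.isSquare_char_two _
      have hg1 : CfsgLib.Quad.levi d A ≠ 1 := fun e => by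
        have := hfix (Pi.single (Sum.inl ⟨0, by omega⟩) 1) (by rw [e]; rfl) ⟨0, by omega⟩
        simp at this
      obtain ⟨v, hv, hQv⟩ := hbad hall _ hg (by
        rw [← map_pow, show A ^ r = 1 from Units.ext hfr, map_one]) hg1
      refine hQv ?_
      rw [hQdef, CfsgLib.Quad.plusQ_coe]
      exact Finset.sum_eq_zero fun i _ => by rw [hfix v hv i, zero_mul]
  · rintro ⟨rfl, hdodd⟩ x hx ⟨z, hxz⟩ hns
    obtain ⟨g, hg, hgx⟩ := hmemΩ x hx
    have hgg : ∀ v, g.1 (g.1 v) = z • v := fun v => by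
      rw [hgx, hgx, Matrix.mulVec_mulVec, ← Units.val_mul, ← pow_two, hxz, Matrix.smul_mulVec, Matrix.one_mulVec]
    have hz1 : z = 1 := by
      set w : Fin d ⊕ Fin d → F := Pi.single (Sum.inl ⟨0, by omega⟩) 1 + Pi.single (Sum.inr ⟨0, by omega⟩) 1
      have h := (g.2 (g.1 w)).trans (g.2 w)
      rw [hgg, QuadraticMap.map_smul, smul_eq_mul] at h
      have hv : Q w = 1 := by
        rw [hQdef, CfsgLib.Quad.plusQ_coe]
        simp [w, Cfsg.quadFormPlus, Pi.single_apply]
      rw [hv, mul_one] at h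
      rcases mul_self_eq_one_iff.1 h with e | e
      · exact e
      · rw [e, CharTwo.neg_eq]
    obtain ⟨v, hv, hQv⟩ : ∃ v, g.1 v = v ∧ Q v ≠ 0 := by
      by_contra hno
      push Not at hno
      have h1 := hts (CfsgLib.Quad.fixSp g) fun v hv => hno v (CfsgLib.Quad.mem_fixSp.1 hv)
      have hle : LinearMap.range (g.1.toLinearMap - LinearMap.id) ≤ CfsgLib.Quad.fixSp g := by
        rintro _ ⟨w, rfl⟩
        rw [CfsgLib.Quad.mem_fixSp]
        show g.1 (g.1 w - w) = g.1 w - w
        rw [map_sub, hgg, hz1, one_smul]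
        funext s
        simp only [Pi.sub_apply]
        linear_combination (w s - g.1 w s) * h2
      have h3 := LinearMap.finrank_range_add_finrank_ker (g.1.toLinearMap - LinearMap.id)
      have h4 := Submodule.finrank_mono hle
      rw [hdim] at h3
      have heq : Module.finrank F (CfsgLib.Quad.fixSp g) = d := by
        change _ + Module.finrank F (CfsgLib.Quad.fixSp g) = _ at h3
        omega
      have h5 := (CfsgLib.Quad.mem_commutator_iff_fixSp hQ hgen g).1 hg
      rw [hdim, heq] at h5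
      obtain ⟨t, ht⟩ := hdodd
      rw [Nat.even_iff] at h5
      omega
    refine ⟨F ∙ v, ⟨finrank_span_singleton (fun e => hQv (by rw [e, QuadraticMap.map_zero])), v,
      Submodule.mem_span_singleton_self _, hQv⟩, ?_⟩
    rw [Submodule.map_span, Set.image_singleton, Matrix.toLin'_apply, ← hgx, hv]

end Cfsg.Agent.S5985
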