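import Cfsg.Statements.S5986
import Cfsg.Agent.Elusive.MinusElliptic
import Cfsg.Agent.AutPOm.Gamma
import Cfsg.Agent.Quad.OmegaMem

set_option autoImplicit false
open scoped MatrixGroups
open Cfsg

namespace Cfsg.Agent.S5986
open scoped Matrix

/-- Elements of prime order of Ω⁻_n(q), q even, with no fixed nonsingular 1-space. Here `T = PΩ⁻_n(F)`, `n = 2d ≥ 8`, realised through `Ω⁻_n(q)`, the commutator subgroup of the isometry group of `Q = Σ_{i<d−1} xᵢyᵢ + z₁² + a z₁z₂ + b z₂²` with `z₁² + a z₁z₂ + b z₂²` anisotropic, over the field `F` with `q` elements; an element of `T` of prime order `r` is an element `x` of `Ω⁻_n(q)` with `x^r` scalar and `x` not scalar; `q` is even (so the centre is trivial). Let Ω be the set of 1-dimensional subspaces spanned by a vector `v` with `Q(v) ≠ 0`, and let `r` be a prime dividing their number. Then every element of `T` of order `r` fixes some nonsingular 1-space if and only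 if `r = 2`. -/
theorem result {F : Type*} [Field F] [Fintype F] {p : ℕ} [Fact p.Prime] [CharP F p] {q : ℕ} (hq : Fintype.card F = q)
    (hp : p = 2) (d : ℕ) (hd : 4 ≤ d) (a b : F) (hab : ∀ x y : F, x ^ 2 + a * x * y + b * y ^ 2 = 0 → x = 0 ∧ y = 0) (r : ℕ) [Fact r.Prime]
    (hrΩ : r ∣ Nat.card {W : Submodule F ((Fin (d - 1) ⊕ Fin (d - 1)) ⊕ Fin 2 → F) // Module.finrank F ↥W = 1 ∧ ∃ v ∈ W, Cfsg.quadFormMinus (d - 1) F a b v ≠ 0}) :
    (∀ x : GL ((Fin (d - 1) ⊕ Fin (d - 1)) ⊕ Fin 2) F, x ∈ Cfsg.Geo.omegaGL (Cfsg.quadFormMinus (d - 1) F a b) →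
      (∃ z : F, ((x ^ r : GL ((Fin (d - 1) ⊕ Fin (d - 1)) ⊕ Fin 2) F) : Matrix ((Fin (d - 1) ⊕ Fin (d - 1)) ⊕ Fin 2) ((Fin (d - 1) ⊕ Fin (d - 1)) ⊕ Fin 2) F) = z • (1 : Matrix ((Fin (d - 1) ⊕ Fin (d - 1)) ⊕ Fin 2) ((Fin (d - 1) ⊕ Fin (d - 1)) ⊕ Fin 2) F)) →
      (∀ z : F, (x : Matrix ((Fin (d - 1) ⊕ Fin (d - 1)) ⊕ Fin 2) ((Fin (d - 1) ⊕ Fin (d - 1)) ⊕ Fin 2) F) ≠ z • (1 : Matrix ((Fin (d - 1) ⊕ Fin (d - 1)) ⊕ Fin 2) ((Fin (d - 1) ⊕ Fin (d - 1)) ⊕ Fin 2) F)) →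
      ∃ W : Submodule F ((Fin (d - 1) ⊕ Fin (d - 1)) ⊕ Fin 2 → F), (Module.finrank F ↥W = 1 ∧ ∃ v ∈ W, Cfsg.quadFormMinus (d - 1) F a b v ≠ 0) ∧ W.map (Matrix.toLin' (x : Matrix ((Fin (d - 1) ⊕ Fin (d - 1)) ⊕ Fin 2) ((Fin (d - 1) ⊕ Fin (d - 1)) ⊕ Fin 2) F)) ≤ W) ↔ r = 2 := by
  classical
  subst hp
  subst hq
  generalize hk : d - 1 = k at *
  obtain rfl : d = k + 1 := by omega
  set Q := CfsgLib.Quad.minusQ (F := F) k a b with hQdef
  have hQc : Cfsg.quadFormMinus k F a b = ⇑Q := (CfsgLib.Quad.minusQ_coe k a b).symm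
  rw [hQc] at hrΩ ⊢
  have hQ : (QuadraticMap.polarBilin Q).Nondegenerate := CfsgLib.Quad.minusQ_nondeg hab k
  have hdim : Module.finrank F ((Fin k ⊕ Fin k) ⊕ Fin 2 → F) = 2 * k + 2 := by
    rw [Module.finrank_fintype_fun_eq_card, Fintype.card_sum, Fintype.card_sum, Fintype.card_fin, Fintype.card_fin]
    omega
  have hgen : (∃ t : F, t ≠ 0 ∧ t ≠ 1) ∨ Module.finrank F ((Fin k ⊕ Fin k) ⊕ Fin 2 → F) ≠ 4 := Or.inr (by omega)
  have h2 : (2 : F) = 0 := CharTwo.two_eq_zero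
  set w0 : (Fin k ⊕ Fin k) ⊕ Fin 2 → F := Pi.single (Sum.inr 0) 1 with hw0
  have hv : Q w0 = 1 := by
    rw [hQdef, CfsgLib.Quad.minusQ_coe]
    simp [w0, Cfsg.quadFormMinus, Pi.single_apply]
  have hmemΩ : ∀ x : GL (((Fin k ⊕ Fin k) ⊕ Fin 2)) F, x ∈ Cfsg.Geo.omegaGL ⇑Q → ∃ g : CfsgLib.Quad.oGroup Q,
      g ∈ commutator (CfsgLib.Quad.oGroup Q) ∧ ∀ v, g.1 v = (x : Matrix _ _ F) *ᵥ v := by
    rintro x ⟨y, hy, rfl⟩
    exact ⟨CfsgLib.Quad.isoGroupEquiv Q y, (CfsgLib.Quad.mem_omega_iff Q y).1 hy, fun v => rfl⟩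
  have hmkΩ : ∀ g : CfsgLib.Quad.oGroup Q, g ∈ commutator (CfsgLib.Quad.oGroup Q) →
      ∃ x : GL (((Fin k ⊕ Fin k) ⊕ Fin 2)) F, x ∈ Cfsg.Geo.omegaGL ⇑Q ∧ ∀ v, (x : Matrix _ _ F) *ᵥ v = g.1 v := by
    intro g hg
    obtain ⟨y, rfl⟩ := (CfsgLib.Quad.isoGroupEquiv Q).surjective g
    exact ⟨_, ⟨y, (CfsgLib.Quad.mem_omega_iff Q y).2 hg, rfl⟩, fun v => rfl⟩
  -- scalars among isometries of prime order
  have hnonfix : ∀ (x : GL (((Fin k ⊕ Fin k) ⊕ Fin 2)) F) (g : CfsgLib.Quad.oGroup Q), (∀ v, g.1 v = (x : Matrix _ _ F) *ᵥ v) →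
      g ≠ 1 → ∀ z : F, (x : Matrix (((Fin k ⊕ Fin k) ⊕ Fin 2)) (((Fin k ⊕ Fin k) ⊕ Fin 2)) F) ≠ z • 1 := by
    intro x g hg hg1 z hz
    refine hg1 (Subtype.ext (LinearEquiv.ext fun v => ?_))
    have hz1 : z = 1 := by
      have h := g.2 w0
      rw [hg, hz, Matrix.smul_mulVec, Matrix.one_mulVec, QuadraticMap.map_smul, smul_eq_mul, hv, mul_one] at h
      rcases mul_self_eq_one_iff.1 h with e | e
      · exact e
      · rw [e, CharTwo.neg_eq]
    rw [hg, hz, hz1, one_smul, Matrix.one_mulVec]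
    rfl
  -- an element whose fixed vectors are singular moves every nonsingular point
  have hbad : (∀ x : GL (((Fin k ⊕ Fin k) ⊕ Fin 2)) F, x ∈ Cfsg.Geo.omegaGL ⇑Q →
      (∃ z : F, ((x ^ r : GL (((Fin k ⊕ Fin k) ⊕ Fin 2)) F) : Matrix (((Fin k ⊕ Fin k) ⊕ Fin 2)) (((Fin k ⊕ Fin k) ⊕ Fin 2)) F) = z • 1) →
      (∀ z : F, (x : Matrix (((Fin k ⊕ Fin k) ⊕ Fin 2)) (((Fin k ⊕ Fin k) ⊕ Fin 2)) F) ≠ z • 1) →
      ∃ W : Submodule F (((Fin k ⊕ Fin k) ⊕ Fin 2) → F), (Module.finrank F ↥W = 1 ∧ ∃ v ∈ W, Q v ≠ 0) ∧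
        W.map (Matrix.toLin' (x : Matrix (((Fin k ⊕ Fin k) ⊕ Fin 2)) (((Fin k ⊕ Fin k) ⊕ Fin 2)) F)) ≤ W) →
      ∀ g : CfsgLib.Quad.oGroup Q, g ∈ commutator (CfsgLib.Quad.oGroup Q) → g ^ r = 1 → g ≠ 1 →
        ∃ v, g.1 v = v ∧ Q v ≠ 0 := by
    intro hall g hg hgr hg1
    obtain ⟨x, hx, hxg⟩ := hmkΩ g hg
    have hxr : ((x ^ r : GL (((Fin k ⊕ Fin k) ⊕ Fin 2)) F) : Matrix (((Fin k ⊕ Fin k) ⊕ Fin 2)) (((Fin k ⊕ Fin k) ⊕ Fin 2)) F) = (1 : F) • 1 := by
      have hpow : ∀ n v, ((x ^ n : GL (((Fin k ⊕ Fin k) ⊕ Fin 2)) F) : Matrix _ _ F) *ᵥ v = (g ^ n).1 v := by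
        intro n
        induction n with
        | zero => intro v; simp
        | succ n ih =>
          intro v
          rw [pow_succ, Units.val_mul, ← Matrix.mulVec_mulVec, hxg, ih, pow_succ]
          rfl
      refine Matrix.toLin'.injective (LinearMap.ext fun v => ?_)
      rw [Matrix.toLin'_apply, hpow, hgr, one_smul, Matrix.toLin'_one]
      rfl
    obtain ⟨W, ⟨hW, v, hv, hQv⟩, hWx⟩ := hall x hx ⟨1, hxr⟩ (hnonfix x g (fun v => (hxg v).symm) hg1)
    have hv0 : v ≠ 0 := fun e => hQv (by rw [e, QuadraticMap.map_zero])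
    obtain ⟨c, hc⟩ : ∃ c : F, c • v = g.1 v := by
      have h1 : g.1 v ∈ W := hWx ⟨v, hv, by rw [Matrix.toLin'_apply, hxg]⟩
      have hWeq : (F ∙ v) = W := Submodule.eq_of_le_of_finrank_eq
        ((Submodule.span_singleton_le_iff_mem v W).2 hv) (by rw [finrank_span_singleton hv0, hW])
      rw [← hWeq] at h1
      exact Submodule.mem_span_singleton.1 h1
    refine ⟨v, ?_, hQv⟩
    have h := g.2 v
    rw [← hc, QuadraticMap.map_smul, smul_eq_mul] at h
    have hc1 : c = 1 := by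
      rcases mul_self_eq_one_iff.1 (mul_right_cancel₀ hQv (h.trans (one_mul _).symm)) with e | e
      · exact e
      · rw [e, CharTwo.neg_eq]
    rw [← hc, hc1, one_smul]
  constructor
  · intro hall
    by_contra hr2
    have hrr := (Fact.out : r.Prime)
    -- count the points
    have : Finite (Submodule F (((Fin k ⊕ Fin k) ⊕ Fin 2) → F)) :=
      Finite.of_injective (fun W => (W : Set (((Fin k ⊕ Fin k) ⊕ Fin 2) → F))) SetLike.coe_injective
    set Wt := {W : Submodule F (((Fin k ⊕ Fin k) ⊕ Fin 2) → F) // Module.finrank F ↥W = 1 ∧ ∃ v ∈ W, Q v ≠ 0}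
    have hsmul : ∀ (c : F) v, Q (c • v) = c * c * Q v := fun c v => by rw [QuadraticMap.map_smul, smul_eq_mul]
    let φ : {v // Q v ≠ 0} → Wt := fun v => ⟨F ∙ v.1,
      finrank_span_singleton (fun e => v.2 (by rw [e, QuadraticMap.map_zero])),
      v.1, Submodule.mem_span_singleton_self _, v.2⟩
    have hfib : ∀ W : Wt, Nat.card {v : {v // Q v ≠ 0} // φ v = W} = Fintype.card F - 1 := by
      rintro ⟨W, hW, v0, hv0, hQ0⟩
      have hne : v0 ≠ 0 := fun e => hQ0 (by rw [e, QuadraticMap.map_zero])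
      have hWeq : (F ∙ v0) = W := Submodule.eq_of_le_of_finrank_eq
        ((Submodule.span_singleton_le_iff_mem v0 W).2 hv0) (by rw [finrank_span_singleton hne, hW])
      rw [← Fintype.card_units, ← Nat.card_eq_fintype_card]
      refine Nat.card_congr (Equiv.ofBijective (fun c : Fˣ => (⟨⟨(c : F) • v0, by
        rw [hsmul]; exact mul_ne_zero (mul_ne_zero c.ne_zero c.ne_zero) hQ0⟩, Subtype.ext (by
          show (F ∙ (c : F) • v0) = W
          rw [← hWeq]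
          exact Submodule.span_singleton_smul_eq c.isUnit v0)⟩ : {v : {v // Q v ≠ 0} // φ v = ⟨W, hW, v0, hv0, hQ0⟩}))
        ⟨fun a b e => Units.ext (smul_left_injective F hne (congrArg (fun v => v.1.1) e)), fun ⟨⟨v, hv⟩, e⟩ => ?_⟩).symm
      have h1 : v ∈ W := by
        rw [← show (F ∙ v) = W from congrArg Subtype.val e]; exact Submodule.mem_span_singleton_self _
      rw [← hWeq] at h1
      obtain ⟨c, rfl⟩ := Submodule.mem_span_singleton.1 h1
      exact ⟨Units.mk0 c fun e0 => hv (by rw [e0, zero_smul, QuadraticMap.map_zero]), rfl⟩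
    have hN : Nat.card {v // Q v ≠ 0} = Nat.card Wt * (Fintype.card F - 1) := by
      have := Fintype.ofFinite Wt
      rw [Nat.card_congr (Equiv.sigmaFiberEquiv φ).symm, Nat.card_sigma, Finset.sum_congr rfl (fun W _ => hfib W),
        Finset.sum_const, smul_eq_mul, Finset.card_univ, ← Nat.card_eq_fintype_card]
    have hsplit : (Nat.card {v // Q v = 0} : ℤ) + Nat.card {v // Q v ≠ 0} = (Fintype.card F : ℤ) ^ (2 * k + 2) := by
      have h := Nat.card_congr (Equiv.sumCompl fun v : (Fin k ⊕ Fin k) ⊕ Fin 2 → F => Q v = 0)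
      rw [Nat.card_sum, Nat.card_fun, Nat.card_sum, Nat.card_sum, Nat.card_fin, Nat.card_fin,
        Nat.card_eq_fintype_card (α := F), show k + k + 2 = 2 * k + 2 by ring] at h
      exact_mod_cast h
    have hz := CfsgLib.Quad.zeros_minus (F := F) (q := Fintype.card F) Nat.card_eq_fintype_card hab k
    have hid : (Nat.card Wt : ℤ) * (Fintype.card F : ℤ) =
        (Fintype.card F : ℤ) ^ (k + 1) * ((Fintype.card F : ℤ) ^ (k + 1) + 1) := by
      have hq1 : (Fintype.card F : ℤ) - 1 ≠ 0 := by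
        have := Fintype.one_lt_card (α := F); omega
      refine mul_right_cancel₀ hq1 ?_
      rw [hN] at hsplit
      push_cast [Nat.cast_sub (Fintype.card_pos (α := F))] at hsplit
      linear_combination (Fintype.card F : ℤ) * hsplit - hz
    have hrd : r ∣ Fintype.card F ^ (k + 1) + 1 := by
      have h1 : (r : ℤ) ∣ (Fintype.card F : ℤ) ^ (k + 1) * ((Fintype.card F : ℤ) ^ (k + 1) + 1) :=
        hid ▸ dvd_mul_of_dvd_left (Int.natCast_dvd_natCast.2 hrΩ) _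
      rcases (Nat.prime_iff_prime_int.1 hrr).dvd_mul.1 h1 with h | h
      · have h' := (Nat.prime_iff_prime_int.1 hrr).dvd_of_dvd_pow h
        exact absurd ((ZMod.natCast_eq_zero_iff _ _).2 (Int.natCast_dvd_natCast.1 h'))
          (CfsgLib.Elusive.card_ne_zero_mod (F := F) (p := 2) hr2)
      · exact_mod_cast h
    obtain ⟨g, hgr, hg1, hg0⟩ := CfsgLib.Elusive.exists_minus_fpf (p := 2) hr2 hr2 hab k hrd
    have hg : g ∈ commutator (CfsgLib.Quad.oGroup Q) := by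
      rw [CfsgLib.Quad.mem_commutator_iff_fixSp hQ hgen, hdim,
        show CfsgLib.Quad.fixSp g = ⊥ from (Submodule.eq_bot_iff _).2 fun v hv => hg0 v (CfsgLib.Quad.mem_fixSp.1 hv),
        finrank_bot]
      exact ⟨k + 1, by ring⟩
    obtain ⟨v, hv, hQv⟩ := hbad hall g hg hgr hg1
    exact hQv (by rw [hg0 v hv, QuadraticMap.map_zero])
  · rintro rfl x hx ⟨z, hxz⟩ hns
    obtain ⟨g, hg, hgx⟩ := hmemΩ x hx
    have hgg : ∀ v, g.1 (g.1 v) = z • v := fun v => by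
      rw [hgx, hgx, Matrix.mulVec_mulVec, ← Units.val_mul, ← pow_two, hxz, Matrix.smul_mulVec, Matrix.one_mulVec]
    have hz1 : z = 1 := by
      have h := (g.2 (g.1 w0)).trans (g.2 w0)
      rw [hgg, QuadraticMap.map_smul, smul_eq_mul, hv, mul_one] at h
      rcases mul_self_eq_one_iff.1 h with e | e
      · exact e
      · rw [e, CharTwo.neg_eq]
    obtain ⟨v, hv, hQv⟩ : ∃ v, g.1 v = v ∧ Q v ≠ 0 := by
      by_contra hno
      push Not at hno
      have h1 := CfsgLib.AutPOm.ts_bound_minusQ hab k (CfsgLib.Quad.fixSp g) fun v hv => hno v (CfsgLib.Quad.mem_fixSp.1 hv)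
      have hle : LinearMap.range (g.1.toLinearMap - LinearMap.id) ≤ CfsgLib.Quad.fixSp g := by
        rintro _ ⟨w, rfl⟩
        rw [CfsgLib.Quad.mem_fixSp]
        show g.1 (g.1 w - w) = g.1 w - w
        rw [map_sub, hgg, hz1, one_smul]
        funext s
        simp only [Pi.sub_apply]
        linear_combination (w s - g.1 w s) * h2
      have h3 := LinearMap.finrank_range_add_finrank_ker (g.1.toLinearMap - LinearMap.id)
      have h4 := Submodule.finrank_mono hle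
      rw [hdim] at h3
      change _ + Module.finrank F (CfsgLib.Quad.fixSp g) = _ at h3
      omega
    refine ⟨F ∙ v, ⟨finrank_span_singleton (fun e => hQv (by rw [e, QuadraticMap.map_zero])), v,
      Submodule.mem_span_singleton_self _, hQv⟩, ?_⟩
    rw [Submodule.map_span, Set.image_singleton, Matrix.toLin'_apply, ← hgx, hv]

end Cfsg.Agent.S5986
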