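import Cfsg.Statements.S5987
import Cfsg.Agent.Elusive2.OrthSingMain
-- import your own Cfsg.Agent.* helpers here

set_option autoImplicit false
open scoped MatrixGroups
open Cfsg

namespace Cfsg.Agent.S5987

open Module CfsgLib.Elusive CfsgLib.Elusive2

/-- Elements of prime order of PΩ⁻_n(q) with no fixed totally singular `m`-space. Here `T = PΩ⁻_n(F)`, `n = 2d ≥ 8`, realised through `Ω⁻_n(q)`, the commutator subgroup of the isometry group of `Q = Σ_{i<d−1} xᵢyᵢ + z₁² + a z₁z₂ + b z₂²` with `z₁² + a z₁z₂ + b z₂²` anisotropic, over the field `F` with `q` elements; an element of `T` of prime order `r` is an element `x` of `Ω⁻_n(q)` with `x^r` scalar and `x` not scalar. Let `1 ≤ m ≤ d − 1` and let `r` be a prime dividing the number of totally singular `m`-spaces (subspaces of dimension `m` on which `Q` vanishes); for `r ≠ p` let `i` be the multiplicative order of `q` modulo `r`, `c = i` for `i` even and `c = 2i` for `i` odd,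 and write `k = n mod c`, `ℓ = m mod i`, `n' = ⌊n/i⌋`, `m' = ⌊m/i⌋`, `t = (r−1)/i`. Then every element of `T` of order `r` fixes some totally singular `m`-space if and only if one of: (i) `r = 2 ≠ p` and (`n ≡ 0 (mod 4)`, or `m` is even, or `q ≢ 7 (mod 8)`); (ii) `r ≠ p` odd, `i` odd, `i ≤ m` and (`k = 0` or `k > 2ℓ`); (iii) `r ≠ p` odd, `i` even, `i ≤ m`, `n' − 2m' ≥ t`, and one of: (a) `i ≥ 2ℓ`, `k = 0`, `n/i` even and `n' − 2m' > t` (all four); (b) `k ≥ 2ℓ` and `n'` odd; (c) `k > 2ℓ` and `n'` even. -/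
theorem result {F : Type*} [Field F] [Fintype F] {p : ℕ} [Fact p.Prime] [CharP F p] {q : ℕ} (hq : Fintype.card F = q)
    (d m : ℕ) (hd : 4 ≤ d) (hm : 1 ≤ m) (hmd : m + 1 ≤ d) (a b : F) (hab : ∀ x y : F, x ^ 2 + a * x * y + b * y ^ 2 = 0 → x = 0 ∧ y = 0)
    (r : ℕ) [Fact r.Prime]
    (hrΩ : r ∣ Nat.card {W : Submodule F ((Fin (d - 1) ⊕ Fin (d - 1)) ⊕ Fin 2 → F) // Module.finrank F ↥W = m ∧ Cfsg.Geo.IsTotallySingularQuad (Cfsg.quadFormMinus (d - 1) F a b) W})
    (i c : ℕ) (hi : i = orderOf (q : ZMod r)) (hc : c = if Even i then i else 2 * i) :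
    (∀ x : GL ((Fin (d - 1) ⊕ Fin (d - 1)) ⊕ Fin 2) F, x ∈ Cfsg.Geo.omegaGL (Cfsg.quadFormMinus (d - 1) F a b) →
      (∃ z : F, ((x ^ r : GL ((Fin (d - 1) ⊕ Fin (d - 1)) ⊕ Fin 2) F) : Matrix ((Fin (d - 1) ⊕ Fin (d - 1)) ⊕ Fin 2) ((Fin (d - 1) ⊕ Fin (d - 1)) ⊕ Fin 2) F) = z • (1 : Matrix ((Fin (d - 1) ⊕ Fin (d - 1)) ⊕ Fin 2) ((Fin (d - 1) ⊕ Fin (d - 1)) ⊕ Fin 2) F)) →
      (∀ z : F, (x : Matrix ((Fin (d - 1) ⊕ Fin (d - 1)) ⊕ Fin 2) ((Fin (d - 1) ⊕ Fin (d - 1)) ⊕ Fin 2) F) ≠ z • (1 : Matrix ((Fin (d - 1) ⊕ Fin (d - 1)) ⊕ Fin 2) ((Fin (d - 1) ⊕ Fin (d - 1)) ⊕ Fin 2) F)) →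
      ∃ W : Submodule F ((Fin (d - 1) ⊕ Fin (d - 1)) ⊕ Fin 2 → F), (Module.finrank F ↥W = m ∧ Cfsg.Geo.IsTotallySingularQuad (Cfsg.quadFormMinus (d - 1) F a b) W) ∧ W.map (Matrix.toLin' (x : Matrix ((Fin (d - 1) ⊕ Fin (d - 1)) ⊕ Fin 2) ((Fin (d - 1) ⊕ Fin (d - 1)) ⊕ Fin 2) F)) ≤ W) ↔
    ((r = 2 ∧ p ≠ 2 ∧ (Even d ∨ Even m ∨ q % 8 ≠ 7)) ∨
     (r ≠ p ∧ 2 < r ∧ Odd i ∧ i ≤ m ∧ ((2 * d) % c = 0 ∨ 2 * (m % i) < (2 * d) % c)) ∨
     (r ≠ p ∧ 2 < r ∧ Even i ∧ i ≤ m ∧ (r - 1) / i + 2 * (m / i) ≤ (2 * d) / i ∧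
       ((2 * (m % i) ≤ i ∧ (2 * d) % c = 0 ∧ Even ((2 * d) / i) ∧ (r - 1) / i + 2 * (m / i) < (2 * d) / i) ∨
        (2 * (m % i) ≤ (2 * d) % c ∧ Odd ((2 * d) / i)) ∨
        (2 * (m % i) < (2 * d) % c ∧ Even ((2 * d) / i))))) := by
  classical
  subst hq
  have hQc : Cfsg.quadFormMinus (d - 1) F a b = ⇑(CfsgLib.Quad.minusQ (F := F) (d - 1) a b) :=
    (CfsgLib.Quad.minusQ_coe (d - 1) a b).symm
  have hQ := CfsgLib.Quad.minusQ_nondeg (F := F) hab (d - 1)
  have hn : finrank F ((Fin (d - 1) ⊕ Fin (d - 1)) ⊕ Fin 2 → F) = 2 * d := by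
    rw [finrank_fintype_fun_eq_card]; simp; omega
  have hgen : (∃ t : F, t ≠ 0 ∧ t ≠ 1) ∨ finrank F ((Fin (d - 1) ⊕ Fin (d - 1)) ⊕ Fin 2 → F) ≠ 4 :=
    Or.inr (by omega)
  have hεV : IsPlus (CfsgLib.Quad.minusQ (F := F) (d - 1) a b) ⊤ ↔ False := iff_false_intro (not_isPlus_minusQ hab _)
  rw [hQc] at hrΩ ⊢
  simp only [Cfsg.Geo.IsTotallySingularQuad] at hrΩ ⊢
  rcases eq_or_ne r p with hrp | hrp
  · subst hrp
    exact absurd hrΩ (not_dvd_card_sing (p := r) (ndg_top_iff.2 hQ) (by rw [hn]; omega))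
  rcases eq_or_ne r 2 with hr2 | hr2
  · subst hr2
    have hodd : Odd (Fintype.card F) :=
      Nat.odd_iff.2 (FiniteField.odd_card_of_char_ne_two (by rw [ringChar.eq F p]; exact Ne.symm hrp))
    have h2 : (2 : F) ≠ 0 := two_ne_zero_of_odd_card hodd
    rw [forall_two_comm_iff h2 hQ hgen hn (fun W => finrank F W = m ∧ ∀ w ∈ W, (CfsgLib.Quad.minusQ (F := F) (d - 1) a b) w = 0)
      (False → IsSquare (-1 : F) ∨ m + 2 ≤ d) (IsSquare (-1 : F) ∨ Even m)
      (fun hI f hf hff => by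
        obtain ⟨W, hWd, hW0, hinv⟩ := involution_sing_even h2 hQ hgen hn (by omega) (fun h => hI (hεV.1 h)) hf hff
        exact ⟨W, ⟨hWd, hW0⟩, hinv⟩)
      (fun hI => by
        push Not at hI
        obtain ⟨g, hg, hgg, hns, hno⟩ := exists_involution_no_sing h2 hI.2.1 hQ (by rw [hn]; omega)
        refine ⟨g, hg, hgg, hns, fun W hW hinv => ?_⟩
        rcases hno W hinv hW.2 with h | ⟨h, hp⟩
        · rw [hW.1, hn] at h; omega
        · exact hp (hεV.2 hI.1))
      (fun f hf => quarter_sing_iff h2 hQ hn (by omega) hf),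
      hεV, isSquare_neg_one_iff_mod hodd, isSquare_two_iff_mod hodd]
    simp only [true_iff, false_iff, true_implies, false_implies, ne_eq, Ne.symm hrp, not_false_eq_true, Nat.even_iff,
      Nat.odd_iff, lt_irrefl, false_and, and_false, or_false, true_and]
    have := Nat.odd_iff.1 hodd
    omega
  have hr3 : 2 < r := lt_of_le_of_ne (Fact.out : r.Prime).two_le (Ne.symm hr2)
  have hrF : (r : F) ≠ 0 := cast_ne_zero_of_ne (p := p) hrp
  have hi' : i = ordq F r := hi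
  have hic : c = blockDim i := by rw [hc]; rfl
  have hall := all_fix_sing (m := m) hQ hrF hr2 hn (by omega) False (fun _ => hεV) hrΩ
  rw [forall_scalar_iff hQ hgen hr2 fun W => finrank F W = m ∧ ∀ w ∈ W, (CfsgLib.Quad.minusQ (F := F) (d - 1) a b) w = 0]
  rw [← hi'] at hall
  rw [hall]
  simp only [SingCrit, Room, ← hic]
  have hc0 : 0 < c := hic ▸ hi' ▸ blockDim_pos hrF
  have hc2 : c % 2 = 0 := Nat.even_iff.1 (hic ▸ blockDim_even i)
  have hne : r ≠ p ↔ True := iff_true_intro hrp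
  simp only [hr2, hne, hr3, false_and, false_or, true_and]
  have hN0 := Nat.div_add_mod (2 * d) c
  rw [Nat.mul_comm] at hN0
  have hN1 := Nat.mod_lt (2 * d) hc0
  have hk2 : (2 * d) % c % 2 = (2 * d) % 2 := Nat.mod_mod_of_dvd _ (Nat.dvd_of_mod_eq_zero hc2)
  rcases Nat.even_or_odd i with hi2 | hi2
  · have hci : c = i := by rw [hic, blockDim, if_pos hi2]
    subst hci
    obtain ⟨hd1, hd2⟩ := sing_data (2 * d) m c ((r - 1) / c)
    obtain ⟨hlt, heq, hgt⟩ := mul_cases ((r - 1) / c + 2 * (m / c)) ((2 * d) / c) c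
    rw [hd1]
    have hl := Nat.mod_lt m hc0
    by_cases hbad : BadTop (2 * d) c False
    · rw [topS, if_pos hbad]
      simp only [BadTop, ← hic, blkType, Nat.not_odd_iff_even.2 hi2, hi2, false_or, false_and, or_false, true_and, true_iff, false_iff,
        Nat.not_even_iff, Nat.even_iff, Nat.odd_iff, imp_self, forall_const, and_true, true_implies] at hbad ⊢
      obtain ⟨N, hNe⟩ : ∃ N, (2 * d) / c = N + 1 := ⟨(2 * d) / c - 1, by
        rcases Nat.eq_zero_or_pos ((2 * d) / c) with e | e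
        · rw [e] at hN0; omega
        · omega⟩
      obtain ⟨hlt', heq', hgt'⟩ := mul_cases ((r - 1) / c + 2 * (m / c)) N c
      simp only [hNe, Nat.add_sub_cancel, Nat.add_mul, Nat.one_mul] at hN0 hd2 hlt heq hgt hlt' heq' hgt' hbad ⊢
      omega
    · rw [topS, if_neg hbad]
      simp only [BadTop, ← hic, blkType, Nat.not_odd_iff_even.2 hi2, hi2, false_or, false_and, or_false, true_and, true_iff, false_iff,
        Nat.not_even_iff, Nat.even_iff, Nat.odd_iff, imp_self, forall_const, and_true, true_implies] at hbad ⊢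
      omega
  · have hne2 : ¬ Even i := Nat.not_even_iff_odd.2 hi2
    have hl := Nat.mod_lt m (show 0 < i from hi' ▸ ordq_pos hrF)
    have hc2i : c = 2 * i := by rw [hic, blockDim, if_neg hne2]
    by_cases hbad : BadTop (2 * d) i False
    · rw [topS, if_pos hbad]
      simp only [BadTop, ← hic, blkType, hi2, hne2, true_or, false_and, or_false, false_or, true_and, and_true,
        true_iff, false_iff, iff_true, not_true, not_false_eq_true, and_false, false_implies, imp_true_iff] at hbad ⊢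
      all_goals
        obtain ⟨N, hNe⟩ : ∃ N, (2 * d) / c = N + 1 := ⟨(2 * d) / c - 1, by
          rcases Nat.eq_zero_or_pos ((2 * d) / c) with e | e
          · rw [e] at hN0; omega
          · omega⟩
        simp only [hNe, Nat.add_sub_cancel, Nat.add_mul, Nat.one_mul] at hN0 hbad ⊢
        omega
    · rw [topS, if_neg hbad]
      simp only [BadTop, ← hic, blkType, hi2, hne2, true_or, false_and, or_false, false_or, true_and, and_true,
        true_iff, false_iff, iff_true, not_true, not_false_eq_true, and_false, false_implies, imp_true_iff] at hbad ⊢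
      all_goals omega

end Cfsg.Agent.S5987
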