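import Cfsg.Statements.S5988
import Cfsg.Agent.Elusive2.OrthPlusMinus
-- import your own Cfsg.Agent.* helpers here

set_option autoImplicit false
open scoped MatrixGroups
open Cfsg

namespace Cfsg.Agent.S5988

open Module CfsgLib.Elusive CfsgLib.Elusive2

/-- Elements of prime order of PΩ⁺_n(q) with no fixed elliptic `m`-space. Here `T = PΩ⁺_n(F)`, `n = 2d ≥ 8`, realised through `Ω⁺_n(q)`, the commutator subgroup of the isometry group of `Q = Σ xᵢyᵢ` over the field `F` with `q` elements; an element of `T` of prime order `r` is an element `x` of `Ω⁺_n(q)` with `x^r` scalar and `x` not scalar; a nondegenerate `m`-space (even `m`) is a subspace on which the polar form of `Q` is nondegenerate; it is hyperbolic if it contains an `m/2`-dimensional subspace on which `Q` vanishes, elliptic otherwise. Let `m` be even with `2 ≤ m < n/2` and let `r` be a prime dividing the number of elliptic `m`-spaces; for `r ≠ p` let `i` be the multiplicative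 order of `q` modulo `r`, `c = i` for `i` even and `c = 2i` for `i` odd, and write `k = n mod c`, `ℓ = m mod i`, `ℓ' = m mod c`, `n' = ⌊n/i⌋`, `m' = ⌊m/i⌋`, `t = (r−1)/i`. Then every element of `T` of order `r` fixes some elliptic `m`-space if and only if one of: (i) `r = 2 ≠ p` and either `n ≡ 0 (mod 4)`, `q ≡ 3 (mod 4)` and `m ≡ 2 (mod 4)`, or `n ≡ 2 (mod 4)` and `q ≢ 1 (mod 8)`; (ii) `r ≠ p` odd, `i` odd, `c ≤ m` and `k > ℓ' > 0`; (iii) `r ≠ p` odd, `i` even, and either `k = 0` and (`n/i` odd, or `ℓ' = 0` and `m/i` odd), or `i ≤ m` and (`k > ℓ' > 0`, or `k = ℓ' > 0` and `(n + m − 2k)/i` odd, or `k > ℓ' = 0` and `m/i` odd). (For `r = p` there is always an element of order `p` fixing no elliptic `m`-space.) -/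
theorem result {F : Type*} [Field F] [Fintype F] {p : ℕ} [Fact p.Prime] [CharP F p] {q : ℕ} (hq : Fintype.card F = q)
    (d m : ℕ) (hd : 4 ≤ d) (hm : 2 ≤ m) (hme : Even m) (hmd : m < d)
    (r : ℕ) [Fact r.Prime]
    (hrΩ : r ∣ Nat.card {W : Submodule F (Fin d ⊕ Fin d → F) // Module.finrank F ↥W = m ∧ Cfsg.Geo.IsNondegenerateOn (QuadraticMap.polar (Cfsg.quadFormPlus d F)) W ∧ ¬ Cfsg.Geo.IsPlusTypeOn (Cfsg.quadFormPlus d F) W})
    (i c : ℕ) (hi : i = orderOf (q : ZMod r)) (hc : c = if Even i then i else 2 * i) :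
    (∀ x : GL (Fin d ⊕ Fin d) F, x ∈ Cfsg.Geo.omegaGL (Cfsg.quadFormPlus d F) →
      (∃ z : F, ((x ^ r : GL (Fin d ⊕ Fin d) F) : Matrix (Fin d ⊕ Fin d) (Fin d ⊕ Fin d) F) = z • (1 : Matrix (Fin d ⊕ Fin d) (Fin d ⊕ Fin d) F)) →
      (∀ z : F, (x : Matrix (Fin d ⊕ Fin d) (Fin d ⊕ Fin d) F) ≠ z • (1 : Matrix (Fin d ⊕ Fin d) (Fin d ⊕ Fin d) F)) →
      ∃ W : Submodule F (Fin d ⊕ Fin d → F), (Module.finrank F ↥W = m ∧ Cfsg.Geo.IsNondegenerateOn (QuadraticMap.polar (Cfsg.quadFormPlus d F)) W ∧ ¬ Cfsg.Geo.IsPlusTypeOn (Cfsg.quadFormPlus d F) W) ∧ W.map (Matrix.toLin' (x : Matrix (Fin d ⊕ Fin d) (Fin d ⊕ Fin d) F)) ≤ W) ↔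
    ((r = 2 ∧ p ≠ 2 ∧ ((Even d ∧ q % 4 = 3 ∧ m % 4 = 2) ∨ (Odd d ∧ q % 8 ≠ 1))) ∨
     (r ≠ p ∧ 2 < r ∧ Odd i ∧ c ≤ m ∧ 0 < m % c ∧ m % c < (2 * d) % c) ∨
     (r ≠ p ∧ 2 < r ∧ Even i ∧
       (((2 * d) % c = 0 ∧ (Odd ((2 * d) / i) ∨ (m % c = 0 ∧ Odd (m / i)))) ∨
        (i ≤ m ∧ ((0 < m % c ∧ m % c < (2 * d) % c) ∨
                  (0 < m % c ∧ m % c = (2 * d) % c ∧ Odd ((2 * d + m - 2 * ((2 * d) % c)) / i)) ∨
                  (m % c = 0 ∧ 0 < (2 * d) % c ∧ Odd (m / i))))))) := by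
  classical
  subst hq
  haveI : Nonempty (Fin d ⊕ Fin d) := ⟨Sum.inl ⟨0, by omega⟩⟩
  have hQc : Cfsg.quadFormPlus d F = ⇑(CfsgLib.Quad.plusQ (F := F) d) := (CfsgLib.Quad.plusQ_coe d).symm
  have hQ := CfsgLib.Quad.plusQ_nondeg (F := F) d
  have hn : finrank F (Fin d ⊕ Fin d → F) = 2 * d := by
    rw [finrank_fintype_fun_eq_card]; simp [two_mul]
  have hgen : (∃ t : F, t ≠ 0 ∧ t ≠ 1) ∨ finrank F (Fin d ⊕ Fin d → F) ≠ 4 := Or.inr (by omega)
  have hεV : IsPlus (CfsgLib.Quad.plusQ (F := F) d) ⊤ ↔ True := iff_true_intro (isPlus_plusQ d)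
  have hiff : ∀ W : Submodule F (Fin d ⊕ Fin d → F),
      (finrank F W = m ∧ Cfsg.Geo.IsNondegenerateOn (QuadraticMap.polar ⇑(CfsgLib.Quad.plusQ (F := F) d)) W ∧
        ¬ Cfsg.Geo.IsPlusTypeOn ⇑(CfsgLib.Quad.plusQ (F := F) d) W) ↔
      (finrank F W = m ∧ Ndg (QuadraticMap.polarBilin (CfsgLib.Quad.plusQ (F := F) d)) W ∧ (IsPlus (CfsgLib.Quad.plusQ (F := F) d) W ↔ False)) := fun W => by
    rw [ndgOn_iff, plusOn_iff]
    simp
  rw [hQc] at hrΩ ⊢
  simp only [hiff] at hrΩ ⊢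
  rcases eq_or_ne r p with hrp | hrp
  · subst hrp
    refine iff_of_false ?_ (by rintro (h | h | h); exacts [h.2.1 h.1, h.1 rfl, h.1 rfl])
    obtain ⟨g, hg, hgp, hg1, hN, hQN, hrank⟩ := exists_levi_unipotent (F := F) (d := d) (p := r) (by omega)
    refine not_all_fix_of_elt hg hgp hg1 fun W hW hinv => ?_
    exact hW.2.2.1 ((levi_fixed_shape hN hQN hrank hW.2.1 hinv).2 (hW.1.symm ▸ hme))
  rcases eq_or_ne r 2 with hr2 | hr2
  · subst hr2
    have hodd : Odd (Fintype.card F) :=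
      Nat.odd_iff.2 (FiniteField.odd_card_of_char_ne_two (by rw [ringChar.eq F p]; exact Ne.symm hrp))
    have h2 : (2 : F) ≠ 0 := two_ne_zero_of_odd_card hodd
    rw [forall_two_iff h2 hQ hgen hn _ _ (fun f hf => involution_fix_type h2 hQ hn hme (by omega) hmd False hf)
      (fun f hf => quarter_fix_type h2 hQ hn hme (by omega) False hf),
      hεV, isSquare_neg_one_iff_mod hodd, isSquare_two_iff_mod hodd]
    simp only [true_iff, false_iff, ne_eq, Ne.symm hrp, not_false_eq_true, Nat.even_iff, Nat.odd_iff, lt_irrefl, false_and,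
      and_false, or_false, true_and]
    have := Nat.odd_iff.1 hodd
    have := Nat.even_iff.1 hme
    omega
  have hr3 : 2 < r := lt_of_le_of_ne (Fact.out : r.Prime).two_le (Ne.symm hr2)
  have hr : (r : F) ≠ 0 := cast_ne_zero_of_ne (p := p) hrp
  have hi' : i = ordq F r := hi
  have hic : c = blockDim i := by rw [hc]; rfl
  obtain ⟨hall, hlarge⟩ :=
    all_fix_type hQ hr hr2 hn (even_two_mul d) hme (by omega) (by omega) True hεV False hrΩ
  rw [forall_scalar_iff hQ hgen hr2, hall]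
  rw [← hi'] at hlarge ⊢
  simp only [EvenCrit, BadTop, ← hic] at hlarge ⊢
  have hc0 : 0 < c := hic ▸ hi' ▸ blockDim_pos hr
  have hc2 : c % 2 = 0 := Nat.even_iff.1 (hic ▸ blockDim_even i)
  have hne : r ≠ p ↔ True := iff_true_intro hrp
  simp only [hr2, hne, hr3, false_and, false_or, true_and]
  rcases Nat.even_or_odd i with hi2 | hi2
  · have hci : c = i := by rw [hic, blockDim, if_pos hi2]
    subst hci
    have hsum : m % c = (2 * d) % c → (2 * d + m - 2 * ((2 * d) % c)) / c = 2 * d / c + m / c :=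
      div_add_div_of_mod_eq hc0
    simp only [blkType, Nat.not_odd_iff_even.2 hi2, hi2, false_or, false_and, true_and, true_iff, false_iff, iff_false,
      iff_true, imp_false, imp_true_iff, Nat.not_even_iff, Nat.even_iff, Nat.odd_iff] at hlarge ⊢
    omega
  · simp only [blkType, Nat.not_even_iff_odd.2 hi2, hi2, true_or, false_and, or_false, true_and, true_iff, false_iff,
      iff_false, iff_true, imp_false, imp_true_iff, not_true, not_false_eq_true, and_false, and_true, false_or] at hlarge ⊢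
    omega

end Cfsg.Agent.S5988
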