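import Cfsg.Statements.S5989
import Cfsg.Agent.Elusive2.OrthPlusMinus
-- import your own Cfsg.Agent.* helpers here

set_option autoImplicit false
open scoped MatrixGroups
open Cfsg

namespace Cfsg.Agent.S5989

open Module CfsgLib.Elusive CfsgLib.Elusive2

/-- Elements of prime order of PΩ⁺_n(q), q odd, with no fixed nondegenerate `m`-space of odd dimension. Here `T = PΩ⁺_n(F)`, `n = 2d ≥ 8`, realised through `Ω⁺_n(q)`, the commutator subgroup of the isometry group of `Q = Σ xᵢyᵢ` over the field `F` with `q` elements; an element of `T` of prime order `r` is an element `x` of `Ω⁺_n(q)` with `x^r` scalar and `x` not scalar; `q` and `m` are odd, `1 ≤ m < n/2`. The nondegenerate `m`-spaces (subspaces on which the polar form is nondegenerate) fall into two isometry classes, each an orbit of `T`, and the two actions are equivalent; fix one such space `W₀` and let Ω be the set of nondegenerate `m`-spaces isometric to `W₀` (some linear isomorphism preserves `Q`). Let `r` be a prime dividing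 the size of Ω; for `r ≠ p` let `i` be the multiplicative order of `q` modulo `r`, `c = i` for `i` even and `c = 2i` for `i` odd, and write `k = n mod c`, `ℓ = m mod i`, `ℓ' = m mod c`, `n' = ⌊n/i⌋`, `m' = ⌊m/i⌋`, `t = (r−1)/i`. Then every element of `T` of order `r` fixes a member of Ω if and only if one of: (i) `r = 2`, `n ≡ 2 (mod 4)` and `q ≢ 1 (mod 8)`; (ii) `r ≠ p` odd, `i` odd, `c ≤ m` and `k > ℓ' > 0`; (iii) `r ≠ p` odd, `i` even, and either `k = 0` and `n/i` odd, or `i ≤ m` and `k > ℓ' > 0`. (For `r = p` there is always an element of order `p` fixing no member of Ω.) -/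
theorem result {F : Type*} [Field F] [Fintype F] {p : ℕ} [Fact p.Prime] [CharP F p] {q : ℕ} (hq : Fintype.card F = q)
    (hodd : Odd q) (d m : ℕ) (hd : 4 ≤ d) (hm : Odd m) (hmd : m < d)
    (W₀ : Submodule F (Fin d ⊕ Fin d → F)) (hW₀ : Module.finrank F ↥W₀ = m ∧ Cfsg.Geo.IsNondegenerateOn (QuadraticMap.polar (Cfsg.quadFormPlus d F)) W₀)
    (r : ℕ) [Fact r.Prime]
    (hrΩ : r ∣ Nat.card {W : Submodule F (Fin d ⊕ Fin d → F) // Module.finrank F ↥W = m ∧ Cfsg.Geo.IsNondegenerateOn (QuadraticMap.polar (Cfsg.quadFormPlus d F)) W ∧ Cfsg.Geo.AreIsometricFor (Cfsg.quadFormPlus d F) W W₀})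
    (i c : ℕ) (hi : i = orderOf (q : ZMod r)) (hc : c = if Even i then i else 2 * i) :
    (∀ x : GL (Fin d ⊕ Fin d) F, x ∈ Cfsg.Geo.omegaGL (Cfsg.quadFormPlus d F) →
      (∃ z : F, ((x ^ r : GL (Fin d ⊕ Fin d) F) : Matrix (Fin d ⊕ Fin d) (Fin d ⊕ Fin d) F) = z • (1 : Matrix (Fin d ⊕ Fin d) (Fin d ⊕ Fin d) F)) →
      (∀ z : F, (x : Matrix (Fin d ⊕ Fin d) (Fin d ⊕ Fin d) F) ≠ z • (1 : Matrix (Fin d ⊕ Fin d) (Fin d ⊕ Fin d) F)) →
      ∃ W : Submodule F (Fin d ⊕ Fin d → F), (Module.finrank F ↥W = m ∧ Cfsg.Geo.IsNondegenerateOn (QuadraticMap.polar (Cfsg.quadFormPlus d F)) W ∧ Cfsg.Geo.AreIsometricFor (Cfsg.quadFormPlus d F) W W₀) ∧ W.map (Matrix.toLin' (x : Matrix (Fin d ⊕ Fin d) (Fin d ⊕ Fin d) F)) ≤ W) ↔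
    ((r = 2 ∧ Odd d ∧ q % 8 ≠ 1) ∨
     (r ≠ p ∧ 2 < r ∧ Odd i ∧ c ≤ m ∧ 0 < m % c ∧ m % c < (2 * d) % c) ∨
     (r ≠ p ∧ 2 < r ∧ Even i ∧ (((2 * d) % c = 0 ∧ Odd ((2 * d) / i)) ∨ (i ≤ m ∧ 0 < m % c ∧ m % c < (2 * d) % c)))) := by
  classical
  subst hq
  haveI : Nonempty (Fin d ⊕ Fin d) := ⟨Sum.inl ⟨0, by omega⟩⟩
  have hQc : Cfsg.quadFormPlus d F = ⇑(CfsgLib.Quad.plusQ (F := F) d) := (CfsgLib.Quad.plusQ_coe d).symm
  have hQ := CfsgLib.Quad.plusQ_nondeg (F := F) d
  have hn : finrank F (Fin d ⊕ Fin d → F) = 2 * d := by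
    rw [finrank_fintype_fun_eq_card]; simp [two_mul]
  have hgen : (∃ t : F, t ≠ 0 ∧ t ≠ 1) ∨ finrank F (Fin d ⊕ Fin d → F) ≠ 4 := Or.inr (by omega)
  have hεV : IsPlus (CfsgLib.Quad.plusQ (F := F) d) ⊤ ↔ True := iff_true_intro (isPlus_plusQ d)
  have hiff : ∀ W : Submodule F (Fin d ⊕ Fin d → F),
      (finrank F W = m ∧ Cfsg.Geo.IsNondegenerateOn (QuadraticMap.polar ⇑(CfsgLib.Quad.plusQ (F := F) d)) W ∧
        Cfsg.Geo.AreIsometricFor ⇑(CfsgLib.Quad.plusQ (F := F) d) W W₀) ↔
      (finrank F W = m ∧ Ndg (QuadraticMap.polarBilin (CfsgLib.Quad.plusQ (F := F) d)) W ∧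
        ∃ e : W ≃ₗ[F] W₀, ∀ w : W, (CfsgLib.Quad.plusQ (F := F) d) (e w) = (CfsgLib.Quad.plusQ (F := F) d) w) := fun W => by
    rw [ndgOn_iff, isometricFor_iff]
  rw [hQc] at hrΩ hW₀ ⊢
  rw [ndgOn_iff] at hW₀
  simp only [hiff] at hrΩ ⊢
  have h2 : (2 : F) ≠ 0 := two_ne_zero_of_odd_card hodd
  have hpodd : Odd p := by
    refine (Fact.out : p.Prime).odd_of_ne_two ?_
    rintro rfl
    exact h2 (CharP.cast_eq_zero F 2)
  obtain ⟨hd₀, hn₀⟩ := hW₀
  rcases eq_or_ne r 2 with hr2 | hr2
  · subst hr2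
    rw [forall_two_iff h2 hQ hgen hn _ False
      (fun f hf => involution_fix_class h2 hQ hn hm hmd hd₀ hn₀ hf)
      (fun f hf => iff_false_intro fun ⟨W, hW, hinv⟩ => quarter_fix_odd h2 hm hf hW.1 hW.2.1 hinv),
      hεV, isSquare_neg_one_iff_mod hodd, isSquare_two_iff_mod hodd]
    simp only [true_iff, Nat.even_iff, Nat.odd_iff, lt_irrefl, false_and, and_false, or_false, true_and, imp_false]
    have := Nat.odd_iff.1 hodd
    omega
  have hr3 : 2 < r := lt_of_le_of_ne (Fact.out : r.Prime).two_le (Ne.symm hr2)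
  rcases eq_or_ne r p with hrp | hrp
  · subst hrp
    refine iff_of_false ?_ (by rintro (h | h | h); exacts [hr2 h.1, h.1 rfl, h.1 rfl])
    rcases Nat.even_or_odd d with hde | hdo
    · obtain ⟨g, hg, hgp, hg1, hN, hQN, hrank⟩ := exists_levi_unipotent (F := F) (d := d) (p := r) (by omega)
      refine not_all_fix_of_elt hg hgp hg1 fun W hW hinv => ?_
      have := (levi_fixed_shape hN hQN hrank hW.2.1 hinv).1 hde
      rw [hW.1] at this
      have := Nat.odd_iff.1 hm
      omega
    · rw [Nat.odd_iff] at hdo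
      intro hall
      have hcard : Fintype.card (Fin d ⊕ Fin d) = 2 * d := by simp; omega
      rcases (show m % 4 = 1 ∨ m % 4 = 3 by have := Nat.odd_iff.1 hm; omega) with hm4 | hm4
      · obtain ⟨ν, hν, hνs, hνe, -⟩ := orth_sub_partition h2 hpodd hQ (m := m)
          (P := fun W => ∃ e : W ≃ₗ[F] W₀, ∀ w : W, (CfsgLib.Quad.plusQ (F := F) d) (e w) = (CfsgLib.Quad.plusQ (F := F) d) w)
          (fun x hx hxp ho hns => by
            obtain ⟨W, ⟨h1, h3, h4⟩, hle⟩ := hall x hx ⟨1, by rw [hxp, one_smul]; rfl⟩ hns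
            exact ⟨W, ⟨h1, (ndgOn_iff W).2 h3, h4⟩, hle⟩)
          (μ := 3 ::ₘ 3 ::ₘ Multiset.replicate (d - 3) 2)
          (fun e he => by
            simp only [Multiset.mem_cons] at he
            rcases he with rfl | rfl | he
            · omega
            · omega
            · rw [Multiset.eq_of_mem_replicate he]; omega)
          (fun e he => by
            rw [Nat.even_iff] at he
            simp only [Multiset.count_cons, Multiset.count_replicate, Nat.even_iff]
            split_ifs <;> omega)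
          (by simp only [Multiset.sum_cons, Multiset.sum_replicate, smul_eq_mul, hcard]; omega)
          ⟨3, by simp, by decide⟩ ⟨3, by simp, by decide⟩
        obtain ⟨a', b', hab', hb'⟩ := exists_sub_two (by decide) hν
        have h2c := hνe 2 even_two
        rw [hab', Multiset.count_add, Multiset.count_replicate, Multiset.count_replicate, if_neg (by decide),
          if_pos rfl, Nat.even_iff] at h2c
        rw [hab', Multiset.sum_add, Multiset.sum_replicate, Multiset.sum_replicate] at hνs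
        simp only [smul_eq_mul] at hνs
        omega
      · obtain ⟨ν, hν, hνs, hνe, -⟩ := orth_sub_partition h2 hpodd hQ (m := m)
          (P := fun W => ∃ e : W ≃ₗ[F] W₀, ∀ w : W, (CfsgLib.Quad.plusQ (F := F) d) (e w) = (CfsgLib.Quad.plusQ (F := F) d) w)
          (fun x hx hxp ho hns => by
            obtain ⟨W, ⟨h1, h3, h4⟩, hle⟩ := hall x hx ⟨1, by rw [hxp, one_smul]; rfl⟩ hns
            exact ⟨W, ⟨h1, (ndgOn_iff W).2 h3, h4⟩, hle⟩)
          (μ := 1 ::ₘ 1 ::ₘ Multiset.replicate (d - 1) 2)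
          (fun e he => by
            simp only [Multiset.mem_cons] at he
            rcases he with rfl | rfl | he
            · omega
            · omega
            · rw [Multiset.eq_of_mem_replicate he]; omega)
          (fun e he => by
            rw [Nat.even_iff] at he
            simp only [Multiset.count_cons, Multiset.count_replicate, Nat.even_iff]
            split_ifs <;> omega)
          (by simp only [Multiset.sum_cons, Multiset.sum_replicate, smul_eq_mul, hcard]; omega)
          ⟨1, by simp, by decide⟩ ⟨2, Multiset.mem_cons_of_mem (Multiset.mem_cons_of_mem (Multiset.mem_replicate.2 ⟨by omega, rfl⟩)), by decide⟩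
        obtain ⟨a', b', hab', hb'⟩ := exists_sub_two (by decide) hν
        have h2c := hνe 2 even_two
        rw [hab', Multiset.count_add, Multiset.count_replicate, Multiset.count_replicate, if_neg (by decide),
          if_pos rfl, Nat.even_iff] at h2c
        rw [hab', Multiset.sum_add, Multiset.sum_replicate, Multiset.sum_replicate] at hνs
        simp only [smul_eq_mul] at hνs
        omega
  have hr : (r : F) ≠ 0 := cast_ne_zero_of_ne (p := p) hrp
  have hi' : i = ordq F r := hi
  have hic : c = blockDim i := by rw [hc]; rfl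
  obtain ⟨hall, hlarge⟩ := all_fix_class hQ hr hr2 hn (even_two_mul d) hm (by omega) True hεV hd₀ hn₀ hrΩ
  rw [forall_scalar_iff hQ hgen hr2, hall]
  rw [← hi'] at hlarge ⊢
  simp only [OddCrit, BadTop, ← hic] at hlarge ⊢
  have hc0 : 0 < c := hic ▸ hi' ▸ blockDim_pos hr
  have hc2 : c % 2 = 0 := Nat.even_iff.1 (hic ▸ blockDim_even i)
  have hm2 := Nat.odd_iff.1 hm
  have hl : m % c % 2 = 1 := by rw [Nat.mod_mod_of_dvd _ (Nat.dvd_of_mod_eq_zero hc2)]; exact hm2
  have hne : r ≠ p ↔ True := iff_true_intro hrp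
  simp only [hr2, hne, hr3, false_and, false_or, true_and]
  rcases Nat.even_or_odd i with hi2 | hi2
  · have hci : c = i := by rw [hic, blockDim, if_pos hi2]
    subst hci
    simp only [blkType, Nat.not_odd_iff_even.2 hi2, hi2, false_or, false_and, true_and, true_iff, Nat.not_even_iff,
      Nat.even_iff, Nat.odd_iff] at hlarge ⊢
    omega
  · simp only [blkType, Nat.not_even_iff_odd.2 hi2, hi2, true_or, false_and, or_false, true_and, true_iff,
      not_true, not_false_eq_true, and_false, and_true, false_or] at hlarge ⊢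
    omega

end Cfsg.Agent.S5989
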