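import Cfsg.Statements.S5990
import Cfsg.Agent.Elusive2.OrthPlusMinus
-- import your own Cfsg.Agent.* helpers here

set_option autoImplicit false
open scoped MatrixGroups
open Cfsg

namespace Cfsg.Agent.S5990

open Module CfsgLib.Elusive CfsgLib.Elusive2

/-- Elements of prime order of PΩ⁻_n(q) with no fixed elliptic `m`-space. Here `T = PΩ⁻_n(F)`, `n = 2d ≥ 8`, realised through `Ω⁻_n(q)`, the commutator subgroup of the isometry group of `Q = Σ_{i<d−1} xᵢyᵢ + z₁² + a z₁z₂ + b z₂²` with `z₁² + a z₁z₂ + b z₂²` anisotropic, over the field `F` with `q` elements; an element of `T` of prime order `r` is an element `x` of `Ω⁻_n(q)` with `x^r` scalar and `x` not scalar; a nondegenerate `m`-space (even `m`) is a subspace on which the polar form of `Q` is nondegenerate; it is hyperbolic if it contains an `m/2`-dimensional subspace on which `Q` vanishes, elliptic otherwise. Let `m` be even with `2 ≤ m ≤ n − 2` (no restriction `m <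 n/2`: fixing an elliptic `m`-space is the same as fixing its hyperbolic orthogonal complement) and let `r` be a prime dividing the number of elliptic `m`-spaces, with `r = 2` or `r ≠ p`; for `r ≠ p` let `i` be the multiplicative order of `q` modulo `r`, `c = i` for `i` even and `c = 2i` for `i` odd, and write `k = n mod c`, `ℓ = m mod i`, `ℓ' = m mod c`, `n' = ⌊n/i⌋`, `m' = ⌊m/i⌋`, `t = (r−1)/i`. Then every element of `T` of order `r` fixes some elliptic `m`-space if and only if one of: (i) `r = p = 2` and (`n ≡ 0 (mod 4)` or `m ≡ 2 (mod 4)`); (ii) `r = 2 ≠ p` and (`n ≡ 0 (mod 4)`, or `q ≢ 7 (mod 8)`, or `m ≡ 2 (mod 4)`); (iii) `r ≠ p` odd, `i` odd, and `k = 0` or (`c ≤ m` and `k ≥ ℓ' > 0`); (iv) `r ≠ p` odd, `i` even, and either `k = 0` and (`n/i` even, or `ℓ' = 0` and `m/i` odd), or `k > 0`, `i ≤ m` and (`k > ℓ' > 0`, or `ℓ' = 0` and `m/i` odd, or `k = ℓ'` and `(n + m − 2k)/i` even). (Odd `r = p` is not covered by this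 statement.) -/
theorem result {F : Type*} [Field F] [Fintype F] {p : ℕ} [Fact p.Prime] [CharP F p] {q : ℕ} (hq : Fintype.card F = q)
    (d m : ℕ) (hd : 4 ≤ d) (hm : 2 ≤ m) (hme : Even m) (hmn : m + 2 ≤ 2 * d) (a b : F) (hab : ∀ x y : F, x ^ 2 + a * x * y + b * y ^ 2 = 0 → x = 0 ∧ y = 0)
    (r : ℕ) [Fact r.Prime] (hr : r = 2 ∨ r ≠ p)
    (hrΩ : r ∣ Nat.card {W : Submodule F ((Fin (d - 1) ⊕ Fin (d - 1)) ⊕ Fin 2 → F) // Module.finrank F ↥W = m ∧ Cfsg.Geo.IsNondegenerateOn (QuadraticMap.polar (Cfsg.quadFormMinus (d - 1) F a b)) W ∧ ¬ Cfsg.Geo.IsPlusTypeOn (Cfsg.quadFormMinus (d - 1) F a b) W})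
    (i c : ℕ) (hi : i = orderOf (q : ZMod r)) (hc : c = if Even i then i else 2 * i) :
    (∀ x : GL ((Fin (d - 1) ⊕ Fin (d - 1)) ⊕ Fin 2) F, x ∈ Cfsg.Geo.omegaGL (Cfsg.quadFormMinus (d - 1) F a b) →
      (∃ z : F, ((x ^ r : GL ((Fin (d - 1) ⊕ Fin (d - 1)) ⊕ Fin 2) F) : Matrix ((Fin (d - 1) ⊕ Fin (d - 1)) ⊕ Fin 2) ((Fin (d - 1) ⊕ Fin (d - 1)) ⊕ Fin 2) F) = z • (1 : Matrix ((Fin (d - 1) ⊕ Fin (d - 1)) ⊕ Fin 2) ((Fin (d - 1) ⊕ Fin (d - 1)) ⊕ Fin 2) F)) →
      (∀ z : F, (x : Matrix ((Fin (d - 1) ⊕ Fin (d - 1)) ⊕ Fin 2) ((Fin (d - 1) ⊕ Fin (d - 1)) ⊕ Fin 2) F) ≠ z • (1 : Matrix ((Fin (d - 1) ⊕ Fin (d - 1)) ⊕ Fin 2) ((Fin (d - 1) ⊕ Fin (d - 1)) ⊕ Fin 2) F)) →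
      ∃ W : Submodule F ((Fin (d - 1) ⊕ Fin (d - 1)) ⊕ Fin 2 → F), (Module.finrank F ↥W = m ∧ Cfsg.Geo.IsNondegenerateOn (QuadraticMap.polar (Cfsg.quadFormMinus (d - 1) F a b)) W ∧ ¬ Cfsg.Geo.IsPlusTypeOn (Cfsg.quadFormMinus (d - 1) F a b) W) ∧ W.map (Matrix.toLin' (x : Matrix ((Fin (d - 1) ⊕ Fin (d - 1)) ⊕ Fin 2) ((Fin (d - 1) ⊕ Fin (d - 1)) ⊕ Fin 2) F)) ≤ W) ↔
    ((r = 2 ∧ p = 2 ∧ (Even d ∨ m % 4 = 2)) ∨
     (r = 2 ∧ p ≠ 2 ∧ (Even d ∨ q % 8 ≠ 7 ∨ m % 4 = 2)) ∨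
     (r ≠ p ∧ 2 < r ∧ Odd i ∧ ((2 * d) % c = 0 ∨ (c ≤ m ∧ 0 < m % c ∧ m % c ≤ (2 * d) % c))) ∨
     (r ≠ p ∧ 2 < r ∧ Even i ∧
       (((2 * d) % c = 0 ∧ (Even ((2 * d) / i) ∨ (m % c = 0 ∧ Odd (m / i)))) ∨
        (0 < (2 * d) % c ∧ i ≤ m ∧ ((0 < m % c ∧ m % c < (2 * d) % c) ∨ (m % c = 0 ∧ Odd (m / i)) ∨
                                    (m % c = (2 * d) % c ∧ Even ((2 * d + m - 2 * ((2 * d) % c)) / i))))))) := by
  classical
  subst hq
  have hQc : Cfsg.quadFormMinus (d - 1) F a b = ⇑(CfsgLib.Quad.minusQ (F := F) (d - 1) a b) :=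
    (CfsgLib.Quad.minusQ_coe (d - 1) a b).symm
  have hQ := CfsgLib.Quad.minusQ_nondeg (F := F) hab (d - 1)
  have hn : finrank F ((Fin (d - 1) ⊕ Fin (d - 1)) ⊕ Fin 2 → F) = 2 * d := by
    rw [finrank_fintype_fun_eq_card]; simp; omega
  have hgen : (∃ t : F, t ≠ 0 ∧ t ≠ 1) ∨ finrank F ((Fin (d - 1) ⊕ Fin (d - 1)) ⊕ Fin 2 → F) ≠ 4 :=
    Or.inr (by omega)
  have hεV : IsPlus (CfsgLib.Quad.minusQ (F := F) (d - 1) a b) ⊤ ↔ False := iff_false_intro (not_isPlus_minusQ hab _)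
  have hiff : ∀ W : Submodule F ((Fin (d - 1) ⊕ Fin (d - 1)) ⊕ Fin 2 → F),
      (finrank F W = m ∧ Cfsg.Geo.IsNondegenerateOn (QuadraticMap.polar ⇑(CfsgLib.Quad.minusQ (F := F) (d - 1) a b)) W ∧
        ¬ Cfsg.Geo.IsPlusTypeOn ⇑(CfsgLib.Quad.minusQ (F := F) (d - 1) a b) W) ↔
      (finrank F W = m ∧ Ndg (QuadraticMap.polarBilin (CfsgLib.Quad.minusQ (F := F) (d - 1) a b)) W ∧ (IsPlus (CfsgLib.Quad.minusQ (F := F) (d - 1) a b) W ↔ False)) := fun W => by
    rw [ndgOn_iff, plusOn_iff]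
    simp
  rw [hQc] at hrΩ ⊢
  simp only [hiff] at hrΩ ⊢
  rcases eq_or_ne r 2 with hr2 | hr2
  · subst hr2
    rcases eq_or_ne p 2 with hp2 | hp2
    · subst hp2
      have h2 : (2 : F) = 0 := CharP.cast_eq_zero F 2
      simp only [ne_eq, not_true, lt_irrefl, false_and, and_false, or_false, true_and]
      constructor
      · intro hall
        by_contra hc
        push Not at hc
        obtain ⟨g, hg, hg2, hg1, hno⟩ := exists_involution_avoid h2 hQ hn hd (Nat.not_even_iff_odd.1 hc.1)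
        refine not_all_fix_of_elt hg hg2 hg1 (fun W hW hinv => hW.2.2.1 (hno W hW.2.1 ?_ hinv)) hall
        have := Nat.even_iff.1 hme
        rw [hW.1]; omega
      · rintro h x hx ⟨z, hz⟩ -
        have hv₀ : ∃ v, (CfsgLib.Quad.minusQ (F := F) (d - 1) a b) v ≠ 0 := by
          obtain ⟨v, -, hv⟩ := represents (ndg_top_iff.2 hQ) (by rw [finrank_top, hn]; omega) 1
          exact ⟨v, by rw [hv]; exact one_ne_zero⟩
        obtain ⟨g, hg, hv, hgg⟩ := two_scalar_invol h2 hv₀ hx hz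
        obtain ⟨X, hXn, hXi, hXd, hXp⟩ := involution_fix_plus h2 hQ hgen hn (k := 2 * d - m)
          (Nat.even_sub (by omega) |>.2 (iff_of_true (even_two_mul d) hme)) (by omega) (by
            rw [hεV, false_iff, Nat.not_odd_iff_even]
            have := Nat.even_iff.1 hme
            rw [Nat.even_iff] at h ⊢
            omega) hg hgg
        obtain ⟨hUn, hdim, -, hsum⟩ := rank_split (g := g) hQ hXn hXi
        have hev := Nat.even_iff.1 hme
        have htype := hsum (Nat.even_iff.2 (by omega)) (Nat.even_iff.2 (by omega))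
        rw [hεV, iff_true_intro hXp, true_iff, false_iff] at htype
        exact ⟨_, ⟨by omega, hUn, iff_false_intro htype⟩, (map_le_iff hv _).2 (inv_perp hXi)⟩
    have hodd : Odd (Fintype.card F) :=
      Nat.odd_iff.2 (FiniteField.odd_card_of_char_ne_two (by rw [ringChar.eq F p]; exact hp2))
    have h2 : (2 : F) ≠ 0 := two_ne_zero_of_odd_card hodd
    rw [forall_two_iff h2 hQ hgen hn _ _
      (fun f hf => involution_fix_minus h2 hQ hεV.1 hn hme (by omega) (by omega) hf)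
      (fun f hf => quarter_fix_type h2 hQ hn hme (by omega) False hf),
      hεV, isSquare_neg_one_iff_mod hodd, isSquare_two_iff_mod hodd]
    simp only [false_iff, ne_eq, hp2, not_false_eq_true, Nat.even_iff, Nat.odd_iff, lt_irrefl, false_and, and_false,
      or_false, true_and, false_or]
    have := Nat.odd_iff.1 hodd
    have := Nat.even_iff.1 hme
    omega
  have hrp : r ≠ p := hr.resolve_left hr2
  clear hr
  have hr3 : 2 < r := lt_of_le_of_ne (Fact.out : r.Prime).two_le (Ne.symm hr2)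
  have hr : (r : F) ≠ 0 := cast_ne_zero_of_ne (p := p) hrp
  have hi' : i = ordq F r := hi
  have hic : c = blockDim i := by rw [hc]; rfl
  obtain ⟨hall, hlarge⟩ :=
    all_fix_type hQ hr hr2 hn (even_two_mul d) hme (by omega) (by omega) False hεV False hrΩ
  rw [forall_scalar_iff hQ hgen hr2, hall]
  rw [← hi'] at hlarge ⊢
  simp only [EvenCrit, BadTop, ← hic] at hlarge ⊢
  have hc0 : 0 < c := hic ▸ hi' ▸ blockDim_pos hr
  have hc2 : c % 2 = 0 := Nat.even_iff.1 (hic ▸ blockDim_even i)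
  have hne : r ≠ p ↔ True := iff_true_intro hrp
  simp only [hr2, hne, hr3, false_and, false_or, true_and]
  rcases Nat.even_or_odd i with hi2 | hi2
  · have hci : c = i := by rw [hic, blockDim, if_pos hi2]
    subst hci
    have hsum : m % c = (2 * d) % c → (2 * d + m - 2 * ((2 * d) % c)) / c = 2 * d / c + m / c :=
      div_add_div_of_mod_eq hc0
    simp only [blkType, Nat.not_odd_iff_even.2 hi2, hi2, false_or, false_and, true_and, true_iff, false_iff, iff_false,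
      iff_true, imp_false, imp_true_iff, Nat.not_even_iff, Nat.even_iff, Nat.odd_iff] at hlarge ⊢
    omega
  · simp only [blkType, Nat.not_even_iff_odd.2 hi2, hi2, true_or, false_and, or_false, true_and, true_iff, false_iff,
      iff_false, iff_true, imp_false, imp_true_iff, not_true, not_false_eq_true, and_false, and_true, false_or] at hlarge ⊢
    omega

end Cfsg.Agent.S5990
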