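import Cfsg.Statements.S5991
import Cfsg.Agent.Elusive2.OrthPlusMinus
-- import your own Cfsg.Agent.* helpers here

set_option autoImplicit false
open scoped MatrixGroups
open Cfsg

namespace Cfsg.Agent.S5991

open Module CfsgLib.Elusive CfsgLib.Elusive2

/-- Elements of prime order of PΩ⁻_n(q), q odd, with no fixed nondegenerate `m`-space of odd dimension. Here `T = PΩ⁻_n(F)`, `n = 2d ≥ 8`, realised through `Ω⁻_n(q)`, the commutator subgroup of the isometry group of `Q = Σ_{i<d−1} xᵢyᵢ + z₁² + a z₁z₂ + b z₂²` with `z₁² + a z₁z₂ + b z₂²` anisotropic, over the field `F` with `q` elements; an element of `T` of prime order `r` is an element `x` of `Ω⁻_n(q)` with `x^r` scalar and `x` not scalar; `q` and `m` are odd, `1 ≤ m < n/2`. The nondegenerate `m`-spaces fall into two isometry classes, each an orbit of `T`, with equivalent actions; fix one such space `W₀` and let Ω be the set of nondegenerate `m`-spaces isometric to `W₀`. Let `r` be a prime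 dividing the size of Ω; for `r ≠ p` let `i` be the multiplicative order of `q` modulo `r`, `c = i` for `i` even and `c = 2i` for `i` odd, and write `k = n mod c`, `ℓ = m mod i`, `ℓ' = m mod c`, `n' = ⌊n/i⌋`, `m' = ⌊m/i⌋`, `t = (r−1)/i`. Then every element of `T` of order `r` fixes a member of Ω if and only if one of: (i) `r = 2` and (`n ≡ 0 (mod 4)` or `q ≢ 7 (mod 8)`); (ii) `r ≠ p` odd, `i` odd, and `k = 0` or (`c ≤ m` and `k > ℓ' > 0`); (iii) `r ≠ p` odd, `i` even, and either `k = 0` and `n/i` even, or `k > 0`, `i ≤ m` and `k > ℓ' > 0`. (For `r = p` there is always an element of order `p` fixing no member of Ω.) -/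
theorem result {F : Type*} [Field F] [Fintype F] {p : ℕ} [Fact p.Prime] [CharP F p] {q : ℕ} (hq : Fintype.card F = q)
    (hodd : Odd q) (d m : ℕ) (hd : 4 ≤ d) (hm : Odd m) (hmd : m < d) (a b : F) (hab : ∀ x y : F, x ^ 2 + a * x * y + b * y ^ 2 = 0 → x = 0 ∧ y = 0)
    (W₀ : Submodule F ((Fin (d - 1) ⊕ Fin (d - 1)) ⊕ Fin 2 → F)) (hW₀ : Module.finrank F ↥W₀ = m ∧ Cfsg.Geo.IsNondegenerateOn (QuadraticMap.polar (Cfsg.quadFormMinus (d - 1) F a b)) W₀)
    (r : ℕ) [Fact r.Prime]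
    (hrΩ : r ∣ Nat.card {W : Submodule F ((Fin (d - 1) ⊕ Fin (d - 1)) ⊕ Fin 2 → F) // Module.finrank F ↥W = m ∧ Cfsg.Geo.IsNondegenerateOn (QuadraticMap.polar (Cfsg.quadFormMinus (d - 1) F a b)) W ∧ Cfsg.Geo.AreIsometricFor (Cfsg.quadFormMinus (d - 1) F a b) W W₀})
    (i c : ℕ) (hi : i = orderOf (q : ZMod r)) (hc : c = if Even i then i else 2 * i) :
    (∀ x : GL ((Fin (d - 1) ⊕ Fin (d - 1)) ⊕ Fin 2) F, x ∈ Cfsg.Geo.omegaGL (Cfsg.quadFormMinus (d - 1) F a b) →
      (∃ z : F, ((x ^ r : GL ((Fin (d - 1) ⊕ Fin (d - 1)) ⊕ Fin 2) F) : Matrix ((Fin (d - 1) ⊕ Fin (d - 1)) ⊕ Fin 2) ((Fin (d - 1) ⊕ Fin (d - 1)) ⊕ Fin 2) F) = z • (1 : Matrix ((Fin (d - 1) ⊕ Fin (d - 1)) ⊕ Fin 2) ((Fin (d - 1) ⊕ Fin (d - 1)) ⊕ Fin 2) F)) →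
      (∀ z : F, (x : Matrix ((Fin (d - 1) ⊕ Fin (d - 1)) ⊕ Fin 2) ((Fin (d - 1) ⊕ Fin (d - 1)) ⊕ Fin 2) F) ≠ z • (1 : Matrix ((Fin (d - 1) ⊕ Fin (d - 1)) ⊕ Fin 2) ((Fin (d - 1) ⊕ Fin (d - 1)) ⊕ Fin 2) F)) →
      ∃ W : Submodule F ((Fin (d - 1) ⊕ Fin (d - 1)) ⊕ Fin 2 → F), (Module.finrank F ↥W = m ∧ Cfsg.Geo.IsNondegenerateOn (QuadraticMap.polar (Cfsg.quadFormMinus (d - 1) F a b)) W ∧ Cfsg.Geo.AreIsometricFor (Cfsg.quadFormMinus (d - 1) F a b) W W₀) ∧ W.map (Matrix.toLin' (x : Matrix ((Fin (d - 1) ⊕ Fin (d - 1)) ⊕ Fin 2) ((Fin (d - 1) ⊕ Fin (d - 1)) ⊕ Fin 2) F)) ≤ W) ↔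
    ((r = 2 ∧ (Even d ∨ q % 8 ≠ 7)) ∨
     (r ≠ p ∧ 2 < r ∧ Odd i ∧ ((2 * d) % c = 0 ∨ (c ≤ m ∧ 0 < m % c ∧ m % c < (2 * d) % c))) ∨
     (r ≠ p ∧ 2 < r ∧ Even i ∧ (((2 * d) % c = 0 ∧ Even ((2 * d) / i)) ∨ (0 < (2 * d) % c ∧ i ≤ m ∧ 0 < m % c ∧ m % c < (2 * d) % c)))) := by
  classical
  subst hq
  have hQc : Cfsg.quadFormMinus (d - 1) F a b = ⇑(CfsgLib.Quad.minusQ (F := F) (d - 1) a b) :=
    (CfsgLib.Quad.minusQ_coe (d - 1) a b).symm
  have hQ := CfsgLib.Quad.minusQ_nondeg (F := F) hab (d - 1)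
  have hn : finrank F ((Fin (d - 1) ⊕ Fin (d - 1)) ⊕ Fin 2 → F) = 2 * d := by
    rw [finrank_fintype_fun_eq_card]; simp; omega
  have hgen : (∃ t : F, t ≠ 0 ∧ t ≠ 1) ∨ finrank F ((Fin (d - 1) ⊕ Fin (d - 1)) ⊕ Fin 2 → F) ≠ 4 :=
    Or.inr (by omega)
  have hεV : IsPlus (CfsgLib.Quad.minusQ (F := F) (d - 1) a b) ⊤ ↔ False := iff_false_intro (not_isPlus_minusQ hab _)
  have hiff : ∀ W : Submodule F ((Fin (d - 1) ⊕ Fin (d - 1)) ⊕ Fin 2 → F),
      (finrank F W = m ∧ Cfsg.Geo.IsNondegenerateOn (QuadraticMap.polar ⇑(CfsgLib.Quad.minusQ (F := F) (d - 1) a b)) W ∧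
        Cfsg.Geo.AreIsometricFor ⇑(CfsgLib.Quad.minusQ (F := F) (d - 1) a b) W W₀) ↔
      (finrank F W = m ∧ Ndg (QuadraticMap.polarBilin (CfsgLib.Quad.minusQ (F := F) (d - 1) a b)) W ∧
        ∃ e : W ≃ₗ[F] W₀, ∀ w : W, (CfsgLib.Quad.minusQ (F := F) (d - 1) a b) (e w) = (CfsgLib.Quad.minusQ (F := F) (d - 1) a b) w) := fun W => by
    rw [ndgOn_iff, isometricFor_iff]
  rw [hQc] at hrΩ hW₀ ⊢
  rw [ndgOn_iff] at hW₀
  simp only [hiff] at hrΩ ⊢
  have h2 : (2 : F) ≠ 0 := two_ne_zero_of_odd_card hodd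
  have hpodd : Odd p := by
    refine (Fact.out : p.Prime).odd_of_ne_two ?_
    rintro rfl
    exact h2 (CharP.cast_eq_zero F 2)
  obtain ⟨hd₀, hn₀⟩ := hW₀
  rcases eq_or_ne r 2 with hr2 | hr2
  · subst hr2
    rw [forall_two_iff h2 hQ hgen hn _ False
      (fun f hf => involution_fix_class h2 hQ hn hm hmd hd₀ hn₀ hf)
      (fun f hf => iff_false_intro fun ⟨W, hW, hinv⟩ => quarter_fix_odd h2 hm hf hW.1 hW.2.1 hinv),
      hεV, isSquare_neg_one_iff_mod hodd, isSquare_two_iff_mod hodd]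
    simp only [false_iff, Nat.even_iff, Nat.odd_iff, lt_irrefl, false_and, and_false, or_false, true_and, imp_false]
    have := Nat.odd_iff.1 hodd
    omega
  have hr3 : 2 < r := lt_of_le_of_ne (Fact.out : r.Prime).two_le (Ne.symm hr2)
  rcases eq_or_ne r p with hrp | hrp
  · subst hrp
    refine iff_of_false ?_ (by rintro (h | h | h); exacts [hr2 h.1, h.1 rfl, h.1 rfl])
    rcases Nat.even_or_odd d with hde | hdo
    · obtain ⟨g, hg, hgp, hg1, hno⟩ := exists_unipotent_avoid (p := r) h2 hpodd hQ hde (by omega) hn hm (by omega) hd₀ hn₀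
      exact not_all_fix_of_elt hg hgp hg1 fun W hW hinv => hno W hW.2.1 hW.1 hW.2.2 hinv
    · rw [Nat.odd_iff] at hdo
      intro hall
      have hcard : Fintype.card ((Fin (d - 1) ⊕ Fin (d - 1)) ⊕ Fin 2) = 2 * d := by simp; omega
      rcases (show m % 4 = 1 ∨ m % 4 = 3 by have := Nat.odd_iff.1 hm; omega) with hm4 | hm4
      · obtain ⟨ν, hν, hνs, hνe, -⟩ := orth_sub_partition h2 hpodd hQ (m := m)
          (P := fun W => ∃ e : W ≃ₗ[F] W₀, ∀ w : W, (CfsgLib.Quad.minusQ (F := F) (d - 1) a b) (e w) = (CfsgLib.Quad.minusQ (F := F) (d - 1) a b) w)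
          (fun x hx hxp ho hns => by
            obtain ⟨W, ⟨h1, h3, h4⟩, hle⟩ := hall x hx ⟨1, by rw [hxp, one_smul]; rfl⟩ hns
            exact ⟨W, ⟨h1, (ndgOn_iff W).2 h3, h4⟩, hle⟩)
          (μ := 3 ::ₘ 3 ::ₘ Multiset.replicate (d - 3) 2)
          (fun e he => by
            simp only [Multiset.mem_cons] at he
            rcases he with rfl | rfl | he
            · omega
            · omega
            · rw [Multiset.eq_of_mem_replicate he]; omega)
          (fun e he => by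
            rw [Nat.even_iff] at he
            simp only [Multiset.count_cons, Multiset.count_replicate, Nat.even_iff]
            split_ifs <;> omega)
          (by simp only [Multiset.sum_cons, Multiset.sum_replicate, smul_eq_mul, hcard]; omega)
          ⟨3, by simp, by decide⟩ ⟨3, by simp, by decide⟩
        obtain ⟨a', b', hab', hb'⟩ := exists_sub_two (by decide) hν
        have h2c := hνe 2 even_two
        rw [hab', Multiset.count_add, Multiset.count_replicate, Multiset.count_replicate, if_neg (by decide),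
          if_pos rfl, Nat.even_iff] at h2c
        rw [hab', Multiset.sum_add, Multiset.sum_replicate, Multiset.sum_replicate] at hνs
        simp only [smul_eq_mul] at hνs
        omega
      · obtain ⟨ν, hν, hνs, hνe, -⟩ := orth_sub_partition h2 hpodd hQ (m := m)
          (P := fun W => ∃ e : W ≃ₗ[F] W₀, ∀ w : W, (CfsgLib.Quad.minusQ (F := F) (d - 1) a b) (e w) = (CfsgLib.Quad.minusQ (F := F) (d - 1) a b) w)
          (fun x hx hxp ho hns => by
            obtain ⟨W, ⟨h1, h3, h4⟩, hle⟩ := hall x hx ⟨1, by rw [hxp, one_smul]; rfl⟩ hns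
            exact ⟨W, ⟨h1, (ndgOn_iff W).2 h3, h4⟩, hle⟩)
          (μ := 1 ::ₘ 1 ::ₘ Multiset.replicate (d - 1) 2)
          (fun e he => by
            simp only [Multiset.mem_cons] at he
            rcases he with rfl | rfl | he
            · omega
            · omega
            · rw [Multiset.eq_of_mem_replicate he]; omega)
          (fun e he => by
            rw [Nat.even_iff] at he
            simp only [Multiset.count_cons, Multiset.count_replicate, Nat.even_iff]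
            split_ifs <;> omega)
          (by simp only [Multiset.sum_cons, Multiset.sum_replicate, smul_eq_mul, hcard]; omega)
          ⟨1, by simp, by decide⟩ ⟨2, Multiset.mem_cons_of_mem (Multiset.mem_cons_of_mem (Multiset.mem_replicate.2 ⟨by omega, rfl⟩)), by decide⟩
        obtain ⟨a', b', hab', hb'⟩ := exists_sub_two (by decide) hν
        have h2c := hνe 2 even_two
        rw [hab', Multiset.count_add, Multiset.count_replicate, Multiset.count_replicate, if_neg (by decide),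
          if_pos rfl, Nat.even_iff] at h2c
        rw [hab', Multiset.sum_add, Multiset.sum_replicate, Multiset.sum_replicate] at hνs
        simp only [smul_eq_mul] at hνs
        omega
  have hr : (r : F) ≠ 0 := cast_ne_zero_of_ne (p := p) hrp
  have hi' : i = ordq F r := hi
  have hic : c = blockDim i := by rw [hc]; rfl
  obtain ⟨hall, hlarge⟩ := all_fix_class hQ hr hr2 hn (even_two_mul d) hm (by omega) False hεV hd₀ hn₀ hrΩ
  rw [forall_scalar_iff hQ hgen hr2, hall]
  rw [← hi'] at hlarge ⊢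
  simp only [OddCrit, BadTop, ← hic] at hlarge ⊢
  have hc0 : 0 < c := hic ▸ hi' ▸ blockDim_pos hr
  have hc2 : c % 2 = 0 := Nat.even_iff.1 (hic ▸ blockDim_even i)
  have hm2 := Nat.odd_iff.1 hm
  have hl : m % c % 2 = 1 := by rw [Nat.mod_mod_of_dvd _ (Nat.dvd_of_mod_eq_zero hc2)]; exact hm2
  have hne : r ≠ p ↔ True := iff_true_intro hrp
  simp only [hr2, hne, hr3, false_and, false_or, true_and]
  rcases Nat.even_or_odd i with hi2 | hi2
  · have hci : c = i := by rw [hic, blockDim, if_pos hi2]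
    subst hci
    simp only [blkType, Nat.not_odd_iff_even.2 hi2, hi2, false_or, false_and, true_and, false_iff, Nat.not_even_iff,
      Nat.even_iff, Nat.odd_iff] at hlarge ⊢
    omega
  · simp only [blkType, Nat.not_even_iff_odd.2 hi2, hi2, true_or, false_and, or_false, true_and, false_iff,
      not_true, not_false_eq_true, and_false, and_true, false_or] at hlarge ⊢
    omega

end Cfsg.Agent.S5991
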