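import Cfsg.Statements.S5992
import Cfsg.Agent.Elusive2.OrthOdd
import Cfsg.Agent.Elusive.OrthPartition
-- import your own Cfsg.Agent.* helpers here

set_option autoImplicit false
open scoped MatrixGroups
open Cfsg

namespace Cfsg.Agent.S5992

open Module CfsgLib.Elusive CfsgLib.Elusive2

/-- Elements of prime order r ≠ p of Ω_n(q), nq odd, with no fixed hyperbolic `m`-space. Here `T = Ω_n(F)`, `n = 2d+1 ≥ 7`, `q` odd, realised as the commutator subgroup of the isometry group of `Q = x₀² + Σ xᵢyᵢ` over the field `F` with `q` elements (trivial centre, so its elements of prime order `r` are used directly); a nondegenerate `m`-space (even `m`) is a subspace on which the polar form of `Q` is nondegenerate; it is hyperbolic if it contains an `m/2`-dimensional subspace on which `Q` vanishes, elliptic otherwise. Let `m` be even with `2 ≤ m ≤ n − 1` (no restriction `m < n/2`) and let `r ≠ p` be a prime dividing the number of hyperbolic `m`-spaces; for `r ≠ p` let `i`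 be the multiplicative order of `q` modulo `r`, `c = i` for `i` even and `c = 2i` for `i` odd, and write `k = n mod c`, `ℓ' = m mod c`. Then every element of `T` of order `r` fixes some hyperbolic `m`-space if and only if `r = 2`, or `r` is odd and one of: (i) `i` odd, `c ≤ m` and either `k > ℓ' > 0` or `ℓ' = 0`; (ii) `i` even, `i ≤ m`, `k > ℓ'`, and `m/i` even whenever `ℓ' = 0`. (`r = p` is not covered by this statement.) -/
theorem result {F : Type*} [Field F] [Fintype F] {p : ℕ} [Fact p.Prime] [CharP F p] {q : ℕ} (hq : Fintype.card F = q) (hqodd : Odd q)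
    (d m : ℕ) (hd : 3 ≤ d) (hm : 2 ≤ m) (hme : Even m) (hmn : m ≤ 2 * d)
    (r : ℕ) [Fact r.Prime] (hrp : r ≠ p)
    (hrΩ : r ∣ Nat.card {W : Submodule F (Unit ⊕ (Fin d ⊕ Fin d) → F) // Module.finrank F ↥W = m ∧ Cfsg.Geo.IsNondegenerateOn (QuadraticMap.polar (Cfsg.quadFormOdd d F)) W ∧ Cfsg.Geo.IsPlusTypeOn (Cfsg.quadFormOdd d F) W})
    (i c : ℕ) (hi : i = orderOf (q : ZMod r)) (hc : c = if Even i then i else 2 * i) :
    (∀ x : GL (Unit ⊕ (Fin d ⊕ Fin d)) F, x ∈ Cfsg.Geo.omegaGL (Cfsg.quadFormOdd d F) → orderOf x = r →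
      ∃ W : Submodule F (Unit ⊕ (Fin d ⊕ Fin d) → F), (Module.finrank F ↥W = m ∧ Cfsg.Geo.IsNondegenerateOn (QuadraticMap.polar (Cfsg.quadFormOdd d F)) W ∧ Cfsg.Geo.IsPlusTypeOn (Cfsg.quadFormOdd d F) W) ∧ W.map (Matrix.toLin' (x : Matrix (Unit ⊕ (Fin d ⊕ Fin d)) (Unit ⊕ (Fin d ⊕ Fin d)) F)) ≤ W) ↔
    (r = 2 ∨
     (2 < r ∧ Odd i ∧ c ≤ m ∧ (m % c = 0 ∨ (0 < m % c ∧ m % c < (2 * d + 1) % c))) ∨
     (2 < r ∧ Even i ∧ i ≤ m ∧ m % c < (2 * d + 1) % c ∧ (0 < m % c ∨ Even (m / i)))) := by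
  classical
  subst hq
  have hchar : ringChar F ≠ 2 := fun h => by
    have := FiniteField.even_card_of_char_two h
    rw [Nat.odd_iff] at hqodd
    omega
  have h2 : (2 : F) ≠ 0 := Ring.two_ne_zero hchar
  have hQc : Cfsg.quadFormOdd d F = ⇑(CfsgLib.Quad.oddQ (F := F) d) := (CfsgLib.Quad.oddQ_coe d).symm
  have hQ := CfsgLib.Quad.oddQ_nondeg h2 d
  have hn : finrank F (Unit ⊕ (Fin d ⊕ Fin d) → F) = 2 * d + 1 := by
    rw [finrank_fintype_fun_eq_card]; simp [two_mul]; ring
  have hnodd : Odd (2 * d + 1) := ⟨d, rfl⟩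
  have hiff : ∀ W : Submodule F (Unit ⊕ (Fin d ⊕ Fin d) → F),
      (finrank F W = m ∧ Cfsg.Geo.IsNondegenerateOn (QuadraticMap.polar (Cfsg.quadFormOdd d F)) W ∧
        Cfsg.Geo.IsPlusTypeOn (Cfsg.quadFormOdd d F) W) ↔
      (finrank F W = m ∧ Ndg (QuadraticMap.polarBilin (CfsgLib.Quad.oddQ (F := F) d)) W ∧
        (IsPlus (CfsgLib.Quad.oddQ (F := F) d) W ↔ True)) := fun W => by
    rw [hQc, ndgOn_iff, plusOn_iff]
    simp
  simp only [hiff] at hrΩ ⊢
  rw [hQc]
  rcases eq_or_ne r 2 with hr2 | hr2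
  · refine ⟨fun _ => Or.inl hr2, fun _ x hx ho => ?_⟩
    subst hr2
    obtain ⟨g, -, hv⟩ := exists_elt hx
    obtain ⟨W, hW, hinv⟩ := exists_fix_involution h2 hQ (by rw [hn]; exact hnodd) (f := g.1.toLinearMap) g.2
      (fun v => by
        show g.1 (g.1 v) = v
        rw [← hv, ← hv, Matrix.mulVec_mulVec, ← Units.val_mul,
          show x * x = 1 by rw [← pow_two, ← ho]; exact pow_orderOf_eq_one x]
        exact Matrix.one_mulVec v) hme (by omega) (by rw [hn]; omega) True
    exact ⟨W, hW, (map_le_iff hv W).2 hinv⟩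
  have hr3 : 2 < r := lt_of_le_of_ne (Fact.out : r.Prime).two_le (Ne.symm hr2)
  have hr : (r : F) ≠ 0 := cast_ne_zero_of_ne (p := p) hrp
  have hi' : i = ordq F r := hi
  have hic : c = blockDim i := by rw [hc]; rfl
  rw [forall_order_iff hQ (Or.inr (by rw [hn]; omega)) hr2,
    all_fix_odd_iff hQ h2 hr hr2 hn hnodd hme (by omega) (by omega) True hrΩ, ← hi', ← hic]
  rcases Nat.even_or_odd i with hi2 | hi2
  · have hci : c = i := by rw [hic, blockDim, if_pos hi2]
    subst hci
    have hno : ¬ Odd c := Nat.not_odd_iff_even.2 hi2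
    simp only [blkType, hno, false_or, true_iff, imp_true_iff]
    constructor
    · rintro ⟨h1, h2', h3⟩
      refine Or.inr (Or.inr ⟨hr3, hi2, h1, h2', ?_⟩)
      rcases Nat.eq_zero_or_pos (m % c) with h0 | h0
      · exact Or.inr (h3 h0)
      · exact Or.inl h0
    · rintro (h | h | h)
      · exact absurd h hr2
      · exact h.2.1.elim
      · obtain ⟨-, -, h1, h2', h3⟩ := h
        exact ⟨h1, h2', fun h0 => h3.resolve_left (by omega)⟩
  · have hne : ¬ Even i := Nat.not_even_iff_odd.2 hi2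
    simp only [blkType, hi2, true_or, true_iff, imp_true_iff]
    constructor
    · rintro ⟨h1, h2', h3⟩
      refine Or.inr (Or.inl ⟨hr3, trivial, h1, ?_⟩)
      rcases Nat.eq_zero_or_pos (m % c) with h0 | h0
      · exact Or.inl h0
      · exact Or.inr ⟨h0, h2'⟩
    · rintro (h | h | h)
      · exact absurd h hr2
      · obtain ⟨-, -, h1, h2'⟩ := h
        have hkodd : (2 * d + 1) % c % 2 = 1 := by
          rw [Nat.mod_mod_of_dvd _ (even_iff_two_dvd.1 (hic ▸ blockDim_even i))]
          omega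
        refine ⟨h1, by omega, ?_⟩
        exact trivial
      · exact absurd h.2.1 hne

end Cfsg.Agent.S5992
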