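import Cfsg.Statements.S5993
import Cfsg.Agent.Elusive2.OrthOdd
import Cfsg.Agent.Elusive.OrthPartition
-- import your own Cfsg.Agent.* helpers here

set_option autoImplicit false
open scoped MatrixGroups
open Cfsg

namespace Cfsg.Agent.S5993

open Module CfsgLib.Elusive CfsgLib.Elusive2

/-- Elements of prime order of Ω_n(q), nq odd, with no fixed elliptic `m`-space. Here `T = Ω_n(F)`, `n = 2d+1 ≥ 7`, `q` odd, realised as the commutator subgroup of the isometry group of `Q = x₀² + Σ xᵢyᵢ` over the field `F` with `q` elements (trivial centre, so its elements of prime order `r` are used directly); a nondegenerate `m`-space (even `m`) is a subspace on which the polar form of `Q` is nondegenerate; it is hyperbolic if it contains an `m/2`-dimensional subspace on which `Q` vanishes, elliptic otherwise. Let `m` be even with `2 ≤ m ≤ n − 1` (no restriction `m < n/2`) and let `r` be a prime dividing the number of elliptic `m`-spaces; for `r ≠ p` let `i` be the multiplicative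 order of `q` modulo `r`, `c = i` for `i` even and `c = 2i` for `i` odd, and write `k = n mod c`, `ℓ' = m mod c`. Then every element of `T` of order `r` fixes some elliptic `m`-space if and only if `r = 2`, or `r ≠ p` is odd and one of: (i) `i` odd, `c ≤ m` and `k > ℓ' > 0`; (ii) `i` even, `i ≤ m`, `k > ℓ'`, and `m/i` odd whenever `ℓ' = 0`. (For `r = p` there is always an element of order `p` fixing no elliptic `m`-space.) -/
theorem result {F : Type*} [Field F] [Fintype F] {p : ℕ} [Fact p.Prime] [CharP F p] {q : ℕ} (hq : Fintype.card F = q) (hqodd : Odd q)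
    (d m : ℕ) (hd : 3 ≤ d) (hm : 2 ≤ m) (hme : Even m) (hmn : m ≤ 2 * d)
    (r : ℕ) [Fact r.Prime]
    (hrΩ : r ∣ Nat.card {W : Submodule F (Unit ⊕ (Fin d ⊕ Fin d) → F) // Module.finrank F ↥W = m ∧ Cfsg.Geo.IsNondegenerateOn (QuadraticMap.polar (Cfsg.quadFormOdd d F)) W ∧ ¬ Cfsg.Geo.IsPlusTypeOn (Cfsg.quadFormOdd d F) W})
    (i c : ℕ) (hi : i = orderOf (q : ZMod r)) (hc : c = if Even i then i else 2 * i) :
    (∀ x : GL (Unit ⊕ (Fin d ⊕ Fin d)) F, x ∈ Cfsg.Geo.omegaGL (Cfsg.quadFormOdd d F) → orderOf x = r →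
      ∃ W : Submodule F (Unit ⊕ (Fin d ⊕ Fin d) → F), (Module.finrank F ↥W = m ∧ Cfsg.Geo.IsNondegenerateOn (QuadraticMap.polar (Cfsg.quadFormOdd d F)) W ∧ ¬ Cfsg.Geo.IsPlusTypeOn (Cfsg.quadFormOdd d F) W) ∧ W.map (Matrix.toLin' (x : Matrix (Unit ⊕ (Fin d ⊕ Fin d)) (Unit ⊕ (Fin d ⊕ Fin d)) F)) ≤ W) ↔
    (r = 2 ∨
     (r ≠ p ∧ 2 < r ∧ Odd i ∧ c ≤ m ∧ 0 < m % c ∧ m % c < (2 * d + 1) % c) ∨
     (r ≠ p ∧ 2 < r ∧ Even i ∧ i ≤ m ∧ m % c < (2 * d + 1) % c ∧ (0 < m % c ∨ Odd (m / i)))) := by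
  classical
  subst hq
  have hchar : ringChar F ≠ 2 := fun h => by
    have := FiniteField.even_card_of_char_two h
    rw [Nat.odd_iff] at hqodd
    omega
  have h2 : (2 : F) ≠ 0 := Ring.two_ne_zero hchar
  have hQc : Cfsg.quadFormOdd d F = ⇑(CfsgLib.Quad.oddQ (F := F) d) := (CfsgLib.Quad.oddQ_coe d).symm
  have hQ := CfsgLib.Quad.oddQ_nondeg h2 d
  have hn : finrank F (Unit ⊕ (Fin d ⊕ Fin d) → F) = 2 * d + 1 := by
    rw [finrank_fintype_fun_eq_card]; simp [two_mul]; ring
  have hnodd : Odd (2 * d + 1) := ⟨d, rfl⟩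
  have hiff : ∀ W : Submodule F (Unit ⊕ (Fin d ⊕ Fin d) → F),
      (finrank F W = m ∧ Cfsg.Geo.IsNondegenerateOn (QuadraticMap.polar (Cfsg.quadFormOdd d F)) W ∧
        ¬ Cfsg.Geo.IsPlusTypeOn (Cfsg.quadFormOdd d F) W) ↔
      (finrank F W = m ∧ Ndg (QuadraticMap.polarBilin (CfsgLib.Quad.oddQ (F := F) d)) W ∧
        (IsPlus (CfsgLib.Quad.oddQ (F := F) d) W ↔ False)) := fun W => by
    rw [hQc, ndgOn_iff, plusOn_iff]
    simp
  simp only [hiff] at hrΩ ⊢
  rw [hQc]
  rcases eq_or_ne r 2 with hr2 | hr2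
  · refine ⟨fun _ => Or.inl hr2, fun _ x hx ho => ?_⟩
    subst hr2
    obtain ⟨g, -, hv⟩ := exists_elt hx
    obtain ⟨W, hW, hinv⟩ := exists_fix_involution h2 hQ (by rw [hn]; exact hnodd) (f := g.1.toLinearMap) g.2
      (fun v => by
        show g.1 (g.1 v) = v
        rw [← hv, ← hv, Matrix.mulVec_mulVec, ← Units.val_mul,
          show x * x = 1 by rw [← pow_two, ← ho]; exact pow_orderOf_eq_one x]
        exact Matrix.one_mulVec v) hme (by omega) (by rw [hn]; omega) False
    exact ⟨W, hW, (map_le_iff hv W).2 hinv⟩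
  have hr3 : 2 < r := lt_of_le_of_ne (Fact.out : r.Prime).two_le (Ne.symm hr2)
  rcases eq_or_ne r p with hrp | hrp
  · subst hrp
    refine iff_of_false (fun hall => ?_) (by rintro (h | h | h); exacts [hr2 h, h.1 rfl, h.1 rfl])
    obtain ⟨e₀, t, he₀, ht, hsum, hte⟩ : ∃ e₀ t : ℕ, (e₀ = 1 ∨ e₀ = 3) ∧ Even t ∧ e₀ + 2 * t = 2 * d + 1 ∧ 0 < t := by
      rcases Nat.even_or_odd d with h | h
      · exact ⟨1, d, Or.inl rfl, h, by omega, by omega⟩
      · exact ⟨3, d - 1, Or.inr rfl, Nat.Odd.sub_odd h odd_one, by omega, by omega⟩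
    have he₀o : Odd e₀ := by rcases he₀ with rfl | rfl <;> decide
    obtain ⟨ν, hν, hνs, -, W, hW, htwo⟩ := orth_sub_partition h2 ((Fact.out : r.Prime).odd_of_ne_two hr2) hQ (m := m)
      (P := fun W => ¬ Cfsg.Geo.IsPlusTypeOn ⇑(CfsgLib.Quad.oddQ (F := F) d) W)
      (fun x hx _ ho _ => by
        obtain ⟨W, ⟨hW1, hW2, hW3⟩, hle⟩ := hall x hx ho
        exact ⟨W, ⟨hW1, (ndgOn_iff W).2 hW2, fun h => hW3.1 ((plusOn_iff W).1 h)⟩, hle⟩)
      (μ := e₀ ::ₘ Multiset.replicate t 2)
      (fun e he => by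
        rcases Multiset.mem_cons.1 he with rfl | he
        · omega
        · rw [Multiset.eq_of_mem_replicate he]; omega)
      (fun e he => by
        rw [Multiset.count_cons_of_ne (by rintro rfl; exact Nat.not_even_iff_odd.2 he₀o he),
          Multiset.count_replicate]
        split
        · exact ht
        · exact Even.zero)
      (by rw [Multiset.sum_cons, Multiset.sum_replicate, smul_eq_mul]; simp; omega)
      ⟨e₀, Multiset.mem_cons_self _ _, he₀o⟩
      ⟨2, Multiset.mem_cons_of_mem (Multiset.mem_replicate.2 ⟨by omega, rfl⟩), by omega⟩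
    have hnot : e₀ ∉ ν := fun h => by
      obtain ⟨ν', rfl⟩ := Multiset.exists_cons_of_mem h
      have hν' := (Multiset.cons_le_cons_iff _).1 hν
      rw [Multiset.sum_cons, Multiset.eq_replicate_card.2 fun e he =>
        Multiset.eq_of_mem_replicate (Multiset.mem_of_le hν' he), Multiset.sum_replicate, smul_eq_mul] at hνs
      rw [Nat.odd_iff] at he₀o
      rw [Nat.even_iff] at hme
      omega
    exact hW (htwo fun e he =>
      Multiset.eq_of_mem_replicate (Multiset.mem_of_le ((Multiset.le_cons_of_notMem hnot).1 hν) he))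
  have hr : (r : F) ≠ 0 := cast_ne_zero_of_ne (p := p) hrp
  have hi' : i = ordq F r := hi
  have hic : c = blockDim i := by rw [hc]; rfl
  rw [forall_order_iff hQ (Or.inr (by rw [hn]; omega)) hr2,
    all_fix_odd_iff hQ h2 hr hr2 hn hnodd hme (by omega) (by omega) False hrΩ, ← hi', ← hic]
  rcases Nat.even_or_odd i with hi2 | hi2
  · have hci : c = i := by rw [hic, blockDim, if_pos hi2]
    subst hci
    have hno : ¬ Odd c := Nat.not_odd_iff_even.2 hi2
    simp only [blkType, hno, false_or, false_iff, Nat.not_even_iff_odd]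
    constructor
    · rintro ⟨h1, h2', h3⟩
      refine Or.inr (Or.inr ⟨hrp, hr3, hi2, h1, h2', ?_⟩)
      rcases Nat.eq_zero_or_pos (m % c) with h0 | h0
      · exact Or.inr (h3 h0)
      · exact Or.inl h0
    · rintro (h | h | h)
      · exact absurd h hr2
      · exact h.2.2.1.elim
      · obtain ⟨-, -, -, h1, h2', h3⟩ := h
        exact ⟨h1, h2', fun h0 => h3.resolve_left (by omega)⟩
  · have hne : ¬ Even i := Nat.not_even_iff_odd.2 hi2
    simp only [blkType, hi2, true_or, false_iff]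
    constructor
    · rintro ⟨h1, h2', h3⟩
      refine Or.inr (Or.inl ⟨hrp, hr3, trivial, h1, ?_⟩)
      exact ⟨Nat.pos_of_ne_zero fun h0 => h3 h0 trivial, h2'⟩
    · rintro (h | h | h)
      · exact absurd h hr2
      · obtain ⟨-, -, -, h1, h2'⟩ := h
        exact ⟨h1, h2'.2, fun h0 => absurd h0 h2'.1.ne'⟩
      · exact absurd h.2.2.1 hne

end Cfsg.Agent.S5993
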