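import Cfsg.Statements.S5994
import Cfsg.Agent.Elusive.OrthPartition
import Cfsg.Agent.Quad.Concrete

set_option autoImplicit false
open scoped MatrixGroups
open Cfsg

namespace Cfsg.Agent.S5994

/-- A necessary condition for every element of order p of PΩ⁻_n(q), q odd, to fix an elliptic `m`-space. Here `T = PΩ⁻_n(F)`, `n = 2d ≥ 8`, realised through `Ω⁻_n(q)`, the commutator subgroup of the isometry group of `Q = Σ_{i<d−1} xᵢyᵢ + z₁² + a z₁z₂ + b z₂²` with `z₁² + a z₁z₂ + b z₂²` anisotropic, over the field `F` with `q` elements; an element of `T` of prime order `r` is an element `x` of `Ω⁻_n(q)` with `x^r` scalar and `x` not scalar; `q` is odd; a nondegenerate `m`-space (even `m`) is a subspace on which the polar form of `Q` is nondegenerate; it is hyperbolic if it contains an `m/2`-dimensional subspace on which `Q` vanishes, elliptic otherwise. Let `m` be even with `2 ≤ m ≤ n − 2` and suppose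 `p` divides the number of elliptic `m`-spaces. If every element of `T` of order `p` fixes some elliptic `m`-space, then `n ≡ m (mod 4)` and every partition of `n` into parts of size at most `p` in which every even part has even multiplicity contains (as a sub-multiset) a partition of `m` in which every even part has even multiplicity. -/
theorem result {F : Type*} [Field F] [Fintype F] {p : ℕ} [Fact p.Prime] [CharP F p] {q : ℕ} (hq : Fintype.card F = q) (hqodd : Odd q)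
    (d m : ℕ) (hd : 4 ≤ d) (hm : 2 ≤ m) (hme : Even m) (hmn : m + 2 ≤ 2 * d) (a b : F) (hab : ∀ x y : F, x ^ 2 + a * x * y + b * y ^ 2 = 0 → x = 0 ∧ y = 0)
    (hpΩ : p ∣ Nat.card {W : Submodule F ((Fin (d - 1) ⊕ Fin (d - 1)) ⊕ Fin 2 → F) // Module.finrank F ↥W = m ∧ Cfsg.Geo.IsNondegenerateOn (QuadraticMap.polar (Cfsg.quadFormMinus (d - 1) F a b)) W ∧ ¬ Cfsg.Geo.IsPlusTypeOn (Cfsg.quadFormMinus (d - 1) F a b) W}) :
    (∀ x : GL ((Fin (d - 1) ⊕ Fin (d - 1)) ⊕ Fin 2) F, x ∈ Cfsg.Geo.omegaGL (Cfsg.quadFormMinus (d - 1) F a b) →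
      (∃ z : F, ((x ^ p : GL ((Fin (d - 1) ⊕ Fin (d - 1)) ⊕ Fin 2) F) : Matrix ((Fin (d - 1) ⊕ Fin (d - 1)) ⊕ Fin 2) ((Fin (d - 1) ⊕ Fin (d - 1)) ⊕ Fin 2) F) = z • (1 : Matrix ((Fin (d - 1) ⊕ Fin (d - 1)) ⊕ Fin 2) ((Fin (d - 1) ⊕ Fin (d - 1)) ⊕ Fin 2) F)) →
      (∀ z : F, (x : Matrix ((Fin (d - 1) ⊕ Fin (d - 1)) ⊕ Fin 2) ((Fin (d - 1) ⊕ Fin (d - 1)) ⊕ Fin 2) F) ≠ z • (1 : Matrix ((Fin (d - 1) ⊕ Fin (d - 1)) ⊕ Fin 2) ((Fin (d - 1) ⊕ Fin (d - 1)) ⊕ Fin 2) F)) →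
      ∃ W : Submodule F ((Fin (d - 1) ⊕ Fin (d - 1)) ⊕ Fin 2 → F), (Module.finrank F ↥W = m ∧ Cfsg.Geo.IsNondegenerateOn (QuadraticMap.polar (Cfsg.quadFormMinus (d - 1) F a b)) W ∧ ¬ Cfsg.Geo.IsPlusTypeOn (Cfsg.quadFormMinus (d - 1) F a b) W) ∧ W.map (Matrix.toLin' (x : Matrix ((Fin (d - 1) ⊕ Fin (d - 1)) ⊕ Fin 2) ((Fin (d - 1) ⊕ Fin (d - 1)) ⊕ Fin 2) F)) ≤ W) →
    ((2 * d) % 4 = m % 4 ∧ (∀ μ : Multiset ℕ, (∀ e ∈ μ, 0 < e ∧ e ≤ p) → (∀ e : ℕ, Even e → Even (μ.count e)) → μ.sum = 2 * d →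
        ∃ ν : Multiset ℕ, ν ≤ μ ∧ ν.sum = m ∧ ∀ e : ℕ, Even e → Even (ν.count e))) := by
  classical
  subst hq
  intro hall
  have hp : p.Prime := Fact.out
  have hchar : ringChar F ≠ 2 := fun h => by
    haveI : CharP F 2 := ringChar.of_eq h
    have h2' := FiniteField.card F 2
    obtain ⟨k, -, hk⟩ := h2'
    exact absurd (hqodd) (by rw [hk, Nat.not_odd_iff_even]; exact (Nat.even_pow.2 ⟨even_two, k.ne_zero⟩))
  have h2 : (2 : F) ≠ 0 := Ring.two_ne_zero hchar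
  have hpodd : Odd p := hp.odd_of_ne_two (by
    rintro rfl
    exact h2 (CharP.cast_eq_zero F 2))
  have hp3 : 3 ≤ p := by have := hp.two_le; obtain ⟨c, hc⟩ := hpodd; omega
  generalize hk : d - 1 = k at *
  set Q := CfsgLib.Quad.minusQ (F := F) k a b with hQdef
  have hQc : Cfsg.quadFormMinus k F a b = ⇑Q := (CfsgLib.Quad.minusQ_coe k a b).symm
  rw [hQc] at hall
  have hQ : (QuadraticMap.polarBilin Q).Nondegenerate := CfsgLib.Quad.minusQ_nondeg hab k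
  have hn : Fintype.card ((Fin k ⊕ Fin k) ⊕ Fin 2) = 2 * d := by
    simp only [Fintype.card_sum, Fintype.card_fin]; omega
  have key : ∀ μ : Multiset ℕ, (∀ e ∈ μ, 0 < e ∧ e ≤ p) → (∀ e : ℕ, Even e → Even (μ.count e)) →
      μ.sum = 2 * d → (∃ e ∈ μ, Odd e) → (∃ e ∈ μ, e ≠ 1) →
      ∃ ν ≤ μ, ν.sum = m ∧ (∀ e : ℕ, Even e → Even (ν.count e)) ∧ ¬ ∀ e ∈ ν, e = 2 := by
    intro μ h1 h3 h4 h5 h6
    obtain ⟨ν, a1, a2, a3, W, hW, htwo⟩ := CfsgLib.Elusive.orth_sub_partition h2 hpodd hQ (m := m)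
      (P := fun W => ¬ Cfsg.Geo.IsPlusTypeOn ⇑Q W)
      (fun x hx hxp hxo hxs => hall x hx ⟨1, by rw [hxp, one_smul, Units.val_one]⟩ hxs) h1 h3 (h4.trans hn.symm) h5 h6
    exact ⟨ν, a1, a2, a3, fun h => hW (htwo h)⟩
  refine ⟨?_, CfsgLib.Elusive.partition_of_odd_parts hpodd hme (fun μ h1 h3 h4 h5 h6 => by
    obtain ⟨ν, a1, a2, a3, -⟩ := key μ h1 h3 h4 h5 h6
    exact ⟨ν, a1, a2, a3⟩) (by omega)⟩
  obtain ⟨u, v, c, huv, hu3, hc, hsum⟩ : ∃ u v c : ℕ, (Odd u ∧ Odd v) ∧ (u ≤ 3 ∧ v ≤ 3) ∧ Even c ∧ u + v + 2 * c = 2 * d ∧ 0 < c := by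
    rcases Nat.even_or_odd d with ⟨r, hr⟩ | ⟨r, hr⟩
    · exact ⟨3, 1, d - 2, ⟨by decide, odd_one⟩, ⟨le_rfl, by omega⟩, ⟨r - 1, by omega⟩, by omega, by omega⟩
    · exact ⟨1, 1, d - 1, ⟨odd_one, odd_one⟩, ⟨by omega, by omega⟩, ⟨r, by omega⟩, by omega, by omega⟩
  obtain ⟨ν, hν, hνs, hνe, hν2⟩ := key (u ::ₘ v ::ₘ Multiset.replicate c 2)
    (fun e he => by
      simp only [Multiset.mem_cons, Multiset.mem_replicate] at he
      rcases he with rfl | rfl | ⟨-, rfl⟩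
      · have := huv.1.pos; omega
      · have := huv.2.pos; omega
      · omega)
    (fun e he => by
      rw [Multiset.count_cons_of_ne (by rintro rfl; exact Nat.not_even_iff_odd.2 huv.1 he),
        Multiset.count_cons_of_ne (by rintro rfl; exact Nat.not_even_iff_odd.2 huv.2 he), Multiset.count_replicate]
      split
      · exact hc
      · exact Even.zero)
    (by rw [Multiset.sum_cons, Multiset.sum_cons, Multiset.sum_replicate, smul_eq_mul]; omega)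
    ⟨u, by simp, huv.1⟩ ⟨2, by simp [Multiset.mem_replicate]; omega, by omega⟩
  rcases CfsgLib.Elusive.two_odd_cases hν
    ⟨by rintro rfl; exact absurd huv.1 (by decide), by rintro rfl; exact absurd huv.2 (by decide)⟩ huv hνs hme
    (hνe 2 even_two) with h | ⟨-, h⟩
  · obtain ⟨r, rfl⟩ := hc
    omega
  · exact absurd h hν2

end Cfsg.Agent.S5994
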