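import Cfsg.Statements.S5995
import Cfsg.Agent.Elusive.OrthPartition
import Cfsg.Agent.Quad.Concrete

set_option autoImplicit false
open scoped MatrixGroups
open Cfsg

namespace Cfsg.Agent.S5995

/-- A necessary condition for every element of order p of Ω_n(q), nq odd, to fix a hyperbolic `m`-space. Here `T = Ω_n(F)`, `n = 2d+1 ≥ 7`, `q` odd, realised as the commutator subgroup of the isometry group of `Q = x₀² + Σ xᵢyᵢ` over the field `F` with `q` elements (trivial centre, so its elements of prime order `r` are used directly); a nondegenerate `m`-space (even `m`) is a subspace on which the polar form of `Q` is nondegenerate; it is hyperbolic if it contains an `m/2`-dimensional subspace on which `Q` vanishes, elliptic otherwise. Let `m` be even with `2 ≤ m ≤ n − 1` and suppose `p` divides the number of hyperbolic `m`-spaces. If every element of `T` of order `p` fixes some hyperbolic `m`-space, then `m ≡ 0 (mod 4)` and every partition of `n` into parts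 of size at most `p` in which every even part has even multiplicity contains (as a sub-multiset) a partition of `m` in which every even part has even multiplicity. -/
theorem result {F : Type*} [Field F] [Fintype F] {p : ℕ} [Fact p.Prime] [CharP F p] {q : ℕ} (hq : Fintype.card F = q) (hqodd : Odd q)
    (d m : ℕ) (hd : 3 ≤ d) (hm : 2 ≤ m) (hme : Even m) (hmn : m ≤ 2 * d)
    (hpΩ : p ∣ Nat.card {W : Submodule F (Unit ⊕ (Fin d ⊕ Fin d) → F) // Module.finrank F ↥W = m ∧ Cfsg.Geo.IsNondegenerateOn (QuadraticMap.polar (Cfsg.quadFormOdd d F)) W ∧ Cfsg.Geo.IsPlusTypeOn (Cfsg.quadFormOdd d F) W}) :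
    (∀ x : GL (Unit ⊕ (Fin d ⊕ Fin d)) F, x ∈ Cfsg.Geo.omegaGL (Cfsg.quadFormOdd d F) → orderOf x = p →
      ∃ W : Submodule F (Unit ⊕ (Fin d ⊕ Fin d) → F), (Module.finrank F ↥W = m ∧ Cfsg.Geo.IsNondegenerateOn (QuadraticMap.polar (Cfsg.quadFormOdd d F)) W ∧ Cfsg.Geo.IsPlusTypeOn (Cfsg.quadFormOdd d F) W) ∧ W.map (Matrix.toLin' (x : Matrix (Unit ⊕ (Fin d ⊕ Fin d)) (Unit ⊕ (Fin d ⊕ Fin d)) F)) ≤ W) →
    (m % 4 = 0 ∧ (∀ μ : Multiset ℕ, (∀ e ∈ μ, 0 < e ∧ e ≤ p) → (∀ e : ℕ, Even e → Even (μ.count e)) → μ.sum = 2 * d + 1 →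
        ∃ ν : Multiset ℕ, ν ≤ μ ∧ ν.sum = m ∧ ∀ e : ℕ, Even e → Even (ν.count e))) := by
  classical
  subst hq
  intro hall
  have hp : p.Prime := Fact.out
  have hchar : ringChar F ≠ 2 := fun h => by
    haveI : CharP F 2 := ringChar.of_eq h
    have h2' := FiniteField.card F 2
    obtain ⟨k, -, hk⟩ := h2'
    exact absurd (hqodd) (by rw [hk, Nat.not_odd_iff_even]; exact (Nat.even_pow.2 ⟨even_two, k.ne_zero⟩))
  have h2 : (2 : F) ≠ 0 := Ring.two_ne_zero hchar
  have hpodd : Odd p := hp.odd_of_ne_two (by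
    rintro rfl
    exact h2 (CharP.cast_eq_zero F 2))
  have hp3 : 3 ≤ p := by have := hp.two_le; obtain ⟨c, hc⟩ := hpodd; omega
  set Q := CfsgLib.Quad.oddQ (F := F) d with hQdef
  have hQc : Cfsg.quadFormOdd d F = ⇑Q := (CfsgLib.Quad.oddQ_coe d).symm
  rw [hQc] at hall
  have hQ : (QuadraticMap.polarBilin Q).Nondegenerate := CfsgLib.Quad.oddQ_nondeg h2 d
  have hn : Fintype.card (Unit ⊕ (Fin d ⊕ Fin d)) = 2 * d + 1 := by
    simp only [Fintype.card_sum, Fintype.card_unit, Fintype.card_fin]; omega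
  have key : ∀ μ : Multiset ℕ, (∀ e ∈ μ, 0 < e ∧ e ≤ p) → (∀ e : ℕ, Even e → Even (μ.count e)) →
      μ.sum = 2 * d + 1 → (∃ e ∈ μ, Odd e) → (∃ e ∈ μ, e ≠ 1) →
      ∃ ν ≤ μ, ν.sum = m ∧ ∀ e : ℕ, Even e → Even (ν.count e) := by
    intro μ h1 h3 h4 h5 h6
    obtain ⟨ν, a1, a2, a3, -⟩ := CfsgLib.Elusive.orth_sub_partition h2 hpodd hQ (m := m)
      (P := fun W => Cfsg.Geo.IsPlusTypeOn ⇑Q W)
      (fun x hx hxp hxo hxs => hall x hx hxo) h1 h3 (h4.trans hn.symm) h5 h6
    exact ⟨ν, a1, a2, a3⟩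
  refine ⟨?_, CfsgLib.Elusive.partition_of_odd_parts hpodd hme key (by omega)⟩
  obtain ⟨a, c, ha, hap, hc, hsum⟩ : ∃ a c : ℕ, Odd a ∧ a ≤ 3 ∧ Even c ∧ a + 2 * c = 2 * d + 1 ∧ 0 < c := by
    rcases Nat.even_or_odd d with he | ⟨r, hr⟩
    · exact ⟨1, d, odd_one, by omega, he, by omega, by omega⟩
    · exact ⟨3, d - 1, by decide, le_rfl, ⟨r, by omega⟩, by omega, by omega⟩
  obtain ⟨ν, hν, hνs, hνe⟩ := key (a ::ₘ Multiset.replicate c 2)
    (fun e he => by
      rcases Multiset.mem_cons.1 he with rfl | he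
      · have := ha.pos; omega
      · rw [Multiset.eq_of_mem_replicate he]; omega)
    (fun e he => by
      rw [Multiset.count_cons_of_ne (by rintro rfl; exact Nat.not_even_iff_odd.2 ha he), Multiset.count_replicate]
      split
      · exact hc
      · exact Even.zero)
    (by rw [Multiset.sum_cons, Multiset.sum_replicate, smul_eq_mul]; omega)
    ⟨a, by simp, ha⟩ ⟨2, Multiset.mem_cons_of_mem (Multiset.mem_replicate.2 ⟨by omega, rfl⟩), by omega⟩
  have hrep : ∀ s : Multiset ℕ, s ≤ Multiset.replicate c 2 → s.sum = 2 * s.count 2 := fun s hs => by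
    have h : ∀ e ∈ s, e = 2 := fun e he => Multiset.eq_of_mem_replicate (Multiset.mem_of_le hs he)
    rw [Multiset.eq_replicate_card.2 h, Multiset.sum_replicate, Multiset.count_replicate_self, smul_eq_mul,
      mul_comm]
  obtain ⟨u, hu⟩ := hνe 2 even_two
  rw [Nat.even_iff] at hme
  rw [Nat.odd_iff] at ha
  by_cases h1 : a ∈ ν
  · obtain ⟨ν₁, rfl⟩ := Multiset.exists_cons_of_mem h1
    have h5 := hrep ν₁ ((Multiset.cons_le_cons_iff _).1 hν)
    rw [Multiset.sum_cons] at hνs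
    omega
  · have h5 := hrep ν ((Multiset.le_cons_of_notMem h1).1 hν)
    omega

end Cfsg.Agent.S5995
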