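import Cfsg.Statements.S5997
import Cfsg.Agent.Elusive.TwoByTwo
import Mathlib.GroupTheory.SpecificGroups.Quaternion

set_option autoImplicit false
open scoped MatrixGroups
open Cfsg

namespace Cfsg.Agent.S5997

/-- Elements of prime order of PSL_2(p) and the normalizer of a quaternion subgroup. Here `T = PSL_2(F)` for the field `F` with `p` elements, `p ≥ 5` prime; `R` is a subgroup of GL_2(F) isomorphic to the quaternion group of order 8 (an absolutely irreducible 2-group of symplectic type), and `H` is the subgroup of matrices of determinant 1 normalizing `R` — a subgroup of type 2^{1+2}.O₂⁻(2), isomorphic modulo scalars to A₄ or S₄ (maximality is not assumed). Ω is the set of cosets of `H` in `T`, so an element of `T` of prime order `r` (a matrix `x` of determinant 1 with `x^r` scalar, `x` not scalar) fixes a point of Ω exactly when some conjugate of `x` by a matrix of determinant 1 normalizes `R`. Let `r` be a prime dividing the index of `H`. Then every element of `T` of order `r` fixes a point of Ω if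 and only if `r = 2` or `r = 3`. -/
theorem result {F : Type*} [Field F] [Fintype F] {p : ℕ} [Fact p.Prime] [CharP F p] (hF : Fintype.card F = p) (hp : 5 ≤ p)
    (R : Subgroup (GL (Fin 2) F)) (hR : Nonempty (↥R ≃* QuaternionGroup 2))
    (r : ℕ) [Fact r.Prime]
    (hΩ : r ∣ (Cfsg.Geo.subgroupNormalizer R).relIndex (Cfsg.Geo.specialLinear (Fin 2) F)) :
    (∀ x ∈ Cfsg.Geo.specialLinear (Fin 2) F, (∃ z : F, ((x ^ r : GL (Fin 2) F) : Matrix (Fin 2) (Fin 2) F) = z • (1 : Matrix (Fin 2) (Fin 2) F)) →
      (∀ z : F, (x : Matrix (Fin 2) (Fin 2) F) ≠ z • (1 : Matrix (Fin 2) (Fin 2) F)) →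
      ∃ g ∈ Cfsg.Geo.specialLinear (Fin 2) F, g⁻¹ * x * g ∈ Cfsg.Geo.subgroupNormalizer R) ↔ (r = 2 ∨ r = 3) := by
  classical
  obtain ⟨e⟩ := hR
  have hpF : ∀ m : ℕ, 0 < m → m < 5 → (m : F) ≠ 0 := fun m h0 h5 e0 =>
    absurd (Nat.le_of_dvd h0 ((CharP.cast_eq_zero_iff F p m).1 e0)) (by omega)
  have h2 : (2 : F) ≠ 0 := by simpa using hpF 2 (by omega) (by omega)
  have h3 : (3 : F) ≠ 0 := by simpa using hpF 3 (by omega) (by omega)
  have h4 : (4 : F) ≠ 0 := by simpa using hpF 4 (by omega) (by omega)
  let f : QuaternionGroup 2 →* GL (Fin 2) F := R.subtype.comp e.symm.toMonoidHom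
  have hfR : ∀ x, f x ∈ R := fun x => (e.symm x).2
  have hfi : Function.Injective f := Subtype.val_injective.comp e.symm.injective
  have hfs : ∀ y ∈ R, ∃ x, f x = y := fun y hy => ⟨e ⟨y, hy⟩, by simp [f]⟩
  let qi : QuaternionGroup 2 := .a 1
  let qj : QuaternionGroup 2 := .xa 0
  let qz : QuaternionGroup 2 := .a 2
  set I : (Matrix (Fin 2) (Fin 2) F) := (f qi : (Matrix (Fin 2) (Fin 2) F)) with hI
  set J : (Matrix (Fin 2) (Fin 2) F) := (f qj : (Matrix (Fin 2) (Fin 2) F)) with hJ
  have hmul : ∀ x y, (f (x * y) : (Matrix (Fin 2) (Fin 2) F)) = (f x : (Matrix (Fin 2) (Fin 2) F)) * (f y : (Matrix (Fin 2) (Fin 2) F)) := fun x y => by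
    rw [map_mul, Units.val_mul]
  have hij : I * J ≠ J * I := by
    intro h
    rw [hI, hJ, ← hmul, ← hmul] at h
    exact absurd (hfi (Units.ext h)) (by decide)
  have hnsI : ∀ z : F, I ≠ z • 1 := fun z h => hij (by rw [h]; simp)
  have hnsJ : ∀ z : F, J ≠ z • 1 := fun z h => hij (by rw [h]; simp)
  have hZ : (f qz : (Matrix (Fin 2) (Fin 2) F)) = -1 := by
    have hsq : (f qz : (Matrix (Fin 2) (Fin 2) F)) * (f qz : (Matrix (Fin 2) (Fin 2) F)) = 1 := by
      rw [← hmul, show qz * qz = 1 by decide, map_one, Units.val_one]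
    by_cases hs : ∀ z : F, (f qz : (Matrix (Fin 2) (Fin 2) F)) ≠ z • 1
    · refine absurd (CfsgLib.Elusive.commute_of_commute_nonscalar hs ?_ ?_) hij
      · rw [hI, ← hmul, ← hmul, show qz * qi = qi * qz by decide]
      · rw [hJ, ← hmul, ← hmul, show qz * qj = qj * qz by decide]
    · push Not at hs
      obtain ⟨z, hz⟩ := hs
      rw [hz] at hsq
      have hz2 : z * z = 1 := by simpa [smul_smul] using congrFun (congrFun hsq 0) 0
      rcases mul_self_eq_one_iff.1 hz2 with rfl | rfl
      · rw [one_smul] at hz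
        exact absurd (hfi (Units.ext (hz.trans (by rw [map_one, Units.val_one])) : f qz = f 1)) (by decide)
      · rw [hz, neg_one_smul]
  have hII : I * I = -1 := by rw [hI, ← hmul, show qi * qi = qz by decide, hZ]
  have hJJ : J * J = -1 := by rw [hJ, ← hmul, show qj * qj = qz by decide, hZ]
  have hJI : J * I = -(I * J) := by
    rw [hI, hJ, ← hmul, show qj * qi = qz * (qi * qj) by decide, hmul, hZ, neg_one_mul, hmul]
  obtain ⟨hIt, hId⟩ := CfsgLib.Elusive.trace_det_of_quadratic hnsI (a := (0 : F)) (b := 1)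
    (by rw [hII, zero_smul, zero_sub, one_smul])
  -- the element of order three
  set H : (Matrix (Fin 2) (Fin 2) F) := -((1 / 2 : F) • (1 + I + J + I * J)) with hH
  have hIJI : I * J * I = J := by
    rw [mul_assoc, hJI, mul_neg, ← mul_assoc, hII, neg_one_mul, neg_neg]
  have hJIJ : J * (I * J) = I := by
    rw [← mul_assoc, hJI, neg_mul, mul_assoc, hJJ, mul_neg, mul_one, neg_neg]
  have hIIJ : I * (I * J) = -J := by rw [← mul_assoc, hII, neg_one_mul]
  have hIJJ : I * J * J = -I := by rw [mul_assoc, hJJ, mul_neg, mul_one]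
  have hIJIJ : I * J * (I * J) = -1 := by rw [← mul_assoc, hIJI, hJJ]
  have hHI : H * I = J * H := by
    simp only [hH, neg_mul, mul_neg, Matrix.smul_mul, Matrix.mul_smul, add_mul, mul_add, one_mul, mul_one,
      hII, hJI, hIJI, hJJ, hJIJ]
    abel_nf
  have hHJ : H * J = I * J * H := by
    simp only [hH, neg_mul, mul_neg, Matrix.smul_mul, Matrix.mul_smul, add_mul, mul_add, one_mul, mul_one,
      hJJ, hIJI, hIJJ, hIJIJ]
    abel_nf
  have hHH : H * H = (-1 : F) • H - (1 : F) • 1 := by
    simp only [hH, neg_mul, mul_neg, neg_neg, Matrix.smul_mul, Matrix.mul_smul, add_mul, mul_add, one_mul,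
      mul_one, hII, hJJ, hJI, hIJI, hJIJ, hIIJ, hIJJ, hIJIJ, smul_neg]
    match_scalars <;> field_simp <;> ring
  have hnsH : ∀ z : F, H ≠ z • 1 := by
    intro z h
    have hz : z ≠ 0 := fun e0 => by
      rw [e0, zero_smul] at h
      rw [h] at hHH
      simpa using congrFun (congrFun hHH 0) 0
    have h1 := hHI
    rw [h, Matrix.smul_mul, one_mul, Matrix.mul_smul, mul_one] at h1
    exact hij (by rw [smul_right_injective (Matrix (Fin 2) (Fin 2) F) hz h1])
  obtain ⟨hHt, hHd⟩ := CfsgLib.Elusive.trace_det_of_quadratic hnsH hHH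
  let hGL : GL (Fin 2) F := Matrix.GeneralLinearGroup.mkOfDetNeZero H (by rw [hHd]; exact one_ne_zero)
  have hgen : ∀ x : QuaternionGroup 2, x ∈ Subgroup.closure ({qi, qj} : Set (QuaternionGroup 2)) := by
    have hi : qi ∈ Subgroup.closure ({qi, qj} : Set (QuaternionGroup 2)) := Subgroup.subset_closure (by simp)
    have hj : qj ∈ Subgroup.closure ({qi, qj} : Set (QuaternionGroup 2)) := Subgroup.subset_closure (by simp)
    have key : ∀ x : QuaternionGroup 2, ∃ u v : Fin 4, x = qi ^ (u : ℕ) * qj ^ (v : ℕ) := by decide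
    intro x
    obtain ⟨u, v, rfl⟩ := key x
    exact mul_mem (pow_mem hi _) (pow_mem hj _)
  have hNH : hGL ∈ Cfsg.Geo.subgroupNormalizer R := by
    refine Subgroup.mem_normalizer_iff'.2 ?_ |> fun h => h
    have hle : ∀ y ∈ R, hGL * y * hGL⁻¹ ∈ R := by
      intro y hy
      obtain ⟨x, rfl⟩ := hfs y hy
      have : f x ∈ R.comap (MulAut.conj hGL).toMonoidHom := by
        have hle : Subgroup.closure ({qi, qj} : Set (QuaternionGroup 2)) ≤
            (R.comap (MulAut.conj hGL).toMonoidHom).comap f := by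
          rw [Subgroup.closure_le]
          rintro y (rfl | rfl)
          · show hGL * f qi * hGL⁻¹ ∈ R
            rw [show hGL * f qi = f qj * hGL from Units.ext hHI, mul_inv_cancel_right]
            exact hfR _
          · show hGL * f qj * hGL⁻¹ ∈ R
            rw [show hGL * f qj = f (qi * qj) * hGL from Units.ext (by
              rw [Units.val_mul, Units.val_mul, hmul]; exact hHJ), mul_inv_cancel_right]
            exact hfR _
        exact hle (hgen x)
      exact this
    have hfin : Finite R := Finite.of_equiv _ e.symm.toEquiv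
    have hbij : Function.Bijective (fun y : R => (⟨hGL * y * hGL⁻¹, hle y y.2⟩ : R)) :=
      Finite.injective_iff_bijective.1 fun a b hab => Subtype.ext (by simpa using congrArg Subtype.val hab)
    intro y
    constructor
    · intro hy
      have h1 := hle _ hy
      simpa [mul_assoc] using h1
    · intro hy
      obtain ⟨⟨b, hb⟩, hbe⟩ := hbij.2 ⟨hGL * y, hy⟩
      have hby : hGL * b * hGL⁻¹ = hGL * y := congrArg Subtype.val hbe
      have : y * hGL = b := by
        apply mul_left_cancel (a := hGL)
        rw [← mul_assoc, ← hby, inv_mul_cancel_right]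
      exact this ▸ hb
  -- conjugating by a matrix of determinant one
  have conj : ∀ x : GL (Fin 2) F, ∀ t : GL (Fin 2) F, t ∈ Cfsg.Geo.subgroupNormalizer R →
      (∀ z : F, (x : (Matrix (Fin 2) (Fin 2) F)) ≠ z • 1) → (∀ z : F, (t : (Matrix (Fin 2) (Fin 2) F)) ≠ z • 1) → (x : (Matrix (Fin 2) (Fin 2) F)).det = 1 → (t : (Matrix (Fin 2) (Fin 2) F)).det = 1 →
      (x : (Matrix (Fin 2) (Fin 2) F)).trace = (t : (Matrix (Fin 2) (Fin 2) F)).trace → (x : (Matrix (Fin 2) (Fin 2) F)).trace ^ 2 ≠ 4 →
      ∃ g ∈ Cfsg.Geo.specialLinear (Fin 2) F, g⁻¹ * x * g ∈ Cfsg.Geo.subgroupNormalizer R := by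
    intro x t ht hx htn hxd htd htr h4'
    obtain ⟨P, hPd, hP⟩ := CfsgLib.Elusive.exists_conj_two h2 hx htn hxd htd htr h4'
    let g : GL (Fin 2) F := Matrix.GeneralLinearGroup.mkOfDetNeZero P (by rw [hPd]; exact one_ne_zero)
    refine ⟨g, MonoidHom.mem_ker.2 (Units.ext hPd), ?_⟩
    rw [mul_assoc, show x * g = g * t from Units.ext hP, inv_mul_cancel_left]
    exact ht
  have hneg : ∀ g : GL (Fin 2) F, g ∈ Cfsg.Geo.subgroupNormalizer R →
      f qz * g ∈ Cfsg.Geo.subgroupNormalizer R := fun g hg =>
    mul_mem (Subgroup.le_normalizer (hfR qz)) hg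
  constructor
  · intro hall
    by_contra hr
    push Not at hr
    have hr5 : 5 ≤ r := by
      have h1 := (Fact.out : r.Prime).two_le
      have h4r : r ≠ 4 := fun e0 => by
        have := (Fact.out : r.Prime); rw [e0] at this; norm_num at this
      omega
    obtain ⟨x, hx⟩ := exists_prime_orderOf_dvd_card' r (hΩ.trans (Subgroup.relIndex_dvd_card _ _))
    have hxo : orderOf (x : GL (Fin 2) F) = r := by rw [Subgroup.orderOf_coe, hx]
    have hxr : (x : GL (Fin 2) F) ^ r = 1 := hxo ▸ pow_orderOf_eq_one (x : GL (Fin 2) F)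
    have hdet : ((x : GL (Fin 2) F) : (Matrix (Fin 2) (Fin 2) F)).det = 1 := congrArg Units.val (MonoidHom.mem_ker.1 x.2)
    have hns : ∀ z : F, ((x : GL (Fin 2) F) : (Matrix (Fin 2) (Fin 2) F)) ≠ z • 1 := by
      intro z hz
      have hz2 : z * z = 1 := by
        rw [hz, Matrix.det_smul, Matrix.det_one, mul_one, Fintype.card_fin, sq] at hdet
        exact hdet
      have hzr : z ^ r = 1 := by
        have h1 := congrArg (fun y : GL (Fin 2) F => (y : (Matrix (Fin 2) (Fin 2) F))) hxr
        simp only [Units.val_pow_eq_pow_val, hz, smul_pow, one_pow, Units.val_one] at h1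
        simpa using congrFun (congrFun h1 0) 0
      have hz1 : z = 1 := by
        rcases mul_self_eq_one_iff.1 hz2 with rfl | rfl
        · rfl
        · rw [Odd.neg_one_pow ((Fact.out : r.Prime).odd_of_ne_two (by omega))] at hzr
          exact hzr
      have : (x : GL (Fin 2) F) = 1 := Units.ext (by rw [hz, hz1, one_smul, Units.val_one])
      rw [this, orderOf_one] at hxo
      omega
    obtain ⟨g, hg, hgx⟩ := hall x x.2 ⟨1, by rw [hxr, Units.val_one, one_smul]⟩ hns
    set y := g⁻¹ * (x : GL (Fin 2) F) * g with hy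
    have hyr : y ^ r = 1 := by
      rw [hy, show g⁻¹ * (x : GL (Fin 2) F) * g = g⁻¹ * x * (g⁻¹)⁻¹ by rw [inv_inv], conj_pow, hxr]
      group
    have hyns : ∀ z : F, (y : (Matrix (Fin 2) (Fin 2) F)) ≠ z • 1 := by
      intro z hz
      refine hns z ?_
      have h1 : (x : GL (Fin 2) F) = g * y * g⁻¹ := by rw [hy]; group
      rw [h1, Units.val_mul, Units.val_mul, hz, mul_smul_comm, mul_one, smul_mul_assoc, ← Units.val_mul,
        mul_inv_cancel, Units.val_one]
    -- `y` commutes with each element squaring to the central involution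
    have hcom : ∀ q : QuaternionGroup 2, q * q = qz → (y : (Matrix (Fin 2) (Fin 2) F)) * (f q : (Matrix (Fin 2) (Fin 2) F)) = (f q : (Matrix (Fin 2) (Fin 2) F)) * (y : (Matrix (Fin 2) (Fin 2) F)) := by
      intro q hq
      by_contra hne
      have hz : ∀ k : ℕ, y ^ k * f qz * (y ^ k)⁻¹ = f qz := fun k => by
        have h1 : (y ^ k) * f qz = f qz * (y ^ k) := Units.ext (by
          rw [Units.val_mul, Units.val_mul, hZ, mul_neg, neg_mul, one_mul, mul_one])
        rw [h1, mul_inv_cancel_right]
      let c : ℕ → GL (Fin 2) F := fun k => y ^ k * f q * (y ^ k)⁻¹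
      have hcsq : ∀ k, c k * c k = f qz := fun k => by
        show (y ^ k * f q * (y ^ k)⁻¹) * (y ^ k * f q * (y ^ k)⁻¹) = f qz
        rw [show (y ^ k * f q * (y ^ k)⁻¹) * (y ^ k * f q * (y ^ k)⁻¹) = y ^ k * (f q * f q) * (y ^ k)⁻¹ by group,
          ← map_mul, hq, hz]
      have hc2 : ∀ u v, c (u + v) = y ^ u * c v * (y ^ u)⁻¹ := fun u v => by
        simp only [c, pow_add, mul_inv_rev, mul_assoc]
      have hstab : ∀ d, 0 < d → d < r → c d ≠ c 0 := by
        intro d h0 hd he
        have hper : ∀ m, c (d * m) = c 0 := fun m => by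
          induction m with
          | zero => rfl
          | succ m ih =>
            rw [Nat.mul_succ, hc2, he, ← hc2, Nat.add_zero, ih]
        obtain ⟨m, hm⟩ : ∃ m, d * m % r = 1 := by
          obtain ⟨m, hm⟩ := Nat.exists_mul_mod_eq_one_of_coprime (n := d) (k := r)
            (Nat.Coprime.symm ((Nat.Prime.coprime_iff_not_dvd Fact.out).2
              (fun hdd => by have := Nat.le_of_dvd h0 hdd; omega))) (by omega)
          exact ⟨m, hm.2⟩
        have h1 := hper m
        simp only [c, pow_eq_pow_mod (d * m) hyr, hm, pow_one, pow_zero, one_mul, inv_one, mul_one] at h1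
        exact hne (by rw [← Units.val_mul, ← Units.val_mul, mul_inv_eq_iff_eq_mul.1 h1])
      have hinj : ∀ u v, u < r → v < r → c u = c v → u = v := by
        intro u v hu hv he
        wlog huv : u ≤ v generalizing u v
        · exact (this v u hv hu he.symm (le_of_not_ge huv)).symm
        by_contra hne'
        obtain ⟨d, rfl⟩ := Nat.le.dest huv
        refine hstab d (by omega) (by omega) ?_
        rw [show u + d = u + d from rfl, hc2, show c u = y ^ u * c 0 * (y ^ u)⁻¹ from (hc2 u 0)] at he
        exact (mul_left_cancel (mul_right_cancel he)).symm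
      have hneg' : ∀ u v, u < r → v < r → c u ≠ f qz * c v := by
        intro u v hu hv he
        have hcz : ∀ k, y ^ k * f qz = f qz * y ^ k := fun k => by
          rw [← mul_inv_eq_iff_eq_mul]; exact hz k
        -- shift to `c d = -c 0`
        obtain ⟨d, hd⟩ : ∃ d, c d = f qz * c 0 := ⟨u + (r - v), by
          rw [Nat.add_comm, hc2, he, show y ^ (r - v) * (f qz * c v) * (y ^ (r - v))⁻¹ =
            f qz * (y ^ (r - v) * c v * (y ^ (r - v))⁻¹) by rw [← mul_assoc, hcz]; simp only [mul_assoc],
            ← hc2]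
          rw [Nat.sub_add_cancel hv.le]
          simp only [c, hyr, pow_zero]⟩
        have hzz : f qz * f qz = 1 := by rw [← map_mul, show qz * qz = 1 by decide, map_one]
        have h2d : c (d + d) = c 0 := by
          rw [hc2, hd, ← mul_assoc, hcz]
          rw [mul_assoc (f qz), mul_assoc (f qz), show y ^ d * c 0 * (y ^ d)⁻¹ = c d from (hc2 d 0).symm,
            hd, ← mul_assoc, hzz, one_mul]
        have h2r : c ((d + d) % r) = c 0 := by
          rw [← h2d]; simp only [c, ← pow_eq_pow_mod (d + d) hyr]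
        have h0 := hinj _ 0 (Nat.mod_lt _ (by omega)) (by omega) h2r
        have hdr : r ∣ d := by
          rcases (Nat.Prime.dvd_mul (Fact.out : r.Prime)).1 (show r ∣ 2 * d by
            rw [two_mul]; exact Nat.dvd_of_mod_eq_zero h0) with h | h
          · have := Nat.le_of_dvd (by norm_num) h; omega
          · exact h
        have hc0 : c d = c 0 := by
          simp only [c]
          rw [pow_eq_pow_mod d hyr, Nat.mod_eq_zero_of_dvd hdr]
        rw [hc0] at hd
        have h1 : (f qz : GL (Fin 2) F) = f 1 := by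
          rw [map_one]; exact mul_right_cancel (hd.symm.trans (one_mul _).symm)
        exact absurd (hfi h1) (by decide)
      have hmem : ∀ k, c k ∈ R := fun k => (Subgroup.mem_normalizer_iff.1 (pow_mem hgx k) _).1 (hfR q)
      let φ : Fin r ⊕ Fin r → R := Sum.elim (fun k => ⟨c k, hmem k⟩)
        (fun k => ⟨f qz * c k, mul_mem (hfR qz) (hmem k)⟩)
      have hφ : Function.Injective φ := by
        rintro (u | u) (v | v) he <;> have he' := congrArg Subtype.val he <;>
          simp only [φ, Sum.elim_inl, Sum.elim_inr] at he'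
        · rw [Fin.ext (hinj _ _ u.isLt v.isLt he')]
        · exact absurd he' (hneg' _ _ u.isLt v.isLt)
        · exact absurd he'.symm (hneg' _ _ v.isLt u.isLt)
        · rw [Fin.ext (hinj _ _ u.isLt v.isLt (mul_left_cancel he'))]
      have : Finite R := Finite.of_equiv _ e.symm.toEquiv
      have hcard := Nat.card_le_card_of_injective φ hφ
      rw [Nat.card_congr e.toEquiv, Nat.card_sum, Nat.card_fin, Nat.card_eq_fintype_card,
        QuaternionGroup.card] at hcard
      omega
    exact hij (CfsgLib.Elusive.commute_of_commute_nonscalar hyns (hcom qi (by decide)) (hcom qj (by decide)))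
  · intro hr x hxS hxz hxn
    obtain ⟨z, hz⟩ := hxz
    rw [Units.val_pow_eq_pow_val] at hz
    have hxd : (x : (Matrix (Fin 2) (Fin 2) F)).det = 1 := congrArg Units.val (MonoidHom.mem_ker.1 hxS)
    have hz2 : z * z = 1 := by
      have := congrArg Matrix.det hz
      rw [Matrix.det_pow, hxd, one_pow, Matrix.det_smul, Matrix.det_one, mul_one, Fintype.card_fin, sq] at this
      exact this.symm
    have hch := CfsgLib.Elusive.cayley_two (x : (Matrix (Fin 2) (Fin 2) F))
    rw [hxd, one_smul] at hch
    rcases hr with rfl | rfl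
    · rw [pow_two, hch] at hz
      obtain ⟨ht, -⟩ := CfsgLib.Elusive.coeff_of_nonscalar hxn (a := (x : (Matrix (Fin 2) (Fin 2) F)).trace) (b := z + 1) (by
        rw [add_smul, one_smul]; exact sub_eq_iff_eq_add.1 hz)
      refine conj x (f qi) (Subgroup.le_normalizer (hfR qi)) hxn hnsI hxd hId (by rw [ht, ← hI, hIt]) ?_
      rw [ht]
      intro h0
      exact h4 (by linear_combination -h0)
    · rw [pow_succ, pow_two, hch, sub_mul, smul_mul_assoc, one_mul, hch] at hz
      set t := (x : (Matrix (Fin 2) (Fin 2) F)).trace with ht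
      obtain ⟨h1, h2'⟩ := CfsgLib.Elusive.coeff_of_nonscalar hxn (a := t ^ 2 - 1) (b := z + t) (by
        rw [add_smul, sub_smul, one_smul, sq, ← smul_smul]
        linear_combination (norm := module) hz)
      have htz : t = -z := by linear_combination h2'
      have h4' : t ^ 2 ≠ 4 := fun h0 => h3 (by linear_combination h1 - h0)
      rcases mul_self_eq_one_iff.1 hz2 with rfl | rfl
      · exact conj x hGL hNH hxn hnsH hxd hHd (by rw [← ht, htz]; exact hHt.symm) h4'
      · have hval : ((f qz * hGL : GL (Fin 2) F) : (Matrix (Fin 2) (Fin 2) F)) = -H := by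
          rw [Units.val_mul, hZ, neg_one_mul]; rfl
        refine conj x (f qz * hGL) (hneg _ hNH) hxn ?_ hxd ?_ ?_ h4'
        · intro w hw
          rw [hval] at hw
          exact hnsH (-w) (by rw [neg_smul, ← hw, neg_neg])
        · rw [hval, Matrix.det_neg, hHd]; simp
        · rw [hval, Matrix.trace_neg, hHt, ← ht, htz]

end Cfsg.Agent.S5997
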