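import Cfsg.Statements.S5998
import Cfsg.Agent.Elusive.Heisenberg

set_option autoImplicit false
open scoped MatrixGroups
open Cfsg

namespace Cfsg.Agent.S5998

open scoped Matrix

/-- Elements of prime order of PSL_3(p), p ≡ 1 (mod 3), and the normalizer of an extraspecial subgroup of order 27. Here `T = PSL_3(F)` for the field `F` with `p` elements, `p` a prime with `p ≡ 1 (mod 3)`; `R` is a non-abelian subgroup of GL_3(F) of order 27 and exponent 3 (an extraspecial group 3^{1+2}, acting absolutely irreducibly), and `H` is the subgroup of matrices of determinant 1 normalizing `R` — a subgroup of type 3^{1+2}.Sp₂(3) (maximality is not assumed). Ω is the set of cosets of `H` in `T`, so an element of `T` of prime order `r` (a matrix `x` of determinant 1 with `x^r` scalar, `x` not scalar) fixes a point of Ω exactly when some conjugate of `x` by a matrix of determinant 1 normalizes `R`. Let `r` be a prime dividing the index of `H`. Then every element of `T` of order `r` fixes a point of Ω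 if and only if `r = 2`, or `r = 3` and `p ≡ 1 (mod 9)`. -/
theorem result {F : Type*} [Field F] [Fintype F] {p : ℕ} [Fact p.Prime] [CharP F p] (hF : Fintype.card F = p) (hp3 : p % 3 = 1)
    (R : Subgroup (GL (Fin 3) F)) (hR : Nat.card R = 27) (hRe : Monoid.exponent R = 3) (hRna : ¬ IsMulCommutative R)
    (r : ℕ) [Fact r.Prime]
    (hΩ : r ∣ (Cfsg.Geo.subgroupNormalizer R).relIndex (Cfsg.Geo.specialLinear (Fin 3) F)) :
    (∀ x ∈ Cfsg.Geo.specialLinear (Fin 3) F, (∃ z : F, ((x ^ r : GL (Fin 3) F) : Matrix (Fin 3) (Fin 3) F) = z • (1 : Matrix (Fin 3) (Fin 3) F)) →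
      (∀ z : F, (x : Matrix (Fin 3) (Fin 3) F) ≠ z • (1 : Matrix (Fin 3) (Fin 3) F)) →
      ∃ g ∈ Cfsg.Geo.specialLinear (Fin 3) F, g⁻¹ * x * g ∈ Cfsg.Geo.subgroupNormalizer R) ↔ (r = 2 ∨ (r = 3 ∧ p % 9 = 1)) := by
  classical
  have hrr := (Fact.out : r.Prime)
  have hpp := (Fact.out : p.Prime)
  have hp7 : 7 ≤ p := by
    by_contra h
    have := hpp.two_le
    interval_cases p <;> first | omega | exact absurd hpp (by decide)
  have hcastne : ∀ m : ℕ, 0 < m → m < p → (m : F) ≠ 0 := fun m h1 h2 e =>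
    absurd (Nat.le_of_dvd h1 ((CharP.cast_eq_zero_iff F p m).1 e)) (by omega)
  have h2 : (2 : F) ≠ 0 := by exact_mod_cast hcastne 2 two_pos (by omega)
  have h3 : ((3 : ℕ) : F) ≠ 0 := hcastne 3 (by norm_num) (by omega)
  have hunits : Nat.card Fˣ = p - 1 := by rw [Nat.card_eq_fintype_card, Fintype.card_units, hF]
  obtain ⟨ω, hω⟩ : ∃ ω : F, IsPrimitiveRoot ω 3 := by
    haveI : Fact (Nat.Prime 3) := ⟨Nat.prime_three⟩
    obtain ⟨u, hu⟩ := exists_prime_orderOf_dvd_card' (G := Fˣ) 3 (by rw [hunits]; omega)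
    exact ⟨u, IsPrimitiveRoot.iff_orderOf.2 (orderOf_units.trans hu)⟩
  obtain ⟨μ, P, a, b, z₀, hμ, ha, hb, hz₀, hzm, hPa, hPb, hgen⟩ := CfsgLib.Elusive.exists_heisenberg_frame hω h3 R hR hRe hRna
  have hμ3 : μ ^ 3 = 1 := hμ.pow_eq_one
  have hμ0 : μ ≠ 0 := hμ.ne_zero (by norm_num)
  -- determinants
  have hSL : ∀ g : GL (Fin 3) F, g ∈ Cfsg.Geo.specialLinear (Fin 3) F ↔ (g : Matrix (Fin 3) (Fin 3) F).det = 1 :=
    fun g => ⟨fun h => congrArg Units.val (MonoidHom.mem_ker.1 h), fun h => Units.ext h⟩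
  have hdetP : ∀ g : GL (Fin 3) F, ((P * g * P⁻¹ : GL (Fin 3) F) : Matrix (Fin 3) (Fin 3) F).det =
      (g : Matrix (Fin 3) (Fin 3) F).det := fun g => by
    rw [Units.val_mul, Units.val_mul, Matrix.det_units_conj]
  have hdetP' : ∀ g : GL (Fin 3) F, (g : Matrix (Fin 3) (Fin 3) F).det =
      ((P⁻¹ * g * P : GL (Fin 3) F) : Matrix (Fin 3) (Fin 3) F).det := fun g => by
    rw [Units.val_mul, Units.val_mul, Matrix.det_units_conj']
  have hadet : a ∈ Cfsg.Geo.specialLinear (Fin 3) F := by
    rw [hSL, hdetP', hPa, Matrix.det_diagonal, Fin.prod_univ_three]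
    simp
    linear_combination hμ3
  have hbdet : b ∈ Cfsg.Geo.specialLinear (Fin 3) F := by
    rw [hSL, hdetP', hPb, Matrix.det_fin_three]
    simp [CfsgLib.Elusive.cycMat]
  have hRN : R ≤ Cfsg.Geo.subgroupNormalizer R := Subgroup.le_normalizer
  have hscN : ∀ (g : GL (Fin 3) F) (c : F), (g : Matrix (Fin 3) (Fin 3) F) = c • 1 →
      g ∈ Cfsg.Geo.subgroupNormalizer R := fun g c hg => by
    have hc : ∀ h : GL (Fin 3) F, g * h * g⁻¹ = h := fun h => by
      rw [mul_inv_eq_iff_eq_mul]
      exact Units.ext (by rw [Units.val_mul, Units.val_mul, hg, smul_mul_assoc, one_mul, mul_smul_comm, mul_one])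
    exact CfsgLib.Elusive.mem_normalizer_of_gen hgen (by rw [hc]; exact ha) (by rw [hc]; exact hb)
  -- scalar multiples
  have hsc : ∀ c : F, c ≠ 0 → ∃ S : GL (Fin 3) F, (S : Matrix (Fin 3) (Fin 3) F) = c • 1 := fun c hc =>
    ⟨Matrix.GeneralLinearGroup.mkOfDetNeZero (c • 1) (by rw [Matrix.det_smul, Matrix.det_one, mul_one]; exact pow_ne_zero _ hc), rfl⟩
  -- eigen bases
  have hbasisdet : ∀ (y : GL (Fin 3) F) (c : Module.Basis (Fin 3) F (Fin 3 → F)) (s : Fin 3 → F),
      (∀ j, (y : Matrix (Fin 3) (Fin 3) F) *ᵥ c j = s j • c j) → (y : Matrix (Fin 3) (Fin 3) F).det = ∏ j, s j := by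
    intro y c s hc
    rw [← LinearMap.det_toLin', ← LinearMap.det_toMatrix c, show LinearMap.toMatrix c c
      (Matrix.toLin' (y : Matrix (Fin 3) (Fin 3) F)) = Matrix.diagonal s by
        ext i l
        rw [LinearMap.toMatrix_apply, Matrix.toLin'_apply, hc, map_smul, c.repr_self, Finsupp.smul_single,
          Finsupp.single_apply]
        by_cases hil : i = l
        · subst hil; simp
        · simp [hil, Ne.symm hil], Matrix.det_diagonal]
  have hinv : ∀ y : GL (Fin 3) F, y ∈ Cfsg.Geo.specialLinear (Fin 3) F → y * y = 1 →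
      (∀ c : F, (y : Matrix (Fin 3) (Fin 3) F) ≠ c • 1) →
      ∃ c : Module.Basis (Fin 3) F (Fin 3 → F), ∀ j,
        (y : Matrix (Fin 3) (Fin 3) F) *ᵥ c j = (![1, -1, -1] : Fin 3 → F) j • c j := by
    intro y hy hyy hns
    obtain ⟨c, s, hs⟩ := CfsgLib.Elusive.exists_sign_basis (g := Matrix.toLin' (y : Matrix (Fin 3) (Fin 3) F))
      (Module.finrank_fin_fun F) (by
        rw [Module.End.mul_eq_comp, ← Matrix.toLin'_mul, ← Units.val_mul, hyy, Units.val_one, Matrix.toLin'_one]; rfl) h2
    have hs' : ∀ j, (y : Matrix (Fin 3) (Fin 3) F) *ᵥ c j = s j • c j := fun j => by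
      simpa [Matrix.toLin'_apply] using (hs j).2
    have hprod := (hbasisdet y c s hs').symm.trans ((hSL y).1 hy)
    rw [Fin.prod_univ_three] at hprod
    have hne : ¬ (s 0 = s 1 ∧ s 1 = s 2) := fun h => hns (s 0) (Matrix.toLin'.injective (c.ext fun j => by
      rw [map_smul, Matrix.toLin'_one, Matrix.toLin'_apply, hs', LinearMap.smul_apply, LinearMap.id_apply]
      congr 1
      fin_cases j <;> simp [h.1, h.2]))
    obtain ⟨σ, hσ⟩ : ∃ σ : Equiv.Perm (Fin 3), ∀ j, s (σ j) = (![1, -1, -1] : Fin 3 → F) j := by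
      rcases mul_self_eq_one_iff.1 (hs 0).1 with a0 | a0 <;> rcases mul_self_eq_one_iff.1 (hs 1).1 with a1 | a1 <;>
        rcases mul_self_eq_one_iff.1 (hs 2).1 with a2 | a2 <;>
        first
          | (exfalso; apply hne; constructor <;> (simp [a0, a1, a2]; done))
          | (exfalso; rw [a0, a1, a2] at hprod; apply h2; linear_combination -hprod)
          | (refine ⟨1, fun j => ?_⟩; fin_cases j <;> (simp [a0, a1, a2]; done))
          | (refine ⟨Equiv.swap 0 1, fun j => ?_⟩; fin_cases j <;> (simp [Equiv.swap_apply_def, a0, a1, a2]; done))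
          | (refine ⟨Equiv.swap 0 2, fun j => ?_⟩; fin_cases j <;> (simp [Equiv.swap_apply_def, a0, a1, a2]; done))
    exact ⟨c.reindex σ.symm, fun j => by rw [Module.Basis.reindex_apply, Equiv.symm_symm, hs', hσ]⟩
  have hcols : ∀ (g : GL (Fin 3) F) (s : Fin 3 → F), (g : Matrix (Fin 3) (Fin 3) F) = Matrix.diagonal s →
      ∃ c : Module.Basis (Fin 3) F (Fin 3 → F), ∀ j,
        ((P * g * P⁻¹ : GL (Fin 3) F) : Matrix (Fin 3) (Fin 3) F) *ᵥ c j = s j • c j := by
    intro g s hg
    refine ⟨(Pi.basisFun F (Fin 3)).map (LinearMap.GeneralLinearGroup.generalLinearEquiv F (Fin 3 → F)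
      (Units.map Matrix.toLinAlgEquiv'.toMonoidHom P)), fun j => ?_⟩
    show _ *ᵥ ((P : Matrix (Fin 3) (Fin 3) F) *ᵥ Pi.basisFun F (Fin 3) j) =
      s j • ((P : Matrix (Fin 3) (Fin 3) F) *ᵥ Pi.basisFun F (Fin 3) j)
    rw [Matrix.mulVec_mulVec, ← Units.val_mul, show P * g * P⁻¹ * P = P * g by group, Units.val_mul, hg,
      ← Matrix.mulVec_mulVec, ← Matrix.mulVec_smul, Pi.basisFun_apply, Matrix.diagonal_mulVec_single, mul_one,
      ← Pi.single_smul', smul_eq_mul, mul_one]
  have hxz : ∀ x ∈ Cfsg.Geo.specialLinear (Fin 3) F, ∀ z : F,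
      ((x ^ r : GL (Fin 3) F) : Matrix (Fin 3) (Fin 3) F) = z • 1 → z ^ 3 = 1 := by
    intro x hx z hz
    have h := congrArg Matrix.det hz
    rw [Units.val_pow_eq_pow_val, Matrix.det_pow, (hSL x).1 hx, one_pow, Matrix.det_smul, Matrix.det_one, mul_one,
      Fintype.card_fin] at h
    exact h.symm
  constructor
  · intro hall
    by_contra hno
    push Not at hno
    obtain ⟨hr2, hr9⟩ := hno
    by_cases hr3 : r = 3
    · -- the index is prime to three
      subst hr3
      obtain ⟨k, hk⟩ : ∃ k, p = 3 * k + 1 := ⟨p / 3, by omega⟩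
      have hk3 : ¬ 3 ∣ k := fun h => hr9 rfl (by omega)
      have hcard : Nat.card (Cfsg.Geo.specialLinear (Fin 3) F) * (p - 1) = Nat.card (GL (Fin 3) F) := by
        have hsurj : Function.Surjective (Matrix.GeneralLinearGroup.det : GL (Fin 3) F →* Fˣ) := fun u =>
          ⟨Matrix.GeneralLinearGroup.mkOfDetNeZero (Matrix.diagonal ![(u : F), 1, 1])
            (by simp [Matrix.det_diagonal, Fin.prod_univ_three]),
            Units.ext (by simp [Matrix.GeneralLinearGroup.mkOfDetNeZero, Matrix.det_diagonal, Fin.prod_univ_three])⟩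
        rw [Subgroup.card_eq_card_quotient_mul_card_subgroup (Cfsg.Geo.specialLinear (Fin 3) F), ← hunits,
          mul_comm (Nat.card _) (Nat.card Fˣ),
          ← Nat.card_congr (QuotientGroup.quotientKerEquivOfSurjective _ hsurj).toEquiv]
        rfl
      rw [Matrix.card_GL_field, hF, Fin.prod_univ_three] at hcard
      have h27 : 27 ∣ Nat.card ↥(Cfsg.Geo.subgroupNormalizer R ⊓ Cfsg.Geo.specialLinear (Fin 3) F) := by
        rw [← hR]
        refine Subgroup.card_dvd_of_le (le_inf hRN ?_)
        rw [hgen, Subgroup.closure_le]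
        rintro x (rfl | rfl)
        · exact hadet
        · exact hbdet
      obtain ⟨c, hc⟩ := h27
      have hmul := Subgroup.relIndex_mul_relIndex ⊥ (Cfsg.Geo.subgroupNormalizer R ⊓ Cfsg.Geo.specialLinear (Fin 3) F)
        (Cfsg.Geo.specialLinear (Fin 3) F) bot_le inf_le_right
      rw [Subgroup.relIndex_bot_left, Subgroup.relIndex_bot_left, Subgroup.inf_relIndex_right, hc] at hmul
      obtain ⟨i, hi⟩ := hΩ
      rw [← hmul, hi, hk] at hcard
      simp only [Fin.val_zero, Fin.val_one, Fin.val_two, pow_zero, pow_one, Nat.add_sub_cancel] at hcard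
      obtain ⟨e0, he0⟩ : ∃ e, (3 * k + 1) ^ 3 = e + 1 := ⟨(3 * k + 1) ^ 3 - 1, by
        have := Nat.one_le_pow 3 (3 * k + 1) (by omega); omega⟩
      have e1 : (3 * k + 1) ^ 3 - 1 = 3 * k * (9 * k ^ 2 + 9 * k + 3) := by
        have : (3 * k + 1) ^ 3 = 3 * k * (9 * k ^ 2 + 9 * k + 3) + 1 := by ring
        omega
      have e2 : (3 * k + 1) ^ 3 - (3 * k + 1) = 3 * k * (3 * k + 2) * (3 * k + 1) := by
        have : (3 * k + 1) ^ 3 = 3 * k * (3 * k + 2) * (3 * k + 1) + (3 * k + 1) := by ring
        omega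
      have e3 : (3 * k + 1) ^ 3 - (3 * k + 1) ^ 2 = 3 * k * (3 * k + 1) ^ 2 := by
        have : (3 * k + 1) ^ 3 = 3 * k * (3 * k + 1) ^ 2 + (3 * k + 1) ^ 2 := by ring
        omega
      rw [e1, e2, e3] at hcard
      have hpos : 0 < 81 * k := by omega
      have hfin : 3 * (c * i) = k ^ 2 * ((3 * k ^ 2 + 3 * k + 1) * ((3 * k + 2) * (3 * k + 1) ^ 3)) := by
        refine Nat.eq_of_mul_eq_mul_left hpos ?_
        linear_combination hcard
      have hdvd : 3 ∣ k ^ 2 * ((3 * k ^ 2 + 3 * k + 1) * ((3 * k + 2) * (3 * k + 1) ^ 3)) := ⟨c * i, hfin.symm⟩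
      rcases Nat.prime_three.dvd_mul.1 hdvd with h | h
      · exact hk3 (Nat.prime_three.dvd_of_dvd_pow h)
      rcases Nat.prime_three.dvd_mul.1 h with h | h
      · omega
      rcases Nat.prime_three.dvd_mul.1 h with h | h
      · omega
      · have := Nat.prime_three.dvd_of_dvd_pow h
        omega
    · have hr5 : 5 ≤ r := by
        by_contra h
        have := hrr.two_le
        interval_cases r <;> first | omega | exact absurd hrr (by decide)
      obtain ⟨x, hx⟩ := exists_prime_orderOf_dvd_card' (G := Cfsg.Geo.specialLinear (Fin 3) F) r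
        (hΩ.trans (Subgroup.relIndex_dvd_card _ _))
      have hxr : (x : GL (Fin 3) F) ^ r = 1 := by
        rw [← SubgroupClass.coe_pow, ← hx, pow_orderOf_eq_one, OneMemClass.coe_one]
      have hns : ∀ c : F, ((x : GL (Fin 3) F) : Matrix (Fin 3) (Fin 3) F) ≠ c • 1 := by
        intro c hc
        have hc3 : c ^ 3 = 1 := by
          have h := (hSL _).1 x.2
          rwa [hc, Matrix.det_smul, Matrix.det_one, mul_one, Fintype.card_fin] at h
        have h3x : x ^ 3 = 1 := Subtype.ext (Units.ext (by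
          rw [SubgroupClass.coe_pow, Units.val_pow_eq_pow_val, hc, smul_pow, one_pow, hc3, one_smul]; rfl))
        have := Nat.le_of_dvd (by norm_num) (hx ▸ orderOf_dvd_of_pow_eq_one h3x)
        omega
      obtain ⟨g, -, hgy⟩ := hall x x.2 ⟨1, by rw [hxr, one_smul]; rfl⟩ hns
      obtain ⟨c, hc⟩ := CfsgLib.Elusive.scalar_of_normalizer hR hμ ha hb hz₀ hzm hPa hPb hr5 hgy
        (by rw [show g⁻¹ * (x : GL (Fin 3) F) * g = g⁻¹ * x * g⁻¹⁻¹ by rw [inv_inv], conj_pow, hxr]; group)
      refine hns c ?_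
      rw [show (x : GL (Fin 3) F) = g * (g⁻¹ * x * g) * g⁻¹ by group, Units.val_mul, Units.val_mul, hc, mul_smul_comm,
        mul_one, smul_mul_assoc, Units.mul_inv]
  · intro hcond x hxS hxzx hns
    obtain ⟨z, hz⟩ := hxzx
    have hz3 := hxz x hxS z hz
    have hz0 : z ≠ 0 := fun h => by simp [h] at hz3
    rcases hcond with rfl | ⟨rfl, hp9⟩
    · -- involutions
      obtain ⟨S, hS⟩ := hsc z hz0
      set y := S * x with hy
      have hyS : y ∈ Cfsg.Geo.specialLinear (Fin 3) F := mul_mem ((hSL S).2 (by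
        rw [hS, Matrix.det_smul, Matrix.det_one, mul_one, Fintype.card_fin, hz3])) hxS
      have hyy : y * y = 1 := Units.ext (by
        rw [pow_two, Units.val_mul] at hz
        rw [hy, Units.val_mul, Units.val_mul, hS, smul_mul_assoc, one_mul, smul_mul_assoc, mul_smul_comm, hz, smul_smul,
          smul_smul, show z * z * z = z ^ 3 by ring, hz3, one_smul]
        rfl)
      have hyns : ∀ c : F, (y : Matrix (Fin 3) (Fin 3) F) ≠ c • 1 := fun c hc => hns (z⁻¹ * c) (by
        rw [hy, Units.val_mul, hS, smul_mul_assoc, one_mul] at hc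
        rw [← smul_smul, ← hc, smul_smul, inv_mul_cancel₀ hz0, one_smul])
      let g₀ : GL (Fin 3) F := Matrix.GeneralLinearGroup.mkOfDetNeZero !![-1, 0, 0; 0, 0, -1; 0, -1, 0]
        (by simp [Matrix.det_fin_three])
      have hg₀ : (g₀ : Matrix (Fin 3) (Fin 3) F) = !![-1, 0, 0; 0, 0, -1; 0, -1, 0] := rfl
      have hTN : P * g₀ * P⁻¹ ∈ Cfsg.Geo.subgroupNormalizer R := by
        refine CfsgLib.Elusive.conj_mem_normalizer ha hb hz₀ hzm hPa hPb hgen g₀ 0 2 0 0 0 2 ?_ ?_
        · rw [pow_zero, one_smul, pow_zero, mul_one, Matrix.diagonal_pow, hg₀]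
          ext i l
          fin_cases i <;> fin_cases l <;> simp [Matrix.mul_apply, Fin.sum_univ_three, Matrix.diagonal_apply] <;>
            first | linear_combination μ * hμ3 | linear_combination -μ * hμ3 | linear_combination 2 * μ * hμ3 | linear_combination -2 * μ * hμ3
        · rw [pow_zero, one_smul, pow_zero, one_mul, pow_two, hg₀]
          ext i l
          fin_cases i <;> fin_cases l <;> simp [Matrix.mul_apply, Fin.sum_univ_three, CfsgLib.Elusive.cycMat]
      have hTS : P * g₀ * P⁻¹ ∈ Cfsg.Geo.specialLinear (Fin 3) F := by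
        rw [hSL, hdetP, hg₀, Matrix.det_fin_three]; simp
      obtain ⟨c, hc⟩ := hinv y hyS hyy hyns
      obtain ⟨c', hc'⟩ := hinv (P * g₀ * P⁻¹) hTS (by
          rw [show P * g₀ * P⁻¹ * (P * g₀ * P⁻¹) = P * (g₀ * g₀) * P⁻¹ by group,
            show g₀ * g₀ = 1 from Units.ext (by
              rw [Units.val_mul, hg₀]
              ext i l
              fin_cases i <;> fin_cases l <;> simp [Matrix.mul_apply, Fin.sum_univ_three])]
          group)
        (fun e he => by
          have h := congrArg (fun M => ((P⁻¹ : GL (Fin 3) F) : Matrix (Fin 3) (Fin 3) F) * M * (P : Matrix (Fin 3) (Fin 3) F)) he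
          simp only [← Units.val_mul, mul_smul_comm, smul_mul_assoc, mul_one, Units.inv_mul] at h
          rw [show P⁻¹ * (P * g₀ * P⁻¹) * P = g₀ by group, hg₀] at h
          have := congrFun (congrFun h 1) 2
          simp at this)
      obtain ⟨g, hg, hgy⟩ := CfsgLib.Elusive.exists_sl_conj_of_eigen y _ hyS hTS _ c c' hc hc'
      refine ⟨g, hg, ?_⟩
      have hSc : ∀ h : GL (Fin 3) F, h * S = S * h := fun h => Units.ext (by
        rw [Units.val_mul, Units.val_mul, hS, mul_smul_comm, smul_mul_assoc, mul_one, one_mul])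
      have e : g⁻¹ * x * g = S⁻¹ * (g⁻¹ * y * g) := by
        rw [hy, ← mul_assoc g⁻¹ S x, hSc g⁻¹]; group
      rw [e, hgy]
      exact mul_mem (inv_mem (hscN S z hS)) hTN
    · -- elements of order three
      have hd3 : Module.finrank F (Fin 3 → F) = 3 := Module.finrank_fin_fun F
      by_cases hz1 : z = 1
      · have hthree : ∀ y : GL (Fin 3) F, y ∈ Cfsg.Geo.specialLinear (Fin 3) F → y ^ 3 = 1 →
            (∀ c : F, (y : Matrix (Fin 3) (Fin 3) F) ≠ c • 1) →
            ∃ c : Module.Basis (Fin 3) F (Fin 3 → F), ∀ j : Fin 3,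
              (y : Matrix (Fin 3) (Fin 3) F) *ᵥ c j = μ ^ (j : ℕ) • c j := by
          intro y hy hy3 hyns
          obtain ⟨c, hc⟩ := CfsgLib.Elusive.exists_eigen_basis hμ hd3
            (f := Matrix.toLinAlgEquiv' (y : Matrix (Fin 3) (Fin 3) F))
            (by rw [← map_pow, ← Units.val_pow_eq_pow_val, hy3, Units.val_one, map_one]) (fun j => by
              by_contra hlt
              set w := μ ^ (j : ℕ)
              have hw3 : w ^ 3 = 1 := by rw [← pow_mul, mul_comm, pow_mul, hμ3, one_pow]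
              have hw0 : w ≠ 0 := pow_ne_zero _ hμ0
              have h := CfsgLib.Elusive.eq_one_of_fix_two (f := w⁻¹ • Matrix.toLinAlgEquiv' (y : Matrix (Fin 3) (Fin 3) F)) hd3
                (by rw [smul_pow, ← map_pow, ← Units.val_pow_eq_pow_val, hy3, Units.val_one, map_one, inv_pow, hw3, inv_one, one_smul])
                h3 (by
                  rw [LinearMap.det_smul, hd3, show LinearMap.det (Matrix.toLinAlgEquiv' (y : Matrix (Fin 3) (Fin 3) F)) =
                    LinearMap.det (Matrix.toLin' (y : Matrix (Fin 3) (Fin 3) F)) from rfl, LinearMap.det_toLin',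
                    (hSL y).1 hy, inv_pow, hw3, inv_one, one_mul])
                ((Nat.lt_iff_add_one_le.1 (not_le.1 hlt)).trans (Submodule.finrank_mono fun v hv => by
                  rw [LinearMap.mem_ker, LinearMap.sub_apply, LinearMap.smul_apply, Module.End.one_apply, sub_eq_zero] at hv
                  rw [CfsgLib.Elusive.mem_fixS, LinearMap.smul_apply, hv, smul_smul, inv_mul_cancel₀ hw0, one_smul]))
              refine hyns w (Matrix.toLinAlgEquiv'.injective ?_)
              rw [map_smul, map_one, ← h, smul_smul, mul_inv_cancel₀ hw0, one_smul])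
          exact ⟨c, fun j => by simpa [Matrix.toLinAlgEquiv'_apply] using hc j⟩
        rw [hz1, one_smul] at hz
        have ha3 : a ^ 3 = 1 := by
          have := Monoid.pow_exponent_eq_one (⟨a, ha⟩ : R)
          rw [hRe] at this
          exact congrArg Subtype.val this
        obtain ⟨c, hc⟩ := hthree x hxS (Units.ext hz) hns
        obtain ⟨c', hc'⟩ := hthree a hadet ha3 (fun e he => by
          have h := congrArg (fun M => ((P⁻¹ : GL (Fin 3) F) : Matrix (Fin 3) (Fin 3) F) * M * (P : Matrix (Fin 3) (Fin 3) F)) he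
          simp only [← Units.val_mul, mul_smul_comm, smul_mul_assoc, mul_one, Units.inv_mul] at h
          rw [hPa] at h
          have h0 := congrFun (congrFun h 0) 0
          have h1 := congrFun (congrFun h 1) 1
          simp at h0 h1
          exact hμ.ne_one (by norm_num) (h1.trans h0.symm))
        obtain ⟨g, hg, hgy⟩ := CfsgLib.Elusive.exists_sl_conj_of_eigen x a hxS hadet (fun j : Fin 3 => μ ^ (j : ℕ)) c c' hc hc'
        exact ⟨g, hg, hgy ▸ hRN ha⟩
      · obtain ⟨c₀, hc₀⟩ : ∃ c : F, c ^ 3 = z := by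
          obtain ⟨ζ, hζ⟩ := IsCyclic.exists_generator (α := Fˣ)
          obtain ⟨n, hn⟩ := (mem_powers_iff_mem_zpowers.2 (hζ (Units.mk0 z hz0)) : Units.mk0 z hz0 ∈ Submonoid.powers ζ)
          have h1 : orderOf ζ = p - 1 := by rw [orderOf_eq_card_of_forall_mem_zpowers hζ, hunits]
          have h2' : ζ ^ (n * 3) = 1 := by
            rw [pow_mul, show ζ ^ n = Units.mk0 z hz0 from hn]
            exact Units.ext hz3
          have h3' : 3 ∣ n := by
            have := h1 ▸ orderOf_dvd_of_pow_eq_one h2'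
            obtain ⟨t, ht⟩ : 9 ∣ p - 1 := by omega
            have h9 : 9 ∣ n * 3 := (Dvd.intro t ht.symm).trans this
            omega
          obtain ⟨t, rfl⟩ := h3'
          refine ⟨((ζ ^ t : Fˣ) : F), ?_⟩
          rw [← Units.val_pow_eq_pow_val, ← pow_mul, mul_comm t, show ζ ^ (3 * t) = Units.mk0 z hz0 from hn]
          rfl
        have hc0 : c₀ ≠ 0 := fun h => hz0 (by rw [← hc₀, h]; simp)
        set f := c₀⁻¹ • Matrix.toLinAlgEquiv' (x : Matrix (Fin 3) (Fin 3) F) with hf
        have hf3 : f ^ 3 = 1 := by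
          rw [hf, smul_pow, ← map_pow, ← Units.val_pow_eq_pow_val, hz, map_smul, map_one, smul_smul, inv_pow, hc₀,
            inv_mul_cancel₀ hz0, one_smul]
        have hfdet : LinearMap.det f = z⁻¹ := by
          rw [hf, LinearMap.det_smul, hd3, show LinearMap.det (Matrix.toLinAlgEquiv' (x : Matrix (Fin 3) (Fin 3) F)) =
            LinearMap.det (Matrix.toLin' (x : Matrix (Fin 3) (Fin 3) F)) from rfl, LinearMap.det_toLin', (hSL x).1 hxS,
            mul_one, inv_pow, hc₀]
        obtain ⟨j, hj⟩ : ∃ j : Fin 3, 2 ≤ Module.finrank F (LinearMap.ker (f - μ ^ (j : ℕ) • 1)) := by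
          by_contra hno
          push Not at hno
          obtain ⟨c, hc⟩ := CfsgLib.Elusive.exists_eigen_basis hμ hd3 hf3 (fun j => by have := hno j; omega)
          refine hz1 (inv_injective ?_)
          rw [← hfdet, inv_one, ← LinearMap.det_toMatrix c, show LinearMap.toMatrix c c f =
            Matrix.diagonal fun j : Fin 3 => μ ^ (j : ℕ) by
              ext i l
              rw [LinearMap.toMatrix_apply, hc, map_smul, c.repr_self, Finsupp.smul_single, Finsupp.single_apply]
              by_cases hil : i = l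
              · subst hil; simp
              · simp [hil, Ne.symm hil], Matrix.det_diagonal, Fin.prod_univ_three]
          simp
          linear_combination hμ3
        set w := μ ^ (j : ℕ) with hw
        have hw3 : w ^ 3 = 1 := by rw [hw, ← pow_mul, mul_comm, pow_mul, hμ3, one_pow]
        have hw0 : w ≠ 0 := pow_ne_zero _ hμ0
        obtain ⟨c, ν, hν3, -, hc⟩ := CfsgLib.Elusive.exists_reflection_basis (f := w⁻¹ • f) hd3
          (by rw [smul_pow, hf3, inv_pow, hw3, inv_one, one_smul]) h3 (hj.trans (Submodule.finrank_mono fun v hv => by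
            have hv' : f v = w • v := sub_eq_zero.1 hv
            rw [CfsgLib.Elusive.mem_fixS, LinearMap.smul_apply, hv', smul_smul, inv_mul_cancel₀ hw0, one_smul]))
          (fun h => by
            refine hns (c₀ * w) (Matrix.toLinAlgEquiv'.injective ?_)
            rw [map_smul, map_one, ← h, hf, smul_smul, smul_smul]
            rw [show c₀ * w * w⁻¹ * c₀⁻¹ = (c₀ * c₀⁻¹) * (w * w⁻¹) by ring, mul_inv_cancel₀ hc0, mul_inv_cancel₀ hw0,
              one_mul, one_smul])
        set e := c₀ * w with he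
        have he0 : e ≠ 0 := mul_ne_zero hc0 hw0
        have hxc : ∀ l, (x : Matrix (Fin 3) (Fin 3) F) *ᵥ c l = (e • (![1, 1, ν] : Fin 3 → F)) l • c l := by
          intro l
          have h := congrArg (fun v => e • v) (hc l)
          simp only [hf, LinearMap.smul_apply, smul_smul, Matrix.toLinAlgEquiv'_apply] at h
          rw [he, show c₀ * w * (w⁻¹ * c₀⁻¹) = (c₀ * c₀⁻¹) * (w * w⁻¹) by ring, mul_inv_cancel₀ hc0, mul_inv_cancel₀ hw0,
            one_mul, one_smul] at h
          rw [h, Pi.smul_apply, smul_eq_mul]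
        obtain ⟨m, -, rfl⟩ := hμ.eq_pow_of_pow_eq_one hν3
        let g₁ : GL (Fin 3) F := Matrix.GeneralLinearGroup.mkOfDetNeZero (Matrix.diagonal ![1, 1, μ ^ m])
          (by simp [Matrix.det_diagonal, Fin.prod_univ_three, hμ0])
        have hg₁ : (g₁ : Matrix (Fin 3) (Fin 3) F) = Matrix.diagonal ![1, 1, μ ^ m] := rfl
        obtain ⟨S, hS⟩ := hsc e he0
        have hSg : ((S * g₁ : GL (Fin 3) F) : Matrix (Fin 3) (Fin 3) F) = Matrix.diagonal (e • (![1, 1, μ ^ m] : Fin 3 → F)) := by
          rw [Units.val_mul, hS, hg₁, smul_mul_assoc, one_mul, Matrix.diagonal_smul]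
        obtain ⟨c', hc'⟩ := hcols (S * g₁) _ hSg
        have hN : P * (S * g₁) * P⁻¹ ∈ Cfsg.Geo.subgroupNormalizer R := by
          have hSc : P * S = S * P := Units.ext (by
            rw [Units.val_mul, Units.val_mul, hS, mul_smul_comm, smul_mul_assoc, mul_one, one_mul])
          rw [show P * (S * g₁) * P⁻¹ = S * (P * g₁ * P⁻¹) by rw [← mul_assoc P, hSc]; group]
          refine mul_mem (hscN S e hS) (CfsgLib.Elusive.conj_mem_normalizer ha hb hz₀ hzm hPa hPb hgen g₁ 0 1 0 (2 * m) m 1 ?_ ?_)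
          · rw [pow_zero, one_smul, pow_zero, mul_one, pow_one, hg₁, Matrix.diagonal_mul_diagonal, Matrix.diagonal_mul_diagonal]
            congr 1; funext i; ring
          · rw [pow_one, Matrix.diagonal_pow, hg₁]
            have h3m : (μ ^ 3) ^ m = 1 := by rw [hμ3, one_pow]
            ext i l
            fin_cases i <;> fin_cases l <;>
              simp [Matrix.mul_apply, Fin.sum_univ_three, CfsgLib.Elusive.cycMat, Matrix.diagonal_apply] <;>
              first
                | linear_combination (norm := ring1) -h3m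
                | linear_combination (norm := ring1) -(μ ^ m) * h3m
                | linear_combination (norm := ring1) h3m
                | linear_combination (norm := ring1) (μ ^ m) * h3m
        have hTS : P * (S * g₁) * P⁻¹ ∈ Cfsg.Geo.specialLinear (Fin 3) F := by
          rw [hSL, hdetP, hSg, Matrix.det_diagonal, ← hbasisdet x c _ hxc, (hSL x).1 hxS]
        obtain ⟨g, hg, hgy⟩ := CfsgLib.Elusive.exists_sl_conj_of_eigen x _ hxS hTS _ c c' hxc hc'
        exact ⟨g, hg, hgy ▸ hN⟩

end Cfsg.Agent.S5998
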