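import Cfsg.Statements.S5999
import Cfsg.Agent.Elusive.Heisenberg
import Cfsg.Agent.Unitary.Special
import Cfsg.Agent.Unitary.Generation

set_option autoImplicit false
open scoped MatrixGroups
open Cfsg

namespace Cfsg.Agent.S5999

open scoped Matrix

set_option maxHeartbeats 2000000

/-- Elements of prime order of PSU_3(p), p ≡ 2 (mod 3), and the normalizer of an extraspecial subgroup of order 27. Here `T = PSU_3(p)` for a prime `p ≥ 5` with `p ≡ 2 (mod 3)`, realised through `SU_3(p)`, the matrices of determinant 1 over the field `F` with `p²` elements preserving the hermitian form `Σ uᵢvᵢ^p`; `R` is a non-abelian subgroup of order 27 and exponent 3 of the full unitary group of that form (an extraspecial group 3^{1+2}, acting absolutely irreducibly), and `H` is the subgroup of `SU_3(p)` normalizing `R` — a subgroup of type 3^{1+2}.Sp₂(3) (maximality is not assumed). Ω is the set of cosets of `H`, so an element of `T` of prime order `r` (`x ∈ SU_3(p)` with `x^r` scalar,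 `x` not scalar) fixes a point of Ω exactly when some `SU_3(p)`-conjugate of `x` normalizes `R`. Let `r` be a prime dividing the index of `H`. Then every element of `T` of order `r` fixes a point of Ω if and only if `r = 2`, or `r = 3` and `p ≡ 8 (mod 9)`. -/
theorem result {F : Type*} [Field F] [Fintype F] {p : ℕ} [Fact p.Prime] [CharP F p] (hF : Fintype.card F = p ^ 2) (hp : 5 ≤ p) (hp3 : p % 3 = 2)
    (R : Subgroup (GL (Fin 3) F)) (hRU : R ≤ Cfsg.GU 3 F p) (hR : Nat.card R = 27) (hRe : Monoid.exponent R = 3) (hRna : ¬ IsMulCommutative R)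
    (r : ℕ) [Fact r.Prime]
    (hΩ : r ∣ (Cfsg.Geo.subgroupNormalizer R).relIndex (Cfsg.GU 3 F p ⊓ Cfsg.Geo.specialLinear (Fin 3) F)) :
    (∀ x ∈ Cfsg.GU 3 F p ⊓ Cfsg.Geo.specialLinear (Fin 3) F, (∃ z : F, ((x ^ r : GL (Fin 3) F) : Matrix (Fin 3) (Fin 3) F) = z • (1 : Matrix (Fin 3) (Fin 3) F)) →
      (∀ z : F, (x : Matrix (Fin 3) (Fin 3) F) ≠ z • (1 : Matrix (Fin 3) (Fin 3) F)) →
      ∃ g ∈ Cfsg.GU 3 F p ⊓ Cfsg.Geo.specialLinear (Fin 3) F, g⁻¹ * x * g ∈ Cfsg.Geo.subgroupNormalizer R) ↔ (r = 2 ∨ (r = 3 ∧ p % 9 = 8)) := by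
  classical
  have hrr := (Fact.out : r.Prime)
  have hpp := (Fact.out : p.Prime)
  have hF' : Nat.card F = p ^ 2 := by rw [Nat.card_eq_fintype_card, hF]
  have hcastne : ∀ m : ℕ, 0 < m → m < p → (m : F) ≠ 0 := fun m h1 h2 e =>
    absurd (Nat.le_of_dvd h1 ((CharP.cast_eq_zero_iff F p m).1 e)) (by omega)
  have h2 : (2 : F) ≠ 0 := by exact_mod_cast hcastne 2 two_pos (by omega)
  have h3 : ((3 : ℕ) : F) ≠ 0 := hcastne 3 (by norm_num) (by omega)
  have hunits : Nat.card Fˣ = (p - 1) * (p + 1) := by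
    rw [Nat.card_eq_fintype_card, Fintype.card_units, hF, mul_comm]
    exact (Nat.sq_sub_sq p 1)
  obtain ⟨ω, hω⟩ : ∃ ω : F, IsPrimitiveRoot ω 3 := by
    haveI : Fact (Nat.Prime 3) := ⟨Nat.prime_three⟩
    obtain ⟨u, hu⟩ := exists_prime_orderOf_dvd_card' (G := Fˣ) 3
      (by rw [hunits]; exact dvd_mul_of_dvd_right (by omega) _)
    exact ⟨u, IsPrimitiveRoot.iff_orderOf.2 (orderOf_units.trans hu)⟩
  obtain ⟨μ, P₀, a, b, z₀, hμ, ha, hb, hz₀, hzm, hPa₀, hPb₀, hgen⟩ :=
    CfsgLib.Elusive.exists_heisenberg_frame hω h3 R hR hRe hRna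
  have hμ3 : μ ^ 3 = 1 := hμ.pow_eq_one
  have hμ0 : μ ≠ 0 := hμ.ne_zero (by norm_num)
  have hpnorm : ∀ c : F, c ^ 3 = 1 → c ^ (p + 1) = 1 := fun c hc => by
    obtain ⟨t, ht⟩ : 3 ∣ p + 1 := by omega
    rw [ht, pow_mul, hc, one_pow]
  -- the form
  set h := Cfsg.hermForm 3 F p with hh
  have hal : ∀ u v w, h (u + v) w = h u w + h v w := CfsgLib.Unitary.herm_add_left 3
  have hsl : ∀ (c : F) u v, h (c • u) v = c * h u v := CfsgLib.Unitary.herm_smul_left 3
  have har : ∀ u v w, h u (v + w) = h u v + h u w := (CfsgLib.Unitary.uForm hF' 3).add_right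
  have hsr : ∀ u v (c : F), h u (c • v) = c ^ p * h u v := fun u v c => (CfsgLib.Unitary.uForm hF' 3).smul_right c u v
  have hnd : ∀ v, (∀ w, h v w = 0) → v = 0 := fun v hv => funext fun i => by
    have := hv (Pi.single i 1)
    simpa [hh, Cfsg.hermForm, Pi.single_apply, hpp.ne_zero] using this
  have hGU : ∀ g : GL (Fin 3) F, g ∈ Cfsg.GU 3 F p → ∀ u v,
      h ((g : Matrix (Fin 3) (Fin 3) F) *ᵥ u) ((g : Matrix (Fin 3) (Fin 3) F) *ᵥ v) = h u v :=
    fun g hg => CfsgLib.Unitary.mem_GU_iff.1 hg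
  have hnormalise : ∀ u, h u u ≠ 0 → ∃ l : F, l ≠ 0 ∧ h (l • u) (l • u) = 1 := by
    intro u hu
    obtain ⟨l, hl⟩ := CfsgLib.Unitary.exists_norm_eq hF' (μ := (h u u)⁻¹) (by
      rw [inv_pow, CfsgLib.Unitary.herm_self_fixed hF'])
    refine ⟨l, fun e => inv_ne_zero hu (by rw [← hl, e]; simp), ?_⟩
    rw [hsl, hsr, ← mul_assoc, ← pow_succ', hl, inv_mul_cancel₀ hu]
  have hsc : ∀ c : F, c ≠ 0 → ∃ S : GL (Fin 3) F, (S : Matrix (Fin 3) (Fin 3) F) = c • 1 := fun c hc =>
    ⟨Matrix.GeneralLinearGroup.mkOfDetNeZero (c • 1) (by rw [Matrix.det_smul, Matrix.det_one, mul_one]; exact pow_ne_zero _ hc), rfl⟩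
  have hcentral : ∀ (S g : GL (Fin 3) F) (c : F), (S : Matrix (Fin 3) (Fin 3) F) = c • 1 → g * S = S * g :=
    fun S g c hS => Units.ext (by
      rw [Units.val_mul, Units.val_mul, hS, mul_smul_comm, smul_mul_assoc, mul_one, one_mul])
  -- an orthonormal frame
  obtain ⟨P, hPU, hPa, hPb⟩ : ∃ P : GL (Fin 3) F, P ∈ Cfsg.GU 3 F p ∧
      ((P⁻¹ * a * P : GL (Fin 3) F) : Matrix (Fin 3) (Fin 3) F) = Matrix.diagonal ![1, μ, μ ^ 2] ∧
      ((P⁻¹ * b * P : GL (Fin 3) F) : Matrix (Fin 3) (Fin 3) F) = CfsgLib.Elusive.cycMat F := by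
    set v : Fin 3 → (Fin 3 → F) := fun i => (P₀ : Matrix (Fin 3) (Fin 3) F) *ᵥ Pi.single i 1 with hvdef
    have hμv : ∀ i : Fin 3, (![1, μ, μ ^ 2] : Fin 3 → F) i = μ ^ (i : ℕ) := fun i => by fin_cases i <;> simp
    have hav : ∀ i : Fin 3, (a : Matrix (Fin 3) (Fin 3) F) *ᵥ v i = μ ^ (i : ℕ) • v i := fun i => by
      rw [hvdef]
      simp only
      rw [Matrix.mulVec_mulVec, ← Units.val_mul, show a * P₀ = P₀ * (P₀⁻¹ * a * P₀) by group, Units.val_mul, hPa₀,
        ← Matrix.mulVec_mulVec, Matrix.diagonal_mulVec_single, mul_one, hμv, ← Matrix.mulVec_smul,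
        ← Pi.single_smul', smul_eq_mul, mul_one]
    have hbv : ∀ i : Fin 3, (b : Matrix (Fin 3) (Fin 3) F) *ᵥ v i = v (i + 1) := fun i => by
      rw [hvdef]
      simp only
      rw [Matrix.mulVec_mulVec, ← Units.val_mul, show b * P₀ = P₀ * (P₀⁻¹ * b * P₀) by group, Units.val_mul, hPb₀,
        ← Matrix.mulVec_mulVec]
      congr 1
      ext l
      fin_cases i <;> fin_cases l <;> simp [CfsgLib.Elusive.cycMat]
    have horth : ∀ i l : Fin 3, i ≠ l → h (v i) (v l) = 0 := by
      intro i l hil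
      have e := hGU a (hRU ha) (v i) (v l)
      rw [hav, hav, hsl, hsr, ← mul_assoc, ← pow_mul, ← pow_add] at e
      have hne : μ ^ ((i : ℕ) + (l : ℕ) * p) ≠ 1 := fun e' => by
        have hd := (hμ.pow_eq_one_iff_dvd _).1 e'
        have hi := i.isLt
        have hl := l.isLt
        have hlp : (l : ℕ) * p % 3 = (l : ℕ) * 2 % 3 := by rw [Nat.mul_mod, hp3]; omega
        have hval : (i : ℕ) ≠ (l : ℕ) := fun h => hil (Fin.ext h)
        omega
      have e' : (μ ^ ((i : ℕ) + (l : ℕ) * p) - 1) * h (v i) (v l) = 0 := by linear_combination e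
      exact (mul_eq_zero.1 e').resolve_left (sub_ne_zero.2 hne)
    have heq : ∀ i : Fin 3, h (v (i + 1)) (v (i + 1)) = h (v i) (v i) := fun i => by
      rw [← hbv]; exact hGU b (hRU hb) _ _
    have hexp : ∀ x : Fin 3 → F, (P₀ : Matrix (Fin 3) (Fin 3) F) *ᵥ x = x 0 • v 0 + x 1 • v 1 + x 2 • v 2 := fun x => by
      simp only [hvdef, ← Matrix.mulVec_smul, ← Matrix.mulVec_add]
      congr 1
      funext l
      fin_cases l <;> simp [Pi.single_apply]
    have hn1 : h (v 1) (v 1) = h (v 0) (v 0) := heq 0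
    have hn2 : h (v 2) (v 2) = h (v 0) (v 0) := (heq 1).trans hn1
    have hform : ∀ x y, h ((P₀ : Matrix (Fin 3) (Fin 3) F) *ᵥ x) ((P₀ : Matrix (Fin 3) (Fin 3) F) *ᵥ y) =
        h (v 0) (v 0) * h x y := by
      intro x y
      rw [hexp, hexp]
      simp only [hal, har, hsl, hsr, horth 0 1 (by decide), horth 0 2 (by decide), horth 1 0 (by decide),
        horth 1 2 (by decide), horth 2 0 (by decide), horth 2 1 (by decide), hn1, hn2]
      rw [hh]
      simp only [Cfsg.hermForm, Fin.sum_univ_three]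
      ring
    have hc0 : h (v 0) (v 0) ≠ 0 := fun e => by
      have hz : v 0 = 0 := hnd _ fun w => by
        have := hform (Pi.single 0 1) (((P₀⁻¹ : GL (Fin 3) F) : Matrix (Fin 3) (Fin 3) F) *ᵥ w)
        rw [Matrix.mulVec_mulVec _ (P₀ : Matrix (Fin 3) (Fin 3) F), Units.mul_inv, Matrix.one_mulVec, e, zero_mul] at this
        exact this
      have := Matrix.mulVec_injective_of_isUnit P₀.isUnit (hz.trans (Matrix.mulVec_zero (P₀ : Matrix (Fin 3) (Fin 3) F)).symm)
      simpa using congrFun this 0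
    obtain ⟨l, hl0, hl⟩ := hnormalise _ hc0
    rw [hsl, hsr, ← mul_assoc, ← pow_succ'] at hl
    obtain ⟨S, hS⟩ := hsc l hl0
    refine ⟨P₀ * S, CfsgLib.Unitary.mem_GU_iff.2 fun x y => ?_, ?_, ?_⟩
    · rw [Units.val_mul, ← Matrix.mulVec_mulVec, ← Matrix.mulVec_mulVec, hS, Matrix.smul_mulVec, Matrix.smul_mulVec,
        Matrix.one_mulVec, Matrix.one_mulVec]
      show h _ _ = h x y
      rw [hform, hsl, hsr]
      linear_combination (h x y) * hl
    · rw [show (P₀ * S)⁻¹ * a * (P₀ * S) = S⁻¹ * ((P₀⁻¹ * a * P₀) * S) by group, hcentral S _ l hS, ← mul_assoc,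
        inv_mul_cancel, one_mul, hPa₀]
    · rw [show (P₀ * S)⁻¹ * b * (P₀ * S) = S⁻¹ * ((P₀⁻¹ * b * P₀) * S) by group, hcentral S _ l hS, ← mul_assoc,
        inv_mul_cancel, one_mul, hPb₀]
  -- determinants
  have hSL : ∀ g : GL (Fin 3) F, g ∈ Cfsg.Geo.specialLinear (Fin 3) F ↔ (g : Matrix (Fin 3) (Fin 3) F).det = 1 :=
    fun g => ⟨fun h => congrArg Units.val (MonoidHom.mem_ker.1 h), fun h => Units.ext h⟩
  have hdetP : ∀ g : GL (Fin 3) F, ((P * g * P⁻¹ : GL (Fin 3) F) : Matrix (Fin 3) (Fin 3) F).det =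
      (g : Matrix (Fin 3) (Fin 3) F).det := fun g => by
    rw [Units.val_mul, Units.val_mul, Matrix.det_units_conj]
  have hdetP' : ∀ g : GL (Fin 3) F, (g : Matrix (Fin 3) (Fin 3) F).det =
      ((P⁻¹ * g * P : GL (Fin 3) F) : Matrix (Fin 3) (Fin 3) F).det := fun g => by
    rw [Units.val_mul, Units.val_mul, Matrix.det_units_conj']
  have hadet : a ∈ Cfsg.Geo.specialLinear (Fin 3) F := by
    rw [hSL, hdetP', hPa, Matrix.det_diagonal, Fin.prod_univ_three]
    simp
    linear_combination hμ3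
  have hbdet : b ∈ Cfsg.Geo.specialLinear (Fin 3) F := by
    rw [hSL, hdetP', hPb, Matrix.det_fin_three]
    simp [CfsgLib.Elusive.cycMat]
  have hRN : R ≤ Cfsg.Geo.subgroupNormalizer R := Subgroup.le_normalizer
  have hscN : ∀ (g : GL (Fin 3) F) (c : F), (g : Matrix (Fin 3) (Fin 3) F) = c • 1 →
      g ∈ Cfsg.Geo.subgroupNormalizer R := fun g c hg => by
    have hc : ∀ h : GL (Fin 3) F, g * h * g⁻¹ = h := fun h => by
      rw [mul_inv_eq_iff_eq_mul]; exact (hcentral g h c hg).symm
    exact CfsgLib.Elusive.mem_normalizer_of_gen hgen (by rw [hc]; exact ha) (by rw [hc]; exact hb)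
  have hscU : ∀ (g : GL (Fin 3) F) (c : F), (g : Matrix (Fin 3) (Fin 3) F) = c • 1 → c ^ (p + 1) = 1 →
      g ∈ Cfsg.GU 3 F p := fun g c hg hc => CfsgLib.Unitary.mem_GU_iff.2 fun u v => by
    rw [hg, Matrix.smul_mulVec, Matrix.smul_mulVec, Matrix.one_mulVec, Matrix.one_mulVec]
    show h _ _ = h u v
    rw [hsl, hsr, ← mul_assoc, ← pow_succ', hc, one_mul]
  have hbasisdet : ∀ (y : GL (Fin 3) F) (c : Module.Basis (Fin 3) F (Fin 3 → F)) (s : Fin 3 → F),
      (∀ j, (y : Matrix (Fin 3) (Fin 3) F) *ᵥ c j = s j • c j) → (y : Matrix (Fin 3) (Fin 3) F).det = ∏ j, s j := by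
    intro y c s hc
    rw [← LinearMap.det_toLin', ← LinearMap.det_toMatrix c, show LinearMap.toMatrix c c
      (Matrix.toLin' (y : Matrix (Fin 3) (Fin 3) F)) = Matrix.diagonal s by
        ext i l
        rw [LinearMap.toMatrix_apply, Matrix.toLin'_apply, hc, map_smul, c.repr_self, Finsupp.smul_single,
          Finsupp.single_apply]
        by_cases hil : i = l
        · subst hil; simp
        · simp [hil, Ne.symm hil], Matrix.det_diagonal]
  -- adjusting the determinant
  have hadjust : ∀ (x g₀ g : GL (Fin 3) F), g ∈ Cfsg.GU 3 F p →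
      (∀ s : F, Matrix.diagonal ![s, 1, 1] * (g₀ : Matrix (Fin 3) (Fin 3) F) =
        (g₀ : Matrix (Fin 3) (Fin 3) F) * Matrix.diagonal ![s, 1, 1]) →
      g⁻¹ * x * g = P * g₀ * P⁻¹ →
      ∃ g' ∈ Cfsg.GU 3 F p ⊓ Cfsg.Geo.specialLinear (Fin 3) F, g'⁻¹ * x * g' = P * g₀ * P⁻¹ := by
    intro x g₀ g hg hcomm hgx
    set δ := (Matrix.GeneralLinearGroup.det g)⁻¹ with hδ
    have hδn : δ ^ (p + 1) = 1 := by rw [hδ, inv_pow, CfsgLib.Unitary.det_GU hF' hg, inv_one]
    set D := (CfsgLib.Unitary.diagFirst (n := 2) δ hδn).1 with hD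
    have hDm : (D : Matrix (Fin 3) (Fin 3) F) = Matrix.diagonal ![(δ : F), 1, 1] := by
      rw [hD]
      show Matrix.diagonal _ = _
      congr 1
      funext i
      fin_cases i <;> rfl
    refine ⟨g * (P * D * P⁻¹), Subgroup.mem_inf.2 ⟨mul_mem hg (mul_mem (mul_mem hPU (CfsgLib.Unitary.diagFirst (n := 2) δ hδn).2) (inv_mem hPU)), ?_⟩, ?_⟩
    · show Matrix.GeneralLinearGroup.det (g * (P * D * P⁻¹)) = 1
      rw [map_mul, map_mul, map_mul, map_inv, mul_right_comm (Matrix.GeneralLinearGroup.det P), mul_inv_cancel, one_mul, hD,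
        CfsgLib.Unitary.det_diagFirst, hδ, mul_inv_cancel]
    · have hDg : D * g₀ = g₀ * D := Units.ext (by rw [Units.val_mul, Units.val_mul, hDm]; exact hcomm _)
      calc (g * (P * D * P⁻¹))⁻¹ * x * (g * (P * D * P⁻¹)) = P * D⁻¹ * P⁻¹ * (g⁻¹ * x * g) * (P * D * P⁻¹) := by group
        _ = P * D⁻¹ * (g₀ * D) * P⁻¹ := by rw [hgx]; group
        _ = P * g₀ * P⁻¹ := by rw [← hDg]; group
  -- reflections
  have hrefl : ∀ (y : GL (Fin 3) F), y ∈ Cfsg.GU 3 F p → ∀ (c : Module.Basis (Fin 3) F (Fin 3 → F)) (ν : F), ν ≠ 1 →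
      (∀ j, (y : Matrix (Fin 3) (Fin 3) F) *ᵥ c j = (![1, 1, ν] : Fin 3 → F) j • c j) →
      ∃ u, h u u = 1 ∧ ∀ v, (y : Matrix (Fin 3) (Fin 3) F) *ᵥ v = v + ((ν - 1) * h v u) • u := by
    intro y hy c ν hν hc
    set Y := Matrix.toLin' (y : Matrix (Fin 3) (Fin 3) F) with hY
    have hνp : ν ^ p ≠ 1 := fun e => hν (by
      have h' := FiniteField.pow_card ν
      rw [hF, pow_two, pow_mul, e, one_pow] at h'
      exact h'.symm)
    set u := c 2 with hu
    have hyu : (y : Matrix (Fin 3) (Fin 3) F) *ᵥ u = ν • u := by simpa [hu] using hc 2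
    have hperp : ∀ j : Fin 3, j ≠ 2 → h (c j) u = 0 := by
      intro j hj
      have e := hGU y hy (c j) u
      rw [hc, hyu, hsl, hsr] at e
      have hj1 : (![1, 1, ν] : Fin 3 → F) j = 1 := by fin_cases j <;> simp at hj ⊢
      rw [hj1, one_mul] at e
      have e' : (ν ^ p - 1) * h (c j) u = 0 := by linear_combination e
      exact (mul_eq_zero.1 e').resolve_left (sub_ne_zero.2 hνp)
    have hexp : ∀ v, v = c.repr v 0 • c 0 + c.repr v 1 • c 1 + c.repr v 2 • u := fun v => by
      conv_lhs => rw [← c.sum_repr v]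
      rw [Fin.sum_univ_three]
    have hvu : ∀ v, h v u = c.repr v 2 * h u u := fun v => by
      conv_lhs => rw [hexp v]
      rw [hal, hal, hsl, hsl, hsl, hperp 0 (by decide), hperp 1 (by decide), mul_zero, mul_zero, zero_add, zero_add]
    have huu : h u u ≠ 0 := fun e => c.ne_zero 2 (hnd _ fun w => by
      show h u w = 0
      have hwu : h w u = 0 := by rw [hvu, e, mul_zero]
      have hswap : h u w = 1 * (h w u) ^ p := (CfsgLib.Unitary.uForm hF' 3).swap w u
      rw [hswap, hwu, zero_pow hpp.ne_zero, mul_zero])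
    obtain ⟨l, hl0, hl⟩ := hnormalise u huu
    refine ⟨l • u, hl, fun v => ?_⟩
    rw [hsr, hvu, smul_smul]
    have e1 : (ν - 1) * (l ^ p * (c.repr v 2 * h u u)) * l = (ν - 1) * c.repr v 2 := by
      rw [hsl, hsr] at hl
      linear_combination ((ν - 1) * c.repr v 2) * hl
    rw [e1]
    conv_lhs => rw [hexp v]
    conv_rhs => arg 1; rw [hexp v]
    rw [Matrix.mulVec_add, Matrix.mulVec_add, Matrix.mulVec_smul, Matrix.mulVec_smul, Matrix.mulVec_smul, hyu,
      show (y : Matrix (Fin 3) (Fin 3) F) *ᵥ c 0 = c 0 by simpa using hc 0,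
      show (y : Matrix (Fin 3) (Fin 3) F) *ᵥ c 1 = c 1 by simpa using hc 1]
    module
  -- conjugating a multiple of a reflection
  have hmain : ∀ (x : GL (Fin 3) F) (e : F), x ∈ Cfsg.GU 3 F p → e ^ (p + 1) = 1 → ∀ (ν : F), ν ≠ 1 →
      ∀ (y : GL (Fin 3) F) (c : Module.Basis (Fin 3) F (Fin 3 → F)),
      (∀ S : GL (Fin 3) F, (S : Matrix (Fin 3) (Fin 3) F) = e • 1 → y = S * x) →
      (∀ j, (y : Matrix (Fin 3) (Fin 3) F) *ᵥ c j = (![1, 1, ν] : Fin 3 → F) j • c j) →
      ∀ (g₀ : GL (Fin 3) F) (c' : Module.Basis (Fin 3) F (Fin 3 → F)),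
      g₀ ∈ Cfsg.GU 3 F p → P * g₀ * P⁻¹ ∈ Cfsg.Geo.subgroupNormalizer R →
      (∀ j, ((P * g₀ * P⁻¹ : GL (Fin 3) F) : Matrix (Fin 3) (Fin 3) F) *ᵥ c' j = (![1, 1, ν] : Fin 3 → F) j • c' j) →
      (∀ s : F, Matrix.diagonal ![s, 1, 1] * (g₀ : Matrix (Fin 3) (Fin 3) F) =
        (g₀ : Matrix (Fin 3) (Fin 3) F) * Matrix.diagonal ![s, 1, 1]) →
      ∃ g ∈ Cfsg.GU 3 F p ⊓ Cfsg.Geo.specialLinear (Fin 3) F, g⁻¹ * x * g ∈ Cfsg.Geo.subgroupNormalizer R := by
    intro x e hx he ν hν y c hyx hc g₀ c' hg₀ hN hc' hcomm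
    have he0 : e ≠ 0 := fun h => by rw [h, zero_pow (by omega)] at he; exact zero_ne_one he
    obtain ⟨S, hS⟩ := hsc e he0
    have hyS := hyx S hS
    subst hyS
    obtain ⟨u, hu, hux⟩ := hrefl _ (mul_mem (hscU S e hS he) hx) c ν hν hc
    obtain ⟨u', hu', hut⟩ := hrefl _ (mul_mem (mul_mem hPU hg₀) (inv_mem hPU)) c' ν hν hc'
    obtain ⟨g, hg⟩ := CfsgLib.Unitary.exists_GU_family hF' (n := 3) (fun _ : Fin 1 => u') (fun _ => u)
      (linearIndependent_unique_iff.2 fun (h' : u' = 0) => by rw [h'] at hu'; simp [hh, Cfsg.hermForm] at hu')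
      (linearIndependent_unique_iff.2 fun (h' : u = 0) => by rw [h'] at hu; simp [hh, Cfsg.hermForm] at hu)
      (fun _ _ => hu'.trans hu.symm)
    have hgu := hg 0
    have hconj : (g : GL (Fin 3) F)⁻¹ * (S * x) * g = P * g₀ * P⁻¹ := by
      rw [mul_assoc, inv_mul_eq_iff_eq_mul]
      refine Units.ext (Matrix.ext_iff_mulVec.2 fun v => ?_)
      rw [Units.val_mul, Units.val_mul (g : GL (Fin 3) F), ← Matrix.mulVec_mulVec, ← Matrix.mulVec_mulVec, hux, hut,
        Matrix.mulVec_add, Matrix.mulVec_smul, hgu]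
      congr 2
      rw [← hgu, hGU _ g.2]
    obtain ⟨g', hg', hgx⟩ := hadjust _ g₀ g g.2 hcomm hconj
    refine ⟨g', hg', ?_⟩
    rw [show g'⁻¹ * x * g' = S⁻¹ * (g'⁻¹ * (S * x) * g') by rw [← mul_assoc g'⁻¹ S x, hcentral S g'⁻¹ e hS]; group, hgx]
    exact mul_mem (inv_mem (hscN S e hS)) hN
  have hxz : ∀ x ∈ Cfsg.Geo.specialLinear (Fin 3) F, ∀ z : F,
      ((x ^ r : GL (Fin 3) F) : Matrix (Fin 3) (Fin 3) F) = z • 1 → z ^ 3 = 1 := by
    intro x hx z hz
    have h := congrArg Matrix.det hz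
    rw [Units.val_pow_eq_pow_val, Matrix.det_pow, (hSL x).1 hx, one_pow, Matrix.det_smul, Matrix.det_one, mul_one,
      Fintype.card_fin] at h
    exact h.symm
  constructor
  · intro hall
    by_contra hno
    push Not at hno
    obtain ⟨hr2, hr9⟩ := hno
    by_cases hr3 : r = 3
    · -- the index is prime to three
      subst hr3
      obtain ⟨k, hk⟩ : ∃ k, p + 1 = 3 * k := ⟨(p + 1) / 3, by omega⟩
      have hk3 : ¬ 3 ∣ k := fun h => hr9 rfl (by omega)
      have hSU : Nat.card ↥(Cfsg.GU 3 F p ⊓ Cfsg.Geo.specialLinear (Fin 3) F) = Nat.card ↥(Cfsg.SU 3 F p) :=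
        Nat.card_congr
          { toFun := fun g => ⟨⟨((g : GL (Fin 3) F) : Matrix (Fin 3) (Fin 3) F), (hSL _).1 g.2.2⟩, g.2.1⟩
            invFun := fun g => ⟨Matrix.SpecialLinearGroup.toGL g.1, g.2, Units.ext g.1.2⟩
            left_inv := fun g => Subtype.ext (Units.ext rfl)
            right_inv := fun g => rfl }
      have hcard := CfsgLib.Unitary.card_SU_mul hF' (n := 3) (by norm_num)
      rw [← hSU, CfsgLib.Unitary.card_GU hF'] at hcard
      obtain ⟨N, hN⟩ : ∃ N, Nat.card ↥(Cfsg.GU 3 F p ⊓ Cfsg.Geo.specialLinear (Fin 3) F) = N := ⟨_, rfl⟩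
      rw [hN] at hcard
      simp [Finset.prod_range_succ] at hcard
      have h27 : 27 ∣ Nat.card ↥(Cfsg.Geo.subgroupNormalizer R ⊓ (Cfsg.GU 3 F p ⊓ Cfsg.Geo.specialLinear (Fin 3) F)) := by
        rw [← hR]
        refine Subgroup.card_dvd_of_le (le_inf hRN (le_inf hRU ?_))
        rw [hgen, Subgroup.closure_le]
        rintro x (rfl | rfl)
        · exact hadet
        · exact hbdet
      obtain ⟨c, hc⟩ := h27
      have hmul := Subgroup.relIndex_mul_relIndex ⊥
        (Cfsg.Geo.subgroupNormalizer R ⊓ (Cfsg.GU 3 F p ⊓ Cfsg.Geo.specialLinear (Fin 3) F))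
        (Cfsg.GU 3 F p ⊓ Cfsg.Geo.specialLinear (Fin 3) F) bot_le inf_le_right
      rw [Subgroup.relIndex_bot_left, Subgroup.relIndex_bot_left, Subgroup.inf_relIndex_right, hc] at hmul
      obtain ⟨i, hi⟩ := hΩ
      rw [hN] at hmul
      rw [← hmul, hi] at hcard
      have e1 : p ^ 2 - 1 = (p - 1) * (p + 1) := by rw [mul_comm]; exact (Nat.sq_sub_sq p 1)
      obtain ⟨m, hm⟩ : ∃ m, p = m + 1 := ⟨p - 1, by omega⟩
      have e2 : p ^ 3 + 1 = (p + 1) * (m * p + 1) := by subst hm; ring
      have e3 : m * p + 1 = 3 * (3 * k ^ 2 - 3 * k + 1) := by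
        obtain ⟨j, hj⟩ : ∃ j, k = j + 1 := ⟨k - 1, by omega⟩
        subst hj
        have : 3 * (j + 1) ^ 2 = 3 * (j + 1) + (3 * j ^ 2 + 3 * j) := by ring
        rw [this, Nat.add_sub_cancel_left, show m = 3 * j + 1 by omega, show p = 3 * j + 2 by omega]
        ring
      rw [e1, e2, e3, hk, show p - 1 = m by omega] at hcard
      set Q := 3 * k ^ 2 - 3 * k + 1 with hQ
      have hpos : 0 < 3 * k * 27 := by omega
      have hfin : 3 * (c * i) = p ^ 3 * m * k ^ 2 * Q := by
        refine Nat.eq_of_mul_eq_mul_left hpos ?_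
        linear_combination hcard
      have hdvd : 3 ∣ p ^ 3 * m * k ^ 2 * Q := ⟨c * i, hfin.symm⟩
      rcases Nat.prime_three.dvd_mul.1 hdvd with h | h
      · rcases Nat.prime_three.dvd_mul.1 h with h | h
        · rcases Nat.prime_three.dvd_mul.1 h with h | h
          · have := Nat.prime_three.dvd_of_dvd_pow h; omega
          · omega
        · exact hk3 (Nat.prime_three.dvd_of_dvd_pow h)
      · have : 3 ∣ 3 * k ^ 2 - 3 * k := Nat.dvd_sub (dvd_mul_right _ _) (dvd_mul_right _ _)
        omega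
    · have hr5 : 5 ≤ r := by
        by_contra h
        have := hrr.two_le
        interval_cases r <;> first | omega | exact absurd hrr (by decide)
      obtain ⟨x, hx⟩ := exists_prime_orderOf_dvd_card' (G := ↥(Cfsg.GU 3 F p ⊓ Cfsg.Geo.specialLinear (Fin 3) F)) r
        (hΩ.trans (Subgroup.relIndex_dvd_card _ _))
      have hxr : (x : GL (Fin 3) F) ^ r = 1 := by
        rw [← SubgroupClass.coe_pow, ← hx, pow_orderOf_eq_one, OneMemClass.coe_one]
      have hns : ∀ c : F, ((x : GL (Fin 3) F) : Matrix (Fin 3) (Fin 3) F) ≠ c • 1 := by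
        intro c hc
        have hc3 : c ^ 3 = 1 := by
          have h := (hSL _).1 x.2.2
          rwa [hc, Matrix.det_smul, Matrix.det_one, mul_one, Fintype.card_fin] at h
        have h3x : x ^ 3 = 1 := Subtype.ext (Units.ext (by
          rw [SubgroupClass.coe_pow, Units.val_pow_eq_pow_val, hc, smul_pow, one_pow, hc3, one_smul]; rfl))
        have := Nat.le_of_dvd (by norm_num) (hx ▸ orderOf_dvd_of_pow_eq_one h3x)
        omega
      obtain ⟨g, -, hgy⟩ := hall x x.2 ⟨1, by rw [hxr, one_smul]; rfl⟩ hns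
      obtain ⟨c, hc⟩ := CfsgLib.Elusive.scalar_of_normalizer hR hμ ha hb hz₀ hzm hPa hPb hr5 hgy
        (by rw [show g⁻¹ * (x : GL (Fin 3) F) * g = g⁻¹ * x * g⁻¹⁻¹ by rw [inv_inv], conj_pow, hxr]; group)
      refine hns c ?_
      rw [show (x : GL (Fin 3) F) = g * (g⁻¹ * x * g) * g⁻¹ by group, Units.val_mul, Units.val_mul, hc, mul_smul_comm,
        mul_one, smul_mul_assoc, Units.mul_inv]
  · intro hcond x hxS hxzx hns
    obtain ⟨z, hz⟩ := hxzx
    obtain ⟨hxU, hxL⟩ := hxS
    have hz3 := hxz x hxL z hz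
    have hz0 : z ≠ 0 := fun h => by simp [h] at hz3
    have hd3 : Module.finrank F (Fin 3 → F) = 3 := Module.finrank_fin_fun F
    rcases hcond with rfl | ⟨rfl, hp9⟩
    · -- involutions
      have hinv : ∀ y : GL (Fin 3) F, (y : Matrix (Fin 3) (Fin 3) F).det = -1 → y * y = 1 →
          (∀ c : F, (y : Matrix (Fin 3) (Fin 3) F) ≠ c • 1) →
          ∃ c : Module.Basis (Fin 3) F (Fin 3 → F), ∀ j,
            (y : Matrix (Fin 3) (Fin 3) F) *ᵥ c j = (![1, 1, -1] : Fin 3 → F) j • c j := by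
        intro y hy hyy hns
        obtain ⟨c, s, hs⟩ := CfsgLib.Elusive.exists_sign_basis (g := Matrix.toLin' (y : Matrix (Fin 3) (Fin 3) F))
          (Module.finrank_fin_fun F) (by
            rw [Module.End.mul_eq_comp, ← Matrix.toLin'_mul, ← Units.val_mul, hyy, Units.val_one, Matrix.toLin'_one]; rfl) h2
        have hs' : ∀ j, (y : Matrix (Fin 3) (Fin 3) F) *ᵥ c j = s j • c j := fun j => by
          simpa [Matrix.toLin'_apply] using (hs j).2
        have hprod := (hbasisdet y c s hs').symm.trans hy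
        rw [Fin.prod_univ_three] at hprod
        have hne : ¬ (s 0 = s 1 ∧ s 1 = s 2) := fun h => hns (s 0) (Matrix.toLin'.injective (c.ext fun j => by
          rw [map_smul, Matrix.toLin'_one, Matrix.toLin'_apply, hs', LinearMap.smul_apply, LinearMap.id_apply]
          congr 1
          fin_cases j <;> simp [h.1, h.2]))
        obtain ⟨σ, hσ⟩ : ∃ σ : Equiv.Perm (Fin 3), ∀ j, s (σ j) = (![1, 1, -1] : Fin 3 → F) j := by
          rcases mul_self_eq_one_iff.1 (hs 0).1 with a0 | a0 <;> rcases mul_self_eq_one_iff.1 (hs 1).1 with a1 | a1 <;>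
            rcases mul_self_eq_one_iff.1 (hs 2).1 with a2 | a2 <;>
            first
              | (exfalso; apply hne; constructor <;> (simp [a0, a1, a2]; done))
              | (exfalso; rw [a0, a1, a2] at hprod; apply h2; linear_combination hprod)
              | (refine ⟨1, fun j => ?_⟩; fin_cases j <;> (simp [a0, a1, a2]; done))
              | (refine ⟨Equiv.swap 0 2, fun j => ?_⟩; fin_cases j <;> (simp [Equiv.swap_apply_def, a0, a1, a2]; done))
              | (refine ⟨Equiv.swap 1 2, fun j => ?_⟩; fin_cases j <;> (simp [Equiv.swap_apply_def, a0, a1, a2]; done))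
        exact ⟨c.reindex σ.symm, fun j => by rw [Module.Basis.reindex_apply, Equiv.symm_symm, hs', hσ]⟩
      have hzneg : (-z) ^ (p + 1) = 1 := by
        have hev : Even (p + 1) := (hpp.odd_of_ne_two (by omega)).add_one
        rw [hev.neg_pow, hpnorm z hz3]
      obtain ⟨S, hS⟩ := hsc (-z) (neg_ne_zero.2 hz0)
      have hSval : ∀ S' : GL (Fin 3) F, (S' : Matrix (Fin 3) (Fin 3) F) = (-z) • 1 → S * x = S' * x := fun S' h => by
        rw [show S' = S from Units.ext (h.trans hS.symm)]
      have hyy : (S * x) * (S * x) = 1 := Units.ext (by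
        rw [pow_two, Units.val_mul] at hz
        rw [Units.val_mul, Units.val_mul, hS, smul_mul_assoc, one_mul, smul_mul_assoc, mul_smul_comm, hz, smul_smul,
          smul_smul, show -z * -z * z = z ^ 3 by ring, hz3, one_smul]
        rfl)
      have hydet : ((S * x : GL (Fin 3) F) : Matrix (Fin 3) (Fin 3) F).det = -1 := by
        rw [Units.val_mul, hS, smul_mul_assoc, one_mul, Matrix.det_smul, (hSL x).1 hxL, Fintype.card_fin, mul_one]
        linear_combination -hz3
      have hyns : ∀ c : F, ((S * x : GL (Fin 3) F) : Matrix (Fin 3) (Fin 3) F) ≠ c • 1 := fun c hc => hns ((-z)⁻¹ * c) (by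
        rw [Units.val_mul, hS, smul_mul_assoc, one_mul] at hc
        rw [← smul_smul, ← hc, smul_smul, inv_mul_cancel₀ (neg_ne_zero.2 hz0), one_smul])
      let g₀ : GL (Fin 3) F := Matrix.GeneralLinearGroup.mkOfDetNeZero !![1, 0, 0; 0, 0, 1; 0, 1, 0]
        (by simp [Matrix.det_fin_three])
      have hg₀ : (g₀ : Matrix (Fin 3) (Fin 3) F) = !![1, 0, 0; 0, 0, 1; 0, 1, 0] := rfl
      have hg₀U : g₀ ∈ Cfsg.GU 3 F p := CfsgLib.Unitary.mem_GU_iff.2 fun u v => by
        rw [hg₀]
        simp [Cfsg.hermForm, Fin.sum_univ_three, Matrix.mulVec, dotProduct]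
        ring
      have hTN : P * g₀ * P⁻¹ ∈ Cfsg.Geo.subgroupNormalizer R := by
        refine CfsgLib.Elusive.conj_mem_normalizer ha hb hz₀ hzm hPa hPb hgen g₀ 0 2 0 0 0 2 ?_ ?_
        · rw [pow_zero, one_smul, pow_zero, mul_one, Matrix.diagonal_pow, hg₀]
          ext i l
          fin_cases i <;> fin_cases l <;> simp [Matrix.mul_apply, Fin.sum_univ_three, Matrix.diagonal_apply] <;>
            first | linear_combination μ * hμ3 | linear_combination -μ * hμ3
        · rw [pow_zero, one_smul, pow_zero, one_mul, pow_two, hg₀]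
          ext i l
          fin_cases i <;> fin_cases l <;> simp [Matrix.mul_apply, Fin.sum_univ_three, CfsgLib.Elusive.cycMat]
      obtain ⟨c, hc⟩ := hinv (S * x) hydet hyy hyns
      obtain ⟨c', hc'⟩ := hinv (P * g₀ * P⁻¹) (by rw [hdetP, hg₀, Matrix.det_fin_three]; simp) (by
          rw [show P * g₀ * P⁻¹ * (P * g₀ * P⁻¹) = P * (g₀ * g₀) * P⁻¹ by group,
            show g₀ * g₀ = 1 from Units.ext (by
              rw [Units.val_mul, hg₀]
              ext i l
              fin_cases i <;> fin_cases l <;> simp [Matrix.mul_apply, Fin.sum_univ_three])]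
          group)
        (fun e he => by
          have h := congrArg (fun M => ((P⁻¹ : GL (Fin 3) F) : Matrix (Fin 3) (Fin 3) F) * M * (P : Matrix (Fin 3) (Fin 3) F)) he
          simp only [← Units.val_mul, mul_smul_comm, smul_mul_assoc, mul_one, Units.inv_mul] at h
          rw [show P⁻¹ * (P * g₀ * P⁻¹) * P = g₀ by group, hg₀] at h
          have := congrFun (congrFun h 1) 2
          simp at this)
      refine hmain x (-z) hxU hzneg (-1) (fun e => h2 (by linear_combination -e)) (S * x) c hSval hc g₀ c' hg₀U hTN hc'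
        fun s => ?_
      rw [hg₀]
      ext i l
      fin_cases i <;> fin_cases l <;> simp [Matrix.mul_apply, Fin.sum_univ_three]
    · -- elements of order three
      by_cases hz1 : z = 1
      · rw [hz1, one_smul] at hz
        obtain ⟨c, hc⟩ := CfsgLib.Elusive.exists_eigen_basis hμ hd3
          (f := Matrix.toLinAlgEquiv' (x : Matrix (Fin 3) (Fin 3) F))
          (by rw [← map_pow, ← Units.val_pow_eq_pow_val, hz, map_one]) (fun j => by
            by_contra hlt
            set w := μ ^ (j : ℕ)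
            have hw3 : w ^ 3 = 1 := by rw [← pow_mul, mul_comm, pow_mul, hμ3, one_pow]
            have hw0 : w ≠ 0 := pow_ne_zero _ hμ0
            have h := CfsgLib.Elusive.eq_one_of_fix_two (f := w⁻¹ • Matrix.toLinAlgEquiv' (x : Matrix (Fin 3) (Fin 3) F)) hd3
              (by rw [smul_pow, ← map_pow, ← Units.val_pow_eq_pow_val, hz, map_one, inv_pow, hw3, inv_one, one_smul])
              h3 (by
                rw [LinearMap.det_smul, hd3, show LinearMap.det (Matrix.toLinAlgEquiv' (x : Matrix (Fin 3) (Fin 3) F)) =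
                  LinearMap.det (Matrix.toLin' (x : Matrix (Fin 3) (Fin 3) F)) from rfl, LinearMap.det_toLin',
                  (hSL x).1 hxL, inv_pow, hw3, inv_one, one_mul])
              ((Nat.lt_iff_add_one_le.1 (not_le.1 hlt)).trans (Submodule.finrank_mono fun v hv => by
                rw [LinearMap.mem_ker, LinearMap.sub_apply, LinearMap.smul_apply, Module.End.one_apply, sub_eq_zero] at hv
                rw [CfsgLib.Elusive.mem_fixS, LinearMap.smul_apply, hv, smul_smul, inv_mul_cancel₀ hw0, one_smul]))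
            refine hns w (Matrix.toLinAlgEquiv'.injective ?_)
            rw [map_smul, map_one, ← h, smul_smul, mul_inv_cancel₀ hw0, one_smul])
        have hc' : ∀ j : Fin 3, (x : Matrix (Fin 3) (Fin 3) F) *ᵥ c j = μ ^ (j : ℕ) • c j := fun j => by
          simpa [Matrix.toLinAlgEquiv'_apply] using hc j
        have horth : ∀ i l : Fin 3, i ≠ l → h (c i) (c l) = 0 := by
          intro i l hil
          have e := hGU x hxU (c i) (c l)
          rw [hc', hc', hsl, hsr, ← mul_assoc, ← pow_mul, ← pow_add] at e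
          have hne : μ ^ ((i : ℕ) + (l : ℕ) * p) ≠ 1 := fun e' => by
            have hd := (hμ.pow_eq_one_iff_dvd _).1 e'
            have hi := i.isLt
            have hl := l.isLt
            have hlp : (l : ℕ) * p % 3 = (l : ℕ) * 2 % 3 := by rw [Nat.mul_mod, hp3]; omega
            have hval : (i : ℕ) ≠ (l : ℕ) := fun h => hil (Fin.ext h)
            omega
          have e' : (μ ^ ((i : ℕ) + (l : ℕ) * p) - 1) * h (c i) (c l) = 0 := by linear_combination e
          exact (mul_eq_zero.1 e').resolve_left (sub_ne_zero.2 hne)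
        have hn : ∀ j, h (c j) (c j) ≠ 0 := fun j e => c.ne_zero j (hnd _ fun w => by
          rw [← c.sum_repr w, Fin.sum_univ_three]
          simp only [har, hsr]
          have hjl : ∀ l, h (c j) (c l) = 0 := fun l => by
            by_cases hl : j = l
            · rw [← hl]; exact e
            · exact horth j l hl
          simp [hjl])
        choose l hl0 hl using fun j => hnormalise _ (hn j)
        obtain ⟨g, hg⟩ := CfsgLib.Unitary.exists_GU_family hF' (n := 3)
          (fun j => (P : Matrix (Fin 3) (Fin 3) F) *ᵥ Pi.single j 1) (fun j => l j • c j)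
          ((Pi.basisFun F (Fin 3)).linearIndependent.map' (Matrix.mulVecLin (P : Matrix (Fin 3) (Fin 3) F))
            (LinearMap.ker_eq_bot.2 (Matrix.mulVec_injective_of_isUnit P.isUnit)) |> fun H => by
              simpa [Function.comp_def, Pi.basisFun_apply] using H)
          (by
            have := c.linearIndependent.units_smul (fun j => Units.mk0 (l j) (hl0 j))
            exact this)
          (fun i j => by
            show h _ _ = h _ _
            rw [hGU P hPU]
            by_cases hij : i = j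
            · subst hij
              rw [hl, hh]
              simp only [Cfsg.hermForm]
              rw [Finset.sum_eq_single i] <;> simp +contextual [Pi.single_apply, hpp.ne_zero]
            · rw [hsl, hsr, horth i j hij, hh]
              simp [Cfsg.hermForm, Pi.single_apply, hij, Ne.symm hij, hpp.ne_zero])
        let D : GL (Fin 3) F := P⁻¹ * a * P
        have hgx : (g : GL (Fin 3) F)⁻¹ * x * g = P * D * P⁻¹ := by
          have hcomm' : x * (g * P) = (g : GL (Fin 3) F) * P * D := by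
            refine Units.ext (Matrix.toLin'.injective ((Pi.basisFun F (Fin 3)).ext fun j => ?_))
            have hg' : ((g : GL (Fin 3) F) : Matrix (Fin 3) (Fin 3) F) *ᵥ ((P : Matrix (Fin 3) (Fin 3) F) *ᵥ Pi.single j 1) = l j • c j := hg j
            have hμv : (![1, μ, μ ^ 2] : Fin 3 → F) j = μ ^ (j : ℕ) := by fin_cases j <;> simp
            rw [Matrix.toLin'_apply, Matrix.toLin'_apply, Pi.basisFun_apply, Units.val_mul, Units.val_mul, Units.val_mul,
              Units.val_mul, show (D : Matrix (Fin 3) (Fin 3) F) = _ from hPa, ← Matrix.mulVec_mulVec, ← Matrix.mulVec_mulVec,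
              ← Matrix.mulVec_mulVec, ← Matrix.mulVec_mulVec, hg', Matrix.diagonal_mulVec_single, mul_one, hμv,
              show (Pi.single j (μ ^ (j : ℕ)) : Fin 3 → F) = μ ^ (j : ℕ) • Pi.single j 1 by
                rw [← Pi.single_smul', smul_eq_mul, mul_one],
              Matrix.mulVec_smul, Matrix.mulVec_smul, Matrix.mulVec_smul, hg', hc', smul_comm]
          calc (g : GL (Fin 3) F)⁻¹ * x * g = (g : GL (Fin 3) F)⁻¹ * (x * (g * P)) * P⁻¹ := by group
            _ = P * D * P⁻¹ := by rw [hcomm']; group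
        obtain ⟨g', hg', hgx'⟩ := hadjust x D g g.2 (fun s => by
          rw [show (D : Matrix (Fin 3) (Fin 3) F) = _ from hPa, Matrix.diagonal_mul_diagonal, Matrix.diagonal_mul_diagonal]
          congr 1; funext i; ring) hgx
        refine ⟨g', hg', ?_⟩
        rw [hgx', show P * D * P⁻¹ = a by simp only [D]; group]
        exact hRN ha
      · obtain ⟨c₀, hc₀, hc₀n⟩ : ∃ c : F, c ^ 3 = z ∧ c ^ (p + 1) = 1 := by
          obtain ⟨ζ, hζ⟩ := IsCyclic.exists_ofOrder_eq_natCard (α := Fˣ)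
          obtain ⟨t, ht⟩ : 9 ∣ p + 1 := by omega
          rw [hunits, ht] at hζ
          have hpow : orderOf (ζ ^ ((p - 1) * t)) = 9 := by
            rw [orderOf_pow' ζ (Nat.mul_ne_zero (by omega) (by omega)), hζ,
              Nat.gcd_eq_right ⟨9, by ring⟩, show (p - 1) * (9 * t) = 9 * ((p - 1) * t) by ring,
              Nat.mul_div_cancel _ (Nat.mul_pos (by omega) (by omega))]
          set η : F := ((ζ ^ ((p - 1) * t) : Fˣ) : F) with hη
          have hη9 : IsPrimitiveRoot η 9 := IsPrimitiveRoot.iff_orderOf.2 (orderOf_units.trans hpow)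
          have hη3 : IsPrimitiveRoot (η ^ 3) 3 := hη9.pow (by norm_num) (by norm_num)
          obtain ⟨i, -, hi⟩ := hη3.eq_pow_of_pow_eq_one hz3
          refine ⟨η ^ i, by rw [← pow_mul, mul_comm, pow_mul, hi], ?_⟩
          rw [← pow_mul, mul_comm, pow_mul, ht, pow_mul, hη9.pow_eq_one, one_pow, one_pow]
        have hc0 : c₀ ≠ 0 := fun h => hz0 (by rw [← hc₀, h]; simp)
        set f := c₀⁻¹ • Matrix.toLinAlgEquiv' (x : Matrix (Fin 3) (Fin 3) F) with hf
        have hf3 : f ^ 3 = 1 := by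
          rw [hf, smul_pow, ← map_pow, ← Units.val_pow_eq_pow_val, hz, map_smul, map_one, smul_smul, inv_pow, hc₀,
            inv_mul_cancel₀ hz0, one_smul]
        have hfdet : LinearMap.det f = z⁻¹ := by
          rw [hf, LinearMap.det_smul, hd3, show LinearMap.det (Matrix.toLinAlgEquiv' (x : Matrix (Fin 3) (Fin 3) F)) =
            LinearMap.det (Matrix.toLin' (x : Matrix (Fin 3) (Fin 3) F)) from rfl, LinearMap.det_toLin', (hSL x).1 hxL,
            mul_one, inv_pow, hc₀]
        obtain ⟨j, hj⟩ : ∃ j : Fin 3, 2 ≤ Module.finrank F (LinearMap.ker (f - μ ^ (j : ℕ) • 1)) := by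
          by_contra hno
          push Not at hno
          obtain ⟨c, hc⟩ := CfsgLib.Elusive.exists_eigen_basis hμ hd3 hf3 (fun j => by have := hno j; omega)
          refine hz1 (inv_injective ?_)
          rw [← hfdet, inv_one, ← LinearMap.det_toMatrix c, show LinearMap.toMatrix c c f =
            Matrix.diagonal fun j : Fin 3 => μ ^ (j : ℕ) by
              ext i l
              rw [LinearMap.toMatrix_apply, hc, map_smul, c.repr_self, Finsupp.smul_single, Finsupp.single_apply]
              by_cases hil : i = l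
              · subst hil; simp
              · simp [hil, Ne.symm hil], Matrix.det_diagonal, Fin.prod_univ_three]
          simp
          linear_combination hμ3
        set w := μ ^ (j : ℕ) with hw
        have hw3 : w ^ 3 = 1 := by rw [hw, ← pow_mul, mul_comm, pow_mul, hμ3, one_pow]
        have hw0 : w ≠ 0 := pow_ne_zero _ hμ0
        set e := w⁻¹ * c₀⁻¹ with he
        have he0 : e ≠ 0 := mul_ne_zero (inv_ne_zero hw0) (inv_ne_zero hc0)
        have hen : e ^ (p + 1) = 1 := by
          rw [he, mul_pow, inv_pow, inv_pow, hpnorm w hw3, hc₀n, inv_one, one_mul]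
        obtain ⟨S, hS⟩ := hsc e he0
        obtain ⟨c, ν, hν3, hνdet, hc⟩ := CfsgLib.Elusive.exists_reflection_basis (f := w⁻¹ • f) hd3
          (by rw [smul_pow, hf3, inv_pow, hw3, inv_one, one_smul]) h3 (hj.trans (Submodule.finrank_mono fun v hv => by
            have hv' : f v = w • v := sub_eq_zero.1 hv
            rw [CfsgLib.Elusive.mem_fixS, LinearMap.smul_apply, hv', smul_smul, inv_mul_cancel₀ hw0, one_smul]))
          (fun h => by
            refine hns (c₀ * w) (Matrix.toLinAlgEquiv'.injective ?_)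
            rw [map_smul, map_one, ← h, hf, smul_smul, smul_smul]
            rw [show c₀ * w * w⁻¹ * c₀⁻¹ = (c₀ * c₀⁻¹) * (w * w⁻¹) by ring, mul_inv_cancel₀ hc0, mul_inv_cancel₀ hw0,
              one_mul, one_smul])
        have hν1 : ν ≠ 1 := by
          rw [← hνdet, LinearMap.det_smul, hd3, hfdet, inv_pow, hw3, inv_one, one_mul]
          exact fun h => hz1 (inv_eq_one.1 h)
        have hyc : ∀ i, ((S * x : GL (Fin 3) F) : Matrix (Fin 3) (Fin 3) F) *ᵥ c i = (![1, 1, ν] : Fin 3 → F) i • c i := by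
          intro i
          rw [← hc i, Units.val_mul, hS, smul_mul_assoc, one_mul, hf, smul_smul, LinearMap.smul_apply,
            Matrix.toLinAlgEquiv'_apply, Matrix.smul_mulVec, he]
        obtain ⟨m, -, rfl⟩ := hμ.eq_pow_of_pow_eq_one hν3
        let g₁ : GL (Fin 3) F := Matrix.GeneralLinearGroup.mkOfDetNeZero (Matrix.diagonal ![1, 1, μ ^ m])
          (by simp [Matrix.det_diagonal, Fin.prod_univ_three, hμ0])
        have hg₁ : (g₁ : Matrix (Fin 3) (Fin 3) F) = Matrix.diagonal ![1, 1, μ ^ m] := rfl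
        have hg₁U : g₁ ∈ Cfsg.GU 3 F p := CfsgLib.Unitary.mem_GU_iff.2 fun u v => by
          rw [hg₁]
          simp [Cfsg.hermForm, Fin.sum_univ_three, Matrix.mulVec_diagonal, mul_pow]
          linear_combination (u 2 * v 2 ^ p) * hpnorm (μ ^ m) hν3
        have hN : P * g₁ * P⁻¹ ∈ Cfsg.Geo.subgroupNormalizer R := by
          refine CfsgLib.Elusive.conj_mem_normalizer ha hb hz₀ hzm hPa hPb hgen g₁ 0 1 0 (2 * m) m 1 ?_ ?_
          · rw [pow_zero, one_smul, pow_zero, mul_one, pow_one, hg₁, Matrix.diagonal_mul_diagonal, Matrix.diagonal_mul_diagonal]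
            congr 1; funext i; ring
          · rw [pow_one, Matrix.diagonal_pow, hg₁]
            have h3m : (μ ^ 3) ^ m = 1 := by rw [hμ3, one_pow]
            ext i l
            fin_cases i <;> fin_cases l <;>
              simp [Matrix.mul_apply, Fin.sum_univ_three, CfsgLib.Elusive.cycMat, Matrix.diagonal_apply] <;>
              first
                | linear_combination (norm := ring1) -h3m
                | linear_combination (norm := ring1) -(μ ^ m) * h3m
                | linear_combination (norm := ring1) h3m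
                | linear_combination (norm := ring1) (μ ^ m) * h3m
        let c' := (Pi.basisFun F (Fin 3)).map (LinearMap.GeneralLinearGroup.generalLinearEquiv F (Fin 3 → F)
          (Units.map Matrix.toLinAlgEquiv'.toMonoidHom P))
        refine hmain x e hxU hen (μ ^ m) hν1 (S * x) c (fun S' h => by rw [show S' = S from Units.ext (h.trans hS.symm)])
          hyc g₁ c' hg₁U hN (fun i => ?_) fun s => ?_
        · show _ *ᵥ ((P : Matrix (Fin 3) (Fin 3) F) *ᵥ Pi.basisFun F (Fin 3) i) =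
            (![1, 1, μ ^ m] : Fin 3 → F) i • ((P : Matrix (Fin 3) (Fin 3) F) *ᵥ Pi.basisFun F (Fin 3) i)
          rw [Matrix.mulVec_mulVec, ← Units.val_mul, show P * g₁ * P⁻¹ * P = P * g₁ by group, Units.val_mul, hg₁,
            ← Matrix.mulVec_mulVec, ← Matrix.mulVec_smul, Pi.basisFun_apply, Matrix.diagonal_mulVec_single, mul_one,
            ← Pi.single_smul', smul_eq_mul, mul_one]
        · rw [hg₁, Matrix.diagonal_mul_diagonal, Matrix.diagonal_mul_diagonal]
          congr 1; funext i; ring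

end Cfsg.Agent.S5999
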