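import Cfsg.Statements.S6000
import Cfsg.Agent.Elusive.PauliBound
import Cfsg.Agent.Elusive.PauliElements
import Cfsg.Agent.Elusive.PauliCharpoly
import Cfsg.Agent.Elusive.SubfieldCharpoly
import Cfsg.Agent.Elusive.Construct
import Cfsg.Agent.Elusive.ConjBasis

set_option autoImplicit false
open scoped MatrixGroups
open Cfsg

namespace Cfsg.Agent.S6000

open Polynomial CfsgLib.Elusive

theorem orderOf_two_three : orderOf ((2 : ℕ) : ZMod 3) = 2 :=
  orderOf_eq_prime (by decide) (by decide)

theorem orderOf_four_five : orderOf ((4 : ℕ) : ZMod 5) = 2 :=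
  orderOf_eq_prime (by decide) (by decide)

theorem orderOf_two_five : orderOf ((2 : ℕ) : ZMod 5) = 4 :=
  orderOf_eq_prime_pow (p := 2) (n := 1) (by decide) (by decide)

theorem orderOf_three_five : orderOf ((3 : ℕ) : ZMod 5) = 4 :=
  orderOf_eq_prime_pow (p := 2) (n := 1) (by decide) (by decide)

/-- Patterns of signs on four points. -/
theorem sign_patterns : ∀ s : Fin 4 → Bool, (∀ j, s j = s 0) ∨ ∃ σ : Equiv.Perm (Fin 4), ∃ f : Bool,
    (∀ j, Bool.xor f (s (σ j)) = ![false, false, false, true] j) ∨
    (∀ j, Bool.xor f (s (σ j)) = ![false, false, true, true] j) := by decide +kernel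

/-- Elements of prime order of PSL_4(p), p ≡ 1 (mod 4), and the normalizer of a 2-group of symplectic type of order 2⁶. Here `T = PSL_4(F)` for the field `F` with `p` elements, `p` a prime with `p ≡ 1 (mod 4)`; `R` is an absolutely irreducible subgroup of GL_4(F) of order 2⁶ that is a 2-group of symplectic type of exponent 4 with centre of order 4 (the central product of the scalars of order 4 with an extraspecial group 2^{1+4}), and `H` is the subgroup of matrices of determinant 1 normalizing `R` — a subgroup of type 2⁴.Sp₄(2) (maximality is not assumed). Ω is the set of cosets of `H` in `T`, so an element of `T` of prime order `r` (a matrix `x` of determinant 1 with `x^r` scalar, `x` not scalar) fixes a point of Ω exactly when some conjugate of `x` by a matrix of determinant 1 normalizes `R`. Let `r` be a prime dividing the index of `H`. Then every element of `T` of order `r` fixes a point of Ω if and only if `r = 2`, or `r = 3` and `p ≡ 2 (mod 3)`, or `r = 5` and `p ≡ ±2 (mod 5)` (`p` has multiplicative order 4 modulo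 5). -/
theorem result {F : Type*} [Field F] [Fintype F] {p : ℕ} [Fact p.Prime] [CharP F p] (hF : Fintype.card F = p) (hp4 : p % 4 = 1)
    (R : Subgroup (GL (Fin 4) F)) (hR : Cfsg.Geo.IsLinearSymplecticTypeData 2 R) (hR6 : Nat.card R = 2 ^ 6)
    (r : ℕ) [Fact r.Prime]
    (hΩ : r ∣ (Cfsg.Geo.subgroupNormalizer R).relIndex (Cfsg.Geo.specialLinear (Fin 4) F)) :
    (∀ x ∈ Cfsg.Geo.specialLinear (Fin 4) F, (∃ z : F, ((x ^ r : GL (Fin 4) F) : Matrix (Fin 4) (Fin 4) F) = z • (1 : Matrix (Fin 4) (Fin 4) F)) →
      (∀ z : F, (x : Matrix (Fin 4) (Fin 4) F) ≠ z • (1 : Matrix (Fin 4) (Fin 4) F)) →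
      ∃ g ∈ Cfsg.Geo.specialLinear (Fin 4) F, g⁻¹ * x * g ∈ Cfsg.Geo.subgroupNormalizer R) ↔ (r = 2 ∨ (r = 3 ∧ p % 3 = 2) ∨ (r = 5 ∧ orderOf (p : ZMod 5) = 4)) := by
  classical
  have hp := (Fact.out : p.Prime)
  have hr := (Fact.out : r.Prime)
  obtain ⟨i, hS⟩ := Pauli.sym_of_data R hR hR6 hF hp4
  have hp5 : 5 ≤ p := by have := hp.two_le; omega
  have hcast : ∀ m : ℕ, m.Prime → m ≠ p → ((m : ℕ) : F) ≠ 0 := fun m hm hne e =>
    hne ((Nat.prime_dvd_prime_iff_eq hp hm).1 ((CharP.cast_eq_zero_iff F p m).1 e)).symm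
  have h2 : (2 : F) ≠ 0 := hS.two
  have hdet : ∀ {x : GL (Fin 4) F}, x ∈ Cfsg.Geo.specialLinear (Fin 4) F → (x : Matrix (Fin 4) (Fin 4) F).det = 1 :=
    fun hx => congrArg Units.val (MonoidHom.mem_ker.1 hx)
  have hmkSL : ∀ (M : Matrix (Fin 4) (Fin 4) F) (_ : M.det = 1),
      ∃ x ∈ Cfsg.Geo.specialLinear (Fin 4) F, (x : Matrix (Fin 4) (Fin 4) F) = M := fun M hM =>
    ⟨Matrix.GeneralLinearGroup.mkOfDetNeZero M (by rw [hM]; exact one_ne_zero), Units.ext hM, rfl⟩
  constructor
  · intro hall
    by_contra hnot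
    simp only [not_or, not_and] at hnot
    obtain ⟨hr2, hn3, hn5⟩ := hnot
    have hbad : ∀ (M : Matrix (Fin 4) (Fin 4) F), M.det = 1 → ∀ z : F, M ^ r = z • 1 → (∀ c : F, M ≠ c • 1) →
        (r = 3 ∨ r = 5) ∧ ∀ (W : Type) [Fintype W] [DecidableEq W] (φ : (W → F) →ₗ[F] Matrix (Fin 4) (Fin 4) F),
          Function.Injective φ → (∀ w, M * φ w = φ w * M) → Fintype.card W ≤ (if r = 3 then 8 else 4) := by
      intro M hM z hz hns
      obtain ⟨x, hx, rfl⟩ := hmkSL M hM
      obtain ⟨g, -, hg⟩ := hall x hx ⟨z, by rw [Units.val_pow_eq_pow_val]; exact hz⟩ hns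
      have hxr : (((g⁻¹ * x * g) ^ r : GL (Fin 4) F) : Matrix (Fin 4) (Fin 4) F) = z • 1 := by
        have h1 : ((x ^ r : GL (Fin 4) F) : Matrix (Fin 4) (Fin 4) F) = z • 1 := by
          rw [Units.val_pow_eq_pow_val]; exact hz
        rw [show g⁻¹ * x * g = g⁻¹ * x * g⁻¹⁻¹ by rw [inv_inv], conj_pow, mul_assoc,
          Pauli.scalar_of_smul_mul h1, ← mul_assoc, mul_inv_cancel, one_mul]
        exact h1
      have hns' : ∀ c : F, ((g⁻¹ * x * g : GL (Fin 4) F) : Matrix (Fin 4) (Fin 4) F) ≠ c • 1 := fun c hc => by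
        refine hns c ?_
        have h1 : x = g * (g⁻¹ * x * g) * g⁻¹ := by group
        rw [h1, Units.val_mul, Units.val_mul, hc, mul_smul_comm, smul_mul_assoc, mul_one, Units.mul_inv]
      obtain ⟨h35, hb⟩ := hS.centraliser_bound hg hr hr2 hxr hns'
      refine ⟨h35, fun W _ _ φ hφ hc => ?_⟩
      let φ' : (W → F) →ₗ[F] Matrix (Fin 4) (Fin 4) F :=
        { toFun := fun w => ((g⁻¹ : GL (Fin 4) F) : Matrix (Fin 4) (Fin 4) F) * φ w * (g : Matrix (Fin 4) (Fin 4) F)
          map_add' := fun a b => by rw [map_add, Matrix.mul_add, Matrix.add_mul]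
          map_smul' := fun c a => by rw [map_smul, Matrix.mul_smul, Matrix.smul_mul]; rfl }
      refine hb W φ' (fun a b e => hφ ?_) fun w => ?_
      · have h1 := congrArg (fun X => (g : Matrix (Fin 4) (Fin 4) F) * X * ((g⁻¹ : GL (Fin 4) F) : Matrix (Fin 4) (Fin 4) F)) e
        simpa [φ', mul_assoc] using h1
      · show _ * (_ * φ w * _) = _ * φ w * _ * _
        simp only [Units.val_mul, mul_assoc, Units.mul_inv_cancel_left]
        rw [← mul_assoc (x : Matrix (Fin 4) (Fin 4) F), hc w, mul_assoc]
    have h35 : r = 3 ∨ r = 5 := by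
      have hdvd : r ∣ Nat.card (Cfsg.Geo.specialLinear (Fin 4) F) := hΩ.trans (Subgroup.relIndex_dvd_card _ _)
      obtain ⟨⟨x, hx⟩, hxo⟩ := exists_prime_orderOf_dvd_card' r hdvd
      rw [Subgroup.orderOf_mk] at hxo
      have hxr : (x : Matrix (Fin 4) (Fin 4) F) ^ r = 1 := by
        rw [← Units.val_pow_eq_pow_val, ← hxo, pow_orderOf_eq_one, Units.val_one]
      refine (hbad _ (hdet hx) 1 (by rw [hxr, one_smul]) fun c hc => ?_).1
      have hc4 : c ^ 4 = 1 := by
        have := hdet hx
        rwa [hc, Matrix.det_smul, Matrix.det_one, mul_one, Fintype.card_fin] at this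
      have hcr : c ^ r = 1 := by
        rw [hc, _root_.smul_pow, one_pow] at hxr
        simpa using congrFun (congrFun hxr 0) 0
      have hcop : Nat.gcd 4 r = 1 := by
        show Nat.Coprime 4 r
        rw [show 4 = 2 ^ 2 by norm_num]
        exact Nat.Coprime.pow_left _ ((Nat.coprime_primes Nat.prime_two hr).2 (Ne.symm hr2))
      have hc1 : c = 1 := by
        have := pow_gcd_eq_one (a := c) (m := 4) (n := r) |>.2 ⟨hc4, hcr⟩
        rwa [hcop, pow_one] at this
      rw [hc1, one_smul] at hc
      have : x = 1 := Units.ext hc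
      rw [this, orderOf_one] at hxo
      exact hr.one_lt.ne hxo
    -- a diagonal element with a large centraliser
    have hdiag : r ∣ Fintype.card F - 1 → ∃ M : Matrix (Fin 4) (Fin 4) F, M.det = 1 ∧ M ^ r = (1 : F) • 1 ∧
        (∀ c : F, M ≠ c • 1) ∧ ∃ φ : (Fin 3 × Fin 3 → F) →ₗ[F] Matrix (Fin 4) (Fin 4) F,
          Function.Injective φ ∧ ∀ w, M * φ w = φ w * M := by
      intro hrq
      obtain ⟨u, hu⟩ := exists_prime_orderOf_dvd_card' (G := Fˣ) r
        (by rw [Nat.card_eq_fintype_card, Fintype.card_units]; exact hrq)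
      have hζ : IsPrimitiveRoot (u : F) r := IsPrimitiveRoot.coe_units_iff.2 (hu ▸ IsPrimitiveRoot.orderOf u)
      set e : ℕ := if r = 3 then 0 else 2 with he
      set d : Fin 4 → F := ![(u : F), u, u, (u : F) ^ e] with hd
      refine ⟨Matrix.diagonal d, ?_, ?_, ?_, ?_⟩
      · rw [Matrix.det_diagonal, hd, Fin.prod_univ_four]
        simp only [Matrix.cons_val]
        rcases h35 with rfl | rfl <;> simp [he] <;> linear_combination hζ.pow_eq_one
      · rw [one_smul, Matrix.diagonal_pow, ← Matrix.diagonal_one]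
        congr 1; funext j
        have h1 := hζ.pow_eq_one
        have h1e : ((u : F) ^ e) ^ r = 1 := by rw [← pow_mul, mul_comm, pow_mul, h1, one_pow]
        fin_cases j <;> simp [hd, h1, h1e]
      · intro c hc
        have h00 := congrFun (congrFun hc 0) 0
        have h33 := congrFun (congrFun hc 3) 3
        rw [Matrix.diagonal_apply_eq, Matrix.smul_apply, Matrix.one_apply_eq, smul_eq_mul, mul_one] at h00 h33
        have h1 : (u : F) ^ 1 = (u : F) ^ e := by
          rw [pow_one]; simp [hd] at h00 h33; rw [h33, h00]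
        have := hζ.pow_inj (by have := hr.two_le; omega) (by rcases h35 with rfl | rfl <;> simp [he]) h1
        rcases h35 with rfl | rfl <;> simp [he] at this
      · let φ : (Fin 3 × Fin 3 → F) →ₗ[F] Matrix (Fin 4) (Fin 4) F :=
          { toFun := fun w => !![w (0, 0), w (0, 1), w (0, 2), 0; w (1, 0), w (1, 1), w (1, 2), 0;
              w (2, 0), w (2, 1), w (2, 2), 0; 0, 0, 0, 0]
            map_add' := fun a b => by ext j l; fin_cases j <;> fin_cases l <;> simp
            map_smul' := fun c a => by ext j l; fin_cases j <;> fin_cases l <;> simp }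
        refine ⟨φ, fun a b e' => ?_, fun w => ?_⟩
        · funext ⟨j, l⟩
          have h1 := congrFun (congrFun e' j.castSucc) l.castSucc
          fin_cases j <;> fin_cases l <;> simpa [φ] using h1
        · ext j l
          rw [Matrix.diagonal_mul, Matrix.mul_diagonal]
          fin_cases j <;> fin_cases l <;> simp [φ, hd] <;> ring
    rcases h35 with rfl | rfl
    · have hp31 : p % 3 = 1 := by
        have h0 : p % 3 ≠ 0 := fun h => by
          have := (Nat.prime_dvd_prime_iff_eq Nat.prime_three hp).1 (Nat.dvd_of_mod_eq_zero h)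
          omega
        have := hn3 rfl
        omega
      obtain ⟨M, h1, h1', h1'', φ, hφ, hc⟩ := hdiag (by rw [hF]; omega)
      have := (hbad M h1 1 h1' h1'').2 _ φ hφ hc
      simp at this
    · have hne4 : orderOf (p : ZMod 5) ≠ 4 := hn5 rfl
      have hcases : p % 5 = 0 ∨ p % 5 = 1 ∨ p % 5 = 4 := by
        have h1 : (p : ZMod 5) = ((p % 5 : ℕ) : ZMod 5) := (ZMod.natCast_mod p 5).symm
        rw [h1] at hne4
        rcases (show p % 5 = 0 ∨ p % 5 = 1 ∨ p % 5 = 2 ∨ p % 5 = 3 ∨ p % 5 = 4 by omega) with h | h | h | h | h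
        · exact Or.inl h
        · exact Or.inr (Or.inl h)
        · rw [h] at hne4
          exact absurd orderOf_two_five hne4
        · rw [h] at hne4
          exact absurd orderOf_three_five hne4
        · exact Or.inr (Or.inr h)
      rcases hcases with h | h | h
      · -- a transvection
        have h5 : p = 5 := ((Nat.prime_dvd_prime_iff_eq (by norm_num) hp).1 (Nat.dvd_of_mod_eq_zero h)).symm
        have hF5 : (5 : F) = 0 := by
          have := (CharP.cast_eq_zero_iff F p 5).2 (by rw [h5])
          simpa using this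
        let M : Matrix (Fin 4) (Fin 4) F := !![1, 0, 0, 1; 0, 1, 0, 0; 0, 0, 1, 0; 0, 0, 0, 1]
        have hMk : ∀ k : ℕ, M ^ k = !![1, 0, 0, (k : F); 0, 1, 0, 0; 0, 0, 1, 0; 0, 0, 0, 1] := fun k => by
          induction k with
          | zero => ext j l; fin_cases j <;> fin_cases l <;> simp
          | succ k ih =>
            rw [pow_succ, ih]
            ext j l; fin_cases j <;> fin_cases l <;> simp [M, Matrix.mul_apply, Fin.sum_univ_four] <;> ring
        let φ : (Fin 5 → F) →ₗ[F] Matrix (Fin 4) (Fin 4) F :=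
          { toFun := fun w => !![w 0, 0, 0, 0; 0, w 1, w 2, 0; 0, w 3, w 4, 0; 0, 0, 0, w 0]
            map_add' := fun a b => by ext j l; fin_cases j <;> fin_cases l <;> simp
            map_smul' := fun c a => by ext j l; fin_cases j <;> fin_cases l <;> simp }
        have := (hbad M (by
            rw [Matrix.det_of_upperTriangular (fun j l hlj => by fin_cases j <;> fin_cases l <;> simp_all [M])]
            simp [M, Fin.prod_univ_four])
          1 (by
            rw [hMk, one_smul]
            ext j l
            fin_cases j <;> fin_cases l <;> simp [hF5])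
          (fun c hc => by simpa [M] using congrFun (congrFun hc 0) 3)).2 _ φ
          (fun a b e => by
            funext j
            fin_cases j
            · simpa [φ] using congrFun (congrFun e 0) 0
            · simpa [φ] using congrFun (congrFun e 1) 1
            · simpa [φ] using congrFun (congrFun e 1) 2
            · simpa [φ] using congrFun (congrFun e 2) 1
            · simpa [φ] using congrFun (congrFun e 2) 2)
          (fun w => by ext j l; fin_cases j <;> fin_cases l <;> simp [M, φ, Matrix.mul_apply, Fin.sum_univ_four])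
        simp at this
      · obtain ⟨M, h1, h1', h1'', φ, hφ, hc⟩ := hdiag (by rw [hF]; omega)
        have := (hbad M h1 1 h1' h1'').2 _ φ hφ hc
        simp at this
      · have hord : orderOf ((Fintype.card F : ℕ) : ZMod 5) = 2 := by
          rw [hF, ← ZMod.natCast_mod p 5, h]
          exact orderOf_four_five
        have h5F : ((5 : ℕ) : F) ≠ 0 := hcast 5 (by norm_num) (fun e => by subst e; simp at h)
        obtain ⟨g, hg, hgfix⟩ := exists_fpf (F := F) h5F (i := 2) hord.symm two_pos
        set B := LinearMap.toMatrix' g with hB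
        let e : Fin 2 ⊕ Fin 2 ≃ Fin 4 := finSumFinEquiv
        let M : Matrix (Fin 4) (Fin 4) F := Matrix.reindexAlgEquiv F F e (Matrix.fromBlocks B 0 0 1)
        have hpowB : ∀ j : ℕ, Matrix.fromBlocks B 0 0 (1 : Matrix (Fin 2) (Fin 2) F) ^ j =
            Matrix.fromBlocks (B ^ j) 0 0 1 := fun j => by
          induction j with
          | zero => rw [pow_zero, pow_zero, Matrix.fromBlocks_one]
          | succ j ih => rw [pow_succ, pow_succ, ih, Matrix.fromBlocks_multiply]; simp
        have hBr : B ^ 5 = 1 := by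
          rw [hB]
          show LinearMap.toMatrixAlgEquiv' g ^ 5 = 1
          rw [← map_pow, hg, map_one]
        let φ : (Fin 5 → F) →ₗ[F] Matrix (Fin 4) (Fin 4) F :=
          { toFun := fun w => Matrix.reindexAlgEquiv F F e (Matrix.fromBlocks (w 4 • 1) 0 0 !![w 0, w 1; w 2, w 3])
            map_add' := fun a b => by
              rw [← map_add, Matrix.fromBlocks_add]
              congr 1
              simp [add_smul]
            map_smul' := fun c a => by
              rw [RingHom.id_apply, ← map_smul, Matrix.fromBlocks_smul]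
              congr 1
              simp [smul_smul] }
        have := (hbad M (by
            rw [Matrix.det_reindexAlgEquiv, Matrix.det_fromBlocks_zero₂₁, Matrix.det_one, mul_one, hB,
              LinearMap.det_toMatrix']
            exact det_eq_one (by rw [hord]; norm_num) hg)
          1 (by rw [← map_pow, hpowB, hBr, Matrix.fromBlocks_one, map_one, one_smul])
          (fun c hc => by
            have hB' : Matrix.fromBlocks B 0 0 (1 : Matrix (Fin 2) (Fin 2) F) = c • 1 :=
              (Matrix.reindexAlgEquiv F F e).injective (by rw [map_smul, map_one]; exact hc)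
            have hc1 : c = 1 := by
              have h1 := congrFun (congrFun hB' (Sum.inr 0)) (Sum.inr 0)
              simpa using h1.symm
            rw [hc1, one_smul, ← Matrix.fromBlocks_one, Matrix.fromBlocks_inj] at hB'
            have hg1 : g = 1 := LinearMap.toMatrix'.injective (by rw [← hB, hB'.1]; exact LinearMap.toMatrix'_one.symm)
            have : (fun _ => 1 : Fin 2 → F) ∈ fixS g := mem_fixS.2 (by rw [hg1]; rfl)
            rw [hgfix, Submodule.mem_bot] at this
            exact one_ne_zero (congrFun this 0))).2 _ φ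
          (fun a b e' => by
            have h1 := (Matrix.reindexAlgEquiv F F e).injective e'
            rw [Matrix.fromBlocks_inj] at h1
            funext j
            fin_cases j
            · simpa using congrFun (congrFun h1.2.2.2 0) 0
            · simpa using congrFun (congrFun h1.2.2.2 0) 1
            · simpa using congrFun (congrFun h1.2.2.2 1) 0
            · simpa using congrFun (congrFun h1.2.2.2 1) 1
            · simpa using congrFun (congrFun h1.1 0) 0)
          (fun w => by
            show _ * Matrix.reindexAlgEquiv F F e _ = Matrix.reindexAlgEquiv F F e _ * _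
            rw [← map_mul, ← map_mul, Matrix.fromBlocks_multiply, Matrix.fromBlocks_multiply]
            simp)
        simp at this
  · intro hrhs x hx ⟨z, hxz⟩ hns
    obtain ⟨P, hStd⟩ := Pauli.exists_std hS
    have hi := hS.sq_i
    have hrp : r ≠ p := by
      intro e
      rcases hrhs with h | ⟨h, -⟩ | ⟨h, h4⟩
      · omega
      · omega
      · have hp5' : p = 5 := by omega
        haveI : Fact (Nat.Prime 5) := ⟨by norm_num⟩
        rw [hp5', show ((5 : ℕ) : ZMod 5) = 0 from rfl, orderOf_zero] at h4
        omega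
    have hrF : ((r : ℕ) : F) ≠ 0 := hcast r hr hrp
    have hxz' : (x : Matrix (Fin 4) (Fin 4) F) ^ r = z • 1 := by rw [← Units.val_pow_eq_pow_val]; exact hxz
    -- determinant correction and change of frame
    have hfinish : ∀ (g : GL (Fin 4) F), g⁻¹ * x * g ∈ Subgroup.normalizer
        ((R.map (MulAut.conj P⁻¹).toMonoidHom : Subgroup (GL (Fin 4) F)) : Set (GL (Fin 4) F)) →
        ∃ g ∈ Cfsg.Geo.specialLinear (Fin 4) F, g⁻¹ * x * g ∈ Cfsg.Geo.subgroupNormalizer R := by
      intro g hg
      have hzz : z ^ 4 = 1 := by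
        have h1 := congrArg Matrix.det hxz'
        rw [Matrix.det_pow, hdet hx, one_pow, Matrix.det_smul, Matrix.det_one, mul_one, Fintype.card_fin] at h1
        exact h1.symm
      have hxord : (orderOf x).Coprime p := by
        refine Nat.Coprime.coprime_dvd_left (orderOf_dvd_of_pow_eq_one (n := r * 4) ?_)
          (Nat.Coprime.mul_left ((Nat.coprime_primes hr hp).2 hrp) ?_)
        · refine Units.ext ?_
          rw [Units.val_pow_eq_pow_val, pow_mul, hxz', _root_.smul_pow, one_pow, hzz, one_smul, Units.val_one]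
        · rw [show 4 = 2 ^ 2 by norm_num]
          exact Nat.Coprime.pow_left _ ((Nat.coprime_primes Nat.prime_two hp).2 (by omega))
      set g₀ := g * P⁻¹ with hg₀
      obtain ⟨S, hSx, hSdet⟩ := CfsgLib.GLClass.exists_commute_det p x hxord (by norm_num)
        (inv_ne_zero (CfsgLib.GLClass.det_ne_zero_gl g₀))
      refine ⟨S * g₀, Units.ext ?_, ?_⟩
      · show ((S * g₀ : GL (Fin 4) F) : Matrix (Fin 4) (Fin 4) F).det = 1
        rw [Units.val_mul, Matrix.det_mul, hSdet, inv_mul_cancel₀ (CfsgLib.GLClass.det_ne_zero_gl g₀)]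
      · have h1 : (S * g₀)⁻¹ * x * (S * g₀) = P * (g⁻¹ * x * g) * P⁻¹ := by
          calc (S * g₀)⁻¹ * x * (S * g₀) = g₀⁻¹ * (S⁻¹ * (x * S)) * g₀ := by group
            _ = g₀⁻¹ * x * g₀ := by rw [← hSx, inv_mul_cancel_left]
            _ = _ := by rw [hg₀]; group
        rw [h1, Cfsg.Geo.subgroupNormalizer, Subgroup.mem_normalizer_iff]
        intro w
        have h2 := Subgroup.mem_normalizer_iff.1 hg (P⁻¹ * w * P)
        have hmem : ∀ v, v ∈ R.map (MulAut.conj P⁻¹).toMonoidHom ↔ P * v * P⁻¹ ∈ R := fun v => by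
          constructor
          · rintro ⟨u, hu, rfl⟩
            simpa [mul_assoc] using hu
          · intro hv
            exact ⟨_, hv, by simp [mul_assoc]⟩
        rw [hmem, hmem] at h2
        simpa [mul_assoc] using h2
    rcases hrhs with rfl | hr35
    · -- involutions
      obtain ⟨μ, hμ⟩ : ∃ μ : F, μ ^ 2 = z := by
        by_contra hno
        push Not at hno
        have hd := kum_det 2 (Fin 4 → F) (Matrix.toLin' (x : Matrix (Fin 4) (Fin 4) F)) (c := z) (r := 2)
          (by show Matrix.toLinAlgEquiv' (x : Matrix (Fin 4) (Fin 4) F) ^ 2 = z • 1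
              rw [← map_pow, hxz', map_smul, map_one])
          hno (by rw [Module.finrank_fin_fun])
        rw [LinearMap.det_toLin', hdet hx] at hd
        have hz2 : z * z = 1 := by linear_combination -hd
        rcases mul_self_eq_one_iff.1 hz2 with h | h
        · exact hno 1 (by rw [h, one_pow])
        · exact hno i (by rw [h, pow_two, hi])
      have hμ0 : μ ≠ 0 := fun e => by
        have h1 := congrArg Matrix.det hxz'
        rw [Matrix.det_pow, hdet hx, one_pow, ← hμ, e, zero_pow two_ne_zero, zero_smul, Matrix.det_zero] at h1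
        exact one_ne_zero h1
      set gl := μ⁻¹ • Matrix.toLin' (x : Matrix (Fin 4) (Fin 4) F) with hgl
      have hgg : gl * gl = 1 := by
        rw [hgl, smul_mul_smul_comm,
          show Matrix.toLin' (x : Matrix (Fin 4) (Fin 4) F) * Matrix.toLin' (x : Matrix (Fin 4) (Fin 4) F) =
            Matrix.toLinAlgEquiv' ((x : Matrix (Fin 4) (Fin 4) F) ^ 2) by
              rw [pow_two]; exact (map_mul Matrix.toLinAlgEquiv' _ _).symm,
          hxz', map_smul, map_one, smul_smul, ← hμ, show μ⁻¹ * μ⁻¹ * μ ^ 2 = 1 by field_simp, one_smul]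
      obtain ⟨b, s, hb⟩ := exists_sign_basis (g := gl) (Module.finrank_fin_fun F) hgg h2
      have hxb : ∀ j, Matrix.mulVec (x : Matrix (Fin 4) (Fin 4) F) (b j) = (μ * s j) • b j := fun j => by
        have h1 := congrArg (μ • ·) (hb j).2
        simp only [hgl, LinearMap.smul_apply, smul_smul, mul_inv_cancel₀ hμ0, one_smul, Matrix.toLin'_apply] at h1
        exact h1
      let sb : Fin 4 → Bool := fun j => decide (s j = -1)
      have hsb : ∀ j, s j = if sb j then -1 else 1 := fun j => by
        by_cases h : s j = -1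
        · simp [sb, h]
        · rcases mul_self_eq_one_iff.1 (hb j).1 with h' | h'
          · simp [sb, h, h']
          · exact absurd h' h
      have hpatt : ∃ (σ : Equiv.Perm (Fin 4)) (ε : F), (∀ j, μ * s (σ j) = (μ * ε) * (![1, 1, 1, -1] : Fin 4 → F) j) ∨
          (∀ j, μ * s (σ j) = (μ * ε) * (![1, 1, -1, -1] : Fin 4 → F) j) := by
        rcases sign_patterns sb with hconst | ⟨σ, f, hh⟩
        · exfalso
          refine hns (μ * s 0) (Matrix.toLin'.injective (b.ext fun j => ?_))
          rw [Matrix.toLin'_apply, hxb, hsb j, hconst j, ← hsb 0, Matrix.toLin'_apply, Matrix.smul_mulVec, Matrix.one_mulVec]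
        · refine ⟨σ, if f then -1 else 1, ?_⟩
          rcases hh with hh | hh
          · left; intro j
            have h1 := hh j
            rw [hsb]
            fin_cases j <;> cases f <;> simp_all
          · right; intro j
            have h1 := hh j
            rw [hsb]
            fin_cases j <;> cases f <;> simp_all
      obtain ⟨σ, ε, hpatt⟩ := hpatt
      let Bm : Matrix (Fin 4) (Fin 4) F := (Pi.basisFun F (Fin 4)).toMatrix (b.reindex σ.symm)
      have hBm : Bm.det ≠ 0 := by
        intro e
        have h1 := congrArg Matrix.det ((Pi.basisFun F (Fin 4)).toMatrix_mul_toMatrix_flip (b.reindex σ.symm))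
        rw [Matrix.det_mul, e, zero_mul, Matrix.det_one] at h1
        exact zero_ne_one h1
      let g : GL (Fin 4) F := Matrix.GeneralLinearGroup.mkOfDetNeZero Bm hBm
      have hxB : (x : Matrix (Fin 4) (Fin 4) F) * Bm = Bm * Matrix.diagonal (fun j => μ * s (σ j)) := by
        ext l j
        have h1 := congrFun (hxb (σ j)) l
        rw [Matrix.mul_diagonal]
        simp only [Bm, Module.Basis.toMatrix_apply, Matrix.mul_apply, Pi.basisFun_repr, Module.Basis.reindex_apply,
          Equiv.symm_symm]
        rw [show (∑ k, (x : Matrix (Fin 4) (Fin 4) F) l k * b (σ j) k) = Matrix.mulVec (x : Matrix (Fin 4) (Fin 4) F) (b (σ j)) l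
          from rfl, h1, Pi.smul_apply, smul_eq_mul]
        ring
      have hgx : ((g⁻¹ * x * g : GL (Fin 4) F) : Matrix (Fin 4) (Fin 4) F) = Matrix.diagonal (fun j => μ * s (σ j)) := by
        rw [Units.val_mul, Units.val_mul, mul_assoc, show (x : Matrix (Fin 4) (Fin 4) F) * (g : Matrix (Fin 4) (Fin 4) F) =
          (g : Matrix (Fin 4) (Fin 4) F) * Matrix.diagonal (fun j => μ * s (σ j)) from hxB, ← mul_assoc, Units.inv_mul, one_mul]
      refine hfinish g ?_
      rcases hpatt with h | h
      · refine hStd.refl_mem _ (s := μ * ε) ?_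
        rw [hgx, Pauli.refl, ← Matrix.diagonal_smul]
        congr 1; funext j; exact h j
      · refine hStd.a₁_mem _ (s := μ * ε) ?_
        rw [hgx, Pauli.A₁, ← Matrix.diagonal_smul]
        congr 1; funext j; exact h j
    · -- odd order
      have hr35' : r = 3 ∨ r = 5 := hr35.imp And.left And.left
      have hord : orderOf ((p : ℕ) : ZMod r) = r - 1 := by
        rcases hr35 with ⟨rfl, h⟩ | ⟨rfl, h⟩
        · rw [← ZMod.natCast_mod p 3, h]
          exact orderOf_two_three
        · exact h
      have hord1 : orderOf ((Fintype.card F : ℕ) : ZMod r) ≠ 1 := by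
        rw [hF, hord]; rcases hr35' with rfl | rfl <;> norm_num
      obtain ⟨μ, hμ⟩ := exists_root_of_order hord1 z
      have hμ0 : μ ≠ 0 := fun e => by
        have h1 := congrArg Matrix.det hxz'
        rw [Matrix.det_pow, hdet hx, one_pow, ← hμ, e, zero_pow hr.ne_zero, zero_smul, Matrix.det_zero] at h1
        exact one_ne_zero h1
      let y : GL (Fin 4) F := Matrix.GeneralLinearGroup.mkOfDetNeZero (μ⁻¹ • (x : Matrix (Fin 4) (Fin 4) F))
        (by rw [Matrix.det_smul, hdet hx, mul_one]; exact pow_ne_zero _ (inv_ne_zero hμ0))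
      have hyv : (y : Matrix (Fin 4) (Fin 4) F) = μ⁻¹ • (x : Matrix (Fin 4) (Fin 4) F) := rfl
      have hy : y ^ r = 1 := Units.ext (by
        rw [Units.val_pow_eq_pow_val, hyv, _root_.smul_pow, hxz', smul_smul, ← hμ, ← mul_pow,
          inv_mul_cancel₀ hμ0, one_pow, one_smul, Units.val_one])
      have hy1 : y ≠ 1 := fun e => hns μ (by
        have h1 := congrArg (fun u : GL (Fin 4) F => μ • (u : Matrix (Fin 4) (Fin 4) F)) e
        simp only [hyv, smul_smul, mul_inv_cancel₀ hμ0, one_smul, Units.val_one] at h1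
        exact h1)
      obtain ⟨T, hTN, hT, hT1, hT3⟩ : ∃ T : GL (Fin 4) F,
          (∀ (w : GL (Fin 4) F) (c : F), (w : Matrix (Fin 4) (Fin 4) F) = c • (T : Matrix (Fin 4) (Fin 4) F) →
            w ∈ Subgroup.normalizer
              ((R.map (MulAut.conj P⁻¹).toMonoidHom : Subgroup (GL (Fin 4) F)) : Set (GL (Fin 4) F))) ∧
          T ^ r = 1 ∧ T ≠ 1 ∧ (r = 3 → (((y : Matrix (Fin 4) (Fin 4) F) - 1).det = 0 ↔
            ((T : Matrix (Fin 4) (Fin 4) F) - 1).det = 0)) := by
        have hmkT : ∀ (N : Matrix (Fin 4) (Fin 4) F) (s : F), (s • N) ^ r = 1 →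
            ∃ T : GL (Fin 4) F, (T : Matrix (Fin 4) (Fin 4) F) = s • N ∧ T ^ r = 1 := fun N s h => by
          have hd : (s • N).det ≠ 0 := fun e => by
            have := congrArg Matrix.det h
            rw [Matrix.det_pow, e, zero_pow hr.ne_zero, Matrix.det_one] at this
            exact zero_ne_one this
          exact ⟨Matrix.GeneralLinearGroup.mkOfDetNeZero _ hd, rfl, Units.ext (by
            rw [Units.val_pow_eq_pow_val]; exact h)⟩
        rcases hr35 with ⟨rfl, -⟩ | ⟨rfl, -⟩
        · have h3 : (3 : F) ≠ 0 := by exact_mod_cast hrF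
          have h8 : ((2 : F)⁻¹) ^ 3 * 8 = 1 := by
            rw [show (8 : F) = 2 ^ 3 by norm_num, ← mul_pow, inv_mul_cancel₀ h2, one_pow]
          by_cases hfix : ((y : Matrix (Fin 4) (Fin 4) F) - 1).det = 0
          · obtain ⟨T, hT, hT'⟩ := hmkT (Pauli.N₂ i) (2 : F)⁻¹ (by
              rw [_root_.smul_pow, Pauli.N₂_cube hi, smul_smul, h8, one_smul])
            refine ⟨T, fun w c hw => hStd.n₂_mem w (s := c * (2 : F)⁻¹) (by rw [hw, hT, smul_smul]), hT',
              fun e => ?_, fun _ => iff_of_true hfix ?_⟩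
            · have h1 := congrArg (fun u : GL (Fin 4) F => (u : Matrix (Fin 4) (Fin 4) F) 0 1) e
              simp [hT, Pauli.N₂, h2] at h1
              rw [h1] at hi; exact h2 (by linear_combination (2 : F) * hi)
            · refine Matrix.exists_mulVec_eq_zero_iff.1 ⟨![2, -1 - i, -1 - i, -2 * i], fun e => h2 ?_, ?_⟩
              · simpa using congrFun e 0
              · rw [Matrix.sub_mulVec, hT, Matrix.smul_mulVec, Pauli.N₂_fix hi, smul_smul, inv_mul_cancel₀ h2,
                  one_smul, Matrix.one_mulVec, sub_self]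
          · obtain ⟨T, hT, hT'⟩ := hmkT (Pauli.N₁ i) (2 : F)⁻¹ (by
              rw [_root_.smul_pow, Pauli.N₁_cube hi, smul_smul, h8, one_smul])
            have hne : ((T : Matrix (Fin 4) (Fin 4) F) - 1).det ≠ 0 := by
              rw [hT, show (2 : F)⁻¹ • Pauli.N₁ i - 1 = (2 : F)⁻¹ • (Pauli.N₁ i - (2 : F) • 1) by
                rw [smul_sub, smul_smul, inv_mul_cancel₀ h2, one_smul], Matrix.det_smul, Pauli.N₁_det hi]
              refine mul_ne_zero (pow_ne_zero _ (inv_ne_zero h2)) ?_
              rw [show (144 : F) = 2 ^ 4 * 3 ^ 2 by norm_num]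
              exact mul_ne_zero (pow_ne_zero _ h2) (pow_ne_zero _ h3)
            exact ⟨T, fun w c hw => hStd.n₁_mem w (s := c * (2 : F)⁻¹) (by rw [hw, hT, smul_smul]), hT',
              fun e => hne (by rw [e, Units.val_one, sub_self, Matrix.det_zero]), fun _ => iff_of_false hfix hne⟩
        · obtain ⟨c, hc⟩ := exists_root_of_order hord1 (-4 - 4 * i)
          have hs0 : (-4 - 4 * i : F) ≠ 0 := fun e => by
            have h4 : (4 : F) ≠ 0 := by
              rw [show (4 : F) = 2 * 2 by norm_num]; exact mul_ne_zero h2 h2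
            have h1i : (1 : F) + i = 0 := (mul_eq_zero.1 (show (4 : F) * (1 + i) = 0 by linear_combination -e)).resolve_left h4
            exact h2 (by linear_combination hi + (1 - i) * h1i)
          have hc0 : c ≠ 0 := fun e => hs0 (by rw [← hc, e, zero_pow (by norm_num)])
          obtain ⟨T, hT, hT'⟩ := hmkT (Pauli.Y₅ i) c⁻¹ (by
            rw [_root_.smul_pow, Pauli.Y₅_pow hi, smul_smul, ← hc, ← mul_pow, inv_mul_cancel₀ hc0, one_pow, one_smul])
          refine ⟨T, fun w d hw => hStd.y₅_mem w (s := d * c⁻¹) (by rw [hw, hT, smul_smul]), hT',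
            fun e => ?_, fun h => absurd h (by norm_num)⟩
          have h1 := congrArg (fun u : GL (Fin 4) F => (u : Matrix (Fin 4) (Fin 4) F) 0 0) e
          simp [hT, Pauli.Y₅] at h1
      have hcop : ∀ u : GL (Fin 4) F, u ^ r = 1 → (orderOf u).Coprime p := fun u hu =>
        Nat.Coprime.coprime_dvd_left (orderOf_dvd_of_pow_eq_one hu) ((Nat.coprime_primes hr hp).2 hrp)
      obtain ⟨g, hgc⟩ := isConj_iff.1 (CfsgLib.GLClass.isConj_of_charpoly_eq p (hcop y hy) (hcop T hT)
        (Pauli.charpoly_eq_of_full_order hF hrp hr35' hord hy hT hy1 hT1 hT3))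
      refine hfinish g⁻¹ (hTN _ μ ?_)
      rw [inv_inv, ← hgc, Units.val_mul, Units.val_mul, Units.val_mul, Units.val_mul, hyv, mul_smul_comm,
        smul_mul_assoc, smul_smul, mul_inv_cancel₀ hμ0, one_smul]

end Cfsg.Agent.S6000
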