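import Cfsg.Statements.S6001
import Cfsg.Agent.Elusive.PauliBound
import Cfsg.Agent.Elusive.PauliUnitary
import Cfsg.Agent.Elusive.Construct
import Cfsg.Agent.Elusive.ConjBasis
import Cfsg.Agent.Unitary.Generation

set_option autoImplicit false
set_option linter.unusedSimpArgs false
set_option linter.unnecessarySeqFocus false
set_option linter.style.haveILetI false
set_option maxHeartbeats 1000000
open scoped MatrixGroups
open Cfsg

namespace Cfsg.Agent.S6001

open CfsgLib.Elusive CfsgLib.Unitary Matrix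

theorem orderOf_two_three : orderOf ((2 : ℕ) : ZMod 3) = 2 :=
  orderOf_eq_prime (by decide) (by decide)

theorem orderOf_two_five : orderOf ((2 : ℕ) : ZMod 5) = 4 :=
  orderOf_eq_prime_pow (p := 2) (n := 1) (by decide) (by decide)

theorem orderOf_three_five : orderOf ((3 : ℕ) : ZMod 5) = 4 :=
  orderOf_eq_prime_pow (p := 2) (n := 1) (by decide) (by decide)

theorem orderOf_neg_five : ∀ a : ZMod 5, a ^ 2 ≠ 1 → a ^ 4 = 1 → (4 * a) ^ 2 ≠ 1 ∧ (4 * a) ^ 4 = 1 := by
  decide +kernel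

/-- Patterns of signs on four points. -/
theorem sign_patterns : ∀ s : Fin 4 → Bool, (∀ j, s j = s 0) ∨ ∃ σ : Equiv.Perm (Fin 4), ∃ f : Bool,
    (∀ j, Bool.xor f (s (σ j)) = ![false, false, false, true] j) ∨
    (∀ j, Bool.xor f (s (σ j)) = ![false, false, true, true] j) := by decide +kernel

variable {F : Type*} [Field F]

theorem N₁_det_eq {i : F} (hi : i * i = -1) : (Pauli.N₁ i).det = 16 := by
  rw [Matrix.det_succ_row_zero]
  simp [Pauli.N₁, Fin.sum_univ_four, Matrix.det_fin_three, Matrix.submatrix, Fin.succAbove]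
  grind

theorem N₂_det_eq {i : F} (hi : i * i = -1) : (Pauli.N₂ i).det = 16 := by
  rw [Matrix.det_succ_row_zero]
  simp [Pauli.N₂, Fin.sum_univ_four, Matrix.det_fin_three, Matrix.submatrix, Fin.succAbove]
  grind

theorem block_comm (a b : F) (w : Fin 3 × Fin 3 → F) :
    Matrix.diagonal ![a, a, a, b] *
        !![w (0, 0), w (0, 1), w (0, 2), 0; w (1, 0), w (1, 1), w (1, 2), 0;
          w (2, 0), w (2, 1), w (2, 2), 0; 0, 0, 0, 0] =
      !![w (0, 0), w (0, 1), w (0, 2), 0; w (1, 0), w (1, 1), w (1, 2), 0;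
          w (2, 0), w (2, 1), w (2, 2), 0; 0, 0, 0, 0] * Matrix.diagonal ![a, a, a, b] := by
  ext j l
  rw [Matrix.diagonal_mul, Matrix.mul_diagonal]
  fin_cases j <;> fin_cases l <;> simp <;> ring

theorem exists_diagonal (σ : F →+* F) {r : ℕ} (h35 : r = 3 ∨ r = 5) {u : F} (hζ : IsPrimitiveRoot u r)
    (hup : σ u * u = 1) :
    ∃ M : Matrix (Fin 4) (Fin 4) F, adj σ M * M = 1 ∧ M.det = 1 ∧ M ^ r = (1 : F) • 1 ∧ (∀ c : F, M ≠ c • 1) ∧
      ∃ φ : (Fin 3 × Fin 3 → F) →ₗ[F] Matrix (Fin 4) (Fin 4) F,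
        Function.Injective φ ∧ ∀ w, M * φ w = φ w * M := by
  set e : ℕ := if r = 3 then 0 else 2 with he
  set d : Fin 4 → F := ![u, u, u, u ^ e] with hd
  refine ⟨Matrix.diagonal d, ?_, ?_, ?_, ?_, ?_⟩
  · rw [adj, Matrix.diagonal_map (map_zero σ), Matrix.diagonal_transpose, Matrix.diagonal_mul_diagonal,
      ← Matrix.diagonal_one]
    congr 1; funext j
    fin_cases j <;> simp [hd, hup, ← mul_pow]
  · rw [Matrix.det_diagonal, hd, Fin.prod_univ_four]
    simp only [Matrix.cons_val]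
    rcases h35 with rfl | rfl <;> simp [he] <;> linear_combination hζ.pow_eq_one
  · rw [one_smul, Matrix.diagonal_pow, ← Matrix.diagonal_one]
    congr 1; funext j
    have h1 := hζ.pow_eq_one
    have h1e : (u ^ e) ^ r = 1 := by rw [← pow_mul, mul_comm, pow_mul, h1, one_pow]
    fin_cases j <;> simp [hd, h1, h1e]
  · intro c hc
    have h00 := congrFun (congrFun hc 0) 0
    have h33 := congrFun (congrFun hc 3) 3
    rw [Matrix.diagonal_apply_eq, Matrix.smul_apply, Matrix.one_apply_eq, smul_eq_mul, mul_one] at h00 h33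
    have h1 : u ^ 1 = u ^ e := by
      rw [pow_one]; simp [hd] at h00 h33; rw [h33, h00]
    have := hζ.pow_inj (by rcases h35 with rfl | rfl <;> norm_num) (by rcases h35 with rfl | rfl <;> simp [he]) h1
    rcases h35 with rfl | rfl <;> simp [he] at this
  · let φ : (Fin 3 × Fin 3 → F) →ₗ[F] Matrix (Fin 4) (Fin 4) F :=
      { toFun := fun w => !![w (0, 0), w (0, 1), w (0, 2), 0; w (1, 0), w (1, 1), w (1, 2), 0;
          w (2, 0), w (2, 1), w (2, 2), 0; 0, 0, 0, 0]
        map_add' := fun a b => by ext j l; fin_cases j <;> fin_cases l <;> simp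
        map_smul' := fun c a => by ext j l; fin_cases j <;> fin_cases l <;> simp }
    refine ⟨φ, fun a b e' => ?_, fun w => ?_⟩
    · funext ⟨j, l⟩
      have h1 := congrFun (congrFun e' j.castSucc) l.castSucc
      fin_cases j <;> fin_cases l <;> simpa [φ] using h1
    · rw [hd]
      exact block_comm u (u ^ e) w

theorem sign_normal (s : Fin 4 → F) (hs : ∀ j, s j * s j = 1) :
    (∀ j, s j = s 0) ∨ ∃ (σ₀ : Equiv.Perm (Fin 4)) (ε : F),
      (∀ j, s (σ₀ j) = ε * (![1, 1, 1, -1] : Fin 4 → F) j) ∨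
      (∀ j, s (σ₀ j) = ε * (![1, 1, -1, -1] : Fin 4 → F) j) := by
  classical
  let sb : Fin 4 → Bool := fun j => decide (s j = -1)
  have hsb : ∀ j, s j = if sb j then -1 else 1 := fun j => by
    by_cases h : s j = -1
    · simp [sb, h]
    · rcases mul_self_eq_one_iff.1 (hs j) with h' | h'
      · simp [sb, h, h']
      · exact absurd h' h
  rcases sign_patterns sb with hconst | ⟨σ₀, f, hh⟩
  · exact Or.inl fun j => by rw [hsb j, hconst j, ← hsb 0]
  · refine Or.inr ⟨σ₀, if f then -1 else 1, ?_⟩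
    rcases hh with hh | hh
    · left; intro j
      have h1 := hh j
      rw [hsb]
      fin_cases j <;> cases f <;> simp_all
    · right; intro j
      have h1 := hh j
      rw [hsb]
      fin_cases j <;> cases f <;> simp_all

theorem exists_transvection (σ : F →+* F) {i : F} (hi : i * i = -1) (hσi : σ i = -i) (hF3 : (3 : F) = 0) :
    ∃ M : Matrix (Fin 4) (Fin 4) F, adj σ M * M = 1 ∧ M.det = 1 ∧ M ^ 3 = (1 : F) • 1 ∧ (∀ c : F, M ≠ c • 1) ∧
      ∃ φ : (Fin 3 × Fin 3 → F) →ₗ[F] Matrix (Fin 4) (Fin 4) F,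
        Function.Injective φ ∧ ∀ w, M * φ w = φ w * M := by
  let Nm : Matrix (Fin 4) (Fin 4) F := !![i, i, i, 0; i, i, i, 0; i, i, i, 0; 0, 0, 0, 0]
  have hNN : Nm * Nm = 0 := by
    ext a b
    fin_cases a <;> fin_cases b <;> simp [Nm, Matrix.mul_apply, Fin.sum_univ_four] <;>
      linear_combination (i * i) * hF3
  have hU : adj σ (1 + Nm) * (1 + Nm) = 1 := by
    have h1 : adj σ Nm = -Nm := by
      ext a b
      fin_cases a <;> fin_cases b <;> simp [adj, Nm, hσi]
    rw [adj_add, adj_one, h1, add_mul, mul_add, mul_add, one_mul, mul_one, one_mul, neg_mul, hNN]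
    simp
  have hM3 : (1 + Nm) ^ 3 = 1 := by
    have e : (1 + Nm) ^ 3 = 1 + (3 : F) • Nm + ((3 : F) • (Nm * Nm) + Nm * (Nm * Nm)) := by
      simp only [show (3 : F) = ((3 : ℕ) : F) by norm_num, Nat.cast_smul_eq_nsmul]
      noncomm_ring
    rw [e, hNN, hF3]; simp
  refine ⟨1 + Nm, hU, ?_, by rw [hM3, one_smul], fun c hc => ?_, ?_⟩
  · have h1 := congrArg Matrix.det hM3
    rw [Matrix.det_pow, Matrix.det_one] at h1
    have h3 : ((1 + Nm).det - 1) ^ 3 = 0 := by
      linear_combination h1 + ((1 + Nm).det - (1 + Nm).det ^ 2) * hF3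
    exact sub_eq_zero.1 (eq_zero_of_pow_eq_zero h3)
  · have := congrFun (congrFun hc 0) 1
    simp [Nm] at this
    rw [this] at hi; simp at hi
  let φ : (Fin 3 × Fin 3 → F) →ₗ[F] Matrix (Fin 4) (Fin 4) F :=
    { toFun := fun w => (!![1, 0, 0; -1, 1, 0; 0, -1, 0; 0, 0, 1] : Matrix (Fin 4) (Fin 3) F) *
        Matrix.of (fun a b => w (a, b)) * (!![1, -1, 0, 0; 0, 1, -1, 0; 0, 0, 0, 1] : Matrix (Fin 3) (Fin 4) F)
      map_add' := fun a b => by rw [← Matrix.add_mul, ← Matrix.mul_add]; rfl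
      map_smul' := fun c a => by rw [RingHom.id_apply, ← Matrix.smul_mul, ← Matrix.mul_smul]; rfl }
  refine ⟨φ, fun a b e => ?_, fun w => ?_⟩
  · have e' : ∀ k l, φ a k l = φ b k l := fun k l => by rw [e]
    have k00 := e' 0 0; have k02 := e' 0 2; have k03 := e' 0 3
    have k20 := e' 2 0; have k22 := e' 2 2; have k23 := e' 2 3
    have k30 := e' 3 0; have k32 := e' 3 2; have k33 := e' 3 3
    simp [φ, Matrix.mul_apply, Fin.sum_univ_three] at k00 k02 k03 k20 k22 k23 k30 k32 k33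
    funext ⟨j, l⟩
    fin_cases j <;> fin_cases l <;> assumption
  · have h1 : Nm * φ w = 0 := by
      have : Nm * (!![1, 0, 0; -1, 1, 0; 0, -1, 0; 0, 0, 1] : Matrix (Fin 4) (Fin 3) F) = 0 := by
        ext a b
        fin_cases a <;> fin_cases b <;> simp [Nm, Matrix.mul_apply, Fin.sum_univ_four]
      simp only [φ, LinearMap.coe_mk, AddHom.coe_mk]
      rw [← Matrix.mul_assoc, ← Matrix.mul_assoc, this, Matrix.zero_mul, Matrix.zero_mul]
    have h1' : φ w * Nm = 0 := by
      have : (!![1, -1, 0, 0; 0, 1, -1, 0; 0, 0, 0, 1] : Matrix (Fin 3) (Fin 4) F) * Nm = 0 := by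
        ext a b
        fin_cases a <;> fin_cases b <;> simp [Nm, Matrix.mul_apply, Fin.sum_univ_four]
      simp only [φ, LinearMap.coe_mk, AddHom.coe_mk]
      rw [Matrix.mul_assoc, this, Matrix.mul_zero]
    rw [add_mul, mul_add, h1, h1', one_mul, mul_one]

theorem exists_rotation (σ : F →+* F) {c d : F} (h5F : (5 : F) ≠ 0) (hcp : σ c = c) (hdd : σ d * d = 1 - c * c)
    (hdpp : σ (σ d) = d) (hs : (2 * c) * (2 * c) + 2 * c - 1 = 0) :
    ∃ M : Matrix (Fin 4) (Fin 4) F, adj σ M * M = 1 ∧ M.det = 1 ∧ M ^ 5 = (1 : F) • 1 ∧ (∀ c : F, M ≠ c • 1) ∧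
      ∃ φ : (Fin 5 → F) →ₗ[F] Matrix (Fin 4) (Fin 4) F, Function.Injective φ ∧ ∀ w, M * φ w = φ w * M := by
  let M : Matrix (Fin 4) (Fin 4) F := !![c, d, 0, 0; -σ d, c, 0, 0; 0, 0, 1, 0; 0, 0, 0, 1]
  have hMM : M * M = !![2 * c * c - 1, 2 * c * d, 0, 0; -(2 * c * σ d), 2 * c * c - 1, 0, 0;
      0, 0, 1, 0; 0, 0, 0, 1] := by
    ext a b
    fin_cases a <;> fin_cases b <;> simp [M, Matrix.mul_apply, Fin.sum_univ_four] <;> grind
  refine ⟨M, ?_, ?_, ?_, fun e he => ?_, ?_⟩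
  · ext a b
    fin_cases a <;> fin_cases b <;>
      simp [M, adj, Matrix.mul_apply, Fin.sum_univ_four, hcp, hdpp] <;> grind
  · rw [Matrix.det_succ_row_zero]
    simp [M, Fin.sum_univ_four, Matrix.det_fin_three, Matrix.submatrix, Fin.succAbove]
    grind
  · rw [show M ^ 5 = (M * M) * (M * M) * M by simp only [pow_succ, pow_zero, one_mul, mul_assoc], hMM, one_smul]
    ext a b
    fin_cases a <;> fin_cases b <;> simp [M, Matrix.mul_apply, Fin.sum_univ_four] <;> grind
  · have h00 := congrFun (congrFun he 0) 0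
    have h22 := congrFun (congrFun he 2) 2
    simp [M] at h00 h22
    rw [← h22] at h00
    apply h5F
    rw [h00] at hs
    linear_combination hs
  let φ : (Fin 5 → F) →ₗ[F] Matrix (Fin 4) (Fin 4) F :=
    { toFun := fun w => !![w 4, 0, 0, 0; 0, w 4, 0, 0; 0, 0, w 0, w 1; 0, 0, w 2, w 3]
      map_add' := fun a b => by ext j l; fin_cases j <;> fin_cases l <;> simp
      map_smul' := fun c a => by ext j l; fin_cases j <;> fin_cases l <;> simp }
  refine ⟨φ, fun a b e => ?_, fun w => ?_⟩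
  · funext j
    fin_cases j
    · simpa [φ] using congrFun (congrFun e 2) 2
    · simpa [φ] using congrFun (congrFun e 2) 3
    · simpa [φ] using congrFun (congrFun e 3) 2
    · simpa [φ] using congrFun (congrFun e 3) 3
    · simpa [φ] using congrFun (congrFun e 0) 0
  · ext j l; fin_cases j <;> fin_cases l <;> simp [M, φ, Matrix.mul_apply, Fin.sum_univ_four] <;> ring

theorem backward {F : Type*} [Field F] [Fintype F] {p : ℕ} [Fact p.Prime] [CharP F p] (hF : Fintype.card F = p ^ 2) (hp4 : p % 4 = 3)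
    (R : Subgroup (GL (Fin 4) F)) (hRs : Cfsg.Geo.IsSymplecticTypeGroup 2 R) (hRi : Cfsg.Geo.ActsAbsolutelyIrreducibly (Cfsg.Geo.matrixSet R))
    (hRU : R ≤ Cfsg.GU 4 F p) (hR6 : Nat.card R = 2 ^ 6) (hRZ : Nat.card (Subgroup.center R) = 4)
    (r : ℕ) [Fact r.Prime] (hrhs : r = 2 ∨ (r = 3 ∧ p % 3 = 1) ∨ (r = 5 ∧ orderOf (p : ZMod 5) = 4))
    (x : GL (Fin 4) F) (hx : x ∈ Cfsg.GU 4 F p ⊓ Cfsg.Geo.specialLinear (Fin 4) F) (z : F)
    (hxz : ((x ^ r : GL (Fin 4) F) : Matrix (Fin 4) (Fin 4) F) = z • 1)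
    (hns : ∀ c : F, (x : Matrix (Fin 4) (Fin 4) F) ≠ c • 1) :
    ∃ g ∈ Cfsg.GU 4 F p ⊓ Cfsg.Geo.specialLinear (Fin 4) F, g⁻¹ * x * g ∈ Cfsg.Geo.subgroupNormalizer R := by
  classical
  have hp := (Fact.out : p.Prime)
  have hr := (Fact.out : r.Prime)
  have hK : Nat.card F = p ^ 2 := by rw [Nat.card_eq_fintype_card, hF]
  set σ := CfsgLib.Forms.frobQ hK with hσdef
  have hσ : ∀ a : F, σ a = a ^ p := fun a => rfl
  obtain ⟨q, rfl⟩ : ∃ q, p = 4 * q + 3 := ⟨p / 4, by omega⟩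
  have hcast : ∀ m : ℕ, m.Prime → m ≠ 4 * q + 3 → ((m : ℕ) : F) ≠ 0 := fun m hm hne e =>
    hne ((Nat.prime_dvd_prime_iff_eq hp hm).1 ((CharP.cast_eq_zero_iff F (4 * q + 3) m).1 e)).symm
  have h2 : (2 : F) ≠ 0 := by exact_mod_cast hcast 2 Nat.prime_two (by omega)
  obtain ⟨i, hi0⟩ : IsSquare (-1 : F) := FiniteField.isSquare_neg_one_iff.2 (by
    rw [hF, Nat.pow_mod]
    have : (4 * q + 3) % 4 = 3 := by omega
    rw [this]; norm_num)
  have hi : i * i = -1 := hi0.symm
  have hip : i ^ (4 * q + 3) = -i := by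
    rw [show 4 * q + 3 = 2 * (2 * q + 1) + 1 by ring, pow_succ, pow_mul, pow_two, hi, Odd.neg_one_pow ⟨q, rfl⟩,
      neg_one_mul]
  have hS := Pauli.sym_of_symplectic R h2 hi hRs hRi hR6 hRZ
  have hdet : ∀ {x : GL (Fin 4) F}, x ∈ Cfsg.GU 4 F (4 * q + 3) ⊓ Cfsg.Geo.specialLinear (Fin 4) F →
      (x : Matrix (Fin 4) (Fin 4) F).det = 1 :=
    fun hx => congrArg Units.val (MonoidHom.mem_ker.1 hx.2)
  have hadj : ∀ {x : GL (Fin 4) F}, x ∈ Cfsg.GU 4 F (4 * q + 3) →
      adj σ (x : Matrix (Fin 4) (Fin 4) F) * x = 1 := fun hx => (mem_GU_iff_adj hK).1 hx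
  have hadjsc : ∀ (c : F), adj σ (c • (1 : Matrix (Fin 4) (Fin 4) F)) * (c • 1) = (σ c * c) • 1 := fun c => by
    rw [adj_smul, adj_one, smul_mul_smul_comm, one_mul]
  have hsc1 : ∀ c : F, c • (1 : Matrix (Fin 4) (Fin 4) F) = 1 → c = 1 := fun c e => by
    simpa using congrFun (congrFun e 0) 0
  have hmk : ∀ (M : Matrix (Fin 4) (Fin 4) F) (_ : adj σ M * M = 1) (_ : M.det = 1),
      ∃ x ∈ Cfsg.GU 4 F (4 * q + 3) ⊓ Cfsg.Geo.specialLinear (Fin 4) F, (x : Matrix (Fin 4) (Fin 4) F) = M :=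
    fun M hU hM => ⟨Matrix.GeneralLinearGroup.mkOfDetNeZero M (by rw [hM]; exact one_ne_zero),
      ⟨(mem_GU_iff_adj hK).2 hU, Units.ext hM⟩, rfl⟩
  obtain ⟨P, hStd⟩ := Pauli.exists_std hS
  have hrp : r ≠ 4 * q + 3 := by
    intro e
    rcases hrhs with h | ⟨h, h'⟩ | ⟨h, -⟩
    · omega
    · rw [← e, h] at h'; norm_num at h'
    · omega
  have hrF : ((r : ℕ) : F) ≠ 0 := hcast r hr hrp
  have hxz' : (x : Matrix (Fin 4) (Fin 4) F) ^ r = z • 1 := by rw [← Units.val_pow_eq_pow_val]; exact hxz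
  have hzz : z ^ 4 = 1 := by
    have h1 := congrArg Matrix.det hxz'
    rw [Matrix.det_pow, hdet hx, one_pow, Matrix.det_smul, Matrix.det_one, mul_one, Fintype.card_fin] at h1
    exact h1.symm
  have hnorm : ∀ c : F, c ^ 4 = 1 → σ c * c = 1 := fun c hc => by
    rw [hσ, ← pow_succ, show 4 * q + 3 + 1 = 4 * (q + 1) by ring, pow_mul, hc, one_pow]
  have hxo : (orderOf x).Coprime (4 * q + 3) := by
    refine Nat.Coprime.coprime_dvd_left (orderOf_dvd_of_pow_eq_one (n := r * 4) ?_)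
      (Nat.Coprime.mul_left ((Nat.coprime_primes hr hp).2 hrp) ?_)
    · refine Units.ext ?_
      rw [Units.val_pow_eq_pow_val, pow_mul, hxz', _root_.smul_pow, one_pow, hzz, one_smul, Units.val_one]
    · rw [show 4 = 2 ^ 2 by norm_num]
      exact Nat.Coprime.pow_left _ ((Nat.coprime_primes Nat.prime_two hp).2 (by omega))
  -- a conjugate in the normaliser which is unitary
  have hfinish : ∀ W : GL (Fin 4) F, W ∈ Subgroup.normalizer (R : Set (GL (Fin 4) F)) →
      adj σ (W : Matrix (Fin 4) (Fin 4) F) * W = 1 → IsConj x W →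
      ∃ g ∈ Cfsg.GU 4 F (4 * q + 3) ⊓ Cfsg.Geo.specialLinear (Fin 4) F,
        g⁻¹ * x * g ∈ Cfsg.Geo.subgroupNormalizer R := by
    intro W hWN hWU hc
    have hW : W ∈ Cfsg.GU 4 F (4 * q + 3) := (mem_GU_iff_adj hK).2 hWU
    obtain ⟨g₀, hg₀⟩ := isConj_iff.1 ((isConj_iff_GL hK ⟨x, hx.1⟩ ⟨W, hW⟩).2 hc)
    have hg₀' : (g₀ : GL (Fin 4) F) * x * (g₀ : GL (Fin 4) F)⁻¹ = W := congrArg Subtype.val hg₀
    obtain ⟨c, hc'⟩ := CfsgLib.Geo.USemi.exists_div_eq hK (u := Matrix.GeneralLinearGroup.det (g₀ : GL (Fin 4) F))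
      (CfsgLib.Unitary.det_GU hK g₀.2)
    obtain ⟨T, hT, hTx, hTd⟩ := CfsgLib.Geo.USemi.exists_commute_det_GU (4 * q + 3) hK (by norm_num) hx.1 hxo c.ne_zero
    refine ⟨T * (g₀ : GL (Fin 4) F)⁻¹, Subgroup.mem_inf.2 ⟨mul_mem hT (inv_mem g₀.2), ?_⟩, ?_⟩
    · refine MonoidHom.mem_ker.2 ?_
      rw [map_mul, map_inv, mul_inv_eq_one]
      exact Units.ext (by rw [Matrix.GeneralLinearGroup.val_det_apply, hTd, hc'])
    · have h1 : (T * (g₀ : GL (Fin 4) F)⁻¹)⁻¹ * x * (T * (g₀ : GL (Fin 4) F)⁻¹) = W := by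
        calc (T * (g₀ : GL (Fin 4) F)⁻¹)⁻¹ * x * (T * (g₀ : GL (Fin 4) F)⁻¹)
            = (g₀ : GL (Fin 4) F) * (T⁻¹ * (x * T)) * (g₀ : GL (Fin 4) F)⁻¹ := by group
          _ = W := by rw [← hTx, inv_mul_cancel_left, hg₀']
      rw [h1]; exact hWN
  have hconjsc : ∀ (W : GL (Fin 4) F) (c : F), IsConj x W →
      adj σ (W : Matrix (Fin 4) (Fin 4) F) * W = c • 1 → (x : Matrix (Fin 4) (Fin 4) F).trace ≠ 0 → c = 1 := by
    intro W c hc hW htr
    obtain ⟨g, hg⟩ := isConj_iff.1 hc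
    have htrc : ∀ v w : GL (Fin 4) F, ((g * v * g⁻¹ : GL (Fin 4) F) : Matrix (Fin 4) (Fin 4) F) = w →
        (w : Matrix (Fin 4) (Fin 4) F).trace = (v : Matrix (Fin 4) (Fin 4) F).trace := fun v w e => by
      rw [← e, Units.val_mul, Units.val_mul, Matrix.trace_mul_cycle, Units.inv_mul, one_mul]
    have hadjv : ∀ (v : GL (Fin 4) F) (d : F), adj σ (v : Matrix (Fin 4) (Fin 4) F) * v = d • 1 →
        σ (v : Matrix (Fin 4) (Fin 4) F).trace = d * ((v⁻¹ : GL (Fin 4) F) : Matrix (Fin 4) (Fin 4) F).trace := by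
      intro v d e
      have h1 : adj σ (v : Matrix (Fin 4) (Fin 4) F) = d • ((v⁻¹ : GL (Fin 4) F) : Matrix (Fin 4) (Fin 4) F) := by
        calc adj σ (v : Matrix (Fin 4) (Fin 4) F)
            = adj σ (v : Matrix (Fin 4) (Fin 4) F) * v * ((v⁻¹ : GL (Fin 4) F) : Matrix (Fin 4) (Fin 4) F) :=
              (Units.mul_inv_cancel_right _ _).symm
          _ = _ := by rw [e, smul_mul_assoc, one_mul]
      rw [← smul_eq_mul, ← Matrix.trace_smul, ← h1, adj, Matrix.trace_transpose]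
      simp [Matrix.trace, map_sum]
    have e1 := hadjv x 1 (by rw [one_smul]; exact hadj hx.1)
    have e2 := hadjv W c hW
    rw [htrc x W (by rw [hg]), htrc x⁻¹ W⁻¹ (by rw [← hg]; congr 1; group), e1, one_mul] at e2
    refine mul_right_cancel₀ (fun e0 => htr ?_) (e2.symm.trans (one_mul _).symm)
    have : σ (x : Matrix (Fin 4) (Fin 4) F).trace = 0 := by rw [e1, e0, mul_zero]
    exact (map_eq_zero σ).1 this
  rcases hrhs with rfl | hr35
  · -- involutions
    obtain ⟨μ, hμ'⟩ : IsSquare z := by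
      refine (FiniteField.isSquare_iff ?_ ?_).2 ?_
      · rw [ringChar.eq F (4 * q + 3)]; omega
      · intro e; rw [e] at hzz; simp at hzz
      · rw [hF, show (4 * q + 3) ^ 2 / 2 = 4 * (2 * q * q + 3 * q + 1) by ring_nf; omega, pow_mul, hzz, one_pow]
    have hμ : μ ^ 2 = z := by rw [pow_two, hμ']
    have hμ0 : μ ≠ 0 := fun e => by
      rw [← hμ, e] at hzz; simp at hzz
    set gl := μ⁻¹ • Matrix.toLin' (x : Matrix (Fin 4) (Fin 4) F) with hgl
    have hgg : gl * gl = 1 := by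
      rw [hgl, smul_mul_smul_comm,
        show Matrix.toLin' (x : Matrix (Fin 4) (Fin 4) F) * Matrix.toLin' (x : Matrix (Fin 4) (Fin 4) F) =
          Matrix.toLinAlgEquiv' ((x : Matrix (Fin 4) (Fin 4) F) ^ 2) by
            rw [pow_two]; exact (map_mul Matrix.toLinAlgEquiv' _ _).symm,
        hxz', map_smul, map_one, smul_smul, ← hμ, show μ⁻¹ * μ⁻¹ * μ ^ 2 = 1 by field_simp, one_smul]
    obtain ⟨b, s, hb⟩ := exists_sign_basis (g := gl) (Module.finrank_fin_fun F) hgg h2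
    have hxb : ∀ j, Matrix.mulVec (x : Matrix (Fin 4) (Fin 4) F) (b j) = (μ * s j) • b j := fun j => by
      have h1 := congrArg (μ • ·) (hb j).2
      simp only [hgl, LinearMap.smul_apply, smul_smul, mul_inv_cancel₀ hμ0, one_smul, Matrix.toLin'_apply] at h1
      exact h1
    have hpatt : ∃ (σ₀ : Equiv.Perm (Fin 4)) (ε : F), (∀ j, μ * s (σ₀ j) = (μ * ε) * (![1, 1, 1, -1] : Fin 4 → F) j) ∨
        (∀ j, μ * s (σ₀ j) = (μ * ε) * (![1, 1, -1, -1] : Fin 4 → F) j) := by
      rcases sign_normal s (fun j => (hb j).1) with hconst | ⟨σ₀, ε, h | h⟩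
      · exfalso
        refine hns (μ * s 0) (Matrix.toLin'.injective (b.ext fun j => ?_))
        rw [Matrix.toLin'_apply, hxb, hconst j, Matrix.toLin'_apply, Matrix.smul_mulVec, Matrix.one_mulVec]
      · exact ⟨σ₀, ε, Or.inl fun j => by rw [h j, mul_assoc]⟩
      · exact ⟨σ₀, ε, Or.inr fun j => by rw [h j, mul_assoc]⟩
    obtain ⟨σ₀, ε, hpatt⟩ := hpatt
    let Bm : Matrix (Fin 4) (Fin 4) F := (Pi.basisFun F (Fin 4)).toMatrix (b.reindex σ₀.symm)
    have hBm : Bm.det ≠ 0 := by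
      intro e
      have h1 := congrArg Matrix.det ((Pi.basisFun F (Fin 4)).toMatrix_mul_toMatrix_flip (b.reindex σ₀.symm))
      rw [Matrix.det_mul, e, zero_mul, Matrix.det_one] at h1
      exact zero_ne_one h1
    let g : GL (Fin 4) F := Matrix.GeneralLinearGroup.mkOfDetNeZero Bm hBm
    have hxB : (x : Matrix (Fin 4) (Fin 4) F) * Bm = Bm * Matrix.diagonal (fun j => μ * s (σ₀ j)) := by
      ext l j
      have h1 := congrFun (hxb (σ₀ j)) l
      rw [Matrix.mul_diagonal]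
      simp only [Bm, Module.Basis.toMatrix_apply, Matrix.mul_apply, Pi.basisFun_repr, Module.Basis.reindex_apply,
        Equiv.symm_symm]
      rw [show (∑ k, (x : Matrix (Fin 4) (Fin 4) F) l k * b (σ₀ j) k) = Matrix.mulVec (x : Matrix (Fin 4) (Fin 4) F) (b (σ₀ j)) l
        from rfl, h1, Pi.smul_apply, smul_eq_mul]
      ring
    have hgx : ((g⁻¹ * x * g : GL (Fin 4) F) : Matrix (Fin 4) (Fin 4) F) = Matrix.diagonal (fun j => μ * s (σ₀ j)) := by
      rw [Units.val_mul, Units.val_mul, mul_assoc, show (x : Matrix (Fin 4) (Fin 4) F) * (g : Matrix (Fin 4) (Fin 4) F) =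
        (g : Matrix (Fin 4) (Fin 4) F) * Matrix.diagonal (fun j => μ * s (σ₀ j)) from hxB, ← mul_assoc, Units.inv_mul, one_mul]
    set T := g⁻¹ * x * g with hT
    have hxW : IsConj x (P * T * P⁻¹) := isConj_iff.2 ⟨P * g⁻¹, by rw [hT]; group⟩
    rcases hpatt with h | h
    · have hTN : T ∈ Subgroup.normalizer
          ((R.map (MulAut.conj P⁻¹).toMonoidHom : Subgroup (GL (Fin 4) F)) : Set (GL (Fin 4) F)) :=
        hStd.refl_mem _ (s := μ * ε) (by
          rw [hgx, Pauli.refl, ← Matrix.diagonal_smul]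
          congr 1; funext j; exact h j)
      have hWN := Pauli.conj_mem_normalizer hTN
      obtain ⟨c, -, hc⟩ := Pauli.Sym.adj_mul_self hK hS hRU hWN
      have hμε : μ * ε ≠ 0 := fun e => by
        have := h 0
        rw [e, zero_mul] at this
        exact mul_ne_zero hμ0 (fun e' => by have := (hb (σ₀ 0)).1; rw [e'] at this; simp at this) this
      refine hfinish _ hWN ?_ hxW
      rw [hc, hconjsc _ c hxW hc ?_, one_smul]
      have h1 : (T : Matrix (Fin 4) (Fin 4) F).trace = (x : Matrix (Fin 4) (Fin 4) F).trace := by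
        rw [hT, Units.val_mul, Units.val_mul, Matrix.trace_mul_cycle, Units.mul_inv, one_mul]
      rw [← h1, hgx, Matrix.trace_diagonal, Fin.sum_univ_four, h 0, h 1, h 2, h 3]
      simp
      intro e
      exact mul_ne_zero h2 hμε (by linear_combination e)
    · have hTN : T ∈ Subgroup.normalizer
          ((R.map (MulAut.conj P⁻¹).toMonoidHom : Subgroup (GL (Fin 4) F)) : Set (GL (Fin 4) F)) :=
        hStd.a₁_mem _ (s := μ * ε) (by
          rw [hgx, Pauli.A₁, ← Matrix.diagonal_smul]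
          congr 1; funext j; exact h j)
      refine hfinish _ (Pauli.conj_mem_normalizer hTN) ?_ hxW
      have h4 : (μ * ε) ^ 4 = 1 := by
        have h1 : (T : Matrix (Fin 4) (Fin 4) F).det = 1 := by
          rw [hT, Units.val_mul, Units.val_mul, Matrix.det_units_conj', hdet hx]
        rw [hgx, Matrix.det_diagonal, Fin.prod_univ_four, h 0, h 1, h 2, h 3] at h1
        simp at h1
        linear_combination h1
      obtain ⟨a, ha, haA⟩ := hStd.a₁
      obtain ⟨w, hw, hwa⟩ := Subgroup.mem_map.1 ha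
      have hW : ((P * T * P⁻¹ : GL (Fin 4) F) : Matrix (Fin 4) (Fin 4) F) =
          (μ * ε) • (w : Matrix (Fin 4) (Fin 4) F) := by
        have h2' : (T : Matrix (Fin 4) (Fin 4) F) = (μ * ε) • (a : Matrix (Fin 4) (Fin 4) F) := by
          rw [haA, hgx, Pauli.A₁, ← Matrix.diagonal_smul]
          congr 1; funext j; exact h j
        rw [Units.val_mul, Units.val_mul, h2', mul_smul_comm, smul_mul_assoc, ← Units.val_mul, ← Units.val_mul,
          ← hwa]
        congr 2
        simp [mul_assoc]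
      rw [hW, adj_smul, smul_mul_smul_comm, hadj (hRU hw), hnorm _ h4, one_smul]
  · -- odd order
    have hr35' : r = 3 ∨ r = 5 := hr35.imp And.left And.left
    have hord : orderOf (((r - 1) * (4 * q + 3) : ℕ) : ZMod r) = r - 1 := by
      rcases hr35 with ⟨rfl, h⟩ | ⟨rfl, h⟩
      · rw [← ZMod.natCast_mod _ 3, show (3 - 1) * (4 * q + 3) % 3 = 2 by omega]
        exact orderOf_two_three
      · haveI : Fact (Nat.Prime 2) := ⟨Nat.prime_two⟩
        have h4 := h ▸ pow_orderOf_eq_one ((4 * q + 3 : ℕ) : ZMod 5)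
        obtain ⟨ha, hb⟩ := orderOf_neg_five _
          (pow_ne_one_of_lt_orderOf (by norm_num) (by rw [h]; norm_num)) h4
        rw [Nat.cast_mul]
        exact orderOf_eq_prime_pow (p := 2) (n := 1) (by simpa using ha) (by simpa using hb)
    obtain ⟨μ, hμ, hμ4⟩ : ∃ μ : F, μ ^ r = z ∧ μ ^ 4 = 1 := by
      rcases hr35' with rfl | rfl
      · exact ⟨z ^ 3, by rw [← pow_mul, show 3 * 3 = 4 * 2 + 1 by norm_num, pow_succ, pow_mul, hzz, one_pow, one_mul],
          by rw [← pow_mul, mul_comm, pow_mul, hzz, one_pow]⟩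
      · exact ⟨z, by rw [pow_succ, hzz, one_mul], hzz⟩
    have hμ0 : μ ≠ 0 := fun e => by rw [e] at hμ4; simp at hμ4
    let y : GL (Fin 4) F := Matrix.GeneralLinearGroup.mkOfDetNeZero (μ⁻¹ • (x : Matrix (Fin 4) (Fin 4) F))
      (by rw [Matrix.det_smul, hdet hx, mul_one]; exact pow_ne_zero _ (inv_ne_zero hμ0))
    have hyv : (y : Matrix (Fin 4) (Fin 4) F) = μ⁻¹ • (x : Matrix (Fin 4) (Fin 4) F) := rfl
    have hyU : y ∈ Cfsg.GU 4 F (4 * q + 3) := (mem_GU_iff_adj hK).2 (by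
      rw [hyv, adj_smul, smul_mul_smul_comm, hadj hx.1, hnorm μ⁻¹ (by rw [inv_pow, hμ4, inv_one]), one_smul])
    have hy : y ^ r = 1 := Units.ext (by
      rw [Units.val_pow_eq_pow_val, hyv, _root_.smul_pow, hxz', smul_smul, ← hμ, ← mul_pow,
        inv_mul_cancel₀ hμ0, one_pow, one_smul, Units.val_one])
    have hy1 : y ≠ 1 := fun e => hns μ (by
      have h1 := congrArg (fun u : GL (Fin 4) F => μ • (u : Matrix (Fin 4) (Fin 4) F)) e
      simp only [hyv, smul_smul, mul_inv_cancel₀ hμ0, one_smul, Units.val_one] at h1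
      exact h1)
    -- roots of degree five
    have hroot5 : r = 5 → ∀ a : F, ∃ c : F, c ^ 5 = a := by
      rintro rfl a
      refine exists_root_of_order ?_ a
      rw [hF, Nat.cast_pow]
      intro e1
      rw [orderOf_eq_one_iff] at e1
      rcases hr35 with ⟨h, -⟩ | ⟨-, h⟩
      · omega
      · exact pow_ne_one_of_lt_orderOf (by norm_num) (by rw [h]; norm_num) e1
    obtain ⟨T, hTN, hT, hT1, hT3⟩ : ∃ T : GL (Fin 4) F,
        (∀ (w : GL (Fin 4) F) (c : F), (w : Matrix (Fin 4) (Fin 4) F) = c • (T : Matrix (Fin 4) (Fin 4) F) →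
          w ∈ Subgroup.normalizer
            ((R.map (MulAut.conj P⁻¹).toMonoidHom : Subgroup (GL (Fin 4) F)) : Set (GL (Fin 4) F))) ∧
        T ^ r = 1 ∧ (∀ c : F, (T : Matrix (Fin 4) (Fin 4) F) ≠ c • 1) ∧ (r = 3 → (T : Matrix (Fin 4) (Fin 4) F).det = 1 ∧ (((y : Matrix (Fin 4) (Fin 4) F) - 1).det = 0 ↔
          ((T : Matrix (Fin 4) (Fin 4) F) - 1).det = 0)) := by
      have hmkT : ∀ (N : Matrix (Fin 4) (Fin 4) F) (s : F), (s • N) ^ r = 1 →
          ∃ T : GL (Fin 4) F, (T : Matrix (Fin 4) (Fin 4) F) = s • N ∧ T ^ r = 1 := fun N s h => by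
        have hd : (s • N).det ≠ 0 := fun e => by
          have := congrArg Matrix.det h
          rw [Matrix.det_pow, e, zero_pow hr.ne_zero, Matrix.det_one] at this
          exact zero_ne_one this
        exact ⟨Matrix.GeneralLinearGroup.mkOfDetNeZero _ hd, rfl, Units.ext (by
          rw [Units.val_pow_eq_pow_val]; exact h)⟩
      rcases hr35 with ⟨rfl, -⟩ | ⟨rfl, -⟩
      · have h3 : (3 : F) ≠ 0 := by exact_mod_cast hrF
        have h8 : ((2 : F)⁻¹) ^ 3 * 8 = 1 := by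
          rw [show (8 : F) = 2 ^ 3 by norm_num, ← mul_pow, inv_mul_cancel₀ h2, one_pow]
        have h16 : ((2 : F)⁻¹) ^ 4 * 16 = 1 := by
          rw [show (16 : F) = 2 ^ 4 by norm_num, ← mul_pow, inv_mul_cancel₀ h2, one_pow]
        by_cases hfix : ((y : Matrix (Fin 4) (Fin 4) F) - 1).det = 0
        · obtain ⟨T, hT, hT'⟩ := hmkT (Pauli.N₂ i) (2 : F)⁻¹ (by
            rw [_root_.smul_pow, Pauli.N₂_cube hi, smul_smul, h8, one_smul])
          refine ⟨T, fun w c hw => hStd.n₂_mem w (s := c * (2 : F)⁻¹) (by rw [hw, hT, smul_smul]), hT',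
            fun c e => ?_, fun _ => ⟨?_, iff_of_true hfix ?_⟩⟩
          · have h1 := congrFun (congrFun e 1) 0
            simp [hT, Pauli.N₂, h2] at h1
          · rw [hT, Matrix.det_smul, Fintype.card_fin, N₂_det_eq hi, h16]
          · refine Matrix.exists_mulVec_eq_zero_iff.1 ⟨![2, -1 - i, -1 - i, -2 * i], fun e => h2 ?_, ?_⟩
            · simpa using congrFun e 0
            · rw [Matrix.sub_mulVec, hT, Matrix.smul_mulVec, Pauli.N₂_fix hi, smul_smul, inv_mul_cancel₀ h2,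
                one_smul, Matrix.one_mulVec, sub_self]
        · obtain ⟨T, hT, hT'⟩ := hmkT (Pauli.N₁ i) (2 : F)⁻¹ (by
            rw [_root_.smul_pow, Pauli.N₁_cube hi, smul_smul, h8, one_smul])
          have hne : ((T : Matrix (Fin 4) (Fin 4) F) - 1).det ≠ 0 := by
            rw [hT, show (2 : F)⁻¹ • Pauli.N₁ i - 1 = (2 : F)⁻¹ • (Pauli.N₁ i - (2 : F) • 1) by
              rw [smul_sub, smul_smul, inv_mul_cancel₀ h2, one_smul], Matrix.det_smul, Pauli.N₁_det hi]
            refine mul_ne_zero (pow_ne_zero _ (inv_ne_zero h2)) ?_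
            rw [show (144 : F) = 2 ^ 4 * 3 ^ 2 by norm_num]
            exact mul_ne_zero (pow_ne_zero _ h2) (pow_ne_zero _ h3)
          refine ⟨T, fun w c hw => hStd.n₁_mem w (s := c * (2 : F)⁻¹) (by rw [hw, hT, smul_smul]), hT',
            fun c e => ?_, fun _ => ⟨?_, iff_of_false hfix hne⟩⟩
          · have h1 := congrFun (congrFun e 1) 0
            simp [hT, Pauli.N₁, h2] at h1
            exact h2 (by linear_combination (1 + i) * h1 + hi)
          · rw [hT, Matrix.det_smul, Fintype.card_fin, N₁_det_eq hi, h16]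
      · obtain ⟨c, hc⟩ := hroot5 rfl (-4 - 4 * i)
        have hs0 : (-4 - 4 * i : F) ≠ 0 := fun e => by
          have h4 : (4 : F) ≠ 0 := by
            rw [show (4 : F) = 2 * 2 by norm_num]; exact mul_ne_zero h2 h2
          have h1i : (1 : F) + i = 0 := (mul_eq_zero.1 (show (4 : F) * (1 + i) = 0 by linear_combination -e)).resolve_left h4
          exact h2 (by linear_combination hi + (1 - i) * h1i)
        have hc0 : c ≠ 0 := fun e => hs0 (by rw [← hc, e, zero_pow (by norm_num)])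
        obtain ⟨T, hT, hT'⟩ := hmkT (Pauli.Y₅ i) c⁻¹ (by
          rw [_root_.smul_pow, Pauli.Y₅_pow hi, smul_smul, ← hc, ← mul_pow, inv_mul_cancel₀ hc0, one_pow, one_smul])
        refine ⟨T, fun w d hw => hStd.y₅_mem w (s := d * c⁻¹) (by rw [hw, hT, smul_smul]), hT',
          fun d e => ?_, fun h => absurd h (by norm_num)⟩
        have h1 := congrFun (congrFun e 1) 0
        simp [hT, Pauli.Y₅, hc0] at h1
    have hcop : ∀ u : GL (Fin 4) F, u ^ r = 1 → (orderOf u).Coprime (4 * q + 3) := fun u hu =>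
      Nat.Coprime.coprime_dvd_left (orderOf_dvd_of_pow_eq_one hu) ((Nat.coprime_primes hr hp).2 hrp)
    have hTN' := hTN T 1 (one_smul _ _).symm
    have hWN := Pauli.conj_mem_normalizer hTN'
    set W := P * T * P⁻¹ with hWdef
    obtain ⟨c, hc0, hc⟩ := Pauli.Sym.adj_mul_self hK hS hRU hWN
    have hWr : W ^ r = 1 := by rw [hWdef, conj_pow, hT, mul_one, mul_inv_cancel]
    have hcr : c ^ r = 1 := by
      have hk : ∀ k : ℕ, adj σ ((W : Matrix (Fin 4) (Fin 4) F) ^ k) * (W : Matrix (Fin 4) (Fin 4) F) ^ k =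
          c ^ k • 1 := fun k => by
        induction k with
        | zero => simp [adj_one]
        | succ k ih =>
          rw [pow_succ, adj_mul, mul_assoc, ← mul_assoc (adj σ ((W : Matrix (Fin 4) (Fin 4) F) ^ k)), ih,
            smul_mul_assoc, one_mul, mul_smul_comm, hc, smul_smul, pow_succ]
      have h1 := hk r
      rw [← Units.val_pow_eq_pow_val, hWr, Units.val_one, adj_one, one_mul] at h1
      exact hsc1 _ h1.symm
    have hcσ : σ c = c := by
      have h1 := congrArg (adj σ) hc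
      rw [adj_mul, adj_adj (CfsgLib.Forms.frobQ_invol hK), hc, adj_smul, adj_one] at h1
      simpa using (congrFun (congrFun h1 0) 0).symm
    -- the correcting scalar
    obtain ⟨d, hd0, hdr, hdc, hd3⟩ : ∃ d : F, d ≠ 0 ∧ d ^ r = 1 ∧ σ d * d = c ∧ (r = 3 → d = 1) := by
      rcases hr35' with rfl | rfl
      · refine ⟨1, one_ne_zero, one_pow _, ?_, fun _ => rfl⟩
        have hdW : (W : Matrix (Fin 4) (Fin 4) F).det = 1 := by
          rw [hWdef, Units.val_mul, Units.val_mul, Matrix.det_units_conj, (hT3 rfl).1]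
        have h1 := congrArg Matrix.det hc
        rw [Matrix.det_mul, adj, Matrix.det_transpose, ← RingHom.mapMatrix_apply, ← RingHom.map_det, hdW, map_one,
          one_mul, Matrix.det_smul, Matrix.det_one, mul_one, Fintype.card_fin, pow_succ, hcr, one_mul] at h1
        rw [map_one, one_mul, h1]
      · refine ⟨c ^ 3, pow_ne_zero _ hc0, ?_, ?_, fun h => absurd h (by norm_num)⟩
        · rw [← pow_mul, mul_comm, pow_mul, hcr, one_pow]
        · rw [map_pow, hcσ, ← pow_add, show 3 + 3 = 5 + 1 by norm_num, pow_succ, hcr, one_mul]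
    let W' : GL (Fin 4) F := Matrix.GeneralLinearGroup.mkOfDetNeZero (d⁻¹ • (W : Matrix (Fin 4) (Fin 4) F))
      (by rw [Matrix.det_smul]; exact mul_ne_zero (pow_ne_zero _ (inv_ne_zero hd0))
            ((Matrix.isUnit_iff_isUnit_det _).1 W.isUnit).ne_zero)
    have hW' : (W' : Matrix (Fin 4) (Fin 4) F) = d⁻¹ • (W : Matrix (Fin 4) (Fin 4) F) := rfl
    have hW'U : W' ∈ Cfsg.GU 4 F (4 * q + 3) := (mem_GU_iff_adj hK).2 (by
      rw [hW', adj_smul, smul_mul_smul_comm, hc, smul_smul, map_inv₀, ← mul_inv, hdc, inv_mul_cancel₀ hc0, one_smul])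
    have hW'r : W' ^ r = 1 := Units.ext (by
      rw [Units.val_pow_eq_pow_val, hW', _root_.smul_pow, ← Units.val_pow_eq_pow_val, hWr, Units.val_one,
        inv_pow, hdr, inv_one, one_smul])
    have hW'1 : W' ≠ 1 := fun e => by
      have h1 : (W : Matrix (Fin 4) (Fin 4) F) = d • 1 := by
        rw [← Units.val_one, ← e, hW', smul_smul, mul_inv_cancel₀ hd0, one_smul]
      refine hT1 d ?_
      rw [show T = P⁻¹ * W * P by rw [hWdef]; group, Units.val_mul, Units.val_mul, h1, mul_smul_comm, mul_one,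
        smul_mul_assoc, Units.inv_mul]
    obtain ⟨g, hgc⟩ := isConj_iff.1 (CfsgLib.GLClass.isConj_of_charpoly_eq (4 * q + 3) (hcop y hy) (hcop W' hW'r)
      (Pauli.charpoly_eq_of_shift hrp hr35' ((r - 1) * (4 * q + 3)) hord hy hW'r hy1 hW'1
        (Pauli.roots_unitary hK hyU hr.pos hy) (Pauli.roots_unitary hK hW'U hr.pos hW'r) (fun h => by
          rw [(hT3 h).2]
          have h1 : (W' : Matrix (Fin 4) (Fin 4) F) - 1 =
              (P : Matrix (Fin 4) (Fin 4) F) * ((T : Matrix (Fin 4) (Fin 4) F) - 1) *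
                ((P⁻¹ : GL (Fin 4) F) : Matrix (Fin 4) (Fin 4) F) := by
            rw [hW', hd3 h, inv_one, one_smul, hWdef, Units.val_mul, Units.val_mul, Matrix.mul_sub, Matrix.sub_mul,
              Matrix.mul_one, Units.mul_inv]
          rw [h1, Matrix.det_units_conj])))
    let V : GL (Fin 4) F := Matrix.GeneralLinearGroup.mkOfDetNeZero (μ • (W' : Matrix (Fin 4) (Fin 4) F))
      (by rw [Matrix.det_smul]; exact mul_ne_zero (pow_ne_zero _ hμ0)
            ((Matrix.isUnit_iff_isUnit_det _).1 W'.isUnit).ne_zero)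
    have hV : (V : Matrix (Fin 4) (Fin 4) F) = (μ * d⁻¹) • (W : Matrix (Fin 4) (Fin 4) F) := by
      show μ • (W' : Matrix (Fin 4) (Fin 4) F) = _
      rw [hW', smul_smul]
    refine hfinish V ?_ ?_ (isConj_iff.2 ⟨g, ?_⟩)
    · have h1 : P⁻¹ * V * P ∈ Subgroup.normalizer
          ((R.map (MulAut.conj P⁻¹).toMonoidHom : Subgroup (GL (Fin 4) F)) : Set (GL (Fin 4) F)) := by
        refine hTN _ (μ * d⁻¹) ?_
        rw [Units.val_mul, Units.val_mul, hV, mul_smul_comm, smul_mul_assoc, ← Units.val_mul, ← Units.val_mul]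
        congr 2
        rw [hWdef]; group
      have := Pauli.conj_mem_normalizer h1
      rwa [show P * (P⁻¹ * V * P) * P⁻¹ = V by group] at this
    · show adj σ (μ • (W' : Matrix (Fin 4) (Fin 4) F)) * (μ • (W' : Matrix (Fin 4) (Fin 4) F)) = 1
      rw [adj_smul, smul_mul_smul_comm, hadj hW'U, hnorm μ hμ4, one_smul]
    · refine Units.ext ?_
      show _ = μ • (W' : Matrix (Fin 4) (Fin 4) F)
      rw [← hgc, Units.val_mul, Units.val_mul, Units.val_mul, Units.val_mul, hyv, mul_smul_comm, smul_mul_assoc,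
        smul_smul, mul_inv_cancel₀ hμ0, one_smul]

/-- Elements of prime order of PSU_4(p), p ≡ 3 (mod 4), and the normalizer of a 2-group of symplectic type of order 2⁶. Here `T = PSU_4(p)` for a prime `p ≡ 3 (mod 4)`, realised through `SU_4(p)`, the matrices of determinant 1 over the field `F` with `p²` elements preserving the hermitian form `f = Σ uᵢvᵢ^p`; `R` is an absolutely irreducible subgroup of the full unitary group of `f` of order 2⁶ that is a 2-group of symplectic type of exponent 4 with centre of order 4, and `H` is the subgroup of `SU_4(p)` normalizing `R` — a subgroup of type 2⁴.Sp₄(2) (maximality is not assumed). Ω is the set of cosets of `H`, so an element of `T` of prime order `r` (`x ∈ SU_4(p)` with `x^r` scalar, `x` not scalar) fixes a point of Ω exactly when some `SU_4(p)`-conjugate of `x` normalizes `R`. Let `r` be a prime dividing the index of `H`. Then every element of `T` of order `r` fixes a point of Ω if and only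 if `r = 2`, or `r = 3` and `p ≡ 1 (mod 3)`, or `r = 5` and `p ≡ ±2 (mod 5)` (`p` has multiplicative order 4 modulo 5). -/
theorem result {F : Type*} [Field F] [Fintype F] {p : ℕ} [Fact p.Prime] [CharP F p] (hF : Fintype.card F = p ^ 2) (hp4 : p % 4 = 3)
    (R : Subgroup (GL (Fin 4) F)) (hRs : Cfsg.Geo.IsSymplecticTypeGroup 2 R) (hRi : Cfsg.Geo.ActsAbsolutelyIrreducibly (Cfsg.Geo.matrixSet R))
    (hRU : R ≤ Cfsg.GU 4 F p) (hR6 : Nat.card R = 2 ^ 6) (hRZ : Nat.card (Subgroup.center R) = 4)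
    (r : ℕ) [Fact r.Prime]
    (hΩ : r ∣ (Cfsg.Geo.subgroupNormalizer R).relIndex (Cfsg.GU 4 F p ⊓ Cfsg.Geo.specialLinear (Fin 4) F)) :
    (∀ x ∈ Cfsg.GU 4 F p ⊓ Cfsg.Geo.specialLinear (Fin 4) F, (∃ z : F, ((x ^ r : GL (Fin 4) F) : Matrix (Fin 4) (Fin 4) F) = z • (1 : Matrix (Fin 4) (Fin 4) F)) →
      (∀ z : F, (x : Matrix (Fin 4) (Fin 4) F) ≠ z • (1 : Matrix (Fin 4) (Fin 4) F)) →
      ∃ g ∈ Cfsg.GU 4 F p ⊓ Cfsg.Geo.specialLinear (Fin 4) F, g⁻¹ * x * g ∈ Cfsg.Geo.subgroupNormalizer R) ↔ (r = 2 ∨ (r = 3 ∧ p % 3 = 1) ∨ (r = 5 ∧ orderOf (p : ZMod 5) = 4)) := by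
  classical
  have hp := (Fact.out : p.Prime)
  have hr := (Fact.out : r.Prime)
  have hK : Nat.card F = p ^ 2 := by rw [Nat.card_eq_fintype_card, hF]
  set σ := CfsgLib.Forms.frobQ hK with hσdef
  have hσ : ∀ a : F, σ a = a ^ p := fun a => rfl
  obtain ⟨q, rfl⟩ : ∃ q, p = 4 * q + 3 := ⟨p / 4, by omega⟩
  have hcast : ∀ m : ℕ, m.Prime → m ≠ 4 * q + 3 → ((m : ℕ) : F) ≠ 0 := fun m hm hne e =>
    hne ((Nat.prime_dvd_prime_iff_eq hp hm).1 ((CharP.cast_eq_zero_iff F (4 * q + 3) m).1 e)).symm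
  have h2 : (2 : F) ≠ 0 := by exact_mod_cast hcast 2 Nat.prime_two (by omega)
  obtain ⟨i, hi0⟩ : IsSquare (-1 : F) := FiniteField.isSquare_neg_one_iff.2 (by
    rw [hF, Nat.pow_mod]
    have : (4 * q + 3) % 4 = 3 := by omega
    rw [this]; norm_num)
  have hi : i * i = -1 := hi0.symm
  have hip : i ^ (4 * q + 3) = -i := by
    rw [show 4 * q + 3 = 2 * (2 * q + 1) + 1 by ring, pow_succ, pow_mul, pow_two, hi, Odd.neg_one_pow ⟨q, rfl⟩,
      neg_one_mul]
  have hS := Pauli.sym_of_symplectic R h2 hi hRs hRi hR6 hRZ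
  have hdet : ∀ {x : GL (Fin 4) F}, x ∈ Cfsg.GU 4 F (4 * q + 3) ⊓ Cfsg.Geo.specialLinear (Fin 4) F →
      (x : Matrix (Fin 4) (Fin 4) F).det = 1 :=
    fun hx => congrArg Units.val (MonoidHom.mem_ker.1 hx.2)
  have hadj : ∀ {x : GL (Fin 4) F}, x ∈ Cfsg.GU 4 F (4 * q + 3) →
      adj σ (x : Matrix (Fin 4) (Fin 4) F) * x = 1 := fun hx => (mem_GU_iff_adj hK).1 hx
  have hadjsc : ∀ (c : F), adj σ (c • (1 : Matrix (Fin 4) (Fin 4) F)) * (c • 1) = (σ c * c) • 1 := fun c => by
    rw [adj_smul, adj_one, smul_mul_smul_comm, one_mul]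
  have hsc1 : ∀ c : F, c • (1 : Matrix (Fin 4) (Fin 4) F) = 1 → c = 1 := fun c e => by
    simpa using congrFun (congrFun e 0) 0
  have hmk : ∀ (M : Matrix (Fin 4) (Fin 4) F) (_ : adj σ M * M = 1) (_ : M.det = 1),
      ∃ x ∈ Cfsg.GU 4 F (4 * q + 3) ⊓ Cfsg.Geo.specialLinear (Fin 4) F, (x : Matrix (Fin 4) (Fin 4) F) = M :=
    fun M hU hM => ⟨Matrix.GeneralLinearGroup.mkOfDetNeZero M (by rw [hM]; exact one_ne_zero),
      ⟨(mem_GU_iff_adj hK).2 hU, Units.ext hM⟩, rfl⟩
  constructor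
  · intro hall
    by_contra hnot
    simp only [not_or, not_and] at hnot
    obtain ⟨hr2, hn3, hn5⟩ := hnot
    have hbad : ∀ (M : Matrix (Fin 4) (Fin 4) F), adj σ M * M = 1 → M.det = 1 → ∀ z : F, M ^ r = z • 1 → (∀ c : F, M ≠ c • 1) →
        (r = 3 ∨ r = 5) ∧ ∀ (W : Type) [Fintype W] [DecidableEq W] (φ : (W → F) →ₗ[F] Matrix (Fin 4) (Fin 4) F),
          Function.Injective φ → (∀ w, M * φ w = φ w * M) → Fintype.card W ≤ (if r = 3 then 8 else 4) := by
      intro M hU hM z hz hns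
      obtain ⟨x, hx, rfl⟩ := hmk M hU hM
      obtain ⟨g, -, hg⟩ := hall x hx ⟨z, by rw [Units.val_pow_eq_pow_val]; exact hz⟩ hns
      have hxr : (((g⁻¹ * x * g) ^ r : GL (Fin 4) F) : Matrix (Fin 4) (Fin 4) F) = z • 1 := by
        have h1 : ((x ^ r : GL (Fin 4) F) : Matrix (Fin 4) (Fin 4) F) = z • 1 := by
          rw [Units.val_pow_eq_pow_val]; exact hz
        rw [show g⁻¹ * x * g = g⁻¹ * x * g⁻¹⁻¹ by rw [inv_inv], conj_pow, mul_assoc,
          Pauli.scalar_of_smul_mul h1, ← mul_assoc, mul_inv_cancel, one_mul]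
        exact h1
      have hns' : ∀ c : F, ((g⁻¹ * x * g : GL (Fin 4) F) : Matrix (Fin 4) (Fin 4) F) ≠ c • 1 := fun c hc => by
        refine hns c ?_
        have h1 : x = g * (g⁻¹ * x * g) * g⁻¹ := by group
        rw [h1, Units.val_mul, Units.val_mul, hc, mul_smul_comm, smul_mul_assoc, mul_one, Units.mul_inv]
      obtain ⟨h35, hb⟩ := hS.centraliser_bound hg hr hr2 hxr hns'
      refine ⟨h35, fun W _ _ φ hφ hc => ?_⟩
      let φ' : (W → F) →ₗ[F] Matrix (Fin 4) (Fin 4) F :=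
        { toFun := fun w => ((g⁻¹ : GL (Fin 4) F) : Matrix (Fin 4) (Fin 4) F) * φ w * (g : Matrix (Fin 4) (Fin 4) F)
          map_add' := fun a b => by rw [map_add, Matrix.mul_add, Matrix.add_mul]
          map_smul' := fun c a => by rw [map_smul, Matrix.mul_smul, Matrix.smul_mul]; rfl }
      refine hb W φ' (fun a b e => hφ ?_) fun w => ?_
      · have h1 := congrArg (fun X => (g : Matrix (Fin 4) (Fin 4) F) * X * ((g⁻¹ : GL (Fin 4) F) : Matrix (Fin 4) (Fin 4) F)) e
        simpa [φ', mul_assoc] using h1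
      · show _ * (_ * φ w * _) = _ * φ w * _ * _
        simp only [Units.val_mul, mul_assoc, Units.mul_inv_cancel_left]
        rw [← mul_assoc (x : Matrix (Fin 4) (Fin 4) F), hc w, mul_assoc]
    have h35 : r = 3 ∨ r = 5 := by
      have hdvd : r ∣ Nat.card (Cfsg.GU 4 F (4 * q + 3) ⊓ Cfsg.Geo.specialLinear (Fin 4) F : Subgroup (GL (Fin 4) F)) := hΩ.trans (Subgroup.relIndex_dvd_card _ _)
      obtain ⟨⟨x, hx⟩, hxo⟩ := exists_prime_orderOf_dvd_card' r hdvd
      rw [Subgroup.orderOf_mk] at hxo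
      have hxr : (x : Matrix (Fin 4) (Fin 4) F) ^ r = 1 := by
        rw [← Units.val_pow_eq_pow_val, ← hxo, pow_orderOf_eq_one, Units.val_one]
      refine (hbad _ (hadj hx.1) (hdet hx) 1 (by rw [hxr, one_smul]) fun c hc => ?_).1
      have hc4 : c ^ 4 = 1 := by
        have := hdet hx
        rwa [hc, Matrix.det_smul, Matrix.det_one, mul_one, Fintype.card_fin] at this
      have hcr : c ^ r = 1 := by
        rw [hc, _root_.smul_pow, one_pow] at hxr
        simpa using congrFun (congrFun hxr 0) 0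
      have hcop : Nat.gcd 4 r = 1 := by
        show Nat.Coprime 4 r
        rw [show 4 = 2 ^ 2 by norm_num]
        exact Nat.Coprime.pow_left _ ((Nat.coprime_primes Nat.prime_two hr).2 (Ne.symm hr2))
      have hc1 : c = 1 := by
        have := pow_gcd_eq_one (a := c) (m := 4) (n := r) |>.2 ⟨hc4, hcr⟩
        rwa [hcop, pow_one] at this
      rw [hc1, one_smul] at hc
      have : x = 1 := Units.ext hc
      rw [this, orderOf_one] at hxo
      exact hr.one_lt.ne hxo
    -- a diagonal element with a large centraliser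
    have hdiag : r ∣ 4 * q + 3 + 1 → ∃ M : Matrix (Fin 4) (Fin 4) F, adj σ M * M = 1 ∧ M.det = 1 ∧
        M ^ r = (1 : F) • 1 ∧ (∀ c : F, M ≠ c • 1) ∧ ∃ φ : (Fin 3 × Fin 3 → F) →ₗ[F] Matrix (Fin 4) (Fin 4) F,
          Function.Injective φ ∧ ∀ w, M * φ w = φ w * M := by
      intro hrq
      obtain ⟨u, hu⟩ := exists_prime_orderOf_dvd_card' (G := Fˣ) r
        (by rw [CfsgLib.Forms.card_units_eq hK]; exact Dvd.dvd.mul_right hrq _)
      refine exists_diagonal σ h35 (IsPrimitiveRoot.coe_units_iff.2 (hu ▸ IsPrimitiveRoot.orderOf u)) ?_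
      rw [hσ, ← pow_succ, ← Units.val_pow_eq_pow_val]
      obtain ⟨k, hk⟩ := hrq
      rw [hk, pow_mul, ← hu, pow_orderOf_eq_one, one_pow, Units.val_one]
    rcases h35 with rfl | rfl
    · rcases (show (4 * q + 3) % 3 = 0 ∨ (4 * q + 3) % 3 = 2 by have := hn3 rfl; omega) with h | h
      · -- a transvection
        have hq0 : q = 0 := by
          have := (Nat.prime_dvd_prime_iff_eq Nat.prime_three hp).1 (Nat.dvd_of_mod_eq_zero h)
          omega
        subst hq0
        have hF3 : (3 : F) = 0 := by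
          have := (CharP.cast_eq_zero_iff F (4 * 0 + 3) 3).2 dvd_rfl
          simpa using this
        obtain ⟨M, h0, h1, h1', h1'', φ, hφ, hc⟩ := exists_transvection σ hi (by rw [hσ, hip]) hF3
        have := (hbad M h0 h1 1 h1' h1'').2 _ φ hφ hc
        simp at this
      · obtain ⟨M, h0, h1, h1', h1'', φ, hφ, hc⟩ := hdiag (by omega)
        have := (hbad M h0 h1 1 h1' h1'').2 _ φ hφ hc
        simp at this
    · have hne4 : orderOf ((4 * q + 3 : ℕ) : ZMod 5) ≠ 4 := hn5 rfl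
      have hcases : (4 * q + 3) % 5 = 1 ∨ (4 * q + 3) % 5 = 4 := by
        have h1 : ((4 * q + 3 : ℕ) : ZMod 5) = (((4 * q + 3) % 5 : ℕ) : ZMod 5) := (ZMod.natCast_mod _ 5).symm
        rw [h1] at hne4
        rcases (show (4 * q + 3) % 5 = 0 ∨ (4 * q + 3) % 5 = 1 ∨ (4 * q + 3) % 5 = 2 ∨ (4 * q + 3) % 5 = 3 ∨
          (4 * q + 3) % 5 = 4 by omega) with h | h | h | h | h
        · have := (Nat.prime_dvd_prime_iff_eq (by norm_num) hp).1 (Nat.dvd_of_mod_eq_zero h)
          omega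
        · exact Or.inl h
        · rw [h] at hne4; exact absurd orderOf_two_five hne4
        · rw [h] at hne4; exact absurd orderOf_three_five hne4
        · exact Or.inr h
      rcases hcases with h | h
      · obtain ⟨u', hu'⟩ := exists_prime_orderOf_dvd_card' (G := Fˣ) 5 (by
          rw [CfsgLib.Forms.card_units_eq hK]; exact Dvd.dvd.mul_left (by omega) _)
        set u : F := (u' : F) with hu
        have hζ : IsPrimitiveRoot u 5 := IsPrimitiveRoot.coe_units_iff.2 (hu' ▸ IsPrimitiveRoot.orderOf u')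
        have hu5 : u ^ 5 = 1 := hζ.pow_eq_one
        have hsum : 1 + u + u ^ 2 + u ^ 3 + u ^ 4 = 0 := by
          have := hζ.geom_sum_eq_zero (by norm_num)
          simpa [Finset.sum_range_succ] using this
        set c := (u + u ^ 4) / 2 with hc
        have hup : u ^ (4 * q + 3) = u := by
          rw [pow_eq_pow_mod _ hu5, h, pow_one]
        have hcp : c ^ (4 * q + 3) = c := by
          rw [hc, div_pow, CfsgLib.Forms.add_pow_q hK, ← pow_mul, mul_comm 4 (4 * q + 3), pow_mul, hup,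
            show (2 : F) ^ (4 * q + 3) = 2 by
              rw [show (2 : F) = 1 + 1 by norm_num, CfsgLib.Forms.add_pow_q hK, one_pow]]
        obtain ⟨d, hd⟩ := CfsgLib.Unitary.exists_norm_eq hK (μ := 1 - c * c) (by
          rw [← hσ, map_sub, map_one, map_mul, hσ, hcp])
        have h5F : (5 : F) ≠ 0 := by exact_mod_cast hcast 5 (by norm_num) (by omega)
        obtain ⟨M, h0, h1, h1', h1'', φ, hφ, hcm⟩ := exists_rotation σ (c := c) (d := d) h5F
          (by rw [hσ, hcp]) (by rw [hσ, ← pow_succ, hd]) (CfsgLib.Forms.frobQ_invol hK d) (by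
            rw [hc, mul_div_cancel₀ _ h2]
            linear_combination (u ^ 3 + 2) * hu5 + hsum)
        have := (hbad M h0 h1 1 h1' h1'').2 _ φ hφ hcm
        simp at this
      · obtain ⟨M, h0, h1, h1', h1'', φ, hφ, hc⟩ := hdiag (by omega)
        have := (hbad M h0 h1 1 h1' h1'').2 _ φ hφ hc
        simp at this
  · intro hrhs x hx ⟨z, hxz⟩ hns
    exact backward hF hp4 R hRs hRi hRU hR6 hRZ r hrhs x hx z hxz hns

end Cfsg.Agent.S6001
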