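import Cfsg.Statements.S6002
import Cfsg.Agent.Elusive.PauliMinus
import Cfsg.Agent.Elusive.PauliCharpoly
import Cfsg.Agent.S2589

set_option autoImplicit false
set_option linter.unusedSimpArgs false
set_option linter.unnecessarySeqFocus false
set_option linter.style.haveILetI false
set_option maxHeartbeats 1000000
open scoped MatrixGroups
open Cfsg

namespace Cfsg.Agent.S6002

open CfsgLib.Elusive CfsgLib.Elusive.PauliMinus Matrix

variable {F : Type*} [Field F]

theorem square_or : ∀ a : ZMod 5, IsSquare a ∨ (a ^ 4 = 1 ∧ a ^ 2 ≠ 1) := by decide +kernel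

/-- An element acting on one hyperbolic plane with trace `s` and trivially on the other. -/
def wit (s : F) : M4 F :=
  Matrix.fromBlocks !![0, 0; 0, 1] !![-1, 0; 0, 0] !![1, 0; 0, 0] !![s, 0; 0, 1]

theorem exists_wit (s : F) : ∃ x : GL I4 F, x ∈ Cfsg.spGL 2 F ∧ (x : M4 F) = wit s := by
  have h : wit s * Matrix.fromBlocks !![s, 0; 0, 1] !![1, 0; 0, 0] !![-1, 0; 0, 0] !![0, 0; 0, 1] = 1 := by
    ext (i | i) (j | j) <;> fin_cases i <;> fin_cases j <;>
      simp [wit, Matrix.mul_apply, Fintype.sum_sum_type, Fin.sum_univ_two, Matrix.fromBlocks, Matrix.one_apply]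
  refine ⟨⟨wit s, _, h, mul_eq_one_comm.1 h⟩, fun u v => ?_, rfl⟩
  show Cfsg.sympForm 2 F (wit s *ᵥ u) (wit s *ᵥ v) = _
  simp [Cfsg.sympForm, wit, Matrix.mulVec, dotProduct, Fintype.sum_sum_type, Fin.sum_univ_two, Matrix.J,
    Matrix.fromBlocks, Matrix.one_apply]
  ring

theorem wit_mul (s : F) : wit s * wit s = Matrix.fromBlocks !![-1, 0; 0, 1] !![-s, 0; 0, 0] !![s, 0; 0, 0]
    !![s * s - 1, 0; 0, 1] := by
  ext (i | i) (j | j) <;> fin_cases i <;> fin_cases j <;>
    simp [wit, Matrix.mul_apply, Fintype.sum_sum_type, Fin.sum_univ_two, Matrix.fromBlocks] <;> ring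

theorem wit_ne (s : F) (c : F) : wit s ≠ c • 1 := fun h => by
  have := congrFun (congrFun h (Sum.inr 0)) (Sum.inl 0)
  simp [wit] at this

theorem wit_cube : wit (-1 : F) ^ 3 = 1 := by
  rw [pow_succ, pow_two, wit_mul]
  ext (i | i) (j | j) <;> fin_cases i <;> fin_cases j <;>
    simp [wit, Matrix.mul_apply, Fintype.sum_sum_type, Fin.sum_univ_two, Matrix.fromBlocks, Matrix.one_apply]

theorem wit_five {s : F} (hs : s * s + s - 1 = 0) : wit s ^ 5 = 1 := by
  rw [show wit s ^ 5 = (wit s * wit s) * (wit s * wit s) * wit s by simp only [pow_succ, pow_zero, one_mul, mul_assoc],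
    wit_mul]
  ext (i | i) (j | j) <;> fin_cases i <;> fin_cases j <;>
    simp [wit, Matrix.mul_apply, Fintype.sum_sum_type, Fin.sum_univ_two, Matrix.fromBlocks, Matrix.one_apply] <;>
    grind

/-- The witness of order three commutes with no two anticommuting symplectic involutions. -/
theorem wit_three_no_pair (h2 : (2 : F) ≠ 0) {E E' : M4 F} (hE : E * E = 1) (hE' : E' * E' = 1)
    (hf : ∀ u v, Cfsg.sympForm 2 F (E *ᵥ u) (E *ᵥ v) = Cfsg.sympForm 2 F u v)
    (hf' : ∀ u v, Cfsg.sympForm 2 F (E' *ᵥ u) (E' *ᵥ v) = Cfsg.sympForm 2 F u v)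
    (hc : E * wit (-1) = wit (-1) * E) (hc' : E' * wit (-1) = wit (-1) * E') (hanti : E * E' = -(E' * E)) :
    False := by
  obtain ⟨v, hv0, hv⟩ : ∃ v : I4 → F, v ≠ 0 ∧ ∀ X : M4 F, X * X = 1 →
      (∀ u w, Cfsg.sympForm 2 F (X *ᵥ u) (X *ᵥ w) = Cfsg.sympForm 2 F u w) → X * wit (-1) = wit (-1) * X →
      ∃ a : F, X *ᵥ v = a • v := by
    by_cases h3 : (3 : F) = 0
    · refine ⟨Sum.elim ![-1, 0] ![1, 0], fun e => by simpa using congrFun e (Sum.inr 0),
        fun X hX hXf hXc => ⟨X (Sum.inl 0) (Sum.inl 0) + X (Sum.inr 0) (Sum.inl 0), ?_⟩⟩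
      funext k
      have hk := congrFun (congrFun hXc k) (Sum.inl 0)
      rcases k with k | k <;> fin_cases k <;>
        simp [wit, Matrix.mul_apply, Matrix.mulVec, dotProduct, Fintype.sum_sum_type, Fin.sum_univ_two,
          Matrix.fromBlocks] at hk ⊢ <;> grind
    · refine ⟨Pi.single (Sum.inl 0) 1, by simp, fun X hX hXf hXc => ⟨X (Sum.inl 0) (Sum.inl 0), ?_⟩⟩
      have e1 := congrFun (congrFun hXc (Sum.inl 1)) (Sum.inl 0)
      have e2 := congrFun (congrFun hXc (Sum.inl 1)) (Sum.inr 0)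
      have e3 := congrFun (congrFun hXc (Sum.inr 1)) (Sum.inl 0)
      have e4 := congrFun (congrFun hXc (Sum.inr 1)) (Sum.inr 0)
      have e5 := congrFun (congrFun hXc (Sum.inl 0)) (Sum.inl 0)
      have e6 := congrFun (congrFun hXc (Sum.inr 0)) (Sum.inl 0)
      have e7 := congrFun (congrFun hX (Sum.inl 0)) (Sum.inl 0)
      have e8 := congrFun (congrFun hX (Sum.inr 0)) (Sum.inl 0)
      have e9 := hXf (Pi.single (Sum.inl 0) 1) (Pi.single (Sum.inr 0) 1)
      simp [wit, Cfsg.sympForm, Matrix.mul_apply, Matrix.mulVec, dotProduct, Fintype.sum_sum_type,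
        Fin.sum_univ_two, Matrix.fromBlocks, Matrix.J, Matrix.one_apply, Pi.single_apply] at e1 e2 e3 e4 e5 e6 e7 e8 e9
      have z1 : X (Sum.inl 1) (Sum.inl 0) = 0 :=
        (mul_eq_zero.1 (show (3 : F) * X (Sum.inl 1) (Sum.inl 0) = 0 by grind)).resolve_left h3
      have z3 : X (Sum.inr 1) (Sum.inl 0) = 0 :=
        (mul_eq_zero.1 (show (3 : F) * X (Sum.inr 1) (Sum.inl 0) = 0 by grind)).resolve_left h3
      have z : X (Sum.inr 0) (Sum.inl 0) = 0 := by
        by_contra hne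
        have hc2 : X (Sum.inr 0) (Sum.inl 0) = 2 * X (Sum.inl 0) (Sum.inl 0) := by grind
        apply h2
        grind
      funext k
      rcases k with k | k <;> fin_cases k <;> simp [Pi.single_apply, z, z1, z3]
  obtain ⟨a, ha⟩ := hv E hE hf hc
  obtain ⟨a', ha'⟩ := hv E' hE' hf' hc'
  have h1 := congrArg (· *ᵥ v) hanti
  simp only [neg_mulVec, ← mulVec_mulVec, ha, ha', mulVec_smul, smul_smul] at h1
  have h0 : (2 * (a * a')) • v = 0 := by
    rw [mul_smul, two_smul]
    nth_rw 1 [mul_comm a a']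
    rw [h1, neg_add_cancel]
  have ha0 : ∀ (X : M4 F) (b : F), X * X = 1 → X *ᵥ v = b • v → b ≠ 0 := fun X b hX hb e => by
    have := congrArg (X *ᵥ ·) hb
    simp only [mulVec_mulVec, hX, one_mulVec, e, zero_smul, mulVec_zero] at this
    exact hv0 this
  exact mul_ne_zero h2 (mul_ne_zero (ha0 E a hE ha) (ha0 E' a' hE' ha')) ((smul_eq_zero.1 h0).resolve_right hv0)

/-- A symplectic element with scalar square in normal form. -/
theorem exists_basis (h2 : (2 : F) ≠ 0) {x : GL I4 F} (hx : x ∈ Cfsg.spGL 2 F) {z : F}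
    (hz : (x : M4 F) * x = z • 1) (hns : ∀ c : F, (x : M4 F) ≠ c • 1) :
    ∃ b : Module.Basis I4 F (I4 → F),
      (z = 1 ∧ ∀ i, (x : M4 F) *ᵥ b i = (if i = Sum.inl 0 ∨ i = Sum.inr 0 then (1 : F) else -1) • b i) ∨
      (z = -1 ∧ ∀ j : Fin 2, (x : M4 F) *ᵥ b (Sum.inl j) = b (Sum.inr j) ∧
        (x : M4 F) *ᵥ b (Sum.inr j) = -b (Sum.inl j)) := by
  classical
  obtain ⟨u, w, ⟨-, -, -, -, hact⟩, hsp⟩ := exists_planes_symp two_pos h2
    (x := ⟨(x : M4 F), val_mem_symplectic hx⟩) (z := z)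
    (by rw [pow_two, Submonoid.coe_mul]; exact hz)
  let b : Module.Basis I4 F (I4 → F) := basisOfTopLeSpanOfCardEqFinrank (Sum.elim u w)
    (by rw [Set.Sum.elim_range, Submodule.span_union, hsp])
    (by rw [Module.finrank_fintype_fun_eq_card])
  have hb : ∀ i, b i = Sum.elim u w i := fun i => by simp [b]
  rcases hact with ⟨hz1, hs⟩ | ⟨hz1, hs⟩
  · choose s hs2 hsu hsw using hs
    have hu : ∀ j, (x : M4 F) *ᵥ u j = s j • u j := fun j => hsu j
    have hw : ∀ j, (x : M4 F) *ᵥ w j = s j • w j := fun j => hsw j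
    have hne : s 0 ≠ s 1 := fun e => hns (s 0) (by
      refine Matrix.toLin'.injective (b.ext fun i => ?_)
      rw [hb, Matrix.toLin'_apply, Matrix.toLin'_apply, Matrix.smul_mulVec, Matrix.one_mulVec]
      rcases i with j | j <;> fin_cases j <;> simp [hu, hw, e])
    have hsq : ∀ j, s j = 1 ∨ s j = -1 := fun j => mul_self_eq_one_iff.1 (by rw [← pow_two]; exact hs2 j)
    have hone : ∀ τ : Equiv.Perm (Fin 2), s (τ 0) = 1 → s (τ 1) = -1 → ∃ b' : Module.Basis I4 F (I4 → F),
        ∀ i, (x : M4 F) *ᵥ b' i = (if i = Sum.inl 0 ∨ i = Sum.inr 0 then (1 : F) else -1) • b' i := by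
      intro τ h0 h1
      refine ⟨b.reindex (Equiv.sumCongr τ τ).symm, fun i => ?_⟩
      rw [Module.Basis.reindex_apply, hb]
      rcases i with j | j <;> fin_cases j <;> simp [hu, hw, h0, h1]
    rcases hsq 0 with h0 | h0 <;> rcases hsq 1 with h1 | h1
    · exact absurd (h0.trans h1.symm) hne
    · obtain ⟨b', hb'⟩ := hone 1 h0 h1
      exact ⟨b', Or.inl ⟨hz1, hb'⟩⟩
    · obtain ⟨b', hb'⟩ := hone (Equiv.swap 0 1) (by simpa using h1) (by simpa using h0)
      exact ⟨b', Or.inl ⟨hz1, hb'⟩⟩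
    · exact absurd (h0.trans h1.symm) hne
  · exact ⟨b, Or.inr ⟨hz1, fun j => by rw [hb, hb]; exact hs j⟩⟩

theorem isConj_of_sq (h2 : (2 : F) ≠ 0) {x y : GL I4 F} (hx : x ∈ Cfsg.spGL 2 F) (hy : y ∈ Cfsg.spGL 2 F)
    {z : F} (hxz : (x : M4 F) * x = z • 1) (hyz : (y : M4 F) * y = z • 1)
    (hxs : ∀ c : F, (x : M4 F) ≠ c • 1) (hys : ∀ c : F, (y : M4 F) ≠ c • 1) :
    IsConj (x : M4 F) (y : M4 F) := by
  obtain ⟨b, hb⟩ := exists_basis h2 hx hxz hxs
  obtain ⟨b', hb'⟩ := exists_basis h2 hy hyz hys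
  let e := b.equiv b' (Equiv.refl _)
  have he : ∀ i, e (b i) = b' i := fun i => by simp [e]
  let P : GL I4 F := ⟨LinearMap.toMatrix' e.toLinearMap, LinearMap.toMatrix' e.symm.toLinearMap,
    by rw [← LinearMap.toMatrix'_comp]; simp, by rw [← LinearMap.toMatrix'_comp]; simp⟩
  have hP : ∀ v, (P : M4 F) *ᵥ v = e v := fun v => LinearMap.toMatrix'_mulVec _ _
  refine ⟨P, Matrix.toLin'.injective (b.ext fun i => ?_)⟩
  rw [Matrix.toLin'_apply, Matrix.toLin'_apply, ← mulVec_mulVec, ← mulVec_mulVec, hP, hP, he]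
  have hne : (1 : F) ≠ -1 := fun e1 => h2 (by linear_combination e1)
  rcases hb with ⟨hz, hb⟩ | ⟨hz, hb⟩ <;> rcases hb' with ⟨hz', hb'⟩ | ⟨hz', hb'⟩
  · rw [hb, hb', map_smul, he]
  · exact absurd (hz.symm.trans hz') hne
  · exact absurd (hz'.symm.trans hz) hne
  · rcases i with j | j
    · rw [(hb j).1, (hb' j).1, he]
    · rw [(hb j).2, (hb' j).2, map_neg, he]

theorem exists_sp_conj [Fintype F] {p : ℕ} [Fact p.Prime] [CharP F p] {x t : GL I4 F} (hx : x ∈ Cfsg.spGL 2 F)
    (ht : t ∈ Cfsg.spGL 2 F) (hxo : (orderOf x).Coprime p) (hc : IsConj (x : M4 F) (t : M4 F)) :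
    ∃ g ∈ Cfsg.spGL 2 F, g⁻¹ * x * g = t := by
  let A : Matrix.symplecticGroup (Fin 2) F := ⟨(x : M4 F), val_mem_symplectic hx⟩
  let B : Matrix.symplecticGroup (Fin 2) F := ⟨(t : M4 F), val_mem_symplectic ht⟩
  let ι := (Matrix.symplecticGroup (Fin 2) F).subtype.toHomUnits
  have hιA : ι A = x := Units.ext rfl
  have hιB : ι B = t := Units.ext rfl
  have hι : Function.Injective ι := fun a b h => Subtype.ext (congrArg Units.val h)
  obtain ⟨c, hc'⟩ := isConj_iff.1 ((Cfsg.Agent.S2589.result (p := p) A B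
    (by rw [← orderOf_injective ι hι, hιA]; exact hxo)).2 hc)
  refine ⟨(ι c)⁻¹, inv_mem fun u v => CfsgLib.Symp.form_smul_smul c u v, ?_⟩
  rw [inv_inv, ← hιA, ← map_inv, ← map_mul, ← map_mul, hc', hιB]

/-- Elements of prime order of PSp_4(p), p odd, and the normalizer of an extraspecial 2-group of order 2⁵ of minus type. Here `T = PSp_4(F)` for the field `F` with `p` elements, `p` an odd prime, realised through the matrices preserving the standard alternating form `f`; `R` is an absolutely irreducible subgroup of `T` (it preserves `f`) that is a 2-group of symplectic type of exponent 4, order 2⁵ and centre of order 2, of minus type (no elementary abelian subgroup of order 2³), and `H` is the subgroup of `T` normalizing `R` — a subgroup of type 2^{1+4}.O₄⁻(2) (maximality is not assumed). Ω is the set of cosets of `H` in `T`, so an element of `T` of prime order `r` (`x ∈ T` with `x^r` scalar, `x` not scalar) fixes a point of Ω exactly when some `T`-conjugate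 of `x` normalizes `R`. Let `r` be a prime dividing the index of `H`. Then every element of `T` of order `r` fixes a point of Ω if and only if `r = 2`, or `r = 5` and `p` has multiplicative order 4 modulo 5. -/
theorem result {F : Type*} [Field F] [Fintype F] {p : ℕ} [Fact p.Prime] [CharP F p] (hF : Fintype.card F = p) (hodd : Odd p)
    (R : Subgroup (GL (Fin 2 ⊕ Fin 2) F)) (hRs : Cfsg.Geo.IsSymplecticTypeGroup 2 R) (hRi : Cfsg.Geo.ActsAbsolutelyIrreducibly (Cfsg.Geo.matrixSet R))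
    (hRf : R ≤ Cfsg.spGL 2 F) (hR5 : Nat.card R = 2 ^ 5) (hRZ : Nat.card (Subgroup.center R) = 2) (hRm : Cfsg.Geo.IsOfMinusType 2 R)
    (r : ℕ) [Fact r.Prime]
    (hΩ : r ∣ (Cfsg.Geo.subgroupNormalizer R).relIndex (Cfsg.spGL 2 F)) :
    (∀ x ∈ Cfsg.spGL 2 F, (∃ z : F, ((x ^ r : GL (Fin 2 ⊕ Fin 2) F) : Matrix (Fin 2 ⊕ Fin 2) (Fin 2 ⊕ Fin 2) F) = z • (1 : Matrix (Fin 2 ⊕ Fin 2) (Fin 2 ⊕ Fin 2) F)) →
      (∀ z : F, (x : Matrix (Fin 2 ⊕ Fin 2) (Fin 2 ⊕ Fin 2) F) ≠ z • (1 : Matrix (Fin 2 ⊕ Fin 2) (Fin 2 ⊕ Fin 2) F)) →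
      ∃ g ∈ Cfsg.spGL 2 F, g⁻¹ * x * g ∈ Cfsg.Geo.subgroupNormalizer R) ↔ (r = 2 ∨ (r = 5 ∧ orderOf (p : ZMod 5) = 4)) := by
  classical
  have hp := (Fact.out : p.Prime)
  have hr := (Fact.out : r.Prime)
  have hcast : ∀ m : ℕ, m.Prime → m ≠ p → ((m : ℕ) : F) ≠ 0 := fun m hm hne e =>
    hne ((Nat.prime_dvd_prime_iff_eq hp hm).1 ((CharP.cast_eq_zero_iff F p m).1 e)).symm
  have hp2 : 2 ≠ p := fun e => by subst e; exact absurd hodd (by decide)
  have h2 : (2 : F) ≠ 0 := by exact_mod_cast hcast 2 Nat.prime_two hp2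
  have hS := grp_of_data h2 hRs hRi hRf hR5 hRZ hRm
  obtain ⟨e, hE⟩ := exists_five hS
  constructor
  · intro hall
    by_contra hnot
    simp only [not_or, not_and] at hnot
    obtain ⟨hr2, hn5⟩ := hnot
    have hro : Odd r := hr.odd_of_ne_two hr2
    -- an element of order r moves into the normaliser
    have hmove : ∀ x ∈ Cfsg.spGL 2 F, x ^ r = 1 → x ≠ 1 → ∃ g ∈ Cfsg.spGL 2 F,
        g⁻¹ * x * g ∈ Subgroup.normalizer (R : Set (GL I4 F)) ∧ (g⁻¹ * x * g) ^ r = 1 ∧
          ∀ c : F, ((g⁻¹ * x * g : GL I4 F) : M4 F) ≠ c • 1 := by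
      intro x hx hxr hx1
      have hns : ∀ c : F, (x : M4 F) ≠ c • 1 := fun c hc => by
        rcases scalar_sq hx hc with rfl | rfl
        · exact hx1 (Units.ext (by rw [hc, one_smul, Units.val_one]))
        · have h := congrArg Units.val hxr
          rw [Units.val_pow_eq_pow_val, hc, neg_one_smul, hro.neg_one_pow, Units.val_one] at h
          exact hS.ne_neg InR.one h.symm
      obtain ⟨g, hg, hgN⟩ := hall x hx ⟨1, by rw [hxr, one_smul, Units.val_one]⟩ hns
      have hpow : (g⁻¹ * x * g) ^ r = 1 := by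
        rw [show g⁻¹ * x * g = g⁻¹ * x * g⁻¹⁻¹ by rw [inv_inv], conj_pow, hxr, mul_one, inv_inv, inv_mul_cancel]
      refine ⟨g, hg, hgN, hpow, fun c hc => hns c ?_⟩
      rw [show x = g * (g⁻¹ * x * g) * g⁻¹ by group, Units.val_mul, Units.val_mul, hc, mul_smul_comm,
        smul_mul_assoc, mul_one, Units.mul_inv]
    have h35 : r = 3 ∨ r = 5 := by
      have hdvd : r ∣ Nat.card (Cfsg.spGL 2 F) := hΩ.trans (Subgroup.relIndex_dvd_card _ _)
      obtain ⟨⟨x, hx⟩, hxo⟩ := exists_prime_orderOf_dvd_card' r hdvd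
      rw [Subgroup.orderOf_mk] at hxo
      obtain ⟨g, -, hN, hyr, hns⟩ := hmove x hx (hxo ▸ pow_orderOf_eq_one x)
        (fun h => by rw [h, orderOf_one] at hxo; exact hr.one_lt.ne hxo)
      obtain ⟨π, hπr, -, hfix⟩ := hE.exists_perm hS hN hro hyr
      by_contra hno
      push Not at hno
      have hπ1 : π = 1 := by
        rw [← orderOf_eq_one_iff]
        have h1 : orderOf π ∣ r := orderOf_dvd_of_pow_eq_one hπr
        rcases (Nat.dvd_prime hr).1 h1 with h | h
        · exact h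
        · exfalso
          have h2' : r ∣ 2 ^ 3 * (3 * 5) := by
            have := orderOf_dvd_natCard π
            rw [h, Nat.card_perm, Nat.card_eq_fintype_card, Fintype.card_fin] at this
            exact this
          rcases hr.dvd_mul.1 h2' with h3 | h3
          · exact hr2 ((Nat.prime_dvd_prime_iff_eq hr Nat.prime_two).1 (hr.dvd_of_dvd_pow h3))
          · rcases hr.dvd_mul.1 h3 with h4 | h4
            · exact hno.1 ((Nat.prime_dvd_prime_iff_eq hr Nat.prime_three).1 h4)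
            · exact hno.2 ((Nat.prime_dvd_prime_iff_eq hr (by norm_num)).1 h4)
      obtain ⟨c, hc⟩ := hE.commutant hS fun i => hfix i (by rw [hπ1]; rfl)
      exact hns c hc
    rcases h35 with rfl | rfl
    · obtain ⟨x, hx, hxw⟩ := exists_wit (-1 : F)
      obtain ⟨g, hg, hN, hyr, -⟩ := hmove x hx (Units.ext (by rw [Units.val_pow_eq_pow_val, hxw, wit_cube, Units.val_one]))
        (fun h => wit_ne (-1 : F) 1 (by rw [← hxw, h, Units.val_one, one_smul]))
      obtain ⟨π, hπr, -, hfix⟩ := hE.exists_perm hS hN (by decide) hyr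
      obtain ⟨i, j, hij, hi, hj⟩ := perm_three π hπr
      let C : Fin 5 → M4 F := fun k => (g : M4 F) * e k * ((g⁻¹ : GL I4 F) : M4 F)
      have hCm : ∀ k l, C k * C l = (g : M4 F) * (e k * e l) * ((g⁻¹ : GL I4 F) : M4 F) := fun k l => by
        simp only [C, mul_assoc, Units.inv_mul_cancel_left]
      have hCf : ∀ k, ∀ u v, Cfsg.sympForm 2 F (C k *ᵥ u) (C k *ᵥ v) = Cfsg.sympForm 2 F u v := fun k u v => by
        obtain ⟨q, hq, hqe⟩ := hE.mem k
        have := mul_mem (mul_mem hg (hRf hq)) (inv_mem hg)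
        show Cfsg.sympForm 2 F (((g : M4 F) * e k * ((g⁻¹ : GL I4 F) : M4 F)) *ᵥ u)
          (((g : M4 F) * e k * ((g⁻¹ : GL I4 F) : M4 F)) *ᵥ v) = _
        rw [← hqe]
        exact this u v
      have hCc : ∀ k, π k = k → C k * wit (-1) = wit (-1) * C k := fun k hk => by
        have h := hfix k hk
        rw [← hxw]
        calc C k * (x : M4 F)
            = (g : M4 F) * (e k * ((g⁻¹ * x * g : GL I4 F) : M4 F)) * ((g⁻¹ : GL I4 F) : M4 F) := by
              simp only [C, Units.val_mul, mul_assoc, Units.mul_inv, mul_one]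
          _ = _ := by
              rw [← h]
              simp only [C, Units.val_mul, mul_assoc, Units.mul_inv_cancel_left]
      refine wit_three_no_pair h2 (E := C i) (E' := C j) ?_ ?_ (hCf i) (hCf j) (hCc i hi) (hCc j hj) ?_
      · rw [hCm, hE.sq, mul_one, Units.mul_inv]
      · rw [hCm, hE.sq, mul_one, Units.mul_inv]
      · rw [hCm, hCm, hE.anti i j hij, mul_neg, neg_mul]
    · have hne4 : orderOf (p : ZMod 5) ≠ 4 := hn5 rfl
      haveI : Fact (Nat.Prime 5) := ⟨by norm_num⟩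
      have hsq5 : IsSquare (p : ZMod 5) := by
        rcases square_or (p : ZMod 5) with h | ⟨h4, h2'⟩
        · exact h
        · exact absurd (orderOf_eq_prime_pow (p := 2) (n := 1) (by simpa using h2') (by simpa using h4)) hne4
      obtain ⟨t, ht⟩ : IsSquare (5 : F) := by
        have h := (ZMod.exists_sq_eq_prime_iff_of_mod_four_eq_one (p := 5) (q := p) (by norm_num) hp2.symm).1 hsq5
        have := h.map (ZMod.castHom (dvd_refl p) F)
        rwa [map_natCast, Nat.cast_ofNat] at this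
      have hs : ((-1 + t) / 2) * ((-1 + t) / 2) + (-1 + t) / 2 - 1 = 0 := by
        field_simp
        linear_combination -ht
      obtain ⟨x, hx, hxw⟩ := exists_wit ((-1 + t) / 2)
      obtain ⟨g, -, hN, hyr, hns⟩ := hmove x hx
        (Units.ext (by rw [Units.val_pow_eq_pow_val, hxw, wit_five hs, Units.val_one]))
        (fun h => wit_ne ((-1 + t) / 2) (1 : F) (by rw [← hxw, h, Units.val_one, one_smul]))
      let φ : (Fin 5 → F) →ₗ[F] M4 F :=
        { toFun := fun w => ((g⁻¹ : GL I4 F) : M4 F) *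
            Matrix.fromBlocks !![w 4, 0; 0, w 0] !![0, 0; 0, w 1] !![0, 0; 0, w 2] !![w 4, 0; 0, w 3] * (g : M4 F)
          map_add' := fun a b => by
            rw [← add_mul, ← mul_add, Matrix.fromBlocks_add]
            congr 3 <;> ext i j <;> fin_cases i <;> fin_cases j <;> simp
          map_smul' := fun c a => by
            rw [RingHom.id_apply, ← smul_mul_assoc, ← mul_smul_comm, Matrix.fromBlocks_smul]
            congr 3 <;> ext i j <;> fin_cases i <;> fin_cases j <;> simp }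
      have hφ : Function.Injective φ := fun a b h => by
        have h' := congrArg (fun X => (g : M4 F) * X * ((g⁻¹ : GL I4 F) : M4 F)) h
        simp [φ, mul_assoc] at h'
        obtain ⟨⟨k5, k1⟩, k2, k3, -, k4⟩ := h'
        funext k
        fin_cases k <;> assumption
      have hcomm : ∀ w, ((g⁻¹ * x * g : GL I4 F) : M4 F) * φ w = φ w * ((g⁻¹ * x * g : GL I4 F) : M4 F) := fun w => by
        have hw : wit ((-1 + t) / 2) *
            Matrix.fromBlocks !![w 4, 0; 0, w 0] !![0, 0; 0, w 1] !![0, 0; 0, w 2] !![w 4, 0; 0, w 3] =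
            Matrix.fromBlocks !![w 4, 0; 0, w 0] !![0, 0; 0, w 1] !![0, 0; 0, w 2] !![w 4, 0; 0, w 3] *
              wit ((-1 + t) / 2) := by
          ext (i | i) (j | j) <;> fin_cases i <;> fin_cases j <;>
            simp [wit, Matrix.mul_apply, Fintype.sum_sum_type, Fin.sum_univ_two, Matrix.fromBlocks] <;> ring
        simp only [φ, LinearMap.coe_mk, AddHom.coe_mk, Units.val_mul, mul_assoc, Units.mul_inv_cancel_left, hxw]
        rw [← mul_assoc (wit _), hw, mul_assoc]
      have := hE.bound_five hS hN hyr hns φ hφ hcomm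
      simp at this
  · intro hrhs x hx ⟨z, hxz⟩ hns
    have hxz' : (x : M4 F) ^ r = z • 1 := by rw [← Units.val_pow_eq_pow_val]; exact hxz
    have hz : z = 1 ∨ z = -1 := scalar_sq (pow_mem hx r) hxz
    have hfin : ∀ t ∈ Cfsg.spGL 2 F, t ∈ Subgroup.normalizer (R : Set (GL I4 F)) → (orderOf x).Coprime p →
        IsConj (x : M4 F) (t : M4 F) → ∃ g ∈ Cfsg.spGL 2 F, g⁻¹ * x * g ∈ Cfsg.Geo.subgroupNormalizer R :=
      fun t ht htN hxo hc => by
        obtain ⟨g, hg, hgt⟩ := exists_sp_conj (p := p) hx ht hxo hc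
        exact ⟨g, hg, by rw [hgt]; exact htN⟩
    rcases hrhs with rfl | ⟨rfl, hord⟩
    · have hxo : (orderOf x).Coprime p := by
        refine Nat.Coprime.coprime_dvd_left (orderOf_dvd_of_pow_eq_one (n := 2 ^ 2) (Units.ext ?_))
          (Nat.Coprime.pow_left _ ((Nat.coprime_primes Nat.prime_two hp).2 hp2))
        rw [Units.val_pow_eq_pow_val, show (2 : ℕ) ^ 2 = 2 * 2 by norm_num, pow_mul, hxz', _root_.smul_pow, one_pow,
          Units.val_one]
        rcases hz with rfl | rfl <;> simp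
      rw [pow_two] at hxz'
      have hns' : ∀ t : GL I4 F, t ∈ R → (t : M4 F) ≠ 1 → (t : M4 F) ≠ -1 → ∀ c : F, (t : M4 F) ≠ c • 1 :=
        fun t ht h1 h1' c hc => (hS.scal' ⟨t, ht, rfl⟩ hc).elim h1 h1'
      rcases hz with rfl | rfl
      · obtain ⟨t, htR, hte⟩ := hE.mem 0
        have hn := hS.ne_of_anti (hE.mem 0) (hE.mem 1) (hE.anti 0 1 (by decide))
        exact hfin t (hRf htR) (Subgroup.le_normalizer htR) hxo
          (isConj_of_sq h2 hx (hRf htR) hxz' (by rw [hte, hE.sq, one_smul]) hns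
            (hns' t htR (hte ▸ hn.1) (hte ▸ hn.2)))
      · obtain ⟨t, htR, hte⟩ := (hE.mem 0).mul (hE.mem 1)
        have hn := hS.ne_of_anti ((hE.mem 0).mul (hE.mem 1)) (hE.mem 1) (by
          rw [mul_assoc, hE.sq, mul_one, ← mul_assoc, hE.anti 1 0 (by decide), neg_mul, mul_assoc, hE.sq, mul_one,
            neg_neg])
        exact hfin t (hRf htR) (Subgroup.le_normalizer htR) hxo
          (isConj_of_sq h2 hx (hRf htR) hxz' (by
            rw [hte, mul_assoc, ← mul_assoc (e 1), hE.anti 1 0 (by decide), neg_mul, mul_assoc, hE.sq, mul_one,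
              mul_neg, hE.sq, neg_one_smul]) hns (hns' t htR (hte ▸ hn.1) (hte ▸ hn.2)))
    · have hrp : 5 ≠ p := fun h => by
        haveI : Fact (Nat.Prime 5) := ⟨by norm_num⟩
        rw [← h, show ((5 : ℕ) : ZMod 5) = 0 from rfl, orderOf_zero] at hord
        omega
      obtain ⟨y₀, hy₀, hy₀N, hy₀5, hy₀1⟩ := exists_cycle hS hE hRf
      -- the element of order five
      obtain ⟨ε, hε, hεN, y, hy, hy5, hyv⟩ : ∃ ε : GL I4 F, ε ∈ Cfsg.spGL 2 F ∧
          ε ∈ Subgroup.normalizer (R : Set (GL I4 F)) ∧ ∃ y ∈ Cfsg.spGL 2 F, y ^ 5 = 1 ∧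
            (∀ w : GL I4 F, ε * w = w * ε) ∧ ε * y = x := by
        rcases hz with rfl | rfl
        · exact ⟨1, one_mem _, one_mem _, x, hx, Units.ext (by rw [hxz, one_smul, Units.val_one]),
            fun w => by simp, one_mul x⟩
        · refine ⟨-1, hRf hS.neg, Subgroup.le_normalizer hS.neg, -x, ?_, Units.ext ?_, fun w => by simp, by simp⟩
          · rw [← neg_one_mul x]; exact mul_mem (hRf hS.neg) hx
          · rw [Odd.neg_pow (by decide), Units.val_neg, hxz, neg_one_smul, neg_neg, Units.val_one]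
      obtain ⟨hcen, hyx⟩ := hyv
      have hy1 : y ≠ 1 := fun h => by
        rw [h, mul_one] at hyx
        rw [← hyx] at hns
        obtain ⟨c, hc⟩ := hS.commutant (ε : M4 F) fun w _ => congrArg Units.val (hcen w)
        exact hns c hc
      have hcop : ∀ u : GL I4 F, u ^ 5 = 1 → (orderOf u).Coprime p := fun u hu =>
        Nat.Coprime.coprime_dvd_left (orderOf_dvd_of_pow_eq_one hu)
          ((Nat.coprime_primes (by norm_num) hp).2 hrp)
      let ρ : M4 F ≃ₐ[F] Matrix (Fin 4) (Fin 4) F := Matrix.reindexAlgEquiv F F finSumFinEquiv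
      let Φ : GL I4 F →* GL (Fin 4) F := Units.map ρ.toRingEquiv.toMonoidHom
      have hΦ : Function.Injective Φ := fun a b h => Units.ext (ρ.injective (congrArg Units.val h))
      have hch := Pauli.charpoly_eq_of_full_order (g := Φ y) (g' := Φ y₀) hF hrp (Or.inr rfl) hord
        (by rw [← map_pow, hy5, map_one]) (by rw [← map_pow, hy₀5, map_one])
        (fun h => hy1 (hΦ (by rw [h, map_one]))) (fun h => hy₀1 (hΦ (by rw [h, map_one])))
        (fun h => absurd h (by norm_num))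
      obtain ⟨q, hq⟩ := isConj_iff.1 (CfsgLib.GLClass.isConj_of_charpoly_eq p
        (by rw [orderOf_injective Φ hΦ]; exact hcop y hy5) (by rw [orderOf_injective Φ hΦ]; exact hcop y₀ hy₀5) hch)
      have hconj : IsConj (y : M4 F) (y₀ : M4 F) := by
        let q' : GL I4 F := Units.map ρ.symm.toRingEquiv.toMonoidHom q
        refine ⟨q', ρ.injective ?_⟩
        have h1 : ρ (q' : M4 F) = (q : Matrix (Fin 4) (Fin 4) F) := ρ.apply_symm_apply _
        rw [map_mul, map_mul, h1]
        have h2' : q * Φ y = Φ y₀ * q := by rw [← hq, inv_mul_cancel_right]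
        exact congrArg Units.val h2'
      obtain ⟨g, hg, hgy⟩ := exists_sp_conj (p := p) hy hy₀ (hcop y hy5) hconj
      refine ⟨g, hg, ?_⟩
      rw [← hyx, show g⁻¹ * (ε * y) * g = ε * (g⁻¹ * y * g) by
        rw [← mul_assoc g⁻¹, ← hcen g⁻¹]; group, hgy]
      exact mul_mem hεN hy₀N

end Cfsg.Agent.S6002
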